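import Mathlib
import Cfsg.Prelude.Def_Local
import Cfsg.Agent.Lib.PStable.Stable
import Cfsg.Agent.Lib.PLocal.Constraint
import Cfsg.Agent.Lib.Classical.SLGroup

/-!
Consequences of the sections given by quadratic action.
-/

set_option autoImplicit false

namespace Cfsg.Lib.PLocal.QuadSection

open Cfsg
open scoped commutatorElement

universe u

variable {p : ℕ} [Fact p.Prime]

theorem exists_qd_to_sl : ∃ f : ↥(qd p) →* Matrix.SpecialLinearGroup (Fin 2) (ZMod p), Function.Surjective f := by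
  classical
  choose m c hmc using fun M : ↥(qd p) => PStable.exists_aff M.2
  refine ⟨MonoidHom.mk' m fun M N => ?_, fun s => ?_⟩
  · refine (PStable.aff_inj (c := c (M * N)) (c' := c M + (m M : Matrix (Fin 2) (Fin 2) (ZMod p)).mulVec (c N)) ?_).1
    rw [hmc, PStable.aff_mul, hmc, hmc]
    rfl
  · refine ⟨⟨_, PStable.aff_mem s 0⟩, ?_⟩
    exact (PStable.aff_inj (hmc ⟨_, PStable.aff_mem s 0⟩)).1

theorem sl_of_qd {G : Type*} [Group G] (h : Involves ↥(qd p) G) :
    Involves (Matrix.SpecialLinearGroup (Fin 2) (ZMod p)) G := by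
  obtain ⟨K, R, hn, ⟨e⟩⟩ := h
  obtain ⟨f, hf⟩ := exists_qd_to_sl (p := p)
  obtain ⟨R', hR', e'⟩ := PStable.section_of_hom K.subtype K.subtype_injective
    ((f.comp e.toMonoidHom).comp (QuotientGroup.mk' (R.subgroupOf K)))
    ((hf.comp e.surjective).comp (QuotientGroup.mk'_surjective _))
  exact ⟨K.subtype.range, R', hR', e'⟩

theorem exists_hom_of_section {G : Type*} [Group G] {T : Type*} [Group T] {H : Subgroup G}
    (h : ∃ (K L : Subgroup G) (_ : (L.subgroupOf K).Normal), K ≤ H ∧ Nonempty ((K ⧸ L.subgroupOf K) ≃* T)) :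
    ∃ (K : Subgroup H) (f : K →* T), Function.Surjective f := by
  obtain ⟨K, L, hn, hKH, ⟨e⟩⟩ := h
  refine ⟨K.subgroupOf H, (e.toMonoidHom.comp (QuotientGroup.mk' (L.subgroupOf K))).comp
    (Subgroup.subgroupOfEquivOfLe hKH).toMonoidHom, ?_⟩
  exact (e.surjective.comp (QuotientGroup.mk'_surjective _)).comp (Subgroup.subgroupOfEquivOfLe hKH).surjective

/-- The form of the sections for a faithful quadratic action. -/
theorem section_of_faithful {G : Type*} [Group G] [Finite G] (hp : p ≠ 2) (V H : Subgroup G)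
    (hV : IsElementaryAbelian p V) (hHV : H ≤ Subgroup.normalizer (V : Set G))
    (hf : H ⊓ Subgroup.centralizer (V : Set G) = ⊥) (a : G) (haH : a ∈ H)
    (hq : ⁅⁅V, Subgroup.zpowers a⁆, Subgroup.zpowers a⁆ = ⊥) (hna : a ∉ (pCore p H).map H.subtype) :
    ∃ (K L : Subgroup G) (_ : (L.subgroupOf K).Normal), K ≤ H ∧
      Nonempty ((K ⧸ L.subgroupOf K) ≃* Matrix.SpecialLinearGroup (Fin 2) (ZMod p)) := by
  set C := (Subgroup.centralizer (V : Set G)).subgroupOf H
  have hC : C = ⊥ := by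
    rw [eq_bot_iff]
    intro x hx
    exact Subgroup.mem_bot.2 (Subtype.ext (Subgroup.mem_bot.1 (hf ▸ ⟨x.2, hx⟩)))
  haveI : C.Normal := hC ▸ inferInstance
  refine (PStable.sections_of_quadratic hp V H hV hHV a haH (fun hmem => hna ⟨⟨a, haH⟩, ?_, rfl⟩) hq).1
  let e : H ⧸ C ≃* H := (QuotientGroup.quotientMulEquivOfEq hC).trans QuotientGroup.quotientBot
  have h1 := Solv.map_pCore_le (f := e.toMonoidHom) p e.surjective ⟨_, hmem, rfl⟩
  exact h1

theorem exists_nonabelian_twoGroup (hp : p ≠ 2) :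
    ∃ D : Subgroup (Matrix.SpecialLinearGroup (Fin 2) (ZMod p)), IsPGroup 2 D ∧ ¬ IsMulCommutative D := by
  obtain ⟨a, b, hab⟩ := ZMod.sq_add_sq p (-1 : ZMod p)
  let i : Matrix.SpecialLinearGroup (Fin 2) (ZMod p) := ⟨!![0, 1; -1, 0], by simp [Matrix.det_fin_two_of]⟩
  let j : Matrix.SpecialLinearGroup (Fin 2) (ZMod p) := ⟨!![a, b; b, -a], by
    rw [Matrix.det_fin_two_of]; linear_combination -hab⟩
  have hne : i * j ≠ j * i := by
    intro e
    have h1 := congrArg (fun M : Matrix.SpecialLinearGroup (Fin 2) (ZMod p) => (M : Matrix (Fin 2) (Fin 2) (ZMod p))) e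
    have h2 := congrFun (congrFun h1 0) 0
    have h3 := congrFun (congrFun h1 0) 1
    simp only [Matrix.SpecialLinearGroup.coe_mul] at h2 h3
    simp [i, j, Matrix.mul_apply, Fin.sum_univ_two] at h2 h3
    have h4 : (2 : ZMod p) ≠ 0 := by
      intro h
      have : ((2 : ℕ) : ZMod p) = 0 := by exact_mod_cast h
      rw [ZMod.natCast_eq_zero_iff] at this
      exact hp ((Nat.prime_dvd_prime_iff_eq Fact.out Nat.prime_two).1 this)
    have hb : b = 0 := mul_left_cancel₀ h4 (by linear_combination h2)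
    have ha : a = 0 := mul_left_cancel₀ h4 (by linear_combination -h3)
    rw [ha, hb] at hab
    simp at hab
  have h4 : ∀ M : Matrix.SpecialLinearGroup (Fin 2) (ZMod p),
      ((M : Matrix (Fin 2) (Fin 2) (ZMod p)) 0 0 + (M : Matrix (Fin 2) (Fin 2) (ZMod p)) 1 1 = 0) →
        M ^ (2 ^ 2) = 1 := by
    intro M hM
    have hdet : (M : Matrix (Fin 2) (Fin 2) (ZMod p)) 0 0 * (M : Matrix (Fin 2) (Fin 2) (ZMod p)) 1 1 -
        (M : Matrix (Fin 2) (Fin 2) (ZMod p)) 0 1 * (M : Matrix (Fin 2) (Fin 2) (ZMod p)) 1 0 = 1 := by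
      rw [← Matrix.det_fin_two]; exact M.det_coe
    have h2 : (M : Matrix (Fin 2) (Fin 2) (ZMod p)) * (M : Matrix (Fin 2) (Fin 2) (ZMod p)) = -1 := by
      ext r s
      fin_cases r <;> fin_cases s <;> simp [Matrix.mul_apply, Fin.sum_univ_two]
      · linear_combination ((M : Matrix (Fin 2) (Fin 2) (ZMod p)) 0 0) * hM - hdet
      · linear_combination ((M : Matrix (Fin 2) (Fin 2) (ZMod p)) 0 1) * hM
      · linear_combination ((M : Matrix (Fin 2) (Fin 2) (ZMod p)) 1 0) * hM
      · linear_combination ((M : Matrix (Fin 2) (Fin 2) (ZMod p)) 1 1) * hM - hdet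
    apply Subtype.ext
    rw [Matrix.SpecialLinearGroup.coe_pow, Matrix.SpecialLinearGroup.coe_one,
      show (2 : ℕ) ^ 2 = 2 * 2 from rfl, pow_mul, pow_two (M : Matrix (Fin 2) (Fin 2) (ZMod p)), h2, pow_two,
      neg_mul_neg, one_mul]
  have hij : j * i * j⁻¹ = i⁻¹ := by
    rw [mul_inv_eq_iff_eq_mul]
    apply Subtype.ext
    rw [Matrix.SpecialLinearGroup.coe_mul, Matrix.SpecialLinearGroup.coe_mul, Matrix.SpecialLinearGroup.coe_inv]
    ext r s
    fin_cases r <;> fin_cases s <;> simp [i, j, Matrix.mul_apply, Fin.sum_univ_two, Matrix.adjugate_fin_two_of]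
  have hord : ∀ M : Matrix.SpecialLinearGroup (Fin 2) (ZMod p), M ^ (2 ^ 2) = 1 → IsPGroup 2 (Subgroup.zpowers M) := by
    rintro M hM ⟨_, k, rfl⟩
    refine ⟨2, Subtype.ext ?_⟩
    rw [SubmonoidClass.coe_pow, OneMemClass.coe_one, ← zpow_natCast, ← zpow_mul, mul_comm, zpow_mul, zpow_natCast, hM, one_zpow]
  have hnorm : Subgroup.zpowers j ≤ Subgroup.normalizer (Subgroup.zpowers i : Set _) := by
    refine Subgroup.zpowers_le.2 ?_
    rw [← Solv.conj_smul_eq_self_iff, Solv.conj_smul_eq_map, MonoidHom.map_zpowers]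
    rw [show (MulAut.conj j).toMonoidHom i = i⁻¹ from hij, Subgroup.zpowers_inv]
  refine ⟨Subgroup.zpowers i ⊔ Subgroup.zpowers j, ?_, fun h => hne ?_⟩
  · rw [sup_comm]
    exact IsPGroup.to_sup_of_normal_right' (hord j (h4 j (by simp [j]))) (hord i (h4 i (by simp [i]))) hnorm
  · exact congrArg Subtype.val (h.is_comm.comm
      (⟨i, Subgroup.mem_sup_left (Subgroup.mem_zpowers i)⟩ : ↥(Subgroup.zpowers i ⊔ Subgroup.zpowers j))
      ⟨j, Subgroup.mem_sup_right (Subgroup.mem_zpowers j)⟩)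

theorem sylow_not_comm (hp : p ≠ 2) {H : Type*} [Group H] [Finite H] (K : Subgroup H)
    (f : K →* Matrix.SpecialLinearGroup (Fin 2) (ZMod p)) (hf : Function.Surjective f) (T : Sylow 2 H) :
    ¬ IsMulCommutative (T : Subgroup H) := by
  intro hT
  haveI : Fact (Nat.Prime 2) := ⟨Nat.prime_two⟩
  obtain ⟨D, hD, hDc⟩ := exists_nonabelian_twoGroup (p := p) hp
  obtain ⟨S⟩ : Nonempty (Sylow 2 K) := inferInstance
  obtain ⟨T', hT'⟩ := (S.isPGroup'.map K.subtype).exists_le_sylow
  obtain ⟨h, rfl⟩ := MulAction.exists_smul_eq H T T'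
  have hTc : ∀ a ∈ ((h • T : Sylow 2 H) : Subgroup H), ∀ b ∈ ((h • T : Sylow 2 H) : Subgroup H), a * b = b * a := by
    intro a ha b hb
    rw [Sylow.smul_def, Sylow.pointwise_smul_def] at ha hb
    obtain ⟨a, ha, rfl⟩ := ha
    obtain ⟨b, hb, rfl⟩ := hb
    simp only [MulDistribMulAction.toMonoidEnd_apply, MulDistribMulAction.toMonoidHom_apply, MulAut.smul_def]
    rw [← map_mul, ← map_mul]
    exact congrArg _ (congrArg Subtype.val (hT.is_comm.comm (⟨a, ha⟩ : (T : Subgroup H)) ⟨b, hb⟩))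
  set S' := S.mapSurjective hf
  obtain ⟨S'', hS''⟩ := hD.exists_le_sylow
  obtain ⟨g, hg⟩ := MulAction.exists_smul_eq (Matrix.SpecialLinearGroup (Fin 2) (ZMod p)) S' S''
  refine hDc ⟨⟨fun a b => Subtype.ext ?_⟩⟩
  have ha := hS'' a.2
  have hb := hS'' b.2
  rw [← hg, Sylow.smul_def, Sylow.pointwise_smul_def] at ha hb
  obtain ⟨_, ⟨a', ha', rfl⟩, hae⟩ := ha
  obtain ⟨_, ⟨b', hb', rfl⟩, hbe⟩ := hb
  have hc : (a' : H) * b' = b' * a' := hTc _ (hT' ⟨a', ha', rfl⟩) _ (hT' ⟨b', hb', rfl⟩)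
  simp only [MulDistribMulAction.toMonoidEnd_apply, MulDistribMulAction.toMonoidHom_apply, MulAut.smul_def] at hae hbe
  rw [Subgroup.coe_mul, Subgroup.coe_mul, ← hae, ← hbe, ← map_mul, ← map_mul, ← map_mul, ← map_mul,
    show a' * b' = b' * a' from Subtype.ext hc]

theorem pSolvable_subgroup {G : Type*} [Group G] [Finite G] (h : IsPSolvable p G) (K : Subgroup G) :
    IsPSolvable p K := by
  obtain ⟨n, S, h0, hn, hmono, hnorm, hfac⟩ := h
  refine ⟨n, fun i => (S i).subgroupOf K, by simp [h0], by simp [hn],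
    fun i j hij => Subgroup.comap_mono (hmono hij), fun i => (hnorm i).comap _, fun i => ?_⟩
  have hd : ((S i.castSucc).subgroupOf K).relIndex ((S i.succ).subgroupOf K) ∣ (S i.castSucc).relIndex (S i.succ) := by
    haveI := hnorm i.castSucc
    show ((S i.castSucc).comap K.subtype).relIndex ((S i.succ).comap K.subtype) ∣ _
    rw [Subgroup.relIndex_comap, Subgroup.map_comap_eq, Subgroup.range_subtype]
    rw [← Subgroup.relIndex_subgroupOf (K := K ⊓ S i.succ) (inf_le_right : K ⊓ S i.succ ≤ S i.succ)]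
    exact Subgroup.relIndex_dvd_index_of_normal _ _
  rcases hfac i with ⟨m, hm⟩ | hc
  · obtain ⟨k, -, hk⟩ := (Nat.dvd_prime_pow (Fact.out : p.Prime)).1 (hm ▸ hd)
    exact Or.inl ⟨k, hk⟩
  · exact Or.inr (hc.coprime_dvd_left hd)

theorem not_pSolvable_sl (h5 : 5 ≤ p) : ¬ IsPSolvable p (Matrix.SpecialLinearGroup (Fin 2) (ZMod p)) := by
  classical
  rintro ⟨n, M, h0, hn, hmono, hnorm, hfac⟩
  haveI : Nontrivial (Matrix.SpecialLinearGroup (Fin 2) (ZMod p)) := by
    by_contra hne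
    rw [not_nontrivial_iff_subsingleton] at hne
    obtain ⟨D, -, hD⟩ := exists_nonabelian_twoGroup (p := p) (by omega)
    exact hD ⟨⟨fun a b => Subsingleton.elim _ _⟩⟩
  have hperf := Classical.SLGroup.commutator_sl_eq_top (F := ZMod p) (ι := Fin 2) (Or.inr ⟨2, by
      intro h
      have : ((2 : ℕ) : ZMod p) = 0 := by exact_mod_cast h
      rw [ZMod.natCast_eq_zero_iff] at this
      have := Nat.le_of_dvd two_pos this
      omega, by
      intro h
      have : ((3 : ℕ) : ZMod p) = 0 := by push_cast; linear_combination h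
      rw [ZMod.natCast_eq_zero_iff] at this
      have := Nat.le_of_dvd three_pos this
      omega⟩)
  obtain ⟨i, hi1, hi2⟩ : ∃ i : Fin n, M i.castSucc ≠ ⊤ ∧ M i.succ = ⊤ := by
    by_contra hno
    have hall : ∀ j : Fin (n + 1), M j ≠ ⊤ := fun j =>
      Fin.induction (motive := fun j => M j ≠ ⊤) (by rw [h0]; exact bot_ne_top)
        (fun i hi h => hno ⟨i, hi, h⟩) j
    exact hall _ hn
  haveI := hnorm i.castSucc
  set N := M i.castSucc
  have hidx : N.relIndex (M i.succ) = N.index := by rw [hi2, Subgroup.relIndex_top_right]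
  haveI : Nontrivial (Matrix.SpecialLinearGroup (Fin 2) (ZMod p) ⧸ N) :=
    QuotientGroup.nontrivial_iff.2 hi1
  rcases hfac i with ⟨m, hm⟩ | hc
  · rw [hidx] at hm
    haveI : Group.IsNilpotent (Matrix.SpecialLinearGroup (Fin 2) (ZMod p) ⧸ N) :=
      (IsPGroup.of_card (p := p) (n := m) hm).isNilpotent
    refine (Group.IsSolvable.commutator_lt_top_of_nontrivial (Matrix.SpecialLinearGroup (Fin 2) (ZMod p) ⧸ N)).ne ?_
    have h := congrArg (Subgroup.map (QuotientGroup.mk' N)) hperf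
    rwa [commutator_def, Subgroup.map_commutator, Subgroup.map_top_of_surjective _ (QuotientGroup.mk'_surjective N),
      ← commutator_def] at h
  · rw [hidx] at hc
    have hp1 : ∀ g : Matrix.SpecialLinearGroup (Fin 2) (ZMod p), g ^ p = 1 → g ∈ N := by
      intro g hg
      have h1 : (QuotientGroup.mk' N g) ^ p = 1 := by rw [← map_pow, hg, map_one]
      exact (QuotientGroup.eq_one_iff g).1 (orderOf_eq_one_iff.1
        (Nat.eq_one_of_dvd_coprimes hc (orderOf_dvd_natCard _) (orderOf_dvd_of_pow_eq_one h1)))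
    refine hi1 (PStable.eq_top_of_transvections N (hp1 _ ?_) one_ne_zero (hp1 _ ?_))
    · rw [← PStable.upperU_nsmul, nsmul_eq_mul, ZMod.natCast_self, zero_mul]
      exact PStable.upperU_zero
    · rw [← PStable.lowerU_nsmul, nsmul_eq_mul, ZMod.natCast_self, zero_mul]
      simpa using PStable.lowerU_nsmul 0 (0 : ZMod p)

theorem eq_three_of_section {H : Type*} [Group H] [Finite H] (hp : p ≠ 2) (hsep : IsPSolvable p H) (K : Subgroup H)
    (f : K →* Matrix.SpecialLinearGroup (Fin 2) (ZMod p)) (hf : Function.Surjective f) : p = 3 := by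
  have h := IsPSolvable.of_surjective f hf (pSolvable_subgroup hsep K)
  have h2 := (Fact.out : p.Prime).two_le
  by_contra h3
  refine not_pSolvable_sl ?_ h
  rcases Nat.lt_or_ge p 5 with h5 | h5
  · interval_cases p
    · omega
    · omega
    · exact absurd (Fact.out : Nat.Prime 4) (by norm_num)
  · exact h5

end Cfsg.Lib.PLocal.QuadSection
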