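import Mathlib
import Cfsg.Prelude.Def_CaseTheorems
import Cfsg.Prelude.Def_OddOrderLocal
import Cfsg.Prelude.Def_Local
import Cfsg.Prelude.Def_Transfer
import Cfsg.Agent.Lib.Solv.Cores
import Cfsg.Agent.Lib.Solv.MinNormal
import Cfsg.Agent.Lib.Transfer.Critical
import Cfsg.Agent.Lib.Transfer.OmegaCentralizer

/-!
Odd solvable groups acting on `p`-groups of rank at most two.
-/

set_option autoImplicit false
set_option maxHeartbeats 800000

namespace Cfsg.Lib.RankTwoOdd

open Subgroup
open scoped commutatorElement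

universe u

variable {p : ℕ} [hp : Fact p.Prime]

/-- The commutant of a non-scalar two by two matrix. -/
theorem commutant {K : Type*} [Field K] (t s : Matrix (Fin 2) (Fin 2) K)
    (ht : ∀ c : K, t ≠ c • 1) (h : Commute s t) : ∃ a b : K, s = a • 1 + b • t := by
  have key : ∀ b : K, s 0 1 = b * t 0 1 → s 1 0 = b * t 1 0 →
      s 1 1 = s 0 0 + b * (t 1 1 - t 0 0) → ∃ a b : K, s = a • 1 + b • t := by
    intro b h1 h2 h3
    refine ⟨s 0 0 - b * t 0 0, b, ?_⟩
    ext i j
    fin_cases i <;> fin_cases j <;> simp [h1, h2, h3]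
    ring
  have e00 := congrFun (congrFun h.eq 0) 0
  have e01 := congrFun (congrFun h.eq 0) 1
  have e10 := congrFun (congrFun h.eq 1) 0
  simp only [Matrix.mul_apply, Fin.sum_univ_two] at e00 e01 e10
  by_cases h1 : t 0 1 = 0
  · by_cases h2 : t 1 0 = 0
    · have hd : t 0 0 - t 1 1 ≠ 0 := fun he => ht (t 0 0) (by
        ext i j; fin_cases i <;> fin_cases j <;> simp [h1, h2, sub_eq_zero.1 he])
      refine key ((s 0 0 - s 1 1) / (t 0 0 - t 1 1)) ?_ ?_ ?_
      · rw [h1, mul_zero]
        refine (mul_eq_zero.1 (?_ : (t 0 0 - t 1 1) * s 0 1 = 0)).resolve_left hd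
        rw [h1] at e01
        linear_combination -e01
      · rw [h2, mul_zero]
        refine (mul_eq_zero.1 (?_ : (t 0 0 - t 1 1) * s 1 0 = 0)).resolve_left hd
        rw [h2] at e10
        linear_combination e10
      · rw [div_mul_eq_mul_div, ← sub_eq_iff_eq_add', eq_div_iff hd]
        ring
    · refine key (s 1 0 / t 1 0) ?_ (by field_simp) ?_
      · rw [div_mul_eq_mul_div, eq_div_iff h2]
        linear_combination e00
      · rw [div_mul_eq_mul_div, ← sub_eq_iff_eq_add', eq_div_iff h2]
        linear_combination e10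
  · refine key (s 0 1 / t 0 1) (by field_simp) ?_ ?_
    · rw [div_mul_eq_mul_div, eq_div_iff h1]
      linear_combination -e00
    · rw [div_mul_eq_mul_div, ← sub_eq_iff_eq_add', eq_div_iff h1]
      linear_combination -e01

theorem map_commutator_eq_one {H : Type u} [Group H] {M : Type*} [Monoid M] (φ : H →* M)
    (hc : ∀ x y, Commute (φ x) (φ y)) {g : H} (hg : g ∈ commutator H) : φ g = 1 := by
  have : commutator H ≤ φ.ker := by
    rw [_root_.commutator_def, Subgroup.commutator_le]
    intro x _ y _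
    rw [MonoidHom.mem_ker]
    have e : φ ⁅x, y⁆ = φ y * φ x * (φ x⁻¹ * φ y⁻¹) := by
      rw [commutatorElement_def, map_mul, map_mul, map_mul, (hc x y).eq, mul_assoc (φ y * φ x)]
    rw [e, ← map_mul, ← map_mul, ← map_mul, ← mul_inv_rev, mul_inv_cancel, map_one]
  exact this hg

/-- Derived subgroups of odd solvable groups in dimension two. -/
theorem pow_of_mem_commutator {H : Type u} [Group H] [Finite H] [Group.IsSolvable H]
    (hodd : Odd (Nat.card H)) (hp2 : p ≠ 2) (φ : H →* Matrix (Fin 2) (Fin 2) (ZMod p))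
    {g : H} (hg : g ∈ commutator H) : φ g ^ p = 1 := by
  have hsq : ∀ x, φ x ^ 2 = 1 → φ x = 1 := by
    intro x hx
    obtain ⟨k, hk⟩ := hodd
    have h1 : x ^ Nat.card H = 1 := pow_card_eq_one'
    have h2 := congrArg φ h1
    rwa [map_pow, map_one, hk, pow_succ, pow_mul, hx, one_pow, one_mul] at h2
  have hdet : ∀ x ∈ commutator H, (φ x).det = 1 := by
    intro x hx
    have := Abelianization.commutator_subset_ker (Matrix.detMonoidHom.comp φ).toHomUnits hx
    exact congrArg Units.val (MonoidHom.mem_ker.1 this)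
  have h20 : (2 : ZMod p) ≠ 0 := by
    intro h
    have h' : ((2 : ℕ) : ZMod p) = 0 := by exact_mod_cast h
    rw [ZMod.natCast_eq_zero_iff] at h'
    exact hp2 ((Nat.prime_dvd_prime_iff_eq hp.out Nat.prime_two).1 h')
  by_cases htriv : commutator H ≤ φ.ker
  · rw [MonoidHom.mem_ker.1 (htriv hg), one_pow]
  classical
  have hex : ∃ m, derivedSeries H m ≤ φ.ker := by
    obtain ⟨n, hn⟩ := Group.IsSolvable.solvable (G := H)
    exact ⟨n, by rw [hn]; exact bot_le⟩
  obtain ⟨k, hk⟩ : ∃ k, Nat.find hex = k + 2 := by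
    refine ⟨Nat.find hex - 2, ?_⟩
    have h1 : ¬ derivedSeries H 1 ≤ φ.ker := by rwa [derivedSeries_one]
    have h0 : ¬ derivedSeries H 0 ≤ φ.ker :=
      fun h => h1 ((derivedSeries_antitone H (Nat.zero_le 1)).trans h)
    have := Nat.find_spec hex
    have : Nat.find hex ≠ 0 ∧ Nat.find hex ≠ 1 :=
      ⟨fun e => h0 (e ▸ Nat.find_spec hex), fun e => h1 (e ▸ Nat.find_spec hex)⟩
    omega
  set U := derivedSeries H (k + 1) with hUdef
  haveI : U.Normal := derivedSeries_normal H _
  have hUT : U ≤ commutator H := by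
    rw [← derivedSeries_one]; exact derivedSeries_antitone H (by omega)
  have hUc : ∀ x ∈ U, ∀ y ∈ U, Commute (φ x) (φ y) := by
    intro x hx y hy
    have h1 : ⁅x, y⁆ ∈ derivedSeries H (k + 2) := by
      rw [derivedSeries_succ]; exact commutator_mem_commutator hx hy
    have h2 : φ ⁅x, y⁆ = 1 := MonoidHom.mem_ker.1 ((hk ▸ Nat.find_spec hex) h1)
    calc φ x * φ y = φ (⁅x, y⁆ * (y * x)) := by rw [← map_mul, commutatorElement_def]; group
      _ = φ y * φ x := by rw [map_mul, h2, one_mul, map_mul]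
  obtain ⟨u₀, hu₀, hu₀1⟩ : ∃ u ∈ U, φ u ≠ 1 := by
    by_contra hno
    push Not at hno
    exact Nat.find_min hex (by omega : k + 1 < Nat.find hex)
      fun x hx => MonoidHom.mem_ker.2 (hno x hx)
  set t := φ u₀ with htdef
  have hdt : t.det = 1 := hdet u₀ (hUT hu₀)
  have hns : ∀ c : ZMod p, t ≠ c • 1 := by
    intro c hc
    rw [hc, Matrix.det_smul, Matrix.det_one, mul_one, Fintype.card_fin] at hdt
    refine hu₀1 (hsq u₀ ?_)
    rw [← htdef, hc, smul_pow, one_pow, hdt, one_smul]
  set τ := t 0 0 + t 1 1 with hτ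
  have hCH : t * t = τ • t - 1 := by
    rw [Matrix.det_fin_two] at hdt
    ext i j
    fin_cases i <;> fin_cases j <;>
      simp [Matrix.mul_apply, Fin.sum_univ_two, hτ]
    · linear_combination -hdt
    · ring
    · ring
    · linear_combination -hdt
  have hconj : ∀ h : H, ∃ a b : ZMod p, φ h * t = (a • 1 + b • t) * φ h ∧
      2 * a + b * τ = τ ∧ (1 - b ^ 2) * (τ ^ 2 - 4) = 0 := by
    intro h
    have hm : h * u₀ * h⁻¹ ∈ U := (inferInstance : U.Normal).conj_mem u₀ hu₀ h
    obtain ⟨a, b, hab⟩ := commutant t (φ (h * u₀ * h⁻¹)) hns (hUc _ hm _ hu₀)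
    have hd := hdet _ (hUT hm)
    rw [hab, Matrix.det_fin_two] at hd
    have htr : (φ (h * u₀ * h⁻¹)).trace = t.trace := by
      rw [map_mul, map_mul, Matrix.trace_mul_comm, ← mul_assoc, ← map_mul, inv_mul_cancel, map_one,
        one_mul]
    rw [hab, Matrix.trace_fin_two, Matrix.trace_fin_two] at htr
    simp at hd htr
    rw [Matrix.det_fin_two] at hdt
    have e1 : 2 * a + b * τ = τ := by rw [hτ]; linear_combination htr
    have e2 : a ^ 2 + a * b * τ + b ^ 2 = 1 := by
      rw [hτ]; linear_combination hd - b ^ 2 * hdt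
    refine ⟨a, b, ?_, e1, ?_⟩
    · rw [← hab, htdef, ← map_mul, ← map_mul, inv_mul_cancel_right]
    · linear_combination 4 * e2 - (2 * a + b * τ + τ) * e1
  by_cases hτ4 : τ ^ 2 - 4 = 0
  swap
  · have hct : ∀ h : H, Commute (φ h) t := by
      intro h
      obtain ⟨a, b, hr, e1, e2⟩ := hconj h
      have hb : b ^ 2 = 1 :=
        (sub_eq_zero.1 ((mul_eq_zero.1 e2).resolve_right hτ4)).symm
      rcases sq_eq_one_iff.1 hb with rfl | rfl
      · have ha : a = 0 := by
          refine (mul_eq_zero.1 (?_ : (2 : ZMod p) * a = 0)).resolve_left h20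
          linear_combination e1
        rw [ha, zero_smul, zero_add, one_smul] at hr
        exact hr
      · have ha : a = τ := by
          refine mul_left_cancel₀ h20 ?_
          linear_combination e1
        rw [ha, neg_one_smul, ← sub_eq_add_neg, sub_mul, smul_mul_assoc, one_mul] at hr
        have h2 : Commute (φ (h * h)) t := by
          show φ (h * h) * t = t * φ (h * h)
          calc φ (h * h) * t = φ h * (φ h * t) := by rw [map_mul, mul_assoc]
            _ = τ • (φ h * φ h) - φ h * t * φ h := by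
              conv_lhs => rw [hr, mul_sub, mul_smul_comm, ← mul_assoc]
            _ = t * φ (h * h) := by
              rw [hr, sub_mul, smul_mul_assoc, sub_sub_cancel, map_mul, mul_assoc]
        obtain ⟨j, hj⟩ := hodd
        have h1 : (h * h) ^ (j + 1) = h := by
          rw [← pow_two, ← pow_mul, show 2 * (j + 1) = Nat.card H + 1 by omega, pow_succ,
            pow_card_eq_one', one_mul]
        rw [← h1, map_pow]
        exact h2.pow_left _
    have hall : ∀ x y, Commute (φ x) (φ y) := by
      intro x y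
      obtain ⟨a, b, hab⟩ := commutant t (φ x) hns (hct x)
      rw [hab]
      exact ((Commute.one_left _).smul_left a).add_left ((hct y).symm.smul_left b)
    rw [map_commutator_eq_one φ hall hg, one_pow]
  have hpm : τ = 2 ∨ τ = -2 := by
    have : (τ - 2) * (τ + 2) = 0 := by linear_combination hτ4
    rcases mul_eq_zero.1 this with h | h
    · exact Or.inl (sub_eq_zero.1 h)
    · exact Or.inr (eq_neg_of_add_eq_zero_left h)
  rcases hpm with hτ2 | hτ2
  swap
  · exfalso
    set N := t + 1 with hN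
    have hNN : N ^ 2 = 0 := by
      rw [pow_two, hN, add_mul, mul_add, hCH, hτ2, mul_one, one_mul, neg_smul, two_smul]
      abel
    have hNp : N ^ p = 0 := pow_eq_zero_of_le hp.out.two_le hNN
    have e : φ (u₀ ^ p) = -1 := by
      rw [map_pow, ← htdef, show t = -1 + N by rw [hN]; abel,
        add_pow_char_of_commute p ((Commute.neg_one_left N)),
        (hp.out.odd_of_ne_two hp2).neg_one_pow, hNp, add_zero]
    have e2 : φ (u₀ ^ p) = 1 := hsq _ (by rw [e, neg_one_sq])
    have e3 := congrFun (congrFun (e.symm.trans e2) 0) 0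
    simp at e3
    exact h20 (by linear_combination -e3)
  set N := t - 1 with hN
  have hNN : N ^ 2 = 0 := by
    rw [pow_two, hN, sub_mul, mul_sub, hCH, hτ2, mul_one, one_mul, two_smul]
    abel
  have hN0 : N ≠ 0 := fun h => hns 1 (by rw [one_smul]; exact sub_eq_zero.1 h)
  have hrel : ∀ h : H, ∃ b : ZMod p, φ h * N = b • (N * φ h) := by
    intro h
    obtain ⟨a, b, hr, e1, -⟩ := hconj h
    have hab : a + b = 1 := by
      refine mul_left_cancel₀ h20 ?_
      rw [hτ2] at e1
      linear_combination e1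
    refine ⟨b, ?_⟩
    rw [hN, mul_sub, hr, mul_one, sub_mul, one_mul, add_mul, smul_mul_assoc, smul_mul_assoc,
      one_mul, smul_sub, show a = 1 - b from eq_sub_of_add_eq hab, sub_smul, one_smul]
    abel
  choose β hβ using hrel
  have hprod : ∀ (x y : H) (c d : ZMod p), φ x * N = c • (N * φ x) → φ y * N = d • (N * φ y) →
      φ (x * y) * N = (c * d) • (N * φ (x * y)) := by
    intro x y c d hx hy
    rw [map_mul, mul_assoc, hy, mul_smul_comm, ← mul_assoc, hx, smul_mul_assoc, smul_smul,
      mul_assoc, mul_comm d c]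
  have hinv : ∀ x, β x * β x⁻¹ = 1 := by
    intro x
    have h := hprod x x⁻¹ _ _ (hβ x) (hβ x⁻¹)
    rw [mul_inv_cancel, map_one, one_mul, mul_one] at h
    exact sub_eq_zero.1 ((smul_eq_zero.1 (show (β x * β x⁻¹ - 1) • N = 0 by
      rw [sub_smul, one_smul, ← h, sub_self])).resolve_right hN0)
  have hgt : Commute t (φ g) := by
    have hle : commutator H ≤
        (centralizer {φ.toHomUnits u₀}).comap φ.toHomUnits := by
      rw [_root_.commutator_def, Subgroup.commutator_le]
      intro x _ y _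
      rw [mem_comap, mem_centralizer_singleton_iff]
      refine Units.ext ?_
      show φ ⁅x, y⁆ * t = t * φ ⁅x, y⁆
      have h := hprod _ _ _ _ (hprod _ _ _ _ (hprod _ _ _ _ (hβ x) (hβ y)) (hβ x⁻¹)) (hβ y⁻¹)
      rw [show β x * β y * β x⁻¹ * β y⁻¹ = (β x * β x⁻¹) * (β y * β y⁻¹) by ring, hinv, hinv,
        one_mul, one_smul, ← commutatorElement_def, hN, mul_sub, sub_mul, mul_one, one_mul,
        sub_left_inj] at h
      exact h
    have h := mem_centralizer_singleton_iff.1 (mem_comap.1 (hle hg))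
    exact (congrArg Units.val h).symm
  obtain ⟨a, b, hab⟩ := commutant t (φ g) hns hgt.symm
  have hc : (a + b) ^ 2 = 1 := by
    have hd := hdet g hg
    rw [hab, Matrix.det_fin_two] at hd
    simp at hd
    rw [Matrix.det_fin_two] at hdt
    rw [hτ] at hτ2
    linear_combination hd - b ^ 2 * hdt - a * b * hτ2
  have hgN : φ g = (a + b) • (1 : Matrix (Fin 2) (Fin 2) (ZMod p)) + b • N := by
    rw [hab, hN, smul_sub, add_smul]; abel
  have e : φ g ^ p = (a + b) ^ p • (1 : Matrix (Fin 2) (Fin 2) (ZMod p)) := by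
    rw [hgN, add_pow_char_of_commute p (((Commute.one_left N).smul_left _).smul_right _),
      smul_pow, one_pow, smul_pow, pow_eq_zero_of_le hp.out.two_le hNN, smul_zero, add_zero]
  have := hsq (g ^ p) (by
    rw [map_pow, e, smul_pow, one_pow, ← pow_mul, mul_comm, pow_mul, hc, one_pow, one_smul])
  rwa [map_pow] at this

/-- The same in dimension at most two. -/
theorem pow_of_mem_commutator_le {H : Type u} [Group H] [Finite H] [Group.IsSolvable H]
    (hodd : Odd (Nat.card H)) (hp2 : p ≠ 2) {n : ℕ} (hn : n ≤ 2)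
    (φ : H →* Matrix (Fin n) (Fin n) (ZMod p)) {g : H} (hg : g ∈ commutator H) : φ g ^ p = 1 := by
  have hcomm : n < 2 → ∀ x y : Matrix (Fin n) (Fin n) (ZMod p), Commute x y := by
    intro h x y
    haveI : Subsingleton (Fin n) := Fin.subsingleton_iff_le_one.2 (by omega)
    ext i j
    rw [Matrix.mul_apply, Matrix.mul_apply]
    refine Finset.sum_congr rfl fun k _ => ?_
    rw [Subsingleton.elim k i, Subsingleton.elim j i, mul_comm]
  rcases lt_or_eq_of_le hn with h | rfl
  · rw [map_commutator_eq_one φ (fun x y => hcomm h _ _) hg, one_pow]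
  · exact pow_of_mem_commutator hodd hp2 φ hg

theorem dvd_card_GL_le (hp2 : p ≠ 2) {q : ℕ} (hq : q.Prime) (hq2 : q ≠ 2) {n : ℕ} (hn : n ≤ 2)
    (h : q ∣ Nat.card (GL (Fin n) (ZMod p))) : q ≤ p := by
  rw [Matrix.card_GL_field, ZMod.card] at h
  have h2 := hp.out.two_le
  interval_cases n
  · simp at h; exact absurd h hq.ne_one
  · simp at h
    have := Nat.le_of_dvd (by omega) h
    omega
  · simp [Fin.prod_univ_two] at h
    have e1 : p ^ 2 - p = p * (p - 1) := by rw [Nat.mul_sub, mul_one, pow_two]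
    have e2 : p ^ 2 - 1 = (p + 1) * (p - 1) := by simpa using Nat.sq_sub_sq p 1
    rw [e1, e2] at h
    have hA : q ∣ p + 1 ∨ q ∣ p - 1 ∨ q ∣ p := by
      rcases hq.dvd_mul.1 h with h | h <;> rcases hq.dvd_mul.1 h with h | h <;> simp [h]
    rcases hA with ⟨c, hc⟩ | hd | hd
    · obtain ⟨j, hj⟩ := hp.out.odd_of_ne_two hp2
      obtain ⟨i, hi⟩ := hq.odd_of_ne_two hq2
      rcases c with _ | _ | c
      · omega
      · omega
      · nlinarith
    · have := Nat.le_of_dvd (by omega) hd
      omega
    · exact Nat.le_of_dvd (by omega) hd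

theorem rank_of_injective {A : Type*} {B : Type*} [Group A] [Group B] {k : ℕ} (f : A →* B)
    (hf : Function.Injective f) (hr : Cfsg.PRankLE p k B) : Cfsg.PRankLE p k A := by
  intro E hE hEp
  rw [Nat.card_congr (E.equivMapOfInjective f hf).toEquiv]
  haveI := hE
  refine hr _ inferInstance ?_
  rintro _ ⟨x, hx, rfl⟩
  rw [← map_pow, hEp x hx, map_one]

theorem closure_commutative {Q : Type*} [Group Q] {s : Set Q}
    (hs : ∀ a ∈ s, ∀ b ∈ s, a * b = b * a) : IsMulCommutative ↥(closure s) := by
  rw [← le_centralizer_iff_isMulCommutative, le_centralizer_iff]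
  refine (closure_le _).2 fun a ha => ?_
  rw [SetLike.mem_coe, mem_centralizer_iff]
  intro b hb
  have : closure s ≤ centralizer ({a} : Set Q) :=
    (closure_le _).2 fun c hc => mem_centralizer_singleton_iff.2 (hs c hc a ha)
  exact mem_centralizer_singleton_iff.1 (this hb)

/-- A class two group of exponent `p` and rank two has abelianization of order at most `p²`. -/
theorem card_abelianization_le {Q : Type*} [Group Q] [Finite Q] (hexp : ∀ x : Q, x ^ p = 1)
    (hcl : commutator Q ≤ center Q) (hr : Cfsg.PRankLE p 2 Q) :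
    Nat.card (Abelianization Q) ≤ p ^ 2 := by
  have hQp : IsPGroup p Q := fun x => ⟨1, by simpa using hexp x⟩
  have hb : ∀ s : Set Q, (∀ a ∈ s, ∀ b ∈ s, a * b = b * a) → Nat.card (closure s) ≤ p ^ 2 :=
    fun s hs => hr _ (closure_commutative hs) fun a _ => hexp a
  have hindex : Nat.card (Abelianization Q) * Nat.card (commutator Q) = Nat.card Q := by
    rw [mul_comm]; exact (commutator Q).card_mul_index
  by_cases hab : ∀ x : Q, x ∈ center Q
  · have h1 : closure (Set.univ : Set Q) = ⊤ := closure_univ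
    have h2 := hb Set.univ fun a _ b _ => mem_center_iff.1 (hab b) a
    rw [h1, card_top] at h2
    refine le_trans (Nat.le_of_dvd Nat.card_pos ⟨_, hindex.symm⟩) h2
  push Not at hab
  obtain ⟨x, hx⟩ := hab
  obtain ⟨y, hy⟩ : ∃ y, y * x ≠ x * y := by
    by_contra hno
    push Not at hno
    exact hx (mem_center_iff.2 hno)
  have hcne : commutator Q ≠ ⊥ := by
    intro h
    refine hy (commutatorElement_eq_one_iff_mul_comm.1 ?_)
    exact (mem_bot.1 (h ▸ commutator_mem_commutator (mem_top y) (mem_top x)))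
  obtain ⟨c, hc⟩ := IsPGroup.iff_card.1 (hQp.to_subgroup (commutator Q))
  have hc0 : c ≠ 0 := by
    rintro rfl
    exact hcne (card_eq_one.1 (by simpa using hc))
  have hcp : p ≤ Nat.card (commutator Q) := hc ▸ Nat.le_self_pow hc0 p
  -- the centre has order at most `p`
  set A := closure ({x} ∪ (center Q : Set Q)) with hA
  have hAcomm : ∀ w : Q, x * w = w * x →
      ∀ a ∈ ({x, w} ∪ (center Q : Set Q)), ∀ b ∈ ({x, w} ∪ (center Q : Set Q)), a * b = b * a := by
    intro w hw a ha b hb
    rcases ha with ha | ha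
    · rcases hb with hb | hb
      · rcases ha with rfl | rfl <;> rcases hb with rfl | rfl <;> first | rfl | exact hw | exact hw.symm
      · exact mem_center_iff.1 hb a
    · exact (mem_center_iff.1 ha b).symm
  have hAle : Nat.card A ≤ p ^ 2 := by
    have := hb _ (hAcomm x rfl)
    simpa [hA] using this
  have hZA : center Q < A := by
    refine lt_of_le_of_ne (fun z hz => subset_closure (Or.inr hz)) fun e => hx ?_
    rw [e]; exact subset_closure (Or.inl rfl)
  obtain ⟨z, hz⟩ := IsPGroup.iff_card.1 (hQp.to_subgroup (center Q))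
  obtain ⟨a, ha⟩ := IsPGroup.iff_card.1 (hQp.to_subgroup A)
  have hza : z < a := by
    have h1 : Nat.card (center Q) < Nat.card A := by
      refine lt_of_le_of_ne (card_le_of_le hZA.le) fun e => hZA.ne ?_
      exact eq_of_le_of_card_ge hZA.le e.ge
    rw [hz, ha] at h1
    exact (Nat.pow_lt_pow_iff_right hp.out.one_lt).1 h1
  have ha2 : a ≤ 2 := (Nat.pow_le_pow_iff_right hp.out.one_lt).1 (ha ▸ hAle)
  have hz0 : z ≠ 0 := by
    rintro rfl
    have := hcl (commutator_mem_commutator (mem_top y) (mem_top x))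
    have hbot : center Q = ⊥ := card_eq_one.1 (by simpa using hz)
    rw [hbot, mem_bot, commutatorElement_eq_one_iff_mul_comm] at this
    exact hy this
  have ha' : Nat.card A = p ^ 2 := by rw [ha, show a = 2 by omega]
  -- the map `w ↦ [x, w]`
  let f : Q →* Q := MonoidHom.mk' (fun w => ⁅x, w⁆) fun v w => by
    have hvw : ⁅x, w⁆ ∈ center Q := hcl (commutator_mem_commutator (mem_top x) (mem_top w))
    calc ⁅x, v * w⁆ = ⁅x, v⁆ * (v * ⁅x, w⁆ * v⁻¹) := by simp only [commutatorElement_def]; group
      _ = ⁅x, v⁆ * ⁅x, w⁆ := by rw [mem_center_iff.1 hvw v, mul_inv_cancel_right]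
  have hker : f.ker ≤ A := by
    intro w hw
    have hw' : x * w = w * x := commutatorElement_eq_one_iff_mul_comm.1 (MonoidHom.mem_ker.1 hw)
    have hle : A ≤ closure ({x, w} ∪ (center Q : Set Q)) :=
      closure_mono (Set.union_subset_union_left _ (by simp))
    rw [eq_of_le_of_card_ge hle (ha' ▸ hb _ (hAcomm w hw'))]
    exact subset_closure (Or.inl (Or.inr rfl))
  have hrange : f.range ≤ center Q := by
    rintro _ ⟨w, rfl⟩
    exact hcl (commutator_mem_commutator (mem_top x) (mem_top w))
  have h1 := f.ker.card_mul_index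
  rw [index_ker] at h1
  have hz1 : z = 1 := by omega
  have hQle : Nat.card Q ≤ p ^ 2 * p := by
    rw [← h1]
    refine Nat.mul_le_mul (ha' ▸ card_le_of_le hker) ?_
    calc Nat.card f.range ≤ Nat.card (center Q) := card_le_of_le hrange
      _ = p := by rw [hz, hz1, pow_one]
  refine Nat.le_of_mul_le_mul_right (le_trans ?_ hQle) hp.out.pos
  rw [← hindex]
  exact Nat.mul_le_mul_left _ hcp

/-- Automorphisms restricted to a characteristic subgroup. -/
def resChar {R : Type u} [Group R] (K : Subgroup R) [hK : K.Characteristic] : MulAut R →* MulAut K :=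
  MonoidHom.mk' (fun e =>
    { toFun := fun x => ⟨e x, Cfsg.Lib.Transfer.map_mem_of_characteristic e x.2⟩
      invFun := fun x => ⟨e.symm x, Cfsg.Lib.Transfer.map_mem_of_characteristic e.symm x.2⟩
      left_inv := fun x => Subtype.ext (e.symm_apply_apply _)
      right_inv := fun x => Subtype.ext (e.apply_symm_apply _)
      map_mul' := fun x y => Subtype.ext (map_mul e (x : R) y) }) fun _ _ => rfl

theorem resChar_apply {R : Type u} [Group R] (K : Subgroup R) [K.Characteristic] (e : MulAut R)
    (x : K) : ((resChar K e x : K) : R) = e x := rfl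

theorem iterate_aut {R : Type*} [Group R] (f : MulAut R) :
    ∀ (k : ℕ) (x : R), (⇑f)^[k] x = (f ^ k) x := by
  intro k
  induction k with
  | zero => intro x; rfl
  | succ k ih => intro x; rw [Function.iterate_succ_apply', ih, pow_succ', MulAut.mul_apply]

/-- Endomorphisms of an exponent `p` abelian group of order at most `p²` as matrices. -/
theorem end_rep {V : Type*} [AddCommGroup V] [Finite V] [Module (ZMod p) V]
    (hcard : Nat.card V ≤ p ^ 2) :
    ∃ n ≤ 2, ∃ χ : AddMonoid.End V →* Matrix (Fin n) (Fin n) (ZMod p), Function.Injective χ := by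
  haveI : Module.Finite (ZMod p) V := Module.Finite.of_finite
  have hn : Module.finrank (ZMod p) V ≤ 2 := by
    have := Module.natCard_eq_pow_finrank (K := ZMod p) (V := V)
    rw [Nat.card_zmod] at this
    exact (Nat.pow_le_pow_iff_right hp.out.one_lt).1 (this ▸ hcard)
  let b := Module.finBasis (ZMod p) V
  let L : AddMonoid.End V →* Module.End (ZMod p) V :=
    { toFun := fun f => AddMonoidHom.toZModLinearMap p f
      map_one' := LinearMap.ext fun _ => rfl
      map_mul' := fun _ _ => LinearMap.ext fun _ => rfl }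
  refine ⟨_, hn,
    { toFun := fun f => LinearMap.toMatrixAlgEquiv b (L f)
      map_one' := (congrArg (LinearMap.toMatrixAlgEquiv b) (map_one L)).trans (map_one _)
      map_mul' := fun f g =>
        (congrArg (LinearMap.toMatrixAlgEquiv b) (map_mul L f g)).trans (map_mul _ _ _) },
    fun f g h => AddMonoidHom.ext fun v => ?_⟩
  exact LinearMap.congr_fun ((LinearMap.toMatrixAlgEquiv b).injective h : L f = L g) v

/-- The automorphism group of a `p`-group of rank two is linear of degree two modulo a `p`-group. -/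
theorem exists_auto_rep {R : Type u} [Group R] [Finite R] (hR : IsPGroup p R) (hp2 : p ≠ 2)
    (hr : Cfsg.PRankLE p 2 R) :
    ∃ n ≤ 2, ∃ ψ : MulAut R →* Matrix (Fin n) (Fin n) (ZMod p),
      ∀ e, ψ e = 1 → ∃ k, e ^ p ^ k = 1 := by
  obtain ⟨C, hCc, -, hCcomm, hCC⟩ := Cfsg.Lib.Transfer.exists_critical hR
  haveI := hCc
  have hcC : ∀ a b : R, a ∈ C → ⁅a, b⁆ ∈ C ∧ ⁅a, b⁆ ∈ centralizer (C : Set R) := fun a b ha =>
    hCcomm (commutator_mem_commutator ha (mem_top b))
  have hpow : ∀ a b : R, a ∈ C → b ∈ C → a ^ p = 1 → b ^ p = 1 → (a * b) ^ p = 1 := by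
    intro a b ha hb hap hbp
    obtain ⟨-, hcz⟩ := hcC b⁻¹ a⁻¹ (inv_mem hb)
    set c := ⁅b⁻¹, a⁻¹⁆ with hc
    have hcC' : ∀ w ∈ C, Commute c w := fun w hw => (mem_centralizer_iff.1 hcz w hw).symm
    have hba : b * a = a * b * c := by rw [hc, commutatorElement_def]; group
    have hk : ∀ k : ℕ, b * a ^ k = a ^ k * b * c ^ k := by
      intro k
      induction k with
      | zero => simp
      | succ k ih =>
        calc b * a ^ (k + 1) = b * a ^ k * a := by rw [pow_succ]; group
          _ = a ^ k * b * (c ^ k * a) := by rw [ih]; group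
          _ = a ^ k * (b * a) * c ^ k := by rw [((hcC' a ha).pow_left k).eq]; group
          _ = a ^ k * a * b * (c * c ^ k) := by rw [hba]; group
          _ = a ^ (k + 1) * b * c ^ (k + 1) := by rw [← pow_succ, ← pow_succ']
    have hcp : c ^ p = 1 := by
      have h := hk p
      rw [hap, mul_one, one_mul, left_eq_mul] at h
      exact h
    obtain ⟨j, hj⟩ := Nat.Prime.dvd_choose_self hp.out (k := 2) two_ne_zero
      (lt_of_le_of_ne hp.out.two_le (Ne.symm hp2))
    rw [Cfsg.Lib.Transfer.mul_pow_class_two hba (hcC' a ha) (hcC' b hb), hap, hbp, hj, pow_mul,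
      hcp, one_pow, one_mul, mul_one]
  let Q : Subgroup R :=
    { carrier := {x | x ∈ C ∧ x ^ p = 1}
      one_mem' := ⟨one_mem _, one_pow _⟩
      mul_mem' := fun {a b} ha hb => ⟨mul_mem ha.1 hb.1, hpow a b ha.1 hb.1 ha.2 hb.2⟩
      inv_mem' := fun {a} ha => ⟨C.inv_mem ha.1, by rw [inv_pow, ha.2, inv_one]⟩ }
  haveI hQc : Q.Characteristic := Cfsg.Lib.Transfer.characteristic_of_mem_iff fun φ x hx =>
    ⟨Cfsg.Lib.Transfer.map_mem_of_characteristic φ hx.1, by rw [← map_pow, hx.2, map_one]⟩
  have hexp : ∀ x : Q, x ^ p = 1 := fun x => Subtype.ext (by simpa using x.2.2)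
  have hcl : commutator Q ≤ center Q := by
    rw [_root_.commutator_def, Subgroup.commutator_le]
    intro x _ y _
    rw [mem_center_iff]
    intro w
    exact Subtype.ext (mem_centralizer_iff.1 (hcC (x : R) y x.2.1).2 w w.2.1)
  have hcard := card_abelianization_le hexp hcl (rank_of_injective Q.subtype Q.subtype_injective hr)
  let V := Additive (Abelianization Q)
  have hV : ∀ v : V, p • v = 0 := fun v => by
    obtain ⟨w, hw⟩ : ∃ w : Q, Abelianization.of w = Additive.toMul v :=
      QuotientGroup.mk_surjective _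
    apply Additive.toMul.injective
    rw [toMul_nsmul, ← hw, toMul_zero, ← map_pow, hexp, map_one]
  obtain ⟨n, hn, χ, hχ⟩ := @end_rep p hp V _ _ (AddCommGroup.zmodModule hV) hcard
  let π : MulAut R →* AddMonoid.End V :=
    { toFun := fun e => MonoidHom.toAdditive (Abelianization.map (resChar Q e).toMonoidHom)
      map_one' := AddMonoidHom.ext fun v => by
        obtain ⟨w, hw⟩ : ∃ w : Q, Abelianization.of w = Additive.toMul v :=
          QuotientGroup.mk_surjective _
        show Additive.ofMul (Abelianization.map _ (Additive.toMul v)) = v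
        rw [← hw, Abelianization.map_of, map_one]
        exact congrArg Additive.ofMul hw
      map_mul' := fun e f => AddMonoidHom.ext fun v => by
        obtain ⟨w, hw⟩ : ∃ w : Q, Abelianization.of w = Additive.toMul v :=
          QuotientGroup.mk_surjective _
        show Additive.ofMul (Abelianization.map _ (Additive.toMul v)) =
          Additive.ofMul (Abelianization.map _ (Abelianization.map _ (Additive.toMul v)))
        rw [← hw, Abelianization.map_of, Abelianization.map_of, Abelianization.map_of, map_mul]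
        rfl }
  refine ⟨n, hn, χ.comp π, fun e he => ?_⟩
  have hπ : π e = 1 := hχ (he.trans (map_one χ).symm)
  obtain ⟨a, m, hm, hord⟩ :=
    Nat.exists_eq_pow_mul_and_not_dvd (orderOf_pos e).ne' p hp.out.ne_one
  refine ⟨a, ?_⟩
  set f := e ^ p ^ a with hf
  have hfm : f ^ m = 1 := by rw [hf, ← pow_mul, ← hord, pow_orderOf_eq_one]
  have hmp : m.Coprime p := (hp.out.coprime_iff_not_dvd.2 hm).symm
  have hπf : π f = 1 := by rw [hf, map_pow, hπ, one_pow]
  have hQ : ∀ w : Q, w⁻¹ * resChar Q f w ∈ commutator Q := by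
    intro w
    have h := DFunLike.congr_fun hπf (Additive.ofMul (Abelianization.of w))
    exact QuotientGroup.eq.1 (congrArg Additive.toMul h).symm
  have hfix1 : ∀ w ∈ commutator Q, resChar Q f w = w := by
    have hle : commutator Q ≤ MonoidHom.eqLocus (resChar Q f).toMonoidHom (MonoidHom.id Q) := by
      rw [_root_.commutator_def, Subgroup.commutator_le]
      intro x _ y _
      show resChar Q f ⁅x, y⁆ = ⁅x, y⁆
      have hz : ∀ z ∈ center Q, ∀ A : Q, z * A * z⁻¹ = A := fun z hz A => by
        rw [← mem_center_iff.1 hz A, mul_inv_cancel_right]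
      have key : ∀ z ∈ center Q, ∀ w ∈ center Q, ⁅x * z, y * w⁆ = ⁅x, y⁆ := by
        intro z hz' w hw'
        calc ⁅x * z, y * w⁆ = x * (z * (y * w) * z⁻¹) * x⁻¹ * (y * w)⁻¹ := by
              rw [commutatorElement_def]; group
          _ = x * y * (w * x⁻¹ * w⁻¹) * y⁻¹ := by rw [hz z hz']; group
          _ = ⁅x, y⁆ := by rw [hz w hw', commutatorElement_def]
      rw [map_commutatorElement, show resChar Q f x = x * (x⁻¹ * resChar Q f x) by group,
        show resChar Q f y = y * (y⁻¹ * resChar Q f y) by group]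
      exact key _ (hcl (hQ x)) _ (hcl (hQ y))
    exact hle
  have hit : ∀ (K : Subgroup R) [K.Characteristic] (x : K), (⇑(resChar K f))^[m] x = x := by
    intro K _ x
    rw [iterate_aut, ← map_pow, hfm, map_one]
    rfl
  have hQfix : ∀ w : Q, resChar Q f w = w := fun w =>
    Cfsg.Lib.Transfer.fixed_of_translate (hR.to_subgroup Q) (resChar Q f).toMonoidHom hmp
      (hit Q) (z := w⁻¹ * resChar Q f w) (by simp) (hfix1 _ (hQ w))
  have hCfix : ∀ w : C, resChar C f w = w :=
    Cfsg.Lib.Transfer.fixed_of_fix_omega hp2 _ C rfl (hR.to_subgroup C) (resChar C f) m hmp (hit C)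
      fun x hx => Subtype.ext (by
        have h1 : (x : R) ^ p = 1 := by rw [← SubgroupClass.coe_pow, hx]; rfl
        exact (congrArg Subtype.val (hQfix ⟨x, x.2, h1⟩) : f (x : R) = x))
  refine MulEquiv.ext fun g => ?_
  exact Cfsg.Lib.Transfer.fixed_of_fix_selfCentralizing hR f.toMonoidHom hmp
    (fun x => by rw [MulEquiv.coe_toMonoidHom, iterate_aut, hfm]; rfl) C hCC
    (fun x hx => congrArg Subtype.val (hCfix ⟨x, hx⟩)) g

/-- Odd solvable groups of automorphisms of rank two `p`-groups: derived elements have `p`-power order. -/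
theorem auto_commutator {R : Type u} [Group R] [Finite R] (hR : IsPGroup p R) (hp2 : p ≠ 2)
    (hr : Cfsg.PRankLE p 2 R) {H : Type*} [Group H] [Finite H] [Group.IsSolvable H]
    (hodd : Odd (Nat.card H)) (φ : H →* MulAut R) {g : H} (hg : g ∈ commutator H) :
    ∃ k, φ g ^ p ^ k = 1 := by
  obtain ⟨n, hn, ψ, hψ⟩ := exists_auto_rep hR hp2 hr
  have h := pow_of_mem_commutator_le hodd hp2 hn (ψ.comp φ) hg
  rw [MonoidHom.comp_apply, ← map_pow] at h
  obtain ⟨k, hk⟩ := hψ _ h
  exact ⟨k + 1, by rw [pow_succ', pow_mul]; exact hk⟩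

/-- Primes of odd groups of automorphisms of rank two `p`-groups are at most `p`. -/
theorem auto_prime_le {R : Type u} [Group R] [Finite R] (hR : IsPGroup p R) (hp2 : p ≠ 2)
    (hr : Cfsg.PRankLE p 2 R) {H : Type*} [Group H] [Finite H]
    (hodd : Odd (Nat.card H)) (φ : H →* MulAut R) {h : H} {q : ℕ} (hq : q.Prime)
    (hqd : q ∣ orderOf (φ h)) : q ≤ p := by
  obtain ⟨n, hn, ψ, hψ⟩ := exists_auto_rep hR hp2 hr
  have hq2 : q ≠ 2 := by
    rintro rfl
    exact hodd.not_two_dvd_nat ((hqd.trans (orderOf_map_dvd φ h)).trans (orderOf_dvd_natCard h))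
  set x := φ h ^ (orderOf (φ h) / q)
  have hx : orderOf x = q := orderOf_pow_orderOf_div (orderOf_pos _).ne' hqd
  have hu : orderOf (ψ.toHomUnits x) ∣ q := hx ▸ orderOf_map_dvd _ x
  rcases hq.eq_one_or_self_of_dvd _ hu with h1 | h1
  · rw [orderOf_eq_one_iff] at h1
    obtain ⟨k, hk⟩ := hψ x (congrArg Units.val h1)
    have := orderOf_dvd_of_pow_eq_one hk
    rw [hx] at this
    exact Nat.le_of_dvd hp.out.pos (hq.dvd_of_dvd_pow this)
  · exact dvd_card_GL_le hp2 hq hq2 hn (h1 ▸ orderOf_dvd_natCard _)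

/-- Faithful odd solvable operator groups on rank two `p`-groups. -/
theorem derived_pgroup {G : Type u} [Group G] [Finite G] (hp2 : p ≠ 2) (R A : Subgroup G)
    (hR : IsPGroup p R) (hr : Cfsg.PRankLE p 2 R) (hA : A ≤ normalizer (R : Set G))
    (hAs : Group.IsSolvable A) (hAodd : Odd (Nat.card A))
    (hfaith : A ⊓ centralizer (R : Set G) = ⊥) : IsPGroup p ↥⁅A, A⁆ := by
  haveI := hAs
  let φ : A →* MulAut R := R.normalizerMonoidHom.comp (inclusion hA)
  have hinj : ∀ a : A, φ a = 1 → a = 1 := fun a ha => by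
    have h1 : inclusion hA a ∈ R.normalizerMonoidHom.ker := ha
    rw [normalizerMonoidHom_ker, mem_subgroupOf] at h1
    have h2 : (a : G) ∈ (⊥ : Subgroup G) := hfaith ▸ ⟨a.2, h1⟩
    exact Subtype.ext (mem_bot.1 h2)
  rw [← map_subtype_commutator]
  rintro ⟨_, a, ha, rfl⟩
  obtain ⟨k, hk⟩ := auto_commutator hR hp2 hr hAodd φ ha
  refine ⟨k, Subtype.ext ?_⟩
  have := congrArg Subtype.val (hinj (a ^ p ^ k) (by rw [map_pow]; exact hk))
  simpa using this

/-! ### Groups of `p`-rank two -/

theorem rank_quotient {G : Type u} [Group G] [Finite G] {k : ℕ} (O : Subgroup G) [O.Normal]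
    (hO : (Nat.card O).Coprime p) (hr : Cfsg.PRankLE p k G) : Cfsg.PRankLE p k (G ⧸ O) := by
  intro A hA hAp
  have hAP : IsPGroup p A := fun x => ⟨1, Subtype.ext (by simpa using hAp x x.2)⟩
  obtain ⟨a, ha⟩ := IsPGroup.iff_card.1 hAP
  set K := A.comap (QuotientGroup.mk' O)
  have hdvd : p ^ a ∣ Nat.card K := by
    have h1 : K.map (QuotientGroup.mk' O) = A :=
      map_comap_eq_self_of_surjective (QuotientGroup.mk'_surjective O) A
    rw [← ha, ← h1]
    exact card_map_dvd _ _
  obtain ⟨P₀, hP₀⟩ := Sylow.exists_subgroup_card_pow_prime p hdvd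
  set P := P₀.map K.subtype
  have hPc : Nat.card P = p ^ a := by
    rw [card_map_of_injective K.subtype_injective, hP₀]
  have hPO : O ⊓ P = ⊥ := inf_eq_bot_of_coprime (hPc ▸ hO.pow_right a)
  have hmk : ∀ x ∈ P, (x : G ⧸ O) ∈ A := by
    rintro _ ⟨x, -, rfl⟩
    exact x.2
  have h1 : ∀ g ∈ P, (g : G ⧸ O) = 1 → g = 1 := fun g hg h =>
    mem_bot.1 (hPO ▸ ⟨(QuotientGroup.eq_one_iff g).1 h, hg⟩)
  rw [ha, ← hPc]
  refine hr P ?_ ?_
  · rw [← le_centralizer_iff_isMulCommutative]
    intro x hx
    rw [mem_centralizer_iff]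
    intro y hy
    refine commutatorElement_eq_one_iff_mul_comm.1 (h1 _ (P.mul_mem (P.mul_mem (P.mul_mem hy hx)
      (P.inv_mem hy)) (P.inv_mem hx)) ?_)
    haveI := hA
    have hc : (y : G ⧸ O) * x = x * y :=
      congrArg Subtype.val (mul_comm' (⟨_, hmk y hy⟩ : A) ⟨_, hmk x hx⟩)
    show (QuotientGroup.mk' O) ⁅y, x⁆ = 1
    rw [map_commutatorElement]
    exact commutatorElement_eq_one_iff_mul_comm.2 hc
  · intro g hg
    exact h1 _ (P.pow_mem hg p) (by rw [QuotientGroup.mk_pow]; exact hAp _ (hmk g hg))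

theorem normal_of_commutator_le {G : Type*} [Group G] {N : Subgroup G} (h : commutator G ≤ N) :
    N.Normal := ⟨fun x hx g => by
  have e : g * x * g⁻¹ = ⁅g, x⁆ * x := by rw [commutatorElement_def]; group
  rw [e]
  exact N.mul_mem (h (commutator_mem_commutator (mem_top g) (mem_top x))) hx⟩

theorem hasNormalPComplement_of {G : Type*} [Group G] [Finite G] (N : Subgroup G) [N.Normal]
    (hN : (Nat.card N).Coprime p) (hq : IsPGroup p (G ⧸ N)) : Cfsg.HasNormalPComplement p G := by
  obtain P : Sylow p G := default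
  obtain ⟨e, he⟩ := IsPGroup.iff_card.1 hq
  obtain ⟨d, hd⟩ := IsPGroup.iff_card.1 P.isPGroup'
  have hG : Nat.card N * p ^ e = Nat.card G := by rw [← he]; exact N.card_mul_index
  have hP : Nat.card (P : Subgroup G) = p ^ e := by
    refine Nat.dvd_antisymm ?_ ?_
    · have h1 : p ^ d ∣ Nat.card N * p ^ e := hG ▸ hd ▸ card_subgroup_dvd_card _
      rw [hd]
      exact (hN.symm.pow_left d).dvd_of_dvd_mul_left h1
    · have h1 : p ^ e ∣ Nat.card (P : Subgroup G) * (P : Subgroup G).index := by
        rw [card_mul_index, ← hG]; exact dvd_mul_left _ _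
      exact ((hp.out.coprime_iff_not_dvd.2 P.not_dvd_index).pow_left e).dvd_of_dvd_mul_right h1
  exact ⟨P, N, inferInstance, isComplement'_of_coprime (by rw [hP, hG]) (hP ▸ hN.pow_right e)⟩

theorem rank_two_structure {G : Type u} [Group G] [Finite G] [Group.IsSolvable G]
    (hodd : Odd (Nat.card G)) (hpG : p ∣ Nat.card G) (hr : Cfsg.PRankLE p 2 G) :
    (∀ q : ℕ, q.Prime → q ∣ (Cfsg.pPrimeCore p G).index → q ≤ p) ∧
      ((p = 3 ∨ ∀ q : ℕ, q.Prime → q ∣ Nat.card G → p ≤ q) → Cfsg.HasNormalPComplement p G) ∧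
      Cfsg.HasNormalPComplement p ↥(commutator G) ∧
      (∀ L : Subgroup ↥(commutator G), (Nat.card L).Coprime p →
        L ≤ Cfsg.pPrimeCore p ↥(commutator G)) ∧
      commutator G ≤ Cfsg.pPrimePCore p G ∧ ((Cfsg.pPrimePCore p G).index).Coprime p := by
  have hp2 : p ≠ 2 := by
    rintro rfl
    exact hodd.not_two_dvd_nat hpG
  set O := Cfsg.pPrimeCore p G
  have hO : (Nat.card O).Coprime p := Cfsg.Lib.Solv.coprime_pPrimeCore p
  have hOdd' : Odd (Nat.card (G ⧸ O)) := hodd.of_dvd_nat (card_quotient_dvd_card O)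
  set R := Cfsg.pCore p (G ⧸ O)
  have hR : IsPGroup p R := Cfsg.Lib.Solv.isPGroup_pCore p
  have hrR : Cfsg.PRankLE p 2 R :=
    rank_of_injective R.subtype R.subtype_injective (rank_quotient O hO hr)
  let φ : G ⧸ O →* MulAut R := MulAut.conjNormal
  have hker : ∀ x, φ x = 1 → x ∈ R := fun x hx => by
    refine Cfsg.Lib.Solv.centralizer_pCore_le p (Cfsg.Lib.Solv.pPrimeCore_quotient_eq_bot p) ?_
    rw [mem_centralizer_iff]
    intro y hy
    have h1 : x * y * x⁻¹ = y := congrArg Subtype.val (DFunLike.congr_fun hx (⟨y, hy⟩ : R))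
    calc y * x = x * y * x⁻¹ * x := by rw [h1]
      _ = x * y := inv_mul_cancel_right _ _
  have hRp : ∀ x : G ⧸ O, ∀ k, φ x ^ p ^ k = 1 → ∃ j, x ^ p ^ j = 1 := by
    intro x k hk
    obtain ⟨j, hj⟩ := hR ⟨_, hker (x ^ p ^ k) (by rw [map_pow, hk])⟩
    exact ⟨k + j, by rw [pow_add, pow_mul]; simpa using congrArg Subtype.val hj⟩
  have hcomm : IsPGroup p ↥(commutator (G ⧸ O)) := by
    rintro ⟨x, hx⟩
    obtain ⟨k, hk⟩ := auto_commutator hR hp2 hrR hOdd' φ hx
    obtain ⟨j, hj⟩ := hRp x k hk
    exact ⟨j, Subtype.ext (by simpa using hj)⟩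
  have hcR : commutator (G ⧸ O) ≤ R := Cfsg.Lib.Solv.le_pCore inferInstance hcomm
  have hprimes : ∀ q : ℕ, q.Prime → q ∣ O.index → q ≤ p := by
    intro q hq hqd
    by_contra hqp
    haveI := Fact.mk hq
    rw [index_eq_card] at hqd
    obtain ⟨x, hx⟩ := exists_prime_orderOf_dvd_card' q hqd
    have h1 : φ x ≠ 1 := fun h => by
      obtain ⟨j, hj⟩ := hRp x 0 (by simpa using h)
      have := orderOf_dvd_of_pow_eq_one hj
      rw [hx] at this
      exact hqp (Nat.le_of_dvd hp.out.pos (hq.dvd_of_dvd_pow this))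
    have h2 : orderOf (φ x) = q :=
      (hq.eq_one_or_self_of_dvd _ (hx ▸ orderOf_map_dvd φ x)).resolve_left
        fun h => h1 (orderOf_eq_one_iff.1 h)
    exact hqp (auto_prime_le hR hp2 hrR hOdd' φ hq h2.symm.dvd)
  have hGp : ∀ x ∈ commutator G, ∃ k, x ^ p ^ k ∈ O := by
    intro x hx
    have h1 : (x : G ⧸ O) ∈ commutator (G ⧸ O) := by
      have := mem_map_of_mem (QuotientGroup.mk' O) hx
      rwa [_root_.commutator_def, Subgroup.map_commutator,
        map_top_of_surjective _ (QuotientGroup.mk'_surjective O), ← _root_.commutator_def] at this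
    obtain ⟨k, hk⟩ := hcomm ⟨_, h1⟩
    exact ⟨k, (QuotientGroup.eq_one_iff _).1 (by
      rw [QuotientGroup.mk_pow]; simpa using congrArg Subtype.val hk)⟩
  set N := O.subgroupOf (commutator G)
  have hN : (Nat.card N).Coprime p := by
    refine Nat.Coprime.coprime_dvd_left ?_ hO
    rw [← card_map_of_injective (commutator G).subtype_injective, subgroupOf_map_subtype]
    exact card_dvd_of_le inf_le_left
  refine ⟨hprimes, fun h => hasNormalPComplement_of O hO ?_, hasNormalPComplement_of N hN ?_,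
    fun L hL => ?_, ?_, ?_⟩
  · obtain ⟨e, he⟩ : ∃ e, Nat.card (G ⧸ O) = p ^ e := by
      refine ⟨_, Nat.eq_prime_pow_of_unique_prime_dvd Nat.card_pos.ne' fun {q} hq hqd => ?_⟩
      have hle := hprimes q hq (by rwa [index_eq_card])
      have hdG : q ∣ Nat.card G := hqd.trans (card_quotient_dvd_card O)
      rcases h with rfl | h
      · rcases (show q = 2 ∨ q = 3 by have := hq.two_le; omega) with rfl | rfl
        · exact absurd hdG hodd.not_two_dvd_nat
        · rfl
      · exact le_antisymm hle (h q hq hdG)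
    exact IsPGroup.of_card he
  · intro x
    obtain ⟨x, rfl⟩ := QuotientGroup.mk_surjective x
    obtain ⟨k, hk⟩ := hGp x x.2
    exact ⟨k, by rw [← QuotientGroup.mk_pow, QuotientGroup.eq_one_iff]; simpa [N, mem_subgroupOf] using hk⟩
  · intro l hl
    refine Cfsg.Lib.Solv.le_pPrimeCore inferInstance hN ?_
    show (l : G) ∈ O
    obtain ⟨k, hk⟩ := hGp _ l.2
    rw [← QuotientGroup.eq_one_iff, ← orderOf_eq_one_iff]
    refine Nat.eq_one_of_dvd_coprimes ((hL.pow_right k)) ?_ ?_
    · refine (orderOf_map_dvd (QuotientGroup.mk' O) (l : G)).trans ?_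
      rw [orderOf_coe, ← Subgroup.orderOf_mk l hl]
      exact orderOf_dvd_natCard _
    · exact orderOf_dvd_of_pow_eq_one (by rw [← QuotientGroup.mk_pow, QuotientGroup.eq_one_iff]; exact hk)
  · intro x hx
    show (x : G ⧸ O) ∈ R
    refine hcR ?_
    have := mem_map_of_mem (QuotientGroup.mk' O) hx
    rwa [_root_.commutator_def, Subgroup.map_commutator,
      map_top_of_surjective _ (QuotientGroup.mk'_surjective O), ← _root_.commutator_def] at this
  · show (R.comap (QuotientGroup.mk' O)).index.Coprime p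
    rw [index_comap_of_surjective _ (QuotientGroup.mk'_surjective O)]
    obtain P : Sylow p (G ⧸ O) := default
    have hle : R ≤ P := Cfsg.Lib.Solv.pCore_le_sylow p P
    have hge : (P : Subgroup (G ⧸ O)) ≤ R :=
      Cfsg.Lib.Solv.le_pCore (normal_of_commutator_le (hcR.trans hle)) P.isPGroup'
    rw [le_antisymm hle hge]
    exact (hp.out.coprime_iff_not_dvd.2 P.not_dvd_index).symm

/-! ### Groups of rank two -/

omit hp in
theorem rank_two_tower {G : Type u} [Group G] [Finite G] [Group.IsSolvable G]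
    (hodd : Odd (Nat.card G))
    (hr : Cfsg.RankLE 2 G ∨ Cfsg.RankLE 2 (Cfsg.fittingSubgroup G)) :
    Group.IsNilpotent ↥(commutator G) ∧
      (∀ (q : ℕ) [Fact q.Prime] (S : Sylow q G) (T : Subgroup ↥(S : Subgroup G)),
        T.Characteristic →
        T.map (S : Subgroup G).subtype ≤ ⁅(S : Subgroup G), (S : Subgroup G)⁆ →
        (T.map (S : Subgroup G).subtype).Normal) ∧
      ∀ p : ℕ, ∃ N : Subgroup G, N.Characteristic ∧ Cfsg.IsPiHall {q | q.Prime ∧ p < q} N := by
  set F := Cfsg.fittingSubgroup G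
  have hOr : ∀ r : ℕ, ∀ [Fact r.Prime], Cfsg.PRankLE r 2 ↥(Cfsg.pCore r G) := by
    intro r hr'
    rcases hr with h | h
    · exact rank_of_injective _ (Cfsg.pCore r G).subtype_injective (h r hr'.out)
    · exact rank_of_injective _ (inclusion_injective (Cfsg.Lib.Solv.pCore_le_fitting (G := G) r))
        (h r hr'.out)
  have hO2 : Cfsg.pCore 2 G = ⊥ := by
    obtain ⟨k, hk⟩ := IsPGroup.iff_card.1 (Cfsg.Lib.Solv.isPGroup_pCore (G := G) 2)
    rcases k with _ | k
    · exact card_eq_one.1 (by simpa using hk)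
    · exact absurd (dvd_trans (dvd_pow_self 2 k.succ_ne_zero)
        (hk ▸ card_subgroup_dvd_card _)) hodd.not_two_dvd_nat
  -- conjugation actions
  have hcent : ∀ (r : ℕ) (g : G), (MulAut.conjNormal g : MulAut (Cfsg.pCore r G)) = 1 →
      g ∈ centralizer (Cfsg.pCore r G : Set G) := by
    intro r g hg
    rw [mem_centralizer_iff]
    intro y hy
    have h1 : g * y * g⁻¹ = y :=
      congrArg Subtype.val (DFunLike.congr_fun hg (⟨y, hy⟩ : Cfsg.pCore r G))
    calc y * g = g * y * g⁻¹ * g := by rw [h1]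
      _ = g * y := inv_mul_cancel_right _ _
  have hA : ∀ (r : ℕ) [Fact r.Prime], ∀ g ∈ commutator G, ¬ r ∣ orderOf g →
      g ∈ centralizer (Cfsg.pCore r G : Set G) := by
    intro r hr' g hg hrg
    by_cases hr2 : r = 2
    · subst hr2
      rw [hO2, coe_bot, mem_centralizer_iff]
      rintro _ rfl; simp
    refine hcent r g ?_
    obtain ⟨k, hk⟩ := auto_commutator (Cfsg.Lib.Solv.isPGroup_pCore r) hr2 (hOr r) hodd
      (MulAut.conjNormal (H := Cfsg.pCore r G)) hg
    rw [← orderOf_eq_one_iff]
    exact Nat.eq_one_of_dvd_coprimes ((hr'.out.coprime_iff_not_dvd.2 hrg).symm.pow_right k)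
      (orderOf_map_dvd _ g) (orderOf_dvd_of_pow_eq_one hk)
  have hcomF : ∀ (y m : G), y ∈ F →
      (∀ (r : ℕ) [Fact r.Prime], r ∣ orderOf y → ∀ z ∈ Cfsg.pCore r G, z * m = m * z) →
      y * m = m * y := by
    intro y m hy h
    have htop : (centralizer {m}).subgroupOf (zpowers y) = ⊤ := by
      refine Cfsg.Lib.Solv.eq_top_of_forall_sylow_le fun r hr' hrd => ?_
      haveI := Fact.mk hr'
      obtain P : Sylow r (zpowers y) := default
      refine ⟨P, fun x hx => ?_⟩
      rw [mem_subgroupOf, mem_centralizer_singleton_iff]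
      refine h r (by rwa [Nat.card_zpowers] at hrd) _ ?_
      exact Cfsg.Lib.Solv.le_pCore_of_le_fitting ((map_subtype_le _).trans (zpowers_le.2 hy))
        (P.isPGroup'.map (zpowers y).subtype) ⟨x, hx, rfl⟩
    exact mem_centralizer_singleton_iff.1 (subgroupOf_eq_top.1 htop (mem_zpowers y))
  have hG'F : commutator G ≤ F := by
    refine subgroupOf_eq_top.1 (Cfsg.Lib.Solv.eq_top_of_forall_sylow_le fun q hq _ => ?_)
    haveI := Fact.mk hq
    obtain P : Sylow q ↥(commutator G) := default
    refine ⟨P, fun x hx => ?_⟩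
    set M : Subgroup G := commutator G ⊓
      ⨅ r : {r : ℕ // r.Prime ∧ r ≠ q}, centralizer (Cfsg.pCore (r : ℕ) G : Set G)
    haveI hMn : M.Normal := by
      haveI : (⨅ r : {r : ℕ // r.Prime ∧ r ≠ q},
          centralizer (Cfsg.pCore (r : ℕ) G : Set G)).Normal :=
        normal_iInf_normal fun r => inferInstance
      infer_instance
    have hxM : (x : G) ∈ M := by
      refine ⟨x.2, mem_iInf.2 fun r => ?_⟩
      haveI := Fact.mk r.2.1
      refine hA r x x.2 fun hd => r.2.2 ?_
      obtain ⟨k, hk⟩ := P.isPGroup' ⟨x, hx⟩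
      have h1 : orderOf (x : G) ∣ q ^ k := orderOf_dvd_of_pow_eq_one (by
        simpa using congrArg (fun z : (P : Subgroup ↥(commutator G)) => ((z : ↥(commutator G)) : G)) hk)
      exact (Nat.prime_dvd_prime_iff_eq r.2.1 hq).1 (r.2.1.dvd_of_dvd_pow (hd.trans h1))
    suffices hMF : M ≤ F by exact hMF hxM
    refine Cfsg.Lib.Solv.le_fitting hMn (Group.of_quotient_center_nilpotent ?_)
    refine IsPGroup.isNilpotent (p := q) fun z => ?_
    obtain ⟨z, rfl⟩ := QuotientGroup.mk_surjective z
    obtain ⟨a, j, hj, hord⟩ :=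
      Nat.exists_eq_pow_mul_and_not_dvd (orderOf_pos z).ne' q hq.ne_one
    refine ⟨a, ?_⟩
    rw [← QuotientGroup.mk_pow, QuotientGroup.eq_one_iff, mem_center_iff]
    set y := z ^ q ^ a with hy
    have hqy : ¬ q ∣ orderOf (y : G) := fun hd => hj (hd.trans (orderOf_dvd_of_pow_eq_one (by
      rw [← SubgroupClass.coe_pow, hy, ← pow_mul, ← hord, pow_orderOf_eq_one]; rfl)))
    have hyC : ∀ (r : ℕ) [Fact r.Prime], (y : G) ∈ centralizer (Cfsg.pCore r G : Set G) := by
      intro r hr'
      by_cases h : r = q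
      · subst h; exact hA r y y.2.1 hqy
      · exact mem_iInf.1 y.2.2 ⟨r, hr'.out, h⟩
    have hyF : (y : G) ∈ F := by
      refine Cfsg.Lib.Solv.centralizer_fitting_le ?_
      rw [Cfsg.Lib.Solv.fitting_eq_iSup_pCore]
      have hle : (⨆ r : Nat.Primes, Cfsg.pCore (r : ℕ) G) ≤ centralizer {(y : G)} :=
        iSup_le fun r w hw => mem_centralizer_singleton_iff.2 (by
          haveI := Fact.mk r.2
          exact mem_centralizer_iff.1 (hyC r) w hw)
      rw [mem_centralizer_iff]
      intro w hw
      exact mem_centralizer_singleton_iff.1 (hle hw)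
    intro w
    refine Subtype.ext (hcomF y w hyF fun r _ hrd v hv => ?_).symm
    have hrq : r ≠ q := by rintro rfl; exact hqy hrd
    exact mem_centralizer_iff.1 (mem_iInf.1 w.2.2 ⟨r, Fact.out, hrq⟩) v hv
  refine ⟨Cfsg.Lib.Solv.isNilpotent_of_le hG'F Cfsg.Lib.Solv.fitting_isNilpotent, ?_, fun p => ?_⟩
  · intro q _ S T hT hle
    set X := T.map (S : Subgroup G).subtype
    have hXO : X ≤ Cfsg.pCore q G :=
      Cfsg.Lib.Solv.le_pCore_of_le_fitting
        (hle.trans ((commutator_mono le_top le_top).trans hG'F))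
        ((S.isPGroup'.to_subgroup T).map _)
    have hNS : normalizer ((S : Subgroup G) : Set G) ≤ normalizer (X : Set G) := by
      have hfw : ∀ n ∈ normalizer ((S : Subgroup G) : Set G), ∀ x ∈ X, n * x * n⁻¹ ∈ X := by
        rintro n hn _ ⟨x, hx, rfl⟩
        refine ⟨(S : Subgroup G).normalizerMonoidHom ⟨n, hn⟩ x,
          Cfsg.Lib.Transfer.map_mem_of_characteristic _ hx, rfl⟩
      intro n hn
      rw [mem_normalizer_iff]
      intro x
      refine ⟨hfw n hn x, fun hx => ?_⟩
      have := hfw n⁻¹ ((normalizer ((S : Subgroup G) : Set G)).inv_mem hn) _ hx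
      rwa [inv_inv, show n⁻¹ * (n * x * n⁻¹) * n = x by group] at this
    have hF : F ≤ normalizer (X : Set G) := by
      rw [show F = ⨆ r : Nat.Primes, Cfsg.pCore (r : ℕ) G from Cfsg.Lib.Solv.fitting_eq_iSup_pCore]
      refine iSup_le fun r => ?_
      haveI := Fact.mk r.2
      by_cases h : (r : ℕ) = q
      · rw [h]
        exact ((Cfsg.Lib.Solv.pCore_le_sylow q S).trans le_normalizer).trans hNS
      · refine le_trans (le_centralizer_iff.1 fun x hx => ?_) (centralizer_le_normalizer _)
        rw [mem_centralizer_iff]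
        intro y hy
        exact commute_of_normal_of_disjoint _ _ inferInstance inferInstance
          (IsPGroup.disjoint_of_ne (r : ℕ) q h _ _ (Cfsg.Lib.Solv.isPGroup_pCore _)
            (Cfsg.Lib.Solv.isPGroup_pCore q)) y x hy (hXO hx)
    haveI : (F ⊔ (S : Subgroup G)).Normal := normal_of_commutator_le (hG'F.trans le_sup_left)
    have htop := Sylow.normalizer_sup_eq_top' S (le_sup_right : (S : Subgroup G) ≤ F ⊔ S)
    rw [← normalizer_eq_top_iff, ← top_le_iff, ← htop]
    exact sup_le hNS (sup_le hF (le_normalizer.trans hNS))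
  · set Sset := {y : G | ∀ r : ℕ, r.Prime → r ∣ orderOf y → p < r}
    set M := closure Sset with hMdef
    have hMc : M.Characteristic := characteristic_iff_map_le.2 fun φ => by
      rw [hMdef, MonoidHom.map_closure]
      refine closure_mono ?_
      rintro _ ⟨y, hy, rfl⟩
      intro r hr' hd
      exact hy r hr' (by rwa [MulEquiv.coe_toMonoidHom, MulEquiv.orderOf_eq] at hd)
    haveI := hMc
    have hMC : ∀ (r : ℕ) [Fact r.Prime], r ≤ p → M ≤ centralizer (Cfsg.pCore r G : Set G) := by
      intro r hr' hrp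
      refine (closure_le _).2 fun y hy => ?_
      by_cases hr2 : r = 2
      · subst hr2
        rw [hO2, coe_bot, SetLike.mem_coe, mem_centralizer_iff]
        rintro _ rfl; simp
      refine hcent r y (orderOf_eq_one_iff.1 ?_)
      by_contra hne
      obtain ⟨q, hq, hqd⟩ := Nat.exists_prime_and_dvd hne
      have h1 : p < q := hy q hq (hqd.trans (orderOf_map_dvd _ y))
      have h2 := auto_prime_le (Cfsg.Lib.Solv.isPGroup_pCore r) hr2 (hOr r) hodd
        (MulAut.conjNormal (H := Cfsg.pCore r G)) hq hqd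
      omega
    haveI hab : ∀ a b : G ⧸ F, a * b = b * a :=
      (Subgroup.Normal.quotient_commutative_iff_commutator_le.2 hG'F).is_comm.comm
    let T : Subgroup (G ⧸ F) :=
      { carrier := {a | ∀ r : ℕ, r.Prime → r ∣ orderOf a → p < r}
        one_mem' := fun r hr' hd => absurd (by simpa using hd) hr'.ne_one
        mul_mem' := fun {a b} ha hb r hr' hd => by
          rcases hr'.dvd_mul.1 (hd.trans (Commute.orderOf_mul_dvd_mul_orderOf (hab a b))) with h | h
          · exact ha r hr' h
          · exact hb r hr' h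
        inv_mem' := fun {a} ha r hr' hd => ha r hr' (by rwa [orderOf_inv] at hd) }
    have hMT : M.map (QuotientGroup.mk' F) ≤ T := by
      rw [hMdef, MonoidHom.map_closure, closure_le]
      rintro _ ⟨y, hy, rfl⟩ r hr' hd
      exact hy r hr' (hd.trans (orderOf_map_dvd _ y))
    refine ⟨M, hMc, fun r hr' hrd => ⟨hr', ?_⟩, fun q hq hq' => ?_⟩
    · by_contra hrp
      haveI := Fact.mk hr'
      obtain R : Sylow r M := default
      have hRz : ∀ x ∈ (R : Subgroup M), x ∈ center M := by
        intro x hx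
        obtain ⟨k, hk⟩ := R.isPGroup' ⟨x, hx⟩
        have hk' : (x : G) ^ r ^ k = 1 := by
          simpa using congrArg (fun z : (R : Subgroup M) => ((z : M) : G)) hk
        have hxF : (x : G) ∈ F := by
          have h1 : ((x : G) : G ⧸ F) ∈ T := hMT ⟨x, x.2, rfl⟩
          rw [← QuotientGroup.eq_one_iff, ← orderOf_eq_one_iff]
          by_contra hne
          obtain ⟨s, hs, hsd⟩ := Nat.exists_prime_and_dvd hne
          have hs1 : s ∣ r ^ k := hsd.trans ((orderOf_map_dvd (QuotientGroup.mk' F) (x : G)).trans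
            (orderOf_dvd_of_pow_eq_one hk'))
          have := (Nat.prime_dvd_prime_iff_eq hs hr').1 (hs.dvd_of_dvd_pow hs1)
          have := h1 s hs hsd
          omega
        have hxO : (x : G) ∈ Cfsg.pCore r G :=
          Cfsg.Lib.Solv.le_pCore_of_le_fitting (zpowers_le.2 hxF)
            (fun z => by
              obtain ⟨j, hj⟩ := mem_zpowers_iff.1 z.2
              exact ⟨k, Subtype.ext (by
                rw [SubgroupClass.coe_pow, ← hj, ← zpow_natCast, zpow_comm, zpow_natCast, hk',
                  one_zpow]; rfl)⟩) (mem_zpowers _)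
        rw [mem_center_iff]
        intro w
        exact Subtype.ext (mem_centralizer_iff.1 (hMC r (not_lt.1 hrp) w.2) _ hxO).symm
      haveI : (R : Subgroup M).Normal := ⟨fun n hn g => by
        rw [mem_center_iff.1 (hRz n hn) g, mul_inv_cancel_right]; exact hn⟩
      have hcop : (Nat.card (R : Subgroup M)).Coprime (R : Subgroup M).index := by
        obtain ⟨d, hd⟩ := IsPGroup.iff_card.1 R.isPGroup'
        rw [hd]
        exact (hr'.coprime_iff_not_dvd.2 R.not_dvd_index).pow_left d
      obtain ⟨K, hK⟩ := exists_right_complement'_of_coprime hcop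
      haveI hKn : K.Normal := ⟨fun h hh g => by
        obtain ⟨⟨n, k⟩, e⟩ := hK.2 g
        have hk1 : (k : M) * h * (k : M)⁻¹ ∈ K :=
          K.mul_mem (K.mul_mem k.2 hh) (K.inv_mem k.2)
        have e1 : g * h * g⁻¹ = (n : M) * ((k : M) * h * (k : M)⁻¹) * (n : M)⁻¹ := by
          rw [← show (n : M) * k = g from e]; group
        rw [e1, ← mem_center_iff.1 (hRz n n.2), mul_inv_cancel_right]
        exact hk1⟩
      have hKi : K.index = Nat.card (R : Subgroup M) := hK.index_eq_card
      obtain ⟨d, hd⟩ := IsPGroup.iff_card.1 R.isPGroup'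
      have hle : M ≤ K.map M.subtype := by
        conv_lhs => rw [hMdef]
        refine (closure_le _).2 fun y hy => ⟨⟨y, subset_closure hy⟩, ?_, rfl⟩
        rw [SetLike.mem_coe, ← QuotientGroup.eq_one_iff, ← orderOf_eq_one_iff]
        have hcop : (orderOf y).Coprime (r ^ d) :=
          ((hr'.coprime_iff_not_dvd.2 fun h => hrp (hy r hr' h)).symm).pow_right d
        refine Nat.eq_one_of_dvd_coprimes hcop ?_ ?_
        · refine (orderOf_map_dvd (QuotientGroup.mk' K) _).trans ?_
          rw [← orderOf_coe]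
        · refine (_root_.orderOf_dvd_natCard _).trans ?_
          rw [← index_eq_card, hKi, hd]
      have hKtop : K = ⊤ := by
        refine eq_top_iff.2 fun z _ => ?_
        obtain ⟨z', hz', e⟩ := hle z.2
        rwa [← Subtype.ext (show (z' : G) = z from e)]
      rw [hKtop, index_top] at hKi
      exact R.not_dvd_index (by
        have := card_mul_index (R : Subgroup M)
        rw [← hKi, one_mul] at this
        rwa [this])
    · haveI := Fact.mk hq
      obtain Q : Sylow q G := default
      have hQM : (Q : Subgroup G) ≤ M := by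
        intro y hy
        refine subset_closure fun r hr' hd => ?_
        obtain ⟨k, hk⟩ := Q.isPGroup' ⟨y, hy⟩
        have h1 : orderOf y ∣ q ^ k :=
          orderOf_dvd_of_pow_eq_one (by simpa using congrArg Subtype.val hk)
        rw [(Nat.prime_dvd_prime_iff_eq hr' hq).1 (hr'.dvd_of_dvd_pow (hd.trans h1))]
        exact hq'.2
      exact fun hd => Q.not_dvd_index (hd.trans (index_dvd_of_le hQM))

end Cfsg.Lib.RankTwoOdd
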