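import Mathlib
import Cfsg.Prelude.Def_OddOrderLocal
import Cfsg.Agent.Lib.PLocal.RankTwoOdd
import Cfsg.Agent.Lib.Transfer.PGroupNormal

/-!
Narrow `p`-groups and their automorphisms.
-/

set_option autoImplicit false
set_option maxHeartbeats 800000

namespace Cfsg.Lib.NarrowOdd

open Subgroup
open scoped commutatorElement

universe u

variable {R : Type u} [Group R] {p : ℕ} [hp : Fact p.Prime]

theorem conj_center {c : R} (hc : c ∈ center R) (g : R) : g * c * g⁻¹ = c := by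
  rw [mem_center_iff.1 hc g, mul_inv_cancel_right]

/-- `g ↦ [w, g]`, when its values are central. -/
def homLeft (w : R) (h : ∀ g, ⁅w, g⁆ ∈ center R) : R →* R :=
  MonoidHom.mk' (fun g => ⁅w, g⁆) fun a b => by
    calc ⁅w, a * b⁆ = ⁅w, a⁆ * (a * ⁅w, b⁆ * a⁻¹) := by simp only [commutatorElement_def]; group
      _ = ⁅w, a⁆ * ⁅w, b⁆ := by rw [conj_center (h b)]

theorem mul_commutator {a b e : R} (h : ⁅b, e⁆ ∈ center R) : ⁅a * b, e⁆ = ⁅a, e⁆ * ⁅b, e⁆ := by
  calc ⁅a * b, e⁆ = a * ⁅b, e⁆ * a⁻¹ * ⁅a, e⁆ := by simp only [commutatorElement_def]; group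
    _ = ⁅b, e⁆ * ⁅a, e⁆ := by rw [conj_center h]
    _ = ⁅a, e⁆ * ⁅b, e⁆ := (mem_center_iff.1 h _).symm

theorem commute_of_central_sup {Z : Subgroup R} (hZ : Z ≤ center R) {a b : R}
    (h : Commute a b) : Z ⊔ zpowers b ≤ centralizer {a} :=
  sup_le (fun _ hz => mem_centralizer_singleton_iff.2 (mem_center_iff.1 (hZ hz) a).symm)
    (zpowers_le.2 (mem_centralizer_singleton_iff.2 h.symm))

theorem card_mul_le_of_lt (hR : IsPGroup p R) [Finite R] {A B : Subgroup R} (h : A < B) :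
    p * Nat.card A ≤ Nat.card B := by
  obtain ⟨i, hi⟩ := IsPGroup.iff_card.1 (hR.to_subgroup A)
  obtain ⟨j, hj⟩ := IsPGroup.iff_card.1 (hR.to_subgroup B)
  have h1 : Nat.card A < Nat.card B := by
    refine lt_of_le_of_ne (card_le_of_le h.le) fun e => h.ne ?_
    exact eq_of_le_of_card_ge h.le e.ge
  rw [hi, hj] at h1 ⊢
  have := (Nat.pow_lt_pow_iff_right hp.out.one_lt).1 h1
  rw [← pow_succ']
  exact Nat.pow_le_pow_right hp.out.pos this

theorem sup_zpowers_eq (hR : IsPGroup p R) [Finite R] {A E : Subgroup R} {x : R} (hA : A ≤ E)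
    (hc : Nat.card E ≤ p * Nat.card A) (hx : x ∈ E) (hxA : x ∉ A) : A ⊔ zpowers x = E := by
  refine eq_of_le_of_card_ge (sup_le hA (zpowers_le.2 hx)) (le_trans hc ?_)
  refine card_mul_le_of_lt hR (lt_of_le_of_ne le_sup_left fun e => hxA ?_)
  rw [e]; exact mem_sup_right (mem_zpowers x)

theorem elem_closure {s : Set R} (hs : ∀ a ∈ s, ∀ b ∈ s, a * b = b * a) (hp' : ∀ a ∈ s, a ^ p = 1) :
    Cfsg.IsElementaryAbelian p (closure s) := by
  have hc := RankTwoOdd.closure_commutative hs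
  refine ⟨hc, fun a ha => ?_⟩
  induction ha using closure_induction with
  | mem x hx => exact hp' x hx
  | one => exact one_pow _
  | mul x y hx hy ihx ihy =>
    haveI := hc
    have hxy : Commute x y :=
      congrArg Subtype.val (mul_comm' (⟨x, hx⟩ : closure s) ⟨y, hy⟩)
    rw [hxy.mul_pow, ihx, ihy, one_mul]
  | inv x _ ihx => rw [inv_pow, ihx, inv_one]

theorem mem_of_max {E : Subgroup R} (hE : Cfsg.IsElementaryAbelian p E)
    (hmax : ∀ B : Subgroup R, Cfsg.IsElementaryAbelian p B → E ≤ B → B = E) {x : R}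
    (hx : x ^ p = 1) (hc : ∀ e ∈ E, x * e = e * x) : x ∈ E := by
  have h := elem_closure (p := p) (s := insert x (E : Set R)) ?_ ?_
  · rw [← hmax _ h fun e he => subset_closure (Or.inr he)]
    exact subset_closure (Or.inl rfl)
  · rintro a (rfl | ha) b (rfl | hb)
    · rfl
    · exact hc b hb
    · exact (hc a ha).symm
    · haveI := hE.1
      exact congrArg Subtype.val (mul_comm' (⟨a, ha⟩ : E) ⟨b, hb⟩)
  · rintro a (rfl | ha)
    · exact hx
    · exact hE.2 a ha

/-- In a `p`-group of rank at least three every normal elementary abelian subgroup lies in one of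
order at least `p³`. -/
theorem exists_big_normal [Finite R] (hR : IsPGroup p R) (hp2 : p ≠ 2) (hr : ¬ Cfsg.PRankLE p 2 R)
    (E : Subgroup R) [E.Normal] (hE : Cfsg.IsElementaryAbelian p E) :
    ∃ B : Subgroup R, B.Normal ∧ Cfsg.IsElementaryAbelian p B ∧ E ≤ B ∧ p ^ 2 < Nat.card B := by
  obtain ⟨B, ⟨hBn, hBe, hEB⟩, hmax⟩ := (Set.toFinite
    {B : Subgroup R | B.Normal ∧ Cfsg.IsElementaryAbelian p B ∧ E ≤ B}).exists_maximal
    ⟨E, inferInstance, hE, le_rfl⟩
  haveI := hBn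
  refine ⟨B, hBn, hBe, hEB, ?_⟩
  by_contra hB
  push Not at hB
  have hΩ : ∀ x ∈ centralizer (B : Set R), x ^ p = 1 → x ∈ B := by
    intro x hx hxp
    refine Cfsg.Lib.Transfer.mem_of_maximal_normal_abelian_exponent hR 1
      (by rw [pow_one]; exact hp2) B hBe.1 (by simpa using hBe.2) ?_ x hx (by simpa using hxp)
    intro B' hB'n hB'c hB'e hle
    exact le_antisymm (hmax ⟨hB'n, ⟨hB'c, by simpa using hB'e⟩, hEB.trans hle⟩ hle) hle
  obtain ⟨A, hAc, hAe, hAcard⟩ : ∃ A : Subgroup R, IsMulCommutative A ∧ (∀ a ∈ A, a ^ p = 1) ∧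
      p ^ 2 < Nat.card A := by
    by_contra hno
    push Not at hno
    exact hr hno
  haveI := hAc
  have hnot : ¬ A ≤ B := fun h => absurd (card_le_of_le h) (by omega)
  by_cases hBz : B ≤ center R
  · exact hnot fun x hx =>
      hΩ x (mem_centralizer_iff.2 fun b hb => (mem_center_iff.1 (hBz hb) x).symm) (hAe x hx)
  have hB0 : ⊥ < B := bot_lt_iff_ne_bot.2 fun e => hBz (e ▸ bot_le)
  obtain ⟨Z, z, hZn, -, hZB, hZc, -, -, hZeq, hzc⟩ := Cfsg.Lib.Transfer.exists_normal_step hR ⊥ B hB0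
  haveI := hZn
  have hZcen : Z ≤ center R := by
    rw [hZeq, bot_sup_eq, zpowers_le, mem_center_iff]
    intro g
    exact mul_inv_eq_iff_eq_mul.1 (mul_inv_eq_one.1 (mem_bot.1 (hzc g)))
  rw [card_bot, mul_one] at hZc
  have hZlt : Z < B := lt_of_le_of_ne hZB fun e => hBz (e ▸ hZcen)
  obtain ⟨B₁, e, -, hZB₁, hB₁B, hB₁c, he, -, hB₁eq, hec⟩ :=
    Cfsg.Lib.Transfer.exists_normal_step hR Z B hZlt
  have hB₁ : B₁ = B := eq_of_le_of_card_ge hB₁B (by rw [hB₁c, hZc, ← pow_two]; exact hB)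
  have hce : ∀ g, ⁅g, e⁆ ∈ Z := fun g => by rw [commutatorElement_def]; exact hec g
  let f : A →* R := MonoidHom.mk' (fun a => ⁅(a : R), e⁆) fun a b =>
    mul_commutator (hZcen (hce b))
  have hker : f.ker.map A.subtype ≤ B := by
    rintro _ ⟨a, ha, rfl⟩
    refine hΩ _ ?_ (hAe _ a.2)
    have hle : Z ⊔ zpowers e ≤ centralizer {(a : R)} :=
      commute_of_central_sup hZcen (commutatorElement_eq_one_iff_mul_comm.1 (MonoidHom.mem_ker.1 ha))
    rw [← hB₁eq, hB₁] at hle
    exact mem_centralizer_iff.2 fun b hb => mem_centralizer_singleton_iff.1 (hle hb)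
  have h1 := f.ker.card_mul_index
  rw [index_ker] at h1
  have h2 : Nat.card f.range ≤ p := hZc ▸ card_le_of_le (show f.range ≤ Z from by
    rintro _ ⟨a, rfl⟩; exact hce a)
  have h3 : p * p ≤ Nat.card f.ker := by
    obtain ⟨i, hi⟩ := IsPGroup.iff_card.1 (hR.to_subgroup A)
    have hi3 : 2 < i := (Nat.pow_lt_pow_iff_right hp.out.one_lt).1 (hi ▸ hAcard)
    refine Nat.le_of_mul_le_mul_right ?_ hp.out.pos
    calc p * p * p ≤ p ^ i := by
          rw [show p * p * p = p ^ 3 by ring]; exact Nat.pow_le_pow_right hp.out.pos hi3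
      _ = Nat.card f.ker * Nat.card f.range := by rw [← hi, h1]
      _ ≤ Nat.card f.ker * p := Nat.mul_le_mul_left _ h2
  have h4 : f.ker.map A.subtype = B := eq_of_le_of_card_ge hker (by
    rw [card_map_of_injective A.subtype_injective]
    exact hB.trans (by rw [pow_two]; exact h3))
  have hBA : B ≤ A := h4 ▸ map_subtype_le _
  exact hnot fun x hx => hΩ x (mem_centralizer_iff.2 fun b hb =>
    congrArg Subtype.val (mul_comm' (⟨b, hBA hb⟩ : A) ⟨x, hx⟩)) (hAe x hx)

theorem exists_selfCentralizing_rank_three [Finite R] (hR : IsPGroup p R) (hp2 : p ≠ 2)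
    (hr : ¬ Cfsg.PRankLE p 2 R) (E : Subgroup R) [E.Normal] (hE : Cfsg.IsElementaryAbelian p E) :
    ∃ A : Subgroup R, E ≤ A ∧ A.Normal ∧ centralizer (A : Set R) = A ∧ ¬ Cfsg.PRankLE p 2 A := by
  obtain ⟨B, hBn, hBe, hEB, hBc⟩ := exists_big_normal hR hp2 hr E hE
  obtain ⟨A, ⟨hAn, hAc, hBA⟩, hmax⟩ := (Set.toFinite
    {A : Subgroup R | A.Normal ∧ IsMulCommutative A ∧ B ≤ A}).exists_maximal
    ⟨B, hBn, hBe.1, le_rfl⟩
  haveI := hAn
  refine ⟨A, hEB.trans hBA, hAn, Cfsg.Lib.Transfer.centralizer_eq_of_maximal_normal_abelian hR A hAc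
    fun A' hn hc hle => le_antisymm (hmax ⟨hn, hc, hBA.trans hle⟩ hle) hle, fun h => ?_⟩
  haveI := hAc
  have h1 := h (B.subgroupOf A) inferInstance fun a ha => Subtype.ext (by
    rw [SubgroupClass.coe_pow]; exact hBe.2 a (mem_subgroupOf.1 ha))
  rw [Nat.card_congr (subgroupOfEquivOfLe hBA).toEquiv] at h1
  omega

/-- The elements of order dividing `p` of the centre. -/
def omZ (p : ℕ) (R : Type u) [Group R] : Subgroup R :=
  closure {x : R | x ∈ center R ∧ x ^ p = 1}

omit hp in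
theorem mem_omZ {x : R} : x ∈ omZ p R ↔ x ∈ center R ∧ x ^ p = 1 := by
  refine ⟨fun h => ?_, fun h => subset_closure h⟩
  induction h using closure_induction with
  | mem x hx => exact hx
  | one => exact ⟨one_mem _, one_pow _⟩
  | mul x y _ _ hx hy =>
    exact ⟨mul_mem hx.1 hy.1, by
      rw [Commute.mul_pow (mem_center_iff.1 hy.1 x), hx.2, hy.2, one_mul]⟩
  | inv x _ hx => exact ⟨inv_mem hx.1, by rw [inv_pow, hx.2, inv_one]⟩

omit hp in
theorem omZ_le_center : omZ p R ≤ center R := fun _ h => (mem_omZ.1 h).1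

theorem omZ_elem : Cfsg.IsElementaryAbelian p (omZ p R) :=
  elem_closure (fun a _ b hb => mem_center_iff.1 hb.1 a) fun _ ha => ha.2

omit hp in
theorem omZ_characteristic : (omZ p R).Characteristic :=
  Cfsg.Lib.Transfer.characteristic_of_mem_iff fun φ x hx => mem_omZ.2
    ⟨Cfsg.Lib.Transfer.map_mem_of_characteristic φ (mem_omZ.1 hx).1,
      by rw [← map_pow, (mem_omZ.1 hx).2, map_one]⟩

theorem omZ_ne_bot [Finite R] (hR : IsPGroup p R) (hne : (⊥ : Subgroup R) ≠ ⊤) : omZ p R ≠ ⊥ := by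
  obtain ⟨Z, z, -, -, -, hZc, hz, hz0, -, hzc⟩ :=
    Cfsg.Lib.Transfer.exists_normal_step hR ⊥ ⊤ (bot_lt_iff_ne_bot.2 (Ne.symm hne))
  rw [card_bot, mul_one] at hZc
  refine fun h => hz0 (h ▸ mem_omZ.2 ⟨?_, ?_⟩)
  · exact mem_center_iff.2 fun g => mul_inv_eq_iff_eq_mul.1 (mul_inv_eq_one.1 (mem_bot.1 (hzc g)))
  · have h1 : (⟨z, hz⟩ : Z) ^ Nat.card Z = 1 := pow_card_eq_one'
    rw [hZc] at h1
    simpa using congrArg Subtype.val h1

/-- The elements of order dividing `p` of the second centre. -/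
def omZ2 (p : ℕ) (R : Type u) [Group R] : Subgroup R :=
  closure {x : R | x ∈ Subgroup.upperCentralSeries R 2 ∧ x ^ p = 1}

omit hp in
theorem commutator_mem_center {x : R} (hx : x ∈ Subgroup.upperCentralSeries R 2) (g : R) :
    ⁅x, g⁆ ∈ center R := by
  have := Subgroup.mem_upperCentralSeries_succ_iff.1 hx g
  rwa [Subgroup.upperCentralSeries_one] at this

omit hp in
theorem commutator_mem_omZ {x : R} (hx : x ∈ Subgroup.upperCentralSeries R 2) (hxp : x ^ p = 1) (g : R) :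
    ⁅x, g⁆ ∈ omZ p R := by
  refine mem_omZ.2 ⟨commutator_mem_center hx g, ?_⟩
  have key : ∀ k : ℕ, ⁅x ^ k, g⁆ = ⁅x, g⁆ ^ k := by
    intro k
    induction k with
    | zero => simp [commutatorElement_def]
    | succ k ih => rw [pow_succ, mul_commutator (commutator_mem_center hx g), ih, ← pow_succ]
  rw [← key, hxp, commutatorElement_def]; group

theorem mem_omZ2 (hp2 : p ≠ 2) {x : R} :
    x ∈ omZ2 p R ↔ x ∈ Subgroup.upperCentralSeries R 2 ∧ x ^ p = 1 := by
  refine ⟨fun h => ?_, fun h => subset_closure h⟩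
  induction h using closure_induction with
  | mem x hx => exact hx
  | one => exact ⟨one_mem _, one_pow _⟩
  | mul x y _ _ hx hy =>
    refine ⟨mul_mem hx.1 hy.1, ?_⟩
    have hc := mem_omZ.1 (commutator_mem_omZ ((Subgroup.upperCentralSeries R 2).inv_mem hy.1)
      (by rw [inv_pow, hy.2, inv_one]) x⁻¹)
    obtain ⟨j, hj⟩ := Nat.Prime.dvd_choose_self hp.out (k := 2) two_ne_zero
      (lt_of_le_of_ne hp.out.two_le (Ne.symm hp2))
    have hyx : y * x = x * y * ⁅y⁻¹, x⁻¹⁆ := by rw [commutatorElement_def]; group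
    rw [Cfsg.Lib.Transfer.mul_pow_class_two hyx (mem_center_iff.1 hc.1 x).symm
      (mem_center_iff.1 hc.1 y).symm, hx.2, hy.2, hj, pow_mul, hc.2, one_pow, one_mul, one_mul]
  | inv x _ hx => exact ⟨inv_mem hx.1, by rw [inv_pow, hx.2, inv_one]⟩

theorem omZ2_characteristic (hp2 : p ≠ 2) : (omZ2 p R).Characteristic :=
  Cfsg.Lib.Transfer.characteristic_of_mem_iff fun φ x hx => by
    obtain ⟨h1, h2⟩ := (mem_omZ2 hp2).1 hx
    exact (mem_omZ2 hp2).2 ⟨Cfsg.Lib.Transfer.map_mem_of_characteristic φ h1,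
      by rw [← map_pow, h2, map_one]⟩

/-- The structure forced by a maximal elementary abelian subgroup of order `p²` in rank at least three. -/
theorem max_structure [Finite R] (hR : IsPGroup p R) (hp2 : p ≠ 2) (hr : ¬ Cfsg.PRankLE p 2 R)
    (E : Subgroup R) (hE : Cfsg.IsElementaryAbelian p E) (hE2 : Nat.card E = p ^ 2)
    (hmax : ∀ B : Subgroup R, Cfsg.IsElementaryAbelian p B → E ≤ B → B = E) :
    ¬ E ≤ centralizer (omZ2 p R : Set R) ∧
      Nat.card ↥(omZ p R) = p ∧
      (Cfsg.IsElementaryAbelian p (omZ2 p R) ∧ Nat.card ↥(omZ2 p R) = p ^ 2) ∧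
      (centralizer (omZ2 p R : Set R)).Characteristic ∧
      (centralizer (omZ2 p R : Set R)).index = p ∧
      ∃ e ∈ E, e ∉ centralizer (omZ2 p R : Set R) ∧
        ∀ n ∈ centralizer (omZ2 p R : Set R), n ^ p = 1 → n * e = e * n → n ∈ omZ p R := by
  haveI := hE.1
  set Z := omZ p R
  set W := omZ2 p R
  set T := centralizer (W : Set R)
  haveI hWc : W.Characteristic := omZ2_characteristic hp2
  have hTc : T.Characteristic := Cfsg.Lib.Transfer.characteristic_of_mem_iff fun φ x hx =>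
    Cfsg.Lib.Transfer.map_mem_centralizer φ hx
  have hEn : ¬ E.Normal := fun hn => by
    obtain ⟨B, -, hBe, hEB, hBc⟩ := exists_big_normal hR hp2 hr E hE
    rw [hmax B hBe hEB, hE2] at hBc
    exact lt_irrefl _ hBc
  have hZcen : Z ≤ center R := omZ_le_center
  have hZE : Z ≤ E := fun z hz => mem_of_max hE hmax (mem_omZ.1 hz).2 fun e _ =>
    (mem_center_iff.1 (hZcen hz) e).symm
  have hEcen : ¬ E ≤ center R := fun h => hEn ⟨fun x hx g => by rwa [conj_center (h hx)]⟩
  have hne : (⊥ : Subgroup R) ≠ ⊤ := fun h => hEcen fun x _ => by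
    rw [mem_bot.1 (h ▸ mem_top x : x ∈ (⊥ : Subgroup R))]; exact one_mem _
  have hZlt : Z < E := lt_of_le_of_ne hZE fun e => hEcen (e ▸ hZcen)
  have hZp : Nat.card Z = p := by
    refine le_antisymm (Nat.le_of_mul_le_mul_left ?_ hp.out.pos) ?_
    · rw [← pow_two, ← hE2]; exact card_mul_le_of_lt hR hZlt
    · have := card_mul_le_of_lt hR (bot_lt_iff_ne_bot.2 (omZ_ne_bot hR hne) : ⊥ < Z)
      rwa [card_bot, mul_one] at this
  have hEeq : ∀ x ∈ E, x ∉ Z → Z ⊔ zpowers x = E := fun x hx hxZ =>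
    sup_zpowers_eq hR hZE (by rw [hE2, hZp, pow_two]) hx hxZ
  obtain ⟨e, he, heZ⟩ := SetLike.exists_of_lt hZlt
  -- elements of exponent `p` commuting with `e` lie in `E`
  have hCe : ∀ n : R, n ^ p = 1 → n * e = e * n → n ∈ E := fun n hn hne' =>
    mem_of_max hE hmax hn fun x hx => by
      rw [← hEeq e he heZ] at hx
      exact (mem_centralizer_singleton_iff.1 (commute_of_central_sup hZcen hne' hx)).symm
  have hWZ : ∀ w ∈ W, ∀ g, ⁅w, g⁆ ∈ Z := fun w hw g =>
    commutator_mem_omZ ((mem_omZ2 hp2).1 hw).1 ((mem_omZ2 hp2).1 hw).2 g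
  let f : W →* R := MonoidHom.mk' (fun w => ⁅(w : R), e⁆) fun a b =>
    mul_commutator (hZcen (hWZ b b.2 e))
  have hker : f.ker.map W.subtype ≤ Z := by
    rintro _ ⟨w, hw, rfl⟩
    have hwE : (w : R) ∈ E := hCe _ ((mem_omZ2 hp2).1 w.2).2
      (commutatorElement_eq_one_iff_mul_comm.1 (MonoidHom.mem_ker.1 hw))
    by_contra hwZ
    have hEW : E ≤ W := by
      rw [← hEeq _ hwE hwZ]
      refine sup_le (fun z hz => (mem_omZ2 hp2).2 ⟨?_, (mem_omZ.1 hz).2⟩) (zpowers_le.2 w.2)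
      rw [Subgroup.mem_upperCentralSeries_succ_iff]
      intro g
      rw [commutatorElement_eq_one_iff_mul_comm.2 (mem_center_iff.1 (hZcen hz) g).symm]
      exact one_mem _
    refine hEn ⟨fun x hx g => ?_⟩
    rw [show g * x * g⁻¹ = ⁅x, g⁆⁻¹ * x by rw [commutatorElement_def]; group]
    exact E.mul_mem (E.inv_mem (hZE (hWZ x (hEW hx) g))) hx
  have hWle : Nat.card W ≤ p ^ 2 := by
    rw [← f.ker.card_mul_index, index_ker, pow_two,
      ← card_map_of_injective (K := f.ker) W.subtype_injective]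
    exact Nat.mul_le_mul (hZp ▸ card_le_of_le hker)
      (hZp ▸ card_le_of_le (show f.range ≤ Z from by rintro _ ⟨w, rfl⟩; exact hWZ w w.2 e))
  obtain ⟨B, hBn, hBe, -, hBc⟩ := exists_big_normal hR hp2 hr (⊥ : Subgroup R)
    ⟨inferInstance, fun a ha => by rw [mem_bot.1 ha, one_pow]⟩
  haveI := hBn
  have hB0 : ⊥ < B := bot_lt_iff_ne_bot.2 fun h => by
    rw [h, card_bot] at hBc; exact absurd hBc (by have := hp.out.pos; simp; omega)
  obtain ⟨B₁, b₁, hB₁n, -, hB₁B, hB₁c, -, -, hB₁eq, hb₁c⟩ :=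
    Cfsg.Lib.Transfer.exists_normal_step hR ⊥ B hB0
  haveI := hB₁n
  rw [card_bot, mul_one] at hB₁c
  have hB₁cen : B₁ ≤ center R := by
    rw [hB₁eq, bot_sup_eq, zpowers_le, mem_center_iff]
    intro g
    exact mul_inv_eq_iff_eq_mul.1 (mul_inv_eq_one.1 (mem_bot.1 (hb₁c g)))
  obtain ⟨B₂, b₂, -, -, hB₂B, hB₂c, hb₂, -, hB₂eq, hb₂c⟩ :=
    Cfsg.Lib.Transfer.exists_normal_step hR B₁ B (lt_of_le_of_ne hB₁B fun h => by
      rw [← h, hB₁c] at hBc
      exact absurd hBc (not_lt.2 (Nat.le_self_pow two_ne_zero p)))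
  have hB₂W : B₂ ≤ W := by
    rw [hB₂eq]
    refine sup_le (fun x hx => (mem_omZ2 hp2).2 ⟨?_, hBe.2 x (hB₁B hx)⟩)
      (zpowers_le.2 ((mem_omZ2 hp2).2 ⟨?_, hBe.2 b₂ (hB₂B hb₂)⟩))
    · rw [Subgroup.mem_upperCentralSeries_succ_iff]
      intro g
      rw [commutatorElement_eq_one_iff_mul_comm.2 (mem_center_iff.1 (hB₁cen hx) g).symm]
      exact one_mem _
    · rw [Subgroup.mem_upperCentralSeries_succ_iff, Subgroup.upperCentralSeries_one]
      intro g
      rw [show ⁅b₂, g⁆ = (g * b₂ * g⁻¹ * b₂⁻¹)⁻¹ by rw [commutatorElement_def]; group]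
      exact inv_mem (hB₁cen (hb₂c g))
  have hB₂2 : Nat.card B₂ = p ^ 2 := by rw [hB₂c, hB₁c, pow_two]
  have hW2 : B₂ = W := eq_of_le_of_card_ge hB₂W (hB₂2 ▸ hWle)
  haveI := hBe.1
  have hWe : Cfsg.IsElementaryAbelian p W := by
    refine ⟨?_, fun a ha => ((mem_omZ2 hp2).1 ha).2⟩
    rw [← hW2, ← le_centralizer_iff_isMulCommutative]
    intro x hx
    rw [mem_centralizer_iff]
    intro y hy
    exact congrArg Subtype.val (mul_comm' (⟨y, hB₂B hy⟩ : B) ⟨x, hB₂B hx⟩)
  have hWcard : Nat.card W = p ^ 2 := hW2 ▸ hB₂2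
  have hZW : Z ≤ W := fun z hz => (mem_omZ2 hp2).2 ⟨by
    rw [Subgroup.mem_upperCentralSeries_succ_iff]
    intro g
    rw [commutatorElement_eq_one_iff_mul_comm.2 (mem_center_iff.1 (hZcen hz) g).symm]
    exact one_mem _, (mem_omZ.1 hz).2⟩
  have hZWlt : Z < W := lt_of_le_of_ne hZW fun h => by
    have := congrArg (fun S : Subgroup R => Nat.card S) h
    simp only [hZp, hWcard] at this
    exact absurd this (by nlinarith [hp.out.two_le] : p < p ^ 2).ne
  obtain ⟨w, hw, hwZ⟩ := SetLike.exists_of_lt hZWlt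
  have hWeq : Z ⊔ zpowers w = W := sup_zpowers_eq hR hZW (by rw [hWcard, hZp, pow_two]) hw hwZ
  let g₀ : R →* R := homLeft w fun g => hZcen (hWZ w hw g)
  have hg₀ : g₀.ker = T := by
    ext n
    refine ⟨fun hn => mem_centralizer_iff.2 fun x hx => ?_, fun hn => ?_⟩
    · have := commute_of_central_sup hZcen
        (commutatorElement_eq_one_iff_mul_comm.1 (MonoidHom.mem_ker.1 hn) : w * n = n * w).symm
      exact mem_centralizer_singleton_iff.1 (this (hWeq.ge hx))
    · exact MonoidHom.mem_ker.2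
        (commutatorElement_eq_one_iff_mul_comm.2 (mem_centralizer_iff.1 hn w hw))
  have heT : e ∉ T := fun heT => by
    have hwk : (⟨w, hw⟩ : W) ∈ f.ker :=
      MonoidHom.mem_ker.2 (commutatorElement_eq_one_iff_mul_comm.2 (mem_centralizer_iff.1 heT w hw))
    exact hwZ (hker ⟨_, hwk, rfl⟩)
  have hTi : T.index = p := by
    rw [← hg₀, index_ker]
    have hle : g₀.range ≤ Z := by rintro _ ⟨n, rfl⟩; exact hWZ w hw n
    obtain ⟨i, hi⟩ := IsPGroup.iff_card.1 (hR.to_subgroup g₀.range)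
    refine le_antisymm (hZp ▸ card_le_of_le hle) ?_
    rw [hi]
    refine Nat.le_self_pow ?_ p
    rintro rfl
    refine heT (hg₀ ▸ MonoidHom.mem_ker.2 ?_)
    have hbot : g₀.range = ⊥ := card_eq_one.1 (by simpa using hi)
    exact mem_bot.1 (hbot ▸ MonoidHom.mem_range.2 ⟨e, rfl⟩)
  refine ⟨fun h => heT (h he), hZp, ⟨hWe, hWcard⟩, hTc, hTi, e, he, heT, fun n hn hnp hne' => ?_⟩
  by_contra hnZ
  have hnE := hCe n hnp hne'
  apply heT
  have hle : E ≤ T := by
    rw [← hEeq n hnE hnZ]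
    exact sup_le (fun z hz => mem_centralizer_iff.2 fun x _ => mem_center_iff.1 (hZcen hz) x)
      (zpowers_le.2 hn)
  exact hle he

/-- Rank at most two, or a maximal elementary abelian subgroup of order `p²`. -/
def Small (p : ℕ) (R : Type u) [Group R] : Prop :=
  Cfsg.PRankLE p 2 R ∨ ∃ E : Subgroup R, Cfsg.IsElementaryAbelian p E ∧ Nat.card E = p ^ 2 ∧
    ∀ B : Subgroup R, Cfsg.IsElementaryAbelian p B → E ≤ B → B = E

theorem small_of_centralizer [Finite R] (hR : IsPGroup p R) (E₀ : Subgroup R)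
    (hE₀ : Cfsg.IsElementaryAbelian p E₀)
    (hr : Cfsg.PRankLE p 2 ↥(centralizer (E₀ : Set R))) : Small p R := by
  by_cases hR2 : Cfsg.PRankLE p 2 R
  · exact Or.inl hR2
  refine Or.inr ?_
  haveI := hE₀.1
  have hsub : ∀ B : Subgroup R, Cfsg.IsElementaryAbelian p B → B ≤ centralizer (E₀ : Set R) →
      Nat.card B ≤ p ^ 2 := by
    intro B hB hle
    haveI := hB.1
    have h1 := hr (B.subgroupOf (centralizer (E₀ : Set R))) inferInstance fun a ha => Subtype.ext (by
      rw [SubgroupClass.coe_pow]; exact hB.2 a (mem_subgroupOf.1 ha))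
    rwa [Nat.card_congr (subgroupOfEquivOfLe hle).toEquiv] at h1
  have hbase : Cfsg.IsElementaryAbelian p (closure ((E₀ : Set R) ∪ omZ p R)) := by
    refine elem_closure ?_ ?_
    · rintro a (ha | ha) b (hb | hb)
      · exact congrArg Subtype.val (mul_comm' (⟨a, ha⟩ : E₀) ⟨b, hb⟩)
      · exact mem_center_iff.1 (omZ_le_center hb) a
      · exact (mem_center_iff.1 (omZ_le_center ha) b).symm
      · exact mem_center_iff.1 (omZ_le_center hb) a
    · rintro a (ha | ha)
      · exact hE₀.2 a ha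
      · exact (mem_omZ.1 ha).2
  obtain ⟨E, ⟨hEe, hle⟩, hmax⟩ := (Set.toFinite {B : Subgroup R |
    Cfsg.IsElementaryAbelian p B ∧ closure ((E₀ : Set R) ∪ omZ p R) ≤ B}).exists_maximal
    ⟨_, hbase, le_rfl⟩
  have hE₀E : E₀ ≤ E := fun x hx => hle (subset_closure (Or.inl hx))
  have hZE : omZ p R ≤ E := fun x hx => hle (subset_closure (Or.inr hx))
  haveI := hEe.1
  have hEC : E ≤ centralizer (E₀ : Set R) := fun x hx => mem_centralizer_iff.2 fun y hy =>
    congrArg Subtype.val (mul_comm' (⟨y, hE₀E hy⟩ : E) ⟨x, hx⟩)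
  refine ⟨E, hEe, le_antisymm (hsub E hEe hEC) ?_,
    fun B hB hEB => le_antisymm (hmax ⟨hB, hle.trans hEB⟩ hEB) hEB⟩
  obtain ⟨i, hi⟩ := IsPGroup.iff_card.1 (hR.to_subgroup E)
  by_contra hlt
  rw [hi, not_le, Nat.pow_lt_pow_iff_right hp.out.one_lt] at hlt
  have hne : (⊥ : Subgroup R) ≠ ⊤ := fun h => hR2 fun A _ _ => by
    rw [show A = ⊥ from le_bot_iff.1 (h ▸ le_top), card_bot]
    exact Nat.one_le_pow _ _ hp.out.pos
  have hZE' : omZ p R = E := eq_of_le_of_card_ge hZE (by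
    have := card_mul_le_of_lt hR (bot_lt_iff_ne_bot.2 (omZ_ne_bot hR hne) : ⊥ < omZ p R)
    rw [card_bot, mul_one] at this
    rw [hi]
    exact le_trans (Nat.pow_le_pow_right hp.out.pos (show i ≤ 1 by omega)) (by rwa [pow_one]))
  refine hR2 fun A hA hAp => hsub A ⟨hA, hAp⟩ fun x _ => mem_centralizer_iff.2 fun y hy => ?_
  exact (mem_center_iff.1 (omZ_le_center (hZE'.ge (hE₀E hy))) x).symm

theorem small_of_narrow [Finite R] (hR : IsPGroup p R) (h : Cfsg.IsNarrow p R) : Small p R := by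
  rcases h with h | ⟨R₀, R₁, h0, h1, -, hcomm, hsup⟩
  · exact Or.inl h
  haveI := h1
  have hR₀c : IsMulCommutative R₀ := by
    haveI := isCyclic_of_prime_card h0
    infer_instance
  have hR₀p : ∀ a ∈ R₀, a ^ p = 1 := fun a ha => by
    have : (⟨a, ha⟩ : R₀) ^ Nat.card R₀ = 1 := pow_card_eq_one'
    rw [h0] at this
    simpa using congrArg Subtype.val this
  refine small_of_centralizer hR R₀ ⟨hR₀c, hR₀p⟩ fun A _ hAp => ?_
  have hcm : ∀ (m : R₀) (n : R₁), Commute (R₀.subtype m) (R₁.subtype n) := fun m n =>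
    hcomm m m.2 n n.2
  have hdec : ∀ x : A, ∃ ab : R₀ × {b : R₁ // b ^ p = 1},
      (ab.1 : R) * ((ab.2 : R₁) : R) = ((x : centralizer (R₀ : Set R)) : R) := by
    intro x
    have hx : ((x : centralizer (R₀ : Set R)) : R) ∈
        ((R₀.subtype).noncommCoprod R₁.subtype hcm).range := by
      rw [MonoidHom.noncommCoprod_range, range_subtype, range_subtype, hsup]
      exact (x : centralizer (R₀ : Set R)).2
    obtain ⟨⟨a, b⟩, hab⟩ := hx
    rw [MonoidHom.noncommCoprod_apply] at hab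
    refine ⟨⟨a, b, ?_⟩, hab⟩
    have h2 : ((a : R) * b) ^ p = 1 := by
      rw [show (a : R) * b = _ from hab, ← SubgroupClass.coe_pow, hAp _ x.2]; rfl
    have h3 : ((a : R) * b) ^ p = (a : R) ^ p * (b : R) ^ p := (hcm a b).mul_pow p
    rw [h3, hR₀p a a.2, one_mul] at h2
    exact Subtype.ext (by simpa using h2)
  choose d hd using hdec
  have hdinj : Function.Injective d := fun x y hxy =>
    Subtype.ext (Subtype.ext (by rw [← hd x, ← hd y, hxy]))
  refine le_trans (Nat.card_le_card_of_injective d hdinj) ?_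
  rw [Nat.card_prod, h0, pow_two]
  refine Nat.mul_le_mul_left _ ?_
  classical
  haveI := Fintype.ofFinite R₁
  rw [Nat.card_eq_fintype_card, Fintype.card_subtype]
  exact IsCyclic.card_pow_eq_one_le hp.out.pos

/-- `Ω₁` of a critical subgroup detects automorphisms of order prime to `p`. -/
theorem exists_omega_critical [Finite R] (hR : IsPGroup p R) (hp2 : p ≠ 2) :
    ∃ Q : Subgroup R, Q.Characteristic ∧ (∀ x ∈ Q, x ^ p = 1) ∧ commutator Q ≤ center Q ∧
      omZ p R ≤ Q ∧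
      ∀ (f : MulAut R) (m : ℕ), m.Coprime p → f ^ m = 1 → (∀ x ∈ Q, f x = x) → f = 1 := by
  obtain ⟨C, hCc, -, hCcomm, hCC⟩ := Cfsg.Lib.Transfer.exists_critical hR
  haveI := hCc
  have hcz : ∀ a b : R, a ∈ C → ⁅a, b⁆ ∈ centralizer (C : Set R) := fun a b ha =>
    (hCcomm (commutator_mem_commutator ha (mem_top b))).2
  have hpow : ∀ a b : R, a ∈ C → b ∈ C → a ^ p = 1 → b ^ p = 1 → (a * b) ^ p = 1 := by
    intro a b ha hb hap hbp
    set c := ⁅b⁻¹, a⁻¹⁆ with hc
    have hcC : ∀ w ∈ C, Commute c w := fun w hw =>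
      (mem_centralizer_iff.1 (hcz b⁻¹ a⁻¹ (inv_mem hb)) w hw).symm
    have hba : b * a = a * b * c := by rw [hc, commutatorElement_def]; group
    have hk : ∀ k : ℕ, b * a ^ k = a ^ k * b * c ^ k := by
      intro k
      induction k with
      | zero => simp
      | succ k ih =>
        calc b * a ^ (k + 1) = b * a ^ k * a := by rw [pow_succ]; group
          _ = a ^ k * b * (c ^ k * a) := by rw [ih]; group
          _ = a ^ k * (b * a) * c ^ k := by rw [((hcC a ha).pow_left k).eq]; group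
          _ = a ^ k * a * b * (c * c ^ k) := by rw [hba]; group
          _ = a ^ (k + 1) * b * c ^ (k + 1) := by rw [← pow_succ, ← pow_succ']
    have hcp : c ^ p = 1 := by
      have h := hk p
      rw [hap, mul_one, one_mul, left_eq_mul] at h
      exact h
    obtain ⟨j, hj⟩ := Nat.Prime.dvd_choose_self hp.out (k := 2) two_ne_zero
      (lt_of_le_of_ne hp.out.two_le (Ne.symm hp2))
    rw [Cfsg.Lib.Transfer.mul_pow_class_two hba (hcC a ha) (hcC b hb), hap, hbp, hj, pow_mul,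
      hcp, one_pow, one_mul, mul_one]
  let Q : Subgroup R :=
    { carrier := {x | x ∈ C ∧ x ^ p = 1}
      one_mem' := ⟨one_mem _, one_pow _⟩
      mul_mem' := fun {a b} ha hb => ⟨mul_mem ha.1 hb.1, hpow a b ha.1 hb.1 ha.2 hb.2⟩
      inv_mem' := fun {a} ha => ⟨C.inv_mem ha.1, by rw [inv_pow, ha.2, inv_one]⟩ }
  refine ⟨Q, Cfsg.Lib.Transfer.characteristic_of_mem_iff fun φ x hx =>
    ⟨Cfsg.Lib.Transfer.map_mem_of_characteristic φ hx.1, by rw [← map_pow, hx.2, map_one]⟩,
    fun x hx => hx.2, ?_, fun z hz => ⟨hCC (mem_centralizer_iff.2 fun y _ =>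
      mem_center_iff.1 (omZ_le_center hz) y), (mem_omZ.1 hz).2⟩, fun f m hm hfm hfix => ?_⟩
  · rw [_root_.commutator_def, Subgroup.commutator_le]
    intro x _ y _
    rw [mem_center_iff]
    intro w
    exact Subtype.ext (mem_centralizer_iff.1 (hcz (x : R) y x.2.1) w w.2.1)
  have hit : ∀ x : C, (⇑(RankTwoOdd.resChar C f))^[m] x = x := fun x => by
    rw [RankTwoOdd.iterate_aut, ← map_pow, hfm, map_one]; rfl
  have hCfix : ∀ w : C, RankTwoOdd.resChar C f w = w :=
    Cfsg.Lib.Transfer.fixed_of_fix_omega hp2 _ C rfl (hR.to_subgroup C) (RankTwoOdd.resChar C f)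
      m hm hit fun x hx => Subtype.ext (hfix x ⟨x.2, by rw [← SubgroupClass.coe_pow, hx]; rfl⟩)
  refine MulEquiv.ext fun g => ?_
  exact Cfsg.Lib.Transfer.fixed_of_fix_selfCentralizing hR f.toMonoidHom hm
    (fun x => by rw [MulEquiv.coe_toMonoidHom, RankTwoOdd.iterate_aut, hfm]; rfl) C hCC
    (fun x hx => congrArg Subtype.val (hCfix ⟨x, hx⟩)) g

/-- Automorphisms act on a characteristic section of order at most `p` through an abelian group
of exponent dividing `p - 1`. -/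
theorem section_action [Finite R] (A B : Subgroup R) [A.Characteristic] [B.Characteristic]
    (hd : A.relIndex B ∣ p) :
    ∀ f : MulAut R, (f ∈ commutator (MulAut R) ∨ ∃ a, f = a ^ (p - 1)) →
      ∀ x ∈ B, x⁻¹ * f x ∈ A := by
  set N := A.subgroupOf B with hN
  have hmap : ∀ e : MulAut R, N.map (RankTwoOdd.resChar B e).toMonoidHom = N := by
    intro e
    ext x
    constructor
    · rintro ⟨y, hy, rfl⟩
      exact mem_subgroupOf.2 (Cfsg.Lib.Transfer.map_mem_of_characteristic e (mem_subgroupOf.1 hy))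
    · intro hx
      exact ⟨RankTwoOdd.resChar B e.symm x,
        mem_subgroupOf.2 (Cfsg.Lib.Transfer.map_mem_of_characteristic e.symm (mem_subgroupOf.1 hx)),
        Subtype.ext (e.apply_symm_apply _)⟩
  let ψ : MulAut R →* MulAut (B ⧸ N) :=
    { toFun := fun e => QuotientGroup.congr N N (RankTwoOdd.resChar B e) (hmap e)
      map_one' := MulEquiv.ext fun x => by
        obtain ⟨x, rfl⟩ := QuotientGroup.mk_surjective x
        rfl
      map_mul' := fun a b => MulEquiv.ext fun x => by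
        obtain ⟨x, rfl⟩ := QuotientGroup.mk_surjective x
        rfl }
  have hc : IsCyclic (B ⧸ N) ∧ Nat.card (MulAut (B ⧸ N)) ∣ p - 1 := by
    have hcard : Nat.card (B ⧸ N) ∣ p := by rwa [← index_eq_card]
    rcases hp.out.eq_one_or_self_of_dvd _ hcard with h | h
    · haveI : Subsingleton (B ⧸ N) := (Nat.card_eq_one_iff_unique.1 h).1
      refine ⟨isCyclic_of_subsingleton, ?_⟩
      rw [IsCyclic.card_mulAut, h, Nat.totient_one]
      exact one_dvd _
    · haveI := isCyclic_of_prime_card h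
      refine ⟨inferInstance, ?_⟩
      rw [IsCyclic.card_mulAut, h, Nat.totient_prime hp.out]
  haveI := hc.1
  intro f hf x hx
  have hψ : ψ f = 1 := by
    rcases hf with hf | ⟨a, rfl⟩
    · refine RankTwoOdd.map_commutator_eq_one ψ (fun a b => ?_) hf
      refine (IsCyclic.mulAutMulEquiv (B ⧸ N)).injective.eq_iff.1 ?_
      rw [map_mul, map_mul, mul_comm]
    · rw [map_pow]
      exact orderOf_dvd_iff_pow_eq_one.1 ((_root_.orderOf_dvd_natCard _).trans hc.2)
  have h := DFunLike.congr_fun hψ ((⟨x, hx⟩ : B) : B ⧸ N)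
  exact mem_subgroupOf.1 (QuotientGroup.eq.1 (Eq.symm h : ((⟨x, hx⟩ : B) : B ⧸ N) = _))

/-- Automorphisms of a `p`-group of rank at least three with a maximal elementary abelian subgroup
of order `p²`. -/
theorem auto_of_max [Finite R] (hR : IsPGroup p R) (hp2 : p ≠ 2) (hr : ¬ Cfsg.PRankLE p 2 R)
    (E : Subgroup R) (hE : Cfsg.IsElementaryAbelian p E) (hE2 : Nat.card E = p ^ 2)
    (hmax : ∀ B : Subgroup R, Cfsg.IsElementaryAbelian p B → E ≤ B → B = E)
    (f : MulAut R) (hf : f ∈ commutator (MulAut R) ∨ ∃ a, f = a ^ (p - 1)) :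
    ∃ k, f ^ p ^ k = 1 := by
  obtain ⟨-, hZp, -, hTc, hTi, e, -, -, hTe⟩ := max_structure hR hp2 hr E hE hE2 hmax
  obtain ⟨Q, hQc, hQe, -, -, hQfix⟩ := exists_omega_critical hR hp2
  set T := centralizer (omZ2 p R : Set R)
  haveI := hTc
  haveI := hQc
  obtain ⟨a, m, hm, hord⟩ := Nat.exists_eq_pow_mul_and_not_dvd (orderOf_pos f).ne' p hp.out.ne_one
  refine ⟨a, ?_⟩
  set g := f ^ p ^ a with hg
  have hgm : g ^ m = 1 := by rw [hg, ← pow_mul, ← hord, pow_orderOf_eq_one]
  have hmp : m.Coprime p := (hp.out.coprime_iff_not_dvd.2 hm).symm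
  have hg' : g ∈ commutator (MulAut R) ∨ ∃ b, g = b ^ (p - 1) := by
    rcases hf with hf | ⟨b, hb⟩
    · exact Or.inl (pow_mem hf _)
    · exact Or.inr ⟨b ^ p ^ a, by rw [hg, hb, ← pow_mul, mul_comm, pow_mul]⟩
  have hit : ∀ x, (⇑g.toMonoidHom)^[m] x = x := fun x => by
    rw [MulEquiv.coe_toMonoidHom, RankTwoOdd.iterate_aut, hgm]; rfl
  have step : ∀ A B : Subgroup R, A.Characteristic → B.Characteristic → A.relIndex B ∣ p →
      (∀ x ∈ A, g x = x) → ∀ x ∈ B, g x = x := by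
    intro A B hA hB hd hfix x hx
    exact Cfsg.Lib.Transfer.fixed_of_translate hR g.toMonoidHom hmp hit (z := x⁻¹ * g x) (by simp)
      (hfix _ (section_action A B hd g hg' x hx))
  -- characteristic subgroups of exponent `p` inside `T`
  have hmain : ∀ n, ∀ N : Subgroup R, Nat.card N = n → N.Characteristic → N ≤ T →
      (∀ x ∈ N, x ^ p = 1) → ∀ x ∈ N, g x = x := by
    intro n
    induction n using Nat.strong_induction_on with
    | _ n ih =>
    intro N hn hNc hNT hNp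
    haveI := hNc
    rcases eq_or_ne N ⊥ with hbot | hbot
    · intro x hx; rw [hbot, mem_bot] at hx; rw [hx, map_one]
    set L := ⁅N, (⊤ : Subgroup R)⁆ with hL
    have hLN : L ≤ N := commutator_le_left _ _
    have hne : L ≠ N := fun hLe => hbot <| by
      haveI := hR.isNilpotent
      obtain ⟨k, hk⟩ := Subgroup.nilpotent_iff_lowerCentralSeries.1 (inferInstance : Group.IsNilpotent R)
      refine le_bot_iff.1 (hk ▸ ?_)
      clear hk
      induction k with
      | zero => rw [Subgroup.lowerCentralSeries_zero]; exact le_top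
      | succ k ihk =>
        rw [Subgroup.lowerCentralSeries_succ]
        conv_lhs => rw [← hLe, hL]
        exact commutator_mono ihk le_rfl
    haveI hLc : L.Characteristic := commutator_characteristic _ _
    have hlt : Nat.card L < n := hn ▸ lt_of_le_of_ne (card_le_of_le hLN)
      fun h => hne (eq_of_le_of_card_ge hLN h.ge)
    refine step L N hLc hNc ?_ (ih _ hlt L rfl hLc (hLN.trans hNT) fun x hx => hNp x (hLN hx))
    -- the section has order at most `p`
    let F : N → L := fun x => ⟨⁅(x : R), e⁆, commutator_mem_commutator x.2 (mem_top e)⟩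
    have hfib : ∀ x y : N, F x = F y → ((y : R)⁻¹ * x) ∈ omZ p R := by
      intro x y hxy
      have hxy' : ⁅(x : R), e⁆ = ⁅(y : R), e⁆ := congrArg Subtype.val hxy
      refine hTe _ (T.mul_mem (T.inv_mem (hNT y.2)) (hNT x.2))
        (hNp _ (N.mul_mem (N.inv_mem y.2) x.2)) ?_
      calc (y : R)⁻¹ * x * e = (y : R)⁻¹ * (⁅(x : R), e⁆ * e) * x := by
            rw [commutatorElement_def]; group
        _ = (y : R)⁻¹ * (⁅(y : R), e⁆ * e) * x := by rw [hxy']
        _ = e * ((y : R)⁻¹ * x) := by rw [commutatorElement_def]; group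
    let s : L → N := Function.invFun F
    have hinj : Function.Injective fun x : N =>
        ((F x, ⟨((s (F x) : N) : R)⁻¹ * x, hfib _ _ (Function.invFun_eq ⟨x, rfl⟩).symm⟩) :
          L × omZ p R) := by
      intro x y hxy
      simp only [Prod.mk.injEq, Subtype.mk.injEq] at hxy
      obtain ⟨h1, h2⟩ := hxy
      rw [h1, mul_left_cancel_iff] at h2
      exact Subtype.ext h2
    have hle := Nat.card_le_card_of_injective _ hinj
    have hmul : L.relIndex N * Nat.card L = Nat.card N := by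
      rw [mul_comm, ← relIndex_bot_left L, relIndex_mul_relIndex _ _ _ bot_le hLN, relIndex_bot_left]
    rw [Nat.card_prod, hZp, ← hmul] at hle
    · have hle' : L.relIndex N ≤ p := Nat.le_of_mul_le_mul_right
        (by rwa [mul_comm (Nat.card L) p] at hle) Nat.card_pos
      obtain ⟨i, hi⟩ : ∃ i, L.relIndex N = p ^ i :=
        (IsPGroup.iff_card.1 ((hR.to_subgroup N).to_quotient (L.subgroupOf N)))
      rw [hi] at hle' ⊢
      rcases i with _ | i
      · simp
      · rcases i with _ | i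
        · simp
        · exact absurd hle' (not_le.2 (lt_of_lt_of_le (by nlinarith [hp.out.two_le] : p < p ^ 2)
            (Nat.pow_le_pow_right hp.out.pos (by omega))))
  have hQT : (Q ⊓ T).Characteristic := Cfsg.Lib.Transfer.characteristic_of_mem_iff fun φ x hx =>
    ⟨Cfsg.Lib.Transfer.map_mem_of_characteristic φ hx.1,
      Cfsg.Lib.Transfer.map_mem_of_characteristic φ hx.2⟩
  refine hQfix g m hmp hgm (step (Q ⊓ T) Q hQT hQc ?_
    (hmain _ (Q ⊓ T) rfl hQT inf_le_right fun x hx => hQe x hx.1))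
  rw [inf_comm, inf_relIndex_right]
  exact hTi ▸ relIndex_dvd_index_of_normal T Q

/-- Odd solvable groups acting on small `p`-groups: derived elements. -/
theorem small_auto_commutator [Finite R] (hR : IsPGroup p R) (hp2 : p ≠ 2) (hs : Small p R)
    {H : Type*} [Group H] [Finite H] [Group.IsSolvable H] (hodd : Odd (Nat.card H))
    (φ : H →* MulAut R) {g : H} (hg : g ∈ commutator H) : ∃ k, φ g ^ p ^ k = 1 := by
  by_cases hr : Cfsg.PRankLE p 2 R
  · exact RankTwoOdd.auto_commutator hR hp2 hr hodd φ hg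
  obtain ⟨E, hE, hE2, hmax⟩ := hs.resolve_left hr
  refine auto_of_max hR hp2 hr E hE hE2 hmax _ (Or.inl ?_)
  have h : (commutator H).map φ ≤ commutator (MulAut R) := by
    rw [_root_.commutator_def, _root_.commutator_def, Subgroup.map_commutator]
    exact commutator_mono le_top le_top
  exact h (mem_map_of_mem φ hg)

theorem orderOf_dvd_of_max [Finite R] (hR : IsPGroup p R) (hp2 : p ≠ 2)
    (hr : ¬ Cfsg.PRankLE p 2 R) (hs : Small p R) (a : MulAut R) :
    ∃ k, orderOf a ∣ (p - 1) * p ^ k := by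
  obtain ⟨E, hE, hE2, hmax⟩ := hs.resolve_left hr
  obtain ⟨k, hk⟩ := auto_of_max hR hp2 hr E hE hE2 hmax (a ^ (p - 1)) (Or.inr ⟨a, rfl⟩)
  exact ⟨k, orderOf_dvd_of_pow_eq_one (by rw [pow_mul, hk])⟩

/-- Odd groups acting on small `p`-groups: primes. -/
theorem small_auto_prime_le [Finite R] (hR : IsPGroup p R) (hp2 : p ≠ 2) (hs : Small p R)
    {H : Type*} [Group H] [Finite H] (hodd : Odd (Nat.card H)) (φ : H →* MulAut R) {h : H} {q : ℕ}
    (hq : q.Prime) (hqd : q ∣ orderOf (φ h)) : q ≤ p := by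
  by_cases hr : Cfsg.PRankLE p 2 R
  · exact RankTwoOdd.auto_prime_le hR hp2 hr hodd φ hq hqd
  obtain ⟨k, hk⟩ := orderOf_dvd_of_max hR hp2 hr hs (φ h)
  have h2 := hp.out.two_le
  rcases hq.dvd_mul.1 (hqd.trans hk) with h1 | h1
  · have := Nat.le_of_dvd (by omega) h1
    omega
  · exact Nat.le_of_dvd hp.out.pos (hq.dvd_of_dvd_pow h1)

end Cfsg.Lib.NarrowOdd
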