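import Mathlib
import Cfsg.Prelude.Def_PLocal
import Cfsg.Prelude.Def_Transfer
import Cfsg.Agent.Lib.PLocal.QdData
import Cfsg.Agent.Lib.PLocal.NarrowOdd
import Cfsg.Agent.Lib.Transfer.PGroupFrattini

/-!
The Sylow subgroups of `Qd(p)`.
-/

set_option autoImplicit false
set_option maxHeartbeats 800000

namespace Cfsg.Lib.QdSylow

open Subgroup Cfsg.Lib.PLocal
open scoped commutatorElement

variable {p : ℕ}

/-- The entries of an element of `Qd(p)`. -/
def ent (q : ↥(Cfsg.qd p)) (i j : Fin 3) : ZMod p :=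
  ((q : Matrix.SpecialLinearGroup (Fin 3) (ZMod p)) : Matrix (Fin 3) (Fin 3) (ZMod p)) i j

/-- An upper unitriangular element. -/
def u3 (b u v : ZMod p) : ↥(Cfsg.qd p) := qdMk 1 b 0 1 u v (by ring)

theorem u3_inj {b u v b' u' v' : ZMod p} (h : u3 b u v = u3 b' u' v') : b = b' ∧ u = u' ∧ v = v' := by
  obtain ⟨-, h2, -, -, h5, h6⟩ := qdMk_inj h
  exact ⟨h2, h5, h6⟩

theorem u3_one : (1 : ↥(Cfsg.qd p)) = u3 0 0 0 := qdMk_one

theorem u3_mul (b u v b' u' v' : ZMod p) :
    u3 b u v * u3 b' u' v' = u3 (b + b') (u' + b * v' + u) (v' + v) := by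
  rw [u3, u3, u3, qdMk_mul]; apply qdMk_congr <;> ring

theorem u3_inv (b u v : ZMod p) : (u3 b u v)⁻¹ = u3 (-b) (b * v - u) (-v) := by
  rw [u3, u3, qdMk_inv]; apply qdMk_congr <;> ring

theorem u3_pow (b u v : ZMod p) (n : ℕ) :
    u3 b u v ^ n = u3 ((n : ZMod p) * b) ((n : ZMod p) * u + (n.choose 2 : ZMod p) * (b * v))
      ((n : ZMod p) * v) := by
  induction n with
  | zero => rw [pow_zero, u3_one]; simp
  | succ n ih =>
    rw [pow_succ, ih, u3_mul]
    have hc : (n + 1).choose 2 = n + n.choose 2 := by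
      rw [Nat.choose_succ_succ', Nat.choose_one_right]
    rw [hc]
    congr 1 <;> push_cast <;> ring

/-- The upper unitriangular subgroup. -/
def upper (p : ℕ) : Subgroup ↥(Cfsg.qd p) where
  carrier := {q | ∃ b u v, q = u3 b u v}
  one_mem' := ⟨0, 0, 0, u3_one⟩
  mul_mem' := by
    rintro _ _ ⟨b, u, v, rfl⟩ ⟨b', u', v', rfl⟩
    exact ⟨_, _, _, u3_mul ..⟩
  inv_mem' := by
    rintro _ ⟨b, u, v, rfl⟩
    exact ⟨_, _, _, u3_inv ..⟩

/-- The Borel subgroup. -/
def borel (p : ℕ) : Subgroup ↥(Cfsg.qd p) where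
  carrier := {q | ent q 1 0 = 0}
  one_mem' := by
    show ent 1 1 0 = 0
    rw [qdMk_one]
    rfl
  mul_mem' := by
    intro x y hx hy
    obtain ⟨a, b, c, d, u, v, h, rfl⟩ := exists_qdMk x
    obtain ⟨a', b', c', d', u', v', h', rfl⟩ := exists_qdMk y
    have hc : c = 0 := hx
    have hc' : c' = 0 := hy
    show ent _ 1 0 = 0
    rw [qdMk_mul]
    show c * a' + d * c' = 0
    rw [hc, hc']; ring
  inv_mem' := by
    intro x hx
    obtain ⟨a, b, c, d, u, v, h, rfl⟩ := exists_qdMk x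
    have hc : c = 0 := hx
    show ent _ 1 0 = 0
    rw [qdMk_inv]
    show -c = 0
    rw [hc, neg_zero]

theorem mem_borel {a b c d u v : ZMod p} {h : a * d - b * c = 1} :
    qdMk a b c d u v h ∈ borel p ↔ c = 0 := Iff.rfl

theorem upper_card : Nat.card (upper p) = p ^ 3 := by
  have e : Function.Bijective (fun t : ZMod p × ZMod p × ZMod p =>
      (⟨u3 t.1 t.2.1 t.2.2, t.1, t.2.1, t.2.2, rfl⟩ : upper p)) := by
    refine ⟨?_, ?_⟩
    · rintro ⟨b, u, v⟩ ⟨b', u', v'⟩ h
      obtain ⟨h2, h5, h6⟩ := u3_inj (congrArg Subtype.val h)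
      exact Prod.ext h2 (Prod.ext h5 h6)
    · rintro ⟨_, b, u, v, rfl⟩
      exact ⟨(b, u, v), rfl⟩
  rw [← Nat.card_eq_of_bijective _ e, Nat.card_prod, Nat.card_prod, Nat.card_zmod]
  ring

theorem conj_mk {a b c d u v β γ δ : ZMod p} (h : a * d - b * c = 1) :
    qdMk a b c d u v h * u3 β γ δ * (qdMk a b c d u v h)⁻¹ =
      qdMk (1 - a * β * c) (a * a * β) (-(c * c * β)) (1 + c * a * β)
        (a * γ + b * δ + a * β * (c * u - a * v)) (c * γ + d * δ + c * β * (c * u - a * v))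
        (by ring) := by
  rw [u3, qdMk_mul, qdMk_inv, qdMk_mul]
  apply qdMk_congr
  · linear_combination h
  · ring
  · ring
  · linear_combination h
  · linear_combination (-u) * h
  · linear_combination (-v) * h

theorem borel_normalizes {g x : ↥(Cfsg.qd p)} (hg : g ∈ borel p) (hx : x ∈ upper p) :
    g * x * g⁻¹ ∈ upper p := by
  obtain ⟨a, b, c, d, u, v, h, rfl⟩ := exists_qdMk g
  obtain ⟨β, γ, δ, rfl⟩ := hx
  have hc : c = 0 := hg
  subst hc
  refine ⟨a * a * β, a * γ + b * δ + a * β * (0 * u - a * v), d * δ, ?_⟩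
  rw [conj_mk, u3]
  apply qdMk_congr <;> first | rfl | ring

/-- The action of `Qd(2)` on the affine plane. -/
def affine (q : ↥(Cfsg.qd p)) (x : ZMod p × ZMod p) : ZMod p × ZMod p :=
  (ent q 0 0 * x.1 + ent q 0 1 * x.2 + ent q 0 2, ent q 1 0 * x.1 + ent q 1 1 * x.2 + ent q 1 2)

theorem affine_mul (g k : ↥(Cfsg.qd p)) (x : ZMod p × ZMod p) :
    affine (g * k) x = affine g (affine k x) := by
  obtain ⟨a, b, c, d, u, v, h, rfl⟩ := exists_qdMk g
  obtain ⟨a', b', c', d', u', v', h', rfl⟩ := exists_qdMk k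
  rw [qdMk_mul]
  simp [affine, ent, qdMk]
  constructor <;> ring

/-- The permutation representation on the affine plane. -/
def affineHom (p : ℕ) : ↥(Cfsg.qd p) →* Equiv.Perm (ZMod p × ZMod p) :=
  MonoidHom.mk' (fun q =>
    { toFun := affine q
      invFun := affine q⁻¹
      left_inv := fun x => by
        rw [← affine_mul, inv_mul_cancel, qdMk_one]; simp [affine, ent, qdMk]
      right_inv := fun x => by
        rw [← affine_mul, mul_inv_cancel, qdMk_one]; simp [affine, ent, qdMk] })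
    fun g k => Equiv.ext (affine_mul g k)

variable [hp : Fact p.Prime]

theorem mem_borel_of_conj_mem {g : ↥(Cfsg.qd p)} {β γ δ : ZMod p} (hβ : β ≠ 0)
    (h : g * u3 β γ δ * g⁻¹ ∈ upper p) : g ∈ borel p := by
  obtain ⟨a, b, c, d, u, v, hd, rfl⟩ := exists_qdMk g
  rw [conj_mk] at h
  obtain ⟨β', γ', δ', he⟩ := h
  rw [u3] at he
  obtain ⟨-, -, h3, -⟩ := qdMk_inj he
  rcases mul_eq_zero.1 (neg_eq_zero.1 h3) with h4 | h4
  · rcases mul_eq_zero.1 h4 with h5 | h5 <;> exact h5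
  · exact absurd h4 hβ

theorem normalizer_upper : normalizer ((upper p : Subgroup ↥(Cfsg.qd p)) : Set ↥(Cfsg.qd p)) = borel p := by
  refine le_antisymm (fun g hg => ?_) (fun g hg => ?_)
  · exact mem_borel_of_conj_mem (one_ne_zero (α := ZMod p))
      ((mem_normalizer_iff.1 hg _).1 ⟨1, 0, 0, rfl⟩)
  · rw [mem_normalizer_iff]
    intro x
    refine ⟨borel_normalizes hg, fun hx => ?_⟩
    have := borel_normalizes ((borel p).inv_mem hg) hx
    rwa [inv_inv, show g⁻¹ * (g * x * g⁻¹) * g = x by group] at this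

theorem borel_ne_top : borel p ≠ ⊤ := by
  intro h
  have h1 : qdMk (p := p) 0 1 (-1) 0 0 0 (by ring) ∈ borel p := h ▸ mem_top _
  have h2 : (-1 : ZMod p) = 0 := h1
  exact one_ne_zero (neg_eq_zero.1 h2)

theorem upper_isPGroup : IsPGroup p (upper p) := IsPGroup.of_card upper_card

/-- The upper unitriangular subgroup is a maximal `p`-subgroup. -/
theorem upper_maximal {P : Subgroup ↥(Cfsg.qd p)} (hP : IsPGroup p P) (hle : upper p ≤ P) :
    P = upper p := by
  by_contra hne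
  have hlt : (upper p).subgroupOf P < ⊤ := lt_top_iff_ne_top.2 fun h =>
    hne (le_antisymm (subgroupOf_eq_top.1 h) hle)
  haveI := hP.isNilpotent
  obtain ⟨g, hgN, hgU⟩ := SetLike.exists_of_lt
    (Group.normalizerCondition_of_isNilpotent ((upper p).subgroupOf P) hlt)
  have hgB : (g : ↥(Cfsg.qd p)) ∈ borel p := by
    refine mem_borel_of_conj_mem (one_ne_zero (α := ZMod p)) (γ := 0) (δ := 0) ?_
    exact (mem_normalizer_iff.1 hgN ⟨_, hle ⟨1, 0, 0, rfl⟩⟩).1 (mem_subgroupOf.2 ⟨1, 0, 0, rfl⟩)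
  refine hgU (mem_subgroupOf.2 ?_)
  obtain ⟨a, b, c, d, u, v, h, hg⟩ := exists_qdMk (g : ↥(Cfsg.qd p))
  rw [hg] at hgB ⊢
  have hc : c = 0 := hgB
  subst hc
  obtain ⟨k, hk⟩ := hP g
  have hk' : (qdMk a b 0 d u v h) ^ p ^ k = 1 := by
    rw [← hg]
    simpa using congrArg Subtype.val hk
  have hpow : ∀ n : ℕ, ∃ b' c' d' u' v' h', c' = 0 ∧
      (qdMk a b 0 d u v h) ^ n = qdMk (a ^ n) b' c' d' u' v' h' := by
    intro n
    induction n with
    | zero =>
      refine ⟨0, 0, 1, 0, 0, by ring, rfl, ?_⟩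
      rw [pow_zero, qdMk_one]; apply qdMk_congr <;> simp
    | succ n ih =>
      obtain ⟨b', c', d', u', v', h', hc', e⟩ := ih
      subst hc'
      refine ⟨a ^ n * b + b' * d, 0, d' * d, a ^ n * u + b' * v + u', 0 * u + d' * v + v', ?_, rfl, ?_⟩
      · linear_combination (a * d - b * 0) * h' + h
      · rw [pow_succ, e, qdMk_mul]
        apply qdMk_congr <;> ring
  obtain ⟨b', c', d', u', v', h', -, e⟩ := hpow (p ^ k)
  rw [e, qdMk_one] at hk'
  have ha : a = 1 := by
    have h1 := (qdMk_inj hk').1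
    rwa [ZMod.pow_card_pow] at h1
  subst ha
  have hd : d = 1 := by linear_combination h
  subst hd
  exact ⟨b, u, v, rfl⟩

theorem exists_sylow : ∃ P : Sylow p ↥(Cfsg.qd p), (P : Subgroup ↥(Cfsg.qd p)) = upper p := by
  obtain ⟨P, hP⟩ := (upper_isPGroup (p := p)).exists_le_sylow
  exact ⟨P, upper_maximal P.isPGroup' hP⟩

theorem extraspecial_of {P : Type*} [Group P] [Finite P] (hcard : Nat.card P = p ^ 3)
    (hexp : ∀ x : P, x ^ p = 1) (hnc : ¬ ∀ a b : P, a * b = b * a) : Cfsg.IsExtraspecial p P := by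
  have hP : IsPGroup p P := IsPGroup.of_card hcard
  have hne : (⊥ : Subgroup P) ≠ ⊤ := fun h => hnc fun a b => by
    rw [mem_bot.1 (h ▸ mem_top a : a ∈ (⊥ : Subgroup P)), one_mul, mul_one]
  have hZne : center P ≠ ⊥ := fun h =>
    NarrowOdd.omZ_ne_bot hP hne (le_bot_iff.1 (h ▸ NarrowOdd.omZ_le_center))
  have hZp : p ≤ Nat.card (center P) := by
    have := NarrowOdd.card_mul_le_of_lt hP (bot_lt_iff_ne_bot.2 hZne)
    rwa [card_bot, mul_one] at this
  have hZ : Nat.card (center P) = p := by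
    refine le_antisymm ?_ hZp
    obtain ⟨x, hx⟩ : ∃ x, x ∉ center P := by
      by_contra hno
      push Not at hno
      exact hnc fun a b => mem_center_iff.1 (hno b) a
    obtain ⟨y, hy⟩ : ∃ y, y * x ≠ x * y := by
      by_contra hno
      push Not at hno
      exact hx (mem_center_iff.2 hno)
    set C₁ := center P ⊔ zpowers x
    have hy1 : y ∉ C₁ := fun h => hy (mem_centralizer_singleton_iff.1
      (NarrowOdd.commute_of_central_sup (Z := center P) le_rfl (Commute.refl x) h))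
    have h1 : p * Nat.card (center P) ≤ Nat.card C₁ :=
      NarrowOdd.card_mul_le_of_lt hP (lt_of_le_of_ne le_sup_left fun e => hx (by
        rw [e]; exact mem_sup_right (mem_zpowers x)))
    have h2 : p * Nat.card C₁ ≤ p ^ 3 := by
      refine (NarrowOdd.card_mul_le_of_lt hP (lt_top_iff_ne_top.2 fun h => hy1 (by rw [h]; exact mem_top y))).trans ?_
      rw [card_top, hcard]
    refine Nat.le_of_mul_le_mul_left ?_ hp.out.pos
    refine Nat.le_of_mul_le_mul_left ?_ hp.out.pos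
    calc p * (p * Nat.card (center P)) ≤ p * Nat.card C₁ := Nat.mul_le_mul_left _ h1
      _ ≤ p ^ 3 := h2
      _ = p * (p * p) := by ring
  have hq : ∀ a b : P ⧸ center P, a * b = b * a := by
    refine IsPGroup.commutative_of_card_eq_prime_sq (p := p) ?_
    have h1 := (center P).card_mul_index
    rw [hZ, hcard] at h1
    rw [← index_eq_card]
    exact Nat.eq_of_mul_eq_mul_left hp.out.pos (h1.trans (by ring))
  have hle : commutator P ≤ center P := by
    rw [_root_.commutator_def, Subgroup.commutator_le]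
    intro a _ b _
    rw [← QuotientGroup.eq_one_iff]
    show QuotientGroup.mk' (center P) ⁅a, b⁆ = 1
    rw [map_commutatorElement]
    exact commutatorElement_eq_one_iff_mul_comm.2 (hq _ _)
  have hcne : commutator P ≠ ⊥ := fun h => hnc fun a b =>
    commutatorElement_eq_one_iff_mul_comm.1
      (mem_bot.1 (h ▸ commutator_mem_commutator (mem_top a) (mem_top b)))
  have hceq : commutator P = center P := eq_of_le_of_card_ge hle (by
    rw [hZ]
    have := NarrowOdd.card_mul_le_of_lt hP (bot_lt_iff_ne_bot.2 hcne)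
    rwa [card_bot, mul_one] at this)
  refine ⟨⟨hP, le_antisymm ?_ ?_, hceq⟩, hZ⟩
  · exact Cfsg.Lib.Transfer.frattini_le_of_quotient (p := p) hle fun x => by
      rw [hexp]; exact one_mem _
  · rw [← hceq]; exact Cfsg.Lib.Transfer.commutator_le_frattini hP

theorem sylow_qd (hp2 : p ≠ 2) (P : Sylow p ↥(Cfsg.qd p)) :
    Cfsg.IsExtraspecial p ↥P ∧ Nat.card P = p ^ 3 ∧ Monoid.exponent ↥P = p := by
  obtain ⟨P₀, hP₀⟩ := exists_sylow (p := p)
  let e : ↥(P : Subgroup ↥(Cfsg.qd p)) ≃* ↥(upper p) := (P.equiv P₀).trans (MulEquiv.subgroupCongr hP₀)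
  have hcard : Nat.card ↥(P : Subgroup ↥(Cfsg.qd p)) = p ^ 3 := by
    rw [Nat.card_congr e.toEquiv, upper_card]
  have hexp : ∀ x : ↥(P : Subgroup ↥(Cfsg.qd p)), x ^ p = 1 := by
    intro x
    apply e.injective
    rw [map_pow, map_one]
    obtain ⟨b, u, v, hx⟩ := (e x).2
    refine Subtype.ext ?_
    rw [SubgroupClass.coe_pow, hx, u3_pow, OneMemClass.coe_one, u3_one]
    obtain ⟨j, hj⟩ := Nat.Prime.dvd_choose_self hp.out (k := 2) two_ne_zero
      (lt_of_le_of_ne hp.out.two_le (Ne.symm hp2))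
    simp [hj]
  have hnc : ¬ ∀ a b : ↥(P : Subgroup ↥(Cfsg.qd p)), a * b = b * a := by
    intro h
    have h1 := h (e.symm ⟨u3 1 0 0, 1, 0, 0, rfl⟩)
      (e.symm ⟨u3 0 0 1, 0, 0, 1, rfl⟩)
    have h2 := congrArg Subtype.val (congrArg e h1)
    simp only [map_mul, MulEquiv.apply_symm_apply, Subgroup.coe_mul] at h2
    rw [u3_mul, u3_mul] at h2
    have h3 := (u3_inj h2).2.1
    simp at h3
  refine ⟨extraspecial_of hcard hexp hnc, hcard, ?_⟩
  refine Nat.dvd_antisymm (Monoid.exponent_dvd_of_forall_pow_eq_one hexp) ?_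
  rcases hp.out.eq_one_or_self_of_dvd _ (Monoid.exponent_dvd_of_forall_pow_eq_one hexp) with h | h
  · exact absurd (fun a b => by
      haveI := Monoid.exp_eq_one_iff.1 h
      exact Subsingleton.elim _ _) hnc
  · exact dvd_of_eq h.symm

/-- An automorphism of the upper unitriangular group exchanging its two natural four-subgroups. -/
def flip (p : ℕ) : ↥(upper p) ≃* ↥(upper p) where
  toFun q := ⟨u3 (ent q.1 1 2) (ent q.1 0 1 * ent q.1 1 2 - ent q.1 0 2) (ent q.1 0 1), _, _, _, rfl⟩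
  invFun q := ⟨u3 (ent q.1 1 2) (ent q.1 0 1 * ent q.1 1 2 - ent q.1 0 2) (ent q.1 0 1), _, _, _, rfl⟩
  left_inv := by
    rintro ⟨_, b, u, v, rfl⟩
    refine Subtype.ext ?_
    show u3 b (v * b - (b * v - u)) v = u3 b u v
    congr 1; ring
  right_inv := by
    rintro ⟨_, b, u, v, rfl⟩
    refine Subtype.ext ?_
    show u3 b (v * b - (b * v - u)) v = u3 b u v
    congr 1; ring
  map_mul' := by
    rintro ⟨_, b, u, v, rfl⟩ ⟨_, b', u', v', rfl⟩
    refine Subtype.ext ?_
    show u3 (ent (u3 b u v * u3 b' u' v') 1 2) (ent (u3 b u v * u3 b' u' v') 0 1 *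
        ent (u3 b u v * u3 b' u' v') 1 2 - ent (u3 b u v * u3 b' u' v') 0 2)
        (ent (u3 b u v * u3 b' u' v') 0 1) =
      u3 v (b * v - u) b * u3 v' (b' * v' - u') b'
    rw [u3_mul, u3_mul]
    show u3 (v' + v) ((b + b') * (v' + v) - (u' + b * v' + u)) (b + b') = _
    congr 1 <;> ring

/-- Normalizers of characteristic subgroups of a Sylow subgroup. -/
theorem normalizer_char (T : Subgroup ↥(upper p)) (hT : T ≠ ⊥) (hTc : T.Characteristic) :
    normalizer ((T.map (upper p).subtype : Subgroup ↥(Cfsg.qd p)) : Set ↥(Cfsg.qd p)) = borel p := by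
  haveI := hTc
  refine le_antisymm ?_ ?_
  · by_cases hb : ∀ t ∈ T, ent (t : ↥(Cfsg.qd p)) 0 1 = 0
    · intro g hg
      obtain ⟨t, ht, ht1⟩ : ∃ t ∈ T, t ≠ 1 := by
        by_contra hno
        push Not at hno
        exact hT ((Subgroup.eq_bot_iff_forall _).2 hno)
      obtain ⟨b, u, v, hbuv⟩ := t.2
      have hb0 : b = 0 := by
        have h := hb t ht
        rw [hbuv] at h
        exact h
      have hv0 : v = 0 := by
        have h := hb _ (Cfsg.Lib.Transfer.map_mem_of_characteristic (flip p) ht)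
        change ent (u3 (ent (t : ↥(Cfsg.qd p)) 1 2) _ _) 0 1 = 0 at h
        rw [hbuv] at h
        exact h
      subst hb0 hv0
      have hu : u ≠ 0 := fun hu => ht1 (Subtype.ext (by rw [hbuv, hu, OneMemClass.coe_one, u3_one]))
      have h1 := (mem_normalizer_iff.1 hg _).1 ⟨t, ht, rfl⟩
      obtain ⟨t', ht', ht'e⟩ := h1
      obtain ⟨b', u', v', hbuv'⟩ := t'.2
      have hv' : v' = 0 := by
        have h := hb _ (Cfsg.Lib.Transfer.map_mem_of_characteristic (flip p) ht')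
        change ent (u3 (ent (t' : ↥(Cfsg.qd p)) 1 2) _ _) 0 1 = 0 at h
        rw [hbuv'] at h
        exact h
      obtain ⟨a, β, c, d, s, r, h, rfl⟩ := exists_qdMk g
      simp only [coe_subtype] at ht'e
      rw [hbuv', hbuv, conj_mk, u3] at ht'e
      have h3 := (qdMk_inj ht'e).2.2.2.2.2
      rw [hv'] at h3
      refine mem_borel.2 ((mul_eq_zero.1 (?_ : c * u = 0)).resolve_right hu)
      linear_combination -h3
    · push Not at hb
      obtain ⟨t, ht, htb⟩ := hb
      intro g hg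
      obtain ⟨b, u, v, hbuv⟩ := t.2
      have hb0 : b ≠ 0 := fun h => htb (by rw [hbuv, h]; rfl)
      have h1 := (mem_normalizer_iff.1 hg _).1 ⟨t, ht, rfl⟩
      simp only [coe_subtype] at h1
      rw [hbuv] at h1
      exact mem_borel_of_conj_mem hb0 (map_subtype_le _ h1)
  · have hfw : ∀ n ∈ borel p, ∀ x ∈ T.map (upper p).subtype, n * x * n⁻¹ ∈ T.map (upper p).subtype := by
      rintro n hn _ ⟨x, hx, rfl⟩
      have hn' : n ∈ normalizer ((upper p : Subgroup ↥(Cfsg.qd p)) : Set ↥(Cfsg.qd p)) :=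
        normalizer_upper.ge hn
      exact ⟨(upper p).normalizerMonoidHom ⟨n, hn'⟩ x,
        Cfsg.Lib.Transfer.map_mem_of_characteristic _ hx, rfl⟩
    intro n hn
    rw [mem_normalizer_iff]
    intro x
    refine ⟨hfw n hn x, fun hx => ?_⟩
    have := hfw n⁻¹ ((borel p).inv_mem hn) _ hx
    rwa [inv_inv, show n⁻¹ * (n * x * n⁻¹) * n = x by group] at this

theorem characteristic_normalizer_qd (S : Sylow p ↥(Cfsg.qd p))
    (T : Subgroup ↥(S : Subgroup ↥(Cfsg.qd p))) (hT : T ≠ ⊥) (hTc : T.Characteristic) :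
    normalizer ((T.map (S : Subgroup ↥(Cfsg.qd p)).subtype : Subgroup ↥(Cfsg.qd p)) : Set ↥(Cfsg.qd p)) =
        normalizer ((S : Subgroup ↥(Cfsg.qd p)) : Set ↥(Cfsg.qd p)) ∧
      normalizer ((S : Subgroup ↥(Cfsg.qd p)) : Set ↥(Cfsg.qd p)) ≠ ⊤ := by
  obtain ⟨P₀, hP₀⟩ := exists_sylow (p := p)
  obtain ⟨h, hh⟩ := MulAction.exists_smul_eq ↥(Cfsg.qd p) P₀ S
  set f := MulAut.conj h with hf
  have hS : (upper p).map f.toMonoidHom = (S : Subgroup ↥(Cfsg.qd p)) := by
    rw [← hP₀, ← hh, Sylow.coe_subgroup_smul]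
    rfl
  let e : ↥(upper p) ≃* ↥(S : Subgroup ↥(Cfsg.qd p)) :=
    (f.subgroupMap (upper p)).trans (MulEquiv.subgroupCongr hS)
  set T₀ := T.comap e.toMonoidHom with hT₀
  have hT₀c : T₀.Characteristic := Cfsg.Lib.Transfer.characteristic_of_mem_iff fun φ x hx => by
    have := Cfsg.Lib.Transfer.map_mem_of_characteristic ((e.symm.trans φ).trans e) (hH := hTc) hx
    simpa [T₀] using this
  have hmap : T.map (S : Subgroup ↥(Cfsg.qd p)).subtype = (T₀.map (upper p).subtype).map f.toMonoidHom := by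
    rw [Subgroup.map_map, hT₀]
    ext x
    constructor
    · rintro ⟨y, hy, rfl⟩
      refine ⟨e.symm y, by simpa using hy, ?_⟩
      exact congrArg Subtype.val (e.apply_symm_apply y)
    · rintro ⟨y, hy, rfl⟩
      exact ⟨e y, hy, rfl⟩
  have hT₀ne : T₀ ≠ ⊥ := fun h0 => hT ((Subgroup.eq_bot_iff_forall _).2 fun y hy => by
    have h1 : e.symm y ∈ T₀ := by simpa [T₀] using hy
    rw [h0, mem_bot] at h1
    simpa using congrArg e h1)
  have hN : ∀ X : Subgroup ↥(Cfsg.qd p),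
      normalizer ((X.map f.toMonoidHom : Subgroup ↥(Cfsg.qd p)) : Set ↥(Cfsg.qd p)) =
        (normalizer (X : Set ↥(Cfsg.qd p))).map f.toMonoidHom := fun X =>
    (map_equiv_normalizer_eq X f).symm
  rw [hmap, ← hS, hN, hN, normalizer_char T₀ hT₀ne hT₀c, normalizer_upper]
  refine ⟨rfl, fun h => borel_ne_top (p := p) ?_⟩
  refine Subgroup.map_injective (f := f.toMonoidHom) f.injective ?_
  rw [h, map_top_of_surjective _ f.surjective]

end Cfsg.Lib.QdSylow

namespace Cfsg.Lib.QdSylow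

open Cfsg.Lib.PLocal

theorem qd_two : Nonempty (↥(Cfsg.qd 2) ≃* Equiv.Perm (Fin 4)) := by
  have hinj : Function.Injective (affineHom 2) := by
    intro g k hgk
    obtain ⟨a, b, c, d, u, v, h, rfl⟩ := exists_qdMk g
    obtain ⟨a', b', c', d', u', v', h', rfl⟩ := exists_qdMk k
    have h0 : affine (qdMk a b c d u v h) (0, 0) = affine (qdMk a' b' c' d' u' v' h') (0, 0) :=
      DFunLike.congr_fun hgk (0, 0)
    have h1 : affine (qdMk a b c d u v h) (1, 0) = affine (qdMk a' b' c' d' u' v' h') (1, 0) :=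
      DFunLike.congr_fun hgk (1, 0)
    have h2 : affine (qdMk a b c d u v h) (0, 1) = affine (qdMk a' b' c' d' u' v' h') (0, 1) :=
      DFunLike.congr_fun hgk (0, 1)
    simp [affine, ent, qdMk] at h0 h1 h2
    obtain ⟨rfl, rfl⟩ := h0
    apply qdMk_congr
    · linear_combination h1.1
    · linear_combination h2.1
    · linear_combination h1.2
    · linear_combination h2.2
    · rfl
    · rfl
  haveI : Finite ↥(Cfsg.qd 2) := Finite.of_injective _ hinj
  have hperm : Nat.card (Equiv.Perm (ZMod 2 × ZMod 2)) = 24 := by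
    rw [Nat.card_eq_fintype_card, Fintype.card_perm]
    rfl
  have hge : 24 ≤ Nat.card ↥(Cfsg.qd 2) := by
    let F : {t : (ZMod 2 × ZMod 2) × (ZMod 2 × ZMod 2) × (ZMod 2 × ZMod 2) //
        t.1.1 * t.2.1.2 - t.1.2 * t.2.1.1 = 1} → ↥(Cfsg.qd 2) :=
      fun t => qdMk t.1.1.1 t.1.1.2 t.1.2.1.1 t.1.2.1.2 t.1.2.2.1 t.1.2.2.2 t.2
    have hF : Function.Injective F := by
      rintro ⟨⟨⟨a, b⟩, ⟨c, d⟩, ⟨u, v⟩⟩, h⟩ ⟨⟨⟨a', b'⟩, ⟨c', d'⟩, ⟨u', v'⟩⟩, h'⟩ hF
      obtain ⟨rfl, rfl, rfl, rfl, rfl, rfl⟩ := qdMk_inj hF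
      rfl
    refine le_trans (le_of_eq ?_) (Nat.card_le_card_of_injective F hF)
    rw [Nat.card_eq_fintype_card]
    decide
  have hbij : Function.Bijective (affineHom 2) := by
    refine (Nat.bijective_iff_injective_and_card _).2 ⟨hinj, ?_⟩
    have := Nat.card_le_card_of_injective _ hinj
    rw [hperm] at this ⊢
    omega
  exact ⟨(MulEquiv.ofBijective (affineHom 2) hbij).trans
    (Fintype.equivFinOfCardEq (show Fintype.card (ZMod 2 × ZMod 2) = 4 from rfl)).permCongrHom⟩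

end Cfsg.Lib.QdSylow
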