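import Mathlib
import Cfsg.Agent.Lib.PLocal.ZJ
import Cfsg.Agent.Lib.PLocal.StrongControlInd

/-!
Glauberman's normality theorem relative to a strongly closed subgroup of a Sylow subgroup.
-/

set_option autoImplicit false

open scoped Classical commutatorElement

namespace Cfsg.Lib.PLocal

open Cfsg

variable {G : Type*} [Group G]

/-- Glauberman: `B ⊓ Z(J(S))` is normal. -/
theorem inf_zF_normal_closed [Finite G] {p : ℕ} [Fact p.Prime] (hp2 : p ≠ 2) {P : Subgroup G → Prop}
    (hab : ∀ A, P A → Ab A) (hexp : ∀ A A' : Subgroup G, P A → Ab A' → Nat.card A' = Nat.card A →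
      Monoid.exponent A' ∣ Monoid.exponent A → P A')
    (hconj : ∀ (g : G) (A : Subgroup G), P A ↔ P (A.map (MulAut.conj g).toMonoidHom)) (hbot : P ⊥)
    (S : Sylow p G) (D : Subgroup G) (hD : Cfsg.IsStronglyClosed D (S : Subgroup G))
    (hst : StableFor p (S : Subgroup G)) :
    ∀ (B : Subgroup G), B.Normal → IsPGroup p B → B ≤ D → (B ⊓ zF P D).Normal := by
  intro B
  induction hn : Nat.card B using Nat.strong_induction_on generalizing B with
  | _ n ih =>
  intro hBn hBp hBD
  subst hn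
  have hDp : IsPGroup p D := S.isPGroup'.to_le hD.1
  set Z := zF P D
  set Z' := B ⊓ Z with hZ'
  have hBS : B ≤ S := (Transfer.le_pCore hBn hBp).trans (Transfer.pCore_le_sylow S)
  have hSZ : (S : Subgroup G) ≤ Subgroup.normalizer (Z : Set G) :=
    (stronglyClosed_le_normalizer hD).trans (normalizer_le_zF hconj hbot _)
  set B1 := Subgroup.normalClosure (Z' : Set G) with hB1
  have hB1B : B1 ≤ B := Subgroup.normalClosure_le_normal (fun x hx => hx.1)
  rcases eq_or_lt_of_le hB1B with hB1e | hlt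
  swap
  · have e : B1 ⊓ Z = Z' := le_antisymm (inf_le_inf_right Z hB1B)
      (le_inf Subgroup.le_normalClosure inf_le_right)
    rw [← e]
    refine ih _ ?_ B1 rfl Subgroup.normalClosure_normal (hBp.to_le hB1B) (hB1B.trans hBD)
    exact lt_of_le_of_ne (Subgroup.card_le_of_le hB1B) fun e => hlt.ne (Subgroup.eq_of_le_of_card_ge hB1B e.ge)
  by_cases hne : B = ⊥
  · rw [show Z' = ⊥ by rw [hZ', hne, bot_inf_eq]]; infer_instance
  by_cases hBZ : B ≤ Z
  · rw [hZ', inf_eq_left.2 hBZ]; exact hBn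
  have hlt' := commutator_lt_self hBp hne
  have hW : (⁅B, B⁆ ⊓ Z).Normal := by
    refine ih _ ?_ _ rfl (Subgroup.commutator_normal B B) (hBp.to_le hlt'.le) (hlt'.le.trans hBD)
    exact lt_of_le_of_ne (Subgroup.card_le_of_le hlt'.le) fun e => hlt'.ne (Subgroup.eq_of_le_of_card_ge hlt'.le e.ge)
  have hBB : ⁅B, B⁆ ≤ ⁅B, B⁆ ⊓ Z := by
    have := commutator_le_of_normalClosure (X := Z') (B := B) (W := ⁅B, B⁆ ⊓ Z)
      (le_inf (Subgroup.commutator_mono inf_le_left le_rfl) ((Subgroup.commutator_mono inf_le_right le_rfl).trans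
        (commutator_le_of_le_normalizer (hBS.trans hSZ) le_rfl)))
    rwa [← hB1, hB1e] at this
  have hBBZ : ⁅B, B⁆ ≤ Z := hBB.trans inf_le_right
  have hclass : B ≤ Subgroup.centralizer ((⁅B, B⁆ : Subgroup G) : Set G) := by
    have h : Subgroup.normalClosure (Z' : Set G) ≤ Subgroup.centralizer ((⁅B, B⁆ : Subgroup G) : Set G) :=
      Subgroup.normalClosure_le_normal fun x hx => Subgroup.mem_centralizer_iff.2 fun y hy =>
        zF_ab hab hbot _ y (hBBZ hy) x hx.2
    rwa [← hB1, hB1e] at h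
  obtain ⟨U, hU, hBU⟩ : ∃ U ∈ maxF P D, ¬ B ≤ U := by
    by_contra hc
    push Not at hc
    exact hBZ (le_sInf hc)
  obtain ⟨A, hA, hnA, hBA⟩ := exists_normalized hp2 hab hexp hDp hBD
    ⟨U, hU, hBBZ.trans (sInf_le hU), hBU⟩
  set C := Subgroup.centralizer (B : Set G)
  haveI : C.Normal := inferInstance
  haveI := Transfer.pCore_normal (G := G ⧸ C) p
  set L := (pCore p (G ⧸ C)).comap (QuotientGroup.mk' C) with hL
  haveI : L.Normal := Subgroup.Normal.comap inferInstance _
  have hAL : A ≤ L := fun a ha => by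
    refine hst B hBp a (hD.1 (hA.1 ha)) ?_
    have h1 : Subgroup.zpowers a ≤ A := Subgroup.zpowers_le.2 ha
    refine le_bot_iff.1 ((Subgroup.commutator_mono (Subgroup.commutator_mono le_rfl h1) h1).trans ?_)
    rw [le_bot_iff, Subgroup.commutator_eq_bot_iff_le_centralizer]
    refine le_trans ?_ (fun x hx => Subgroup.mem_centralizer_iff.2 fun y hy => hab A hA.2.1 y hy x hx)
    rw [Subgroup.commutator_comm]
    exact commutator_le_of_le_normalizer hBA le_rfl
  obtain ⟨Q, hQ⟩ := Solv.sylow_inf_subnormal (H := L) (Subgroup.Normal.isSubnormal inferInstance) S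
  set T := (S : Subgroup G) ⊓ L with hT
  have hQT : (Q : Subgroup L).map L.subtype = T := by
    rw [hQ, Subgroup.subgroupOf_map_subtype]
  have hfr : Subgroup.normalizer (T : Set G) ⊔ L = ⊤ := by
    rw [← hQT]; exact Q.normalizer_sup_eq_top
  have hLCT : L ≤ C ⊔ T := by
    intro x hx
    have hC : C ≤ L := fun c hc => by
      show QuotientGroup.mk' C c ∈ pCore p (G ⧸ C)
      rw [(QuotientGroup.eq_one_iff c).2 hc |> fun h => (show QuotientGroup.mk' C c = 1 from h)]
      exact one_mem _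
    obtain ⟨n, hn⟩ := IsPGroup.iff_card.1 (Transfer.pCore_isPGroup (G := G ⧸ C) p)
    have h1 : C.relIndex L = p ^ n := by
      have hk := Subgroup.relIndex_ker (QuotientGroup.mk' C) (K := L)
      rw [QuotientGroup.ker_mk'] at hk
      rw [hk, hL, Subgroup.map_comap_eq_self_of_surjective (QuotientGroup.mk'_surjective C), hn]
    have hCT : C ⊔ T ≤ L := sup_le hC inf_le_right
    have h2 : (C ⊔ T).relIndex L ∣ p ^ n := h1 ▸ Subgroup.relIndex_dvd_of_le_left L le_sup_left
    have h3 : (C ⊔ T).relIndex L ∣ T.relIndex L := Subgroup.relIndex_dvd_of_le_left L le_sup_right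
    have h4 : ¬ p ∣ T.relIndex L := by
      have := Q.not_dvd_index
      rwa [hQ, ← Subgroup.relIndex, ← Subgroup.inf_relIndex_right] at this
    obtain ⟨k, -, hk⟩ := (Nat.dvd_prime_pow (Fact.out (p := p.Prime))).1 h2
    rcases Nat.eq_zero_or_pos k with rfl | hk0
    · exact Subgroup.relIndex_eq_one.1 (by rw [hk, pow_zero]) hx
    · exact absurd ((dvd_pow_self p hk0.ne').trans (hk ▸ h3)) h4
  set T' := D ⊓ L with hT'
  have hmono : Z ≤ zF P T' := zF_mono inf_le_left hA (le_inf hA.1 hAL)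
  have hNT : Subgroup.normalizer (T : Set G) ≤ Subgroup.normalizer (zF P T' : Set G) := by
    refine le_trans (fun n hn => ?_) (normalizer_le_zF hconj hbot T')
    refine mem_normalizer_of_conj_le fun d hd => ?_
    have h1 : n * d * n⁻¹ ∈ T := (Subgroup.mem_normalizer_iff.1 hn d).1 ⟨hD.1 hd.1, hd.2⟩
    exact ⟨hD.2 d hd.1 n h1.1, h1.2⟩
  set Z1 := B ⊓ zF P T'
  have hgen : (Subgroup.normalizer (T : Set G)) ⊔ C = ⊤ := by
    rw [eq_top_iff, ← hfr]
    refine sup_le le_sup_left (hLCT.trans (sup_le le_sup_right ?_))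
    exact Subgroup.le_normalizer.trans le_sup_left
  have hBZ1 : B ≤ Z1 := by
    rw [← hB1e]
    show Subgroup.closure _ ≤ _
    rw [Subgroup.closure_le]
    intro y hy
    obtain ⟨x, hx, hxy⟩ := Group.mem_conjugatesOfSet_iff.1 hy
    obtain ⟨g, rfl⟩ := isConj_iff.1 hxy
    obtain ⟨u, hu, c, hc, rfl⟩ := Subgroup.mem_sup_of_normal_right.1 (hgen ▸ Subgroup.mem_top g)
    have e : c * x * c⁻¹ = x := by
      rw [← Subgroup.mem_centralizer_iff.1 hc x hx.1, mul_inv_cancel_right]
    rw [show u * c * x * (u * c)⁻¹ = u * (c * x * c⁻¹) * u⁻¹ by group, e]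
    exact ⟨hBn.conj_mem x hx.1 u, (Subgroup.mem_normalizer_iff.1 (hNT hu) x).1 (hmono hx.2)⟩
  exfalso
  refine hnA (hBZ1.trans (inf_le_right.trans (sInf_le ⟨le_inf hA.1 hAL, hA.2.1, fun X hX hPX => ?_⟩)))
  exact hA.2.2 X (hX.trans inf_le_left) hPX

/-- `Z(J(S))` is normal when the `p`-core contains its centralizer. -/
theorem zF_normal_closed [Finite G] {p : ℕ} [Fact p.Prime] (hp2 : p ≠ 2) {P : Subgroup G → Prop}
    (hab : ∀ A, P A → Ab A) (hexp : ∀ A A' : Subgroup G, P A → Ab A' → Nat.card A' = Nat.card A →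
      Monoid.exponent A' ∣ Monoid.exponent A → P A')
    (hconj : ∀ (g : G) (A : Subgroup G), P A ↔ P (A.map (MulAut.conj g).toMonoidHom)) (hbot : P ⊥)
    (hc : Subgroup.centralizer (pCore p G : Set G) ≤ pCore p G)
    (S : Sylow p G) (D : Subgroup G) (hD : Cfsg.IsStronglyClosed D (S : Subgroup G))
    (hst : StableFor p (S : Subgroup G)) : (zF P D).Normal := by
  set Z := zF P D
  haveI := Transfer.pCore_normal (G := G) p
  set O := pCore p G
  have hOp : IsPGroup p O := Transfer.pCore_isPGroup p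
  suffices hZO : Z ≤ O by
    have hB := inf_normal_of_stronglyClosed hD O (Transfer.pCore_le_sylow S)
    have := inf_zF_normal_closed hp2 hab hexp hconj hbot S D hD hst (O ⊓ D) hB
      (hOp.to_le inf_le_left) inf_le_right
    rwa [inf_eq_right.2 (le_inf hZO (zF_le hbot _))] at this
  intro a ha
  have hOS : O ≤ S := Transfer.pCore_le_sylow S
  have hSZ : (S : Subgroup G) ≤ Subgroup.normalizer (Z : Set G) :=
    (stronglyClosed_le_normalizer hD).trans (normalizer_le_zF hconj hbot _)
  have h1 : Subgroup.zpowers a ≤ Z := Subgroup.zpowers_le.2 ha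
  have hq : ⁅⁅O, Subgroup.zpowers a⁆, Subgroup.zpowers a⁆ = ⊥ := by
    refine le_bot_iff.1 ((Subgroup.commutator_mono (Subgroup.commutator_mono le_rfl h1) h1).trans ?_)
    rw [le_bot_iff, Subgroup.commutator_eq_bot_iff_le_centralizer]
    refine le_trans ?_ (fun x hx => Subgroup.mem_centralizer_iff.2 fun y hy => zF_ab hab hbot _ y hy x hx)
    rw [Subgroup.commutator_comm]
    exact commutator_le_of_le_normalizer (hOS.trans hSZ) le_rfl
  have hmem := hst O hOp a (hD.1 (zF_le hbot _ ha)) hq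
  set C := Subgroup.centralizer (O : Set G)
  haveI := Transfer.pCore_normal (G := G ⧸ C) p
  set L := (pCore p (G ⧸ C)).comap (QuotientGroup.mk' C)
  have hLp : IsPGroup p L := by
    refine (Transfer.pCore_isPGroup (G := G ⧸ C) p).comap_of_ker_isPGroup _ ?_
    rw [QuotientGroup.ker_mk']; exact hOp.to_le hc
  exact Transfer.le_pCore (Subgroup.Normal.comap inferInstance _) hLp hmem

end Cfsg.Lib.PLocal
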