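import Mathlib

/-!
# Alternating subgroups of degree four in `GL₂(ℤ/2ᵏℤ)`
-/

set_option autoImplicit false
set_option linter.unusedSectionVars false

namespace Cfsg.Lib.A4GL

open Matrix

theorem gen_data : ∃ a r : ↥(alternatingGroup (Fin 4)), a * a = 1 ∧ a ≠ 1 ∧ r * r * r = 1 ∧ r ≠ 1 ∧
    (r * a * r⁻¹) * a = a * (r * a * r⁻¹) ∧ a * (r * a * r⁻¹) = (r * r) * a * (r * r)⁻¹ ∧
    ∀ g, ∃ (i j : Fin 2) (l : Fin 3), g = a ^ i.val * (r * a * r⁻¹) ^ j.val * r ^ l.val := by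
  decide +kernel

theorem order_three_mat : ∀ x : Matrix (Fin 2) (Fin 2) (ZMod 2), x * x * x = 1 → x ≠ 1 →
    x * x + x + 1 = 0 ∧ x 1 0 = 1 := by
  decide +kernel

theorem idempotent_zero : ∀ w : Matrix (Fin 2) (Fin 2) (ZMod 2),
    w * w + w = 0 →
    w + !![0, -1; 1, -1] * w * !![-1, 1; -1, 0] + !![-1, 1; -1, 0] * w * !![0, -1; 1, -1] = 0 → w = 0 := by
  decide +kernel

theorem norm_zero_orbit : ∀ u x : Matrix (Fin 2) (Fin 2) (ZMod 2),
    u + !![0, -1; 1, -1] * u * !![-1, 1; -1, 0] + !![-1, 1; -1, 0] * u * !![0, -1; 1, -1] = 0 →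
    x + !![0, -1; 1, -1] * x * !![-1, 1; -1, 0] + !![-1, 1; -1, 0] * x * !![0, -1; 1, -1] = 0 →
    u ≠ 0 → x ≠ 0 →
    x = u ∨ x = !![0, -1; 1, -1] * u * !![-1, 1; -1, 0] ∨ x = !![-1, 1; -1, 0] * u * !![0, -1; 1, -1] := by
  decide +kernel

variable {k : ℕ}

/-- Reduction modulo two. -/
noncomputable def red (hk : 1 ≤ k) : ZMod (2 ^ k) →+* ZMod 2 :=
  ZMod.castHom (dvd_pow_self 2 (by omega)) (ZMod 2)

theorem red_zero_iff (hk : 1 ≤ k) (x : ZMod (2 ^ k)) : red hk x = 0 ↔ ∃ y, x = 2 * y := by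
  haveI : NeZero (2 ^ k) := ⟨by positivity⟩
  constructor
  · intro h
    rw [← ZMod.natCast_zmod_val x, map_natCast, ZMod.natCast_eq_zero_iff] at h
    obtain ⟨y, hy⟩ := h
    exact ⟨(y : ZMod (2 ^ k)), by rw [← ZMod.natCast_zmod_val x, hy]; push_cast; rfl⟩
  · rintro ⟨y, rfl⟩
    rw [map_mul, map_ofNat]
    rw [show (OfNat.ofNat 2 : ZMod 2) = 0 from rfl, zero_mul]

theorem isUnit_of_red (hk : 1 ≤ k) {x : ZMod (2 ^ k)} (h : red hk x = 1) : IsUnit x := by
  obtain ⟨y, hy⟩ := (red_zero_iff hk (x - 1)).1 (by rw [map_sub, h, map_one, sub_self])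
  have h2 : IsNilpotent ((2 : ZMod (2 ^ k)) * y) := by
    refine ⟨k, ?_⟩
    rw [mul_pow, show (2 : ZMod (2 ^ k)) ^ k = ((2 ^ k : ℕ) : ZMod (2 ^ k)) by push_cast; rfl,
      ZMod.natCast_self, zero_mul]
  rw [show x = 2 * y + 1 by linear_combination hy]
  exact h2.isUnit_add_one

/-- Reduction of matrices. -/
noncomputable def redM (hk : 1 ≤ k) :
    Matrix (Fin 2) (Fin 2) (ZMod (2 ^ k)) →+* Matrix (Fin 2) (Fin 2) (ZMod 2) :=
  (red hk).mapMatrix

theorem redM_zero_iff (hk : 1 ≤ k) (X : Matrix (Fin 2) (Fin 2) (ZMod (2 ^ k))) :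
    redM hk X = 0 ↔ ∃ Y, X = (2 : ZMod (2 ^ k)) • Y := by
  constructor
  · intro h
    have : ∀ i j, ∃ y, X i j = 2 * y := fun i j => (red_zero_iff hk _).1 (congrFun (congrFun h i) j)
    choose Y hY using this
    exact ⟨Matrix.of Y, by ext i j; exact hY i j⟩
  · rintro ⟨Y, rfl⟩
    ext i j
    exact (red_zero_iff hk _).2 ⟨Y i j, rfl⟩

theorem isUnit_of_redM (hk : 1 ≤ k) {X : Matrix (Fin 2) (Fin 2) (ZMod (2 ^ k))}
    (h : redM hk X = 1) : IsUnit X := by
  rw [Matrix.isUnit_iff_isUnit_det]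
  refine isUnit_of_red hk ?_
  rw [RingHom.map_det]
  show Matrix.det (redM hk X) = 1
  rw [h, Matrix.det_one]

theorem eq_zero_of_mul (hk : 1 ≤ k) {X Y : Matrix (Fin 2) (Fin 2) (ZMod (2 ^ k))}
    (h : redM hk Y = 1) (hXY : X * Y = 0) : X = 0 :=
  (isUnit_of_redM hk h).mul_left_eq_zero.1 hXY

theorem redM_zero_of_smul (hk : 1 ≤ k) {j : ℕ} (hj : j < k) {X : Matrix (Fin 2) (Fin 2) (ZMod (2 ^ k))}
    (h : (2 : ZMod (2 ^ k)) ^ j • X = 0) : redM hk X = 0 := by
  haveI : NeZero (2 ^ k) := ⟨by positivity⟩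
  ext a b
  have h2 : (2 : ZMod (2 ^ k)) ^ j * X a b = 0 := congrFun (congrFun h a) b
  show red hk (X a b) = 0
  rw [← ZMod.natCast_zmod_val (X a b)] at h2
  have h3 : ((2 ^ j * (X a b).val : ℕ) : ZMod (2 ^ k)) = 0 := by push_cast; exact h2
  rw [ZMod.natCast_eq_zero_iff] at h3
  rw [← ZMod.natCast_zmod_val (X a b), map_natCast, ZMod.natCast_eq_zero_iff]
  have h4 : 2 ^ j * 2 ∣ 2 ^ j * (X a b).val :=
    (dvd_trans (dvd_of_eq (pow_succ 2 j).symm) (pow_dvd_pow 2 hj)).trans h3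
  exact Nat.dvd_of_mul_dvd_mul_left (by positivity) h4

/-- An element of order dividing three congruent to one is trivial. -/
theorem eq_one_of_cube (hk : 1 ≤ k) {X : Matrix (Fin 2) (Fin 2) (ZMod (2 ^ k))}
    (h3 : X * X * X = 1) (h : redM hk X = 1) : X = 1 := by
  refine sub_eq_zero.1 (eq_zero_of_mul hk (X := X - 1) (Y := X * X + X + 1) ?_ ?_)
  · rw [map_add, map_add, map_mul, h, map_one, mul_one]
    ext i j
    fin_cases i <;> fin_cases j <;> decide
  · rw [show (X - 1) * (X * X + X + 1) = X * X * X - 1 by noncomm_ring, h3, sub_self]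

/-- The companion matrix. -/
def C (k : ℕ) : Matrix (Fin 2) (Fin 2) (ZMod (2 ^ k)) := !![0, -1; 1, -1]

/-- Its inverse. -/
def C' (k : ℕ) : Matrix (Fin 2) (Fin 2) (ZMod (2 ^ k)) := !![-1, 1; -1, 0]

theorem redM_C (hk : 1 ≤ k) : redM hk (C k) = !![0, -1; 1, -1] := by
  ext i j
  fin_cases i <;> fin_cases j <;> simp [redM, C, RingHom.mapMatrix_apply]

theorem redM_C' (hk : 1 ≤ k) : redM hk (C' k) = !![-1, 1; -1, 0] := by
  ext i j
  fin_cases i <;> fin_cases j <;> simp [redM, C', RingHom.mapMatrix_apply]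

theorem C_mul_C' : C k * C' k = 1 := by
  ext i j; fin_cases i <;> fin_cases j <;> simp [C, C', Matrix.mul_apply, Fin.sum_univ_two]

theorem C_mul_C : C k * C k = C' k := by
  ext i j; fin_cases i <;> fin_cases j <;> simp [C, C', Matrix.mul_apply, Fin.sum_univ_two]

/-- The involutions attached to `C`. -/
theorem involution_form (hk : 2 ≤ k) (A : Matrix (Fin 2) (Fin 2) (ZMod (2 ^ k)))
    (hA2 : A * A = 1) (hA1 : A ≠ 1) (hAr : redM (by omega : 1 ≤ k) A = 1)
    (hB : A * (C k * A * C' k) = C' k * A * C k) :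
    ∃ u, A = 1 + (2 : ZMod (2 ^ k)) ^ (k - 1) • u ∧ redM (by omega : 1 ≤ k) u ≠ 0 ∧
      redM (by omega : 1 ≤ k) u + !![0, -1; 1, -1] * redM (by omega : 1 ≤ k) u * !![-1, 1; -1, 0] +
        !![-1, 1; -1, 0] * redM (by omega : 1 ≤ k) u * !![0, -1; 1, -1] = 0 := by
  have hk1 : 1 ≤ k := by omega
  obtain ⟨w, hw⟩ := (redM_zero_iff hk1 (A - 1)).1 (by rw [map_sub, hAr, map_one, sub_self])
  have hA : A = 1 + (2 : ZMod (2 ^ k)) • w := by rw [← hw]; abel
  have h2k : (2 : ZMod (2 ^ k)) ^ k = 0 := by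
    rw [show (2 : ZMod (2 ^ k)) ^ k = ((2 ^ k : ℕ) : ZMod (2 ^ k)) by push_cast; rfl, ZMod.natCast_self]
  -- divisibility by `2 ^ i`
  have hdiv : ∀ i, i + 2 ≤ k → ∃ u, A = 1 + (2 : ZMod (2 ^ k)) ^ (i + 1) • u := by
    intro i
    induction i with
    | zero => exact fun _ => ⟨w, by rw [hA, pow_one]⟩
    | succ i ih =>
      intro hi
      obtain ⟨u, hu⟩ := ih (by omega)
      suffices hr : redM hk1 u = 0 by
        obtain ⟨y, rfl⟩ := (redM_zero_iff hk1 u).1 hr
        exact ⟨y, by rw [hu, smul_smul, ← pow_succ]⟩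
      have hsq : redM hk1 (u + (2 : ZMod (2 ^ k)) ^ i • (u * u)) = 0 := by
        refine redM_zero_of_smul hk1 (j := i + 2) (by omega) ?_
        have hX := hA2
        rw [hu] at hX
        simp only [mul_add, add_mul, one_mul, mul_one, smul_mul_assoc, mul_smul_comm, smul_smul] at hX
        rw [add_assoc, add_eq_left] at hX
        rw [← hX]
        match_scalars <;> ring
      have h2i : ∀ (n : ℕ) (X : Matrix (Fin 2) (Fin 2) (ZMod (2 ^ k))),
          redM hk1 ((2 : ZMod (2 ^ k)) ^ (n + 1) • X) = 0 := fun n X =>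
        (redM_zero_iff hk1 _).2 ⟨(2 : ZMod (2 ^ k)) ^ n • X, by rw [smul_smul, ← pow_succ']⟩
      cases i with
      | zero =>
        set P := C k * u * C' k with hPdef
        set P' := C' k * u * C k with hPdef'
        have hP : C k * A * C' k = 1 + (2 : ZMod (2 ^ k)) ^ 1 • P := by
          rw [hu]
          simp only [mul_add, add_mul, mul_one, mul_smul_comm, smul_mul_assoc, C_mul_C', P]
        have hP' : C' k * A * C k = 1 + (2 : ZMod (2 ^ k)) ^ 1 • P' := by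
          rw [hu]
          simp only [mul_add, add_mul, mul_one, mul_smul_comm, smul_mul_assoc, mul_eq_one_comm.1 C_mul_C', P']
        have hn : redM hk1 (u + P + (2 : ZMod (2 ^ k)) ^ 1 • (u * P) - P') = 0 := by
          refine redM_zero_of_smul hk1 (j := 1) (by omega) ?_
          have e := hB
          rw [hP, hP', hu] at e
          simp only [mul_add, add_mul, one_mul, mul_one, smul_mul_assoc, mul_smul_comm, smul_smul] at e
          rw [← sub_eq_zero] at e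
          rw [← e]
          match_scalars <;> ring
        rw [map_sub, map_add, map_add, h2i, add_zero] at hn
        simp only [P, P', map_mul, redM_C, redM_C'] at hn
        simp only [pow_zero, one_smul, map_add, map_mul] at hsq
        refine idempotent_zero _ (by rw [add_comm]; exact hsq) ?_
        have hchar : ∀ x y : Matrix (Fin 2) (Fin 2) (ZMod 2), x - y = 0 → x + y = 0 := by decide +kernel
        exact hchar _ _ hn
      | succ n =>
        rw [map_add, h2i, add_zero] at hsq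
        exact hsq
  obtain ⟨u, hu⟩ := hdiv (k - 2) (by omega)
  rw [show k - 2 + 1 = k - 1 by omega] at hu
  refine ⟨u, hu, fun h0 => hA1 ?_, ?_⟩
  · obtain ⟨y, rfl⟩ := (redM_zero_iff hk1 u).1 h0
    rw [hu, smul_smul, ← pow_succ, show k - 1 + 1 = k by omega, h2k, zero_smul, add_zero]
  · set P := C k * u * C' k
    set P' := C' k * u * C k
    have hsum : (2 : ZMod (2 ^ k)) ^ (k - 1) • (u + P + P') = 0 := by
      have hP : C k * A * C' k = 1 + (2 : ZMod (2 ^ k)) ^ (k - 1) • P := by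
        rw [hu]
        simp only [mul_add, add_mul, mul_one, mul_smul_comm, smul_mul_assoc, C_mul_C', P]
      have hP' : C' k * A * C k = 1 + (2 : ZMod (2 ^ k)) ^ (k - 1) • P' := by
        rw [hu]
        simp only [mul_add, add_mul, mul_one, mul_smul_comm, smul_mul_assoc, mul_eq_one_comm.1 C_mul_C', P']
      have h0 : ∀ X : Matrix (Fin 2) (Fin 2) (ZMod (2 ^ k)),
          (2 : ZMod (2 ^ k)) ^ (k - 1) • ((2 : ZMod (2 ^ k)) ^ (k - 1) • X) = 0 := fun X => by
        rw [smul_smul, ← pow_add, show k - 1 + (k - 1) = k + (k - 2) by omega, pow_add, h2k, zero_mul, zero_smul]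
      have h2 : ∀ X : Matrix (Fin 2) (Fin 2) (ZMod (2 ^ k)),
          (2 : ZMod (2 ^ k)) ^ (k - 1) • X + (2 : ZMod (2 ^ k)) ^ (k - 1) • X = 0 := fun X => by
        rw [← two_smul (ZMod (2 ^ k)), smul_smul, ← pow_succ', show k - 1 + 1 = k by omega, h2k, zero_smul]
      have e : A * (C k * A * C' k) = 1 + (2 : ZMod (2 ^ k)) ^ (k - 1) • (u + P) := by
        rw [hP, hu]
        simp only [mul_add, add_mul, one_mul, mul_one, smul_mul_assoc, mul_smul_comm, h0, smul_add]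
        abel
      rw [hB, hP'] at e
      rw [smul_add, ← add_left_cancel e]
      exact h2 P'
    have hr : redM hk1 (u + P + P') = 0 := redM_zero_of_smul hk1 (by omega) hsum
    simpa only [P, P', map_add, map_mul, redM_C, redM_C'] using hr

/-- A conjugate generated by `C` and one of the involutions. -/
theorem normal_form (hk : 2 ≤ k) (H : Subgroup (GL (Fin 2) (ZMod (2 ^ k))))
    (h : Nonempty (↥H ≃* ↥(alternatingGroup (Fin 4)))) :
    ∃ (g a r : GL (Fin 2) (ZMod (2 ^ k))) (u : Matrix (Fin 2) (Fin 2) (ZMod (2 ^ k))),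
      H.map (MulAut.conj g).toMonoidHom = Subgroup.closure {a, r} ∧ (r : Matrix _ _ _) = C k ∧
      (a : Matrix _ _ _) = 1 + (2 : ZMod (2 ^ k)) ^ (k - 1) • u ∧
      redM (by omega : 1 ≤ k) u ≠ 0 ∧
      redM (by omega : 1 ≤ k) u + !![0, -1; 1, -1] * redM (by omega : 1 ≤ k) u * !![-1, 1; -1, 0] +
        !![-1, 1; -1, 0] * redM (by omega : 1 ≤ k) u * !![0, -1; 1, -1] = 0 := by
  obtain ⟨e⟩ := h
  have hk1 : 1 ≤ k := by omega
  obtain ⟨a₀, r₀, ha2, ha1, hr3, hr1, -, hab, hgen⟩ := gen_data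
  set ψ : ↥(alternatingGroup (Fin 4)) →* GL (Fin 2) (ZMod (2 ^ k)) := H.subtype.comp e.symm.toMonoidHom with hψ
  have hψi : Function.Injective ψ := H.subtype_injective.comp e.symm.injective
  set R := ((ψ r₀ : GL (Fin 2) (ZMod (2 ^ k))) : Matrix (Fin 2) (Fin 2) (ZMod (2 ^ k))) with hR
  have hR3 : R * R * R = 1 := by
    rw [hR, ← Units.val_mul, ← Units.val_mul, ← map_mul, ← map_mul, hr3, map_one, Units.val_one]
  have hRne : redM hk1 R ≠ 1 := fun h => hr1 (hψi (by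
    rw [map_one]; exact Units.ext (eq_one_of_cube hk1 hR3 h)))
  obtain ⟨hRq, hR10⟩ := order_three_mat _ (by rw [← map_mul, ← map_mul, hR3, map_one]) hRne
  have hquad : R * R + R + 1 = 0 := by
    have h1 : (R * R + R + 1) * (R - 1) = 0 := by
      rw [show (R * R + R + 1) * (R - 1) = R * R * R - 1 by noncomm_ring, hR3, sub_self]
    refine (Matrix.isUnit_iff_isUnit_det _).2 (isUnit_of_red hk1 ?_) |>.mul_left_eq_zero.1 h1
    rw [RingHom.map_det]
    show Matrix.det (redM hk1 (R - 1)) = 1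
    rw [map_sub, map_one]
    have hdec : ∀ x : Matrix (Fin 2) (Fin 2) (ZMod 2), x * x + x + 1 = 0 → Matrix.det (x - 1) = 1 := by
      decide +kernel
    exact hdec _ hRq
  have hu10 : IsUnit (R 1 0) := isUnit_of_red hk1 hR10
  set P : Matrix (Fin 2) (Fin 2) (ZMod (2 ^ k)) := !![1, R 0 0; 0, R 1 0] with hP
  have hPu : IsUnit P := by
    rw [Matrix.isUnit_iff_isUnit_det, hP, Matrix.det_fin_two]
    simpa using hu10
  have hRP : R * P = P * C k := by
    have e00 := congrFun (congrFun hquad 0) 0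
    have e10 := congrFun (congrFun hquad 1) 0
    simp [Matrix.mul_apply, Fin.sum_univ_two] at e00 e10
    ext i j
    fin_cases i <;> fin_cases j <;> simp [hP, C, Matrix.mul_apply, Fin.sum_univ_two]
    · linear_combination e00
    · linear_combination e10
  set g : GL (Fin 2) (ZMod (2 ^ k)) := hPu.unit⁻¹
  set φ : ↥(alternatingGroup (Fin 4)) →* GL (Fin 2) (ZMod (2 ^ k)) := (MulAut.conj g).toMonoidHom.comp ψ with hφ
  have hφi : Function.Injective φ := (MulAut.conj g).injective.comp hψi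
  have hrC : ((φ r₀ : GL (Fin 2) (ZMod (2 ^ k))) : Matrix _ _ _) = C k := by
    show ((g * ψ r₀ * g⁻¹ : GL (Fin 2) (ZMod (2 ^ k))) : Matrix (Fin 2) (Fin 2) (ZMod (2 ^ k))) = _
    rw [show g⁻¹ = hPu.unit from inv_inv _, Units.val_mul, Units.val_mul, IsUnit.unit_spec, ← hR,
      mul_assoc, hRP, ← mul_assoc]
    rw [show ((g : GL (Fin 2) (ZMod (2 ^ k))) : Matrix _ _ _) * P = 1 from IsUnit.val_inv_mul hPu, one_mul]
  have hrC' : (((φ r₀)⁻¹ : GL (Fin 2) (ZMod (2 ^ k))) : Matrix _ _ _) = C' k := by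
    refine Units.inv_eq_of_mul_eq_one_right ?_
    rw [hrC]; exact C_mul_C'
  set A := ((φ a₀ : GL (Fin 2) (ZMod (2 ^ k))) : Matrix (Fin 2) (Fin 2) (ZMod (2 ^ k))) with hA
  have hA2 : A * A = 1 := by rw [hA, ← Units.val_mul, ← map_mul, ha2, map_one, Units.val_one]
  have hA1 : A ≠ 1 := fun h => ha1 (hφi (by rw [map_one]; exact Units.ext h))
  have hrr : (((φ r₀ * φ r₀) : GL (Fin 2) (ZMod (2 ^ k))) : Matrix _ _ _) = C' k := by
    rw [Units.val_mul, hrC, C_mul_C]
  have hrr' : (((φ r₀ * φ r₀)⁻¹ : GL (Fin 2) (ZMod (2 ^ k))) : Matrix _ _ _) = C k := by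
    refine Units.inv_eq_of_mul_eq_one_right ?_
    rw [hrr]; exact mul_eq_one_comm.1 C_mul_C'
  have hB : A * (C k * A * C' k) = C' k * A * C k := by
    have := congrArg (fun x => ((φ x : GL (Fin 2) (ZMod (2 ^ k))) : Matrix (Fin 2) (Fin 2) (ZMod (2 ^ k)))) hab
    simp only [map_mul, map_inv] at this
    rw [Units.val_mul, Units.val_mul, Units.val_mul, Units.val_mul, Units.val_mul, hrC, hrC', hrr, hrr'] at this
    exact this
  have hAr : redM hk1 A = 1 := by
    have hdec : ∀ x : Matrix (Fin 2) (Fin 2) (ZMod 2), x * x = 1 →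
        x * (!![0, -1; 1, -1] * x * !![-1, 1; -1, 0]) = !![-1, 1; -1, 0] * x * !![0, -1; 1, -1] → x = 1 := by
      decide +kernel
    refine hdec _ (by rw [← map_mul, hA2, map_one]) ?_
    have := congrArg (redM hk1) hB
    simpa only [map_mul, redM_C, redM_C'] using this
  obtain ⟨u, hu, hu0, hun⟩ := involution_form hk A hA2 hA1 hAr hB
  refine ⟨g, φ a₀, φ r₀, u, ?_, hrC, hu, hu0, hun⟩
  have hrange : H.map (MulAut.conj g).toMonoidHom = φ.range := by
    rw [hφ, MonoidHom.range_comp, hψ, MonoidHom.range_comp,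
      MonoidHom.range_eq_top.2 e.symm.surjective, ← MonoidHom.range_eq_map, Subgroup.range_subtype]
  rw [hrange]
  refine le_antisymm ?_ ((Subgroup.closure_le _).2 ?_)
  · rintro _ ⟨x, rfl⟩
    obtain ⟨i, j, l, rfl⟩ := hgen x
    simp only [map_mul, map_pow, map_inv]
    refine mul_mem (mul_mem (pow_mem ?_ _) (pow_mem (mul_mem (mul_mem ?_ ?_) (inv_mem ?_)) _)) (pow_mem ?_ _) <;>
      exact Subgroup.subset_closure (by simp)
  · rintro _ (rfl | rfl) <;> exact ⟨_, rfl⟩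

/-- S2874. -/
theorem conjugate (hk : 2 ≤ k) (H₁ H₂ : Subgroup (GL (Fin 2) (ZMod (2 ^ k))))
    (h₁ : Nonempty (↥H₁ ≃* ↥(alternatingGroup (Fin 4)))) (h₂ : Nonempty (↥H₂ ≃* ↥(alternatingGroup (Fin 4)))) :
    ∃ g : GL (Fin 2) (ZMod (2 ^ k)), H₂ = H₁.map (MulAut.conj g).toMonoidHom := by
  obtain ⟨g₁, a₁, r₁, u₁, e₁, hr₁, ha₁, hu₁, hn₁⟩ := normal_form hk H₁ h₁
  obtain ⟨g₂, a₂, r₂, u₂, e₂, hr₂, ha₂, hu₂, hn₂⟩ := normal_form hk H₂ h₂
  have hk1 : 1 ≤ k := by omega
  have key : ∀ (a b r : GL (Fin 2) (ZMod (2 ^ k))) (u v : Matrix (Fin 2) (Fin 2) (ZMod (2 ^ k))),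
      (r : Matrix _ _ _) = C k → (a : Matrix _ _ _) = 1 + (2 : ZMod (2 ^ k)) ^ (k - 1) • u →
      (b : Matrix _ _ _) = 1 + (2 : ZMod (2 ^ k)) ^ (k - 1) • v → redM hk1 u ≠ 0 → redM hk1 v ≠ 0 →
      redM hk1 u + !![0, -1; 1, -1] * redM hk1 u * !![-1, 1; -1, 0] +
        !![-1, 1; -1, 0] * redM hk1 u * !![0, -1; 1, -1] = 0 →
      redM hk1 v + !![0, -1; 1, -1] * redM hk1 v * !![-1, 1; -1, 0] +
        !![-1, 1; -1, 0] * redM hk1 v * !![0, -1; 1, -1] = 0 →
      b ∈ Subgroup.closure ({a, r} : Set (GL (Fin 2) (ZMod (2 ^ k)))) := by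
    intro a b r u v hr ha hb hu hv hnu hnv
    have hr' : ((r⁻¹ : GL (Fin 2) (ZMod (2 ^ k))) : Matrix _ _ _) = C' k :=
      Units.inv_eq_of_mul_eq_one_right (by rw [hr]; exact C_mul_C')
    have hsame : ∀ x y : Matrix (Fin 2) (Fin 2) (ZMod (2 ^ k)), redM hk1 x = redM hk1 y →
        (2 : ZMod (2 ^ k)) ^ (k - 1) • x = (2 : ZMod (2 ^ k)) ^ (k - 1) • y := by
      intro x y hxy
      obtain ⟨z, hz⟩ := (redM_zero_iff hk1 (x - y)).1 (by rw [map_sub, hxy, sub_self])
      rw [← sub_eq_zero, ← smul_sub, hz, smul_smul, ← pow_succ, show k - 1 + 1 = k by omega,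
        show (2 : ZMod (2 ^ k)) ^ k = ((2 ^ k : ℕ) : ZMod (2 ^ k)) by push_cast; rfl, ZMod.natCast_self, zero_smul]
    have ha' : a ∈ Subgroup.closure ({a, r} : Set _) := Subgroup.subset_closure (by simp)
    have hrm : r ∈ Subgroup.closure ({a, r} : Set _) := Subgroup.subset_closure (by simp)
    rcases norm_zero_orbit _ _ hnu hnv hu hv with h | h | h
    · rw [show b = a from Units.ext (by rw [ha, hb, hsame v u h])]; exact ha'
    · rw [show b = r * a * r⁻¹ from Units.ext (by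
        rw [Units.val_mul, Units.val_mul, hr, hr', ha, hb, hsame v (C k * u * C' k)
          (by rw [h, map_mul, map_mul, redM_C, redM_C'])]
        simp only [mul_add, add_mul, mul_one, mul_smul_comm, smul_mul_assoc, C_mul_C'])]
      exact mul_mem (mul_mem hrm ha') (inv_mem hrm)
    · rw [show b = r⁻¹ * a * r from Units.ext (by
        rw [Units.val_mul, Units.val_mul, hr, hr', ha, hb, hsame v (C' k * u * C k)
          (by rw [h, map_mul, map_mul, redM_C, redM_C'])]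
        simp only [mul_add, add_mul, mul_one, mul_smul_comm, smul_mul_assoc, mul_eq_one_comm.1 C_mul_C'])]
      exact mul_mem (mul_mem (inv_mem hrm) ha') hrm
  have hr : r₁ = r₂ := Units.ext (hr₁.trans hr₂.symm)
  subst hr
  have hcl : Subgroup.closure ({a₁, r₁} : Set (GL (Fin 2) (ZMod (2 ^ k)))) = Subgroup.closure {a₂, r₁} := by
    refine le_antisymm ((Subgroup.closure_le _).2 ?_) ((Subgroup.closure_le _).2 ?_)
    · rintro _ (rfl | rfl)
      · exact key a₂ _ r₁ u₂ u₁ hr₁ ha₂ ha₁ hu₂ hu₁ hn₂ hn₁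
      · exact Subgroup.subset_closure (by simp)
    · rintro _ (rfl | rfl)
      · exact key a₁ _ r₁ u₁ u₂ hr₁ ha₁ ha₂ hu₁ hu₂ hn₁ hn₂
      · exact Subgroup.subset_closure (by simp)
  refine ⟨g₂⁻¹ * g₁, ?_⟩
  apply Subgroup.map_injective (MulAut.conj g₂).injective (f := (MulAut.conj g₂).toMonoidHom)
  rw [Subgroup.map_map, e₂, ← hcl, ← e₁]
  congr 1
  ext x : 1
  simp [mul_assoc]

end Cfsg.Lib.A4GL
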