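import Mathlib
import Cfsg.Prelude.Def_LocalStructure
import Cfsg.Prelude.Def_LocalEven
import Cfsg.Prelude.Def_Amalgam
import Cfsg.Agent.Lib.Solv.Cores
import Cfsg.Agent.Lib.Solv.Coprime
import Cfsg.Agent.Lib.Solv.Coprime2
import Cfsg.Agent.Lib.Solv.Subnormal
import Cfsg.Agent.Lib.Transfer.Basic
import Cfsg.Agent.Lib.Transfer.NormalPComplement

/-!
`p`-closed, `p`-irreducible groups and groups minimal over a subgroup.
-/

set_option autoImplicit false

open scoped Pointwise

namespace Cfsg.Lib.PLocal.PIrr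

open Cfsg Subgroup

variable {G : Type*} [Group G] [Finite G] {p : ℕ} [hp : Fact p.Prime]

theorem pCore_normal' : (pCore p G).Normal := Transfer.pCore_normal p

/-- A subnormal `p`-subgroup lies in `O_p`. -/
theorem subnormal_le_pCore {A : Subgroup G} (hA : A.IsSubnormal) (hAp : IsPGroup p A) :
    A ≤ pCore p G := by
  suffices key : ∀ K : Subgroup G, K.IsSubnormal → (pCore p K).map K.subtype ≤ pCore p G by
    refine le_trans ?_ (key A hA)
    intro a ha
    exact ⟨⟨a, ha⟩, Solv.le_pCore (N := (⊤ : Subgroup A)) inferInstance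
      (hAp.of_injective (⊤ : Subgroup A).subtype Subtype.val_injective) (mem_top _), rfl⟩
  intro K hK
  induction hK with
  | top => exact Solv.map_pCore_le (f := (⊤ : Subgroup G).subtype) p (fun g => ⟨⟨g, mem_top g⟩, rfl⟩)
  | step H K hle _ hN ih =>
    refine le_trans ?_ ih
    haveI := hN
    rintro _ ⟨x, hx, rfl⟩
    refine ⟨⟨x, hle x.2⟩, ?_, rfl⟩
    have h1 : ((subgroupOfEquivOfLe hle).symm x) ∈ pCore p ↥(H.subgroupOf K) :=
      Solv.map_pCore_le (f := (subgroupOfEquivOfLe hle).symm.toMonoidHom) p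
        (subgroupOfEquivOfLe hle).symm.surjective ⟨x, hx, rfl⟩
    have h2 := mem_map_of_mem (H.subgroupOf K).subtype h1
    rw [Solv.map_pCore_subgroup] at h2
    exact h2.1

/-- Elements of order prime to `p` lie in every subnormal subgroup of `p`-power index. -/
theorem mem_of_subnormal_index {K : Subgroup G} (hK : K.IsSubnormal) :
    ∀ {k : ℕ}, K.index = p ^ k → ∀ x : G, (orderOf x).Coprime p → x ∈ K := by
  induction hK with
  | top => exact fun _ x _ => mem_top x
  | step H K hle _ hN ih =>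
    intro k hk x hx
    obtain ⟨i, -, hi⟩ := (Nat.dvd_prime_pow hp.out).1 (hk ▸ Subgroup.index_dvd_of_le hle)
    have hxK := ih hi x hx
    obtain ⟨j, -, hj⟩ := (Nat.dvd_prime_pow hp.out).1
      (hk ▸ Subgroup.relIndex_dvd_index_of_le hle)
    haveI := hN
    exact Transfer.pResidual_le_of_index_eq_pow (H.subgroupOf K) hj
      (Transfer.coprime_orderOf_mem_pResidual (x := (⟨x, hxK⟩ : K))
        (by rwa [Subgroup.orderOf_mk]))

/-- A subnormal `p`-group normalizes every subnormal subgroup equal to its `O^p`. -/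
theorem pgroup_normalizes_residual (A B : Subgroup G) (hA : A.IsSubnormal) (hB : B.IsSubnormal)
    (hAp : IsPGroup p A) (hBres : (pResidual p ↥B).map B.subtype = B) :
    A ≤ normalizer (B : Set G) ∧ (pResidual p ↥(A ⊔ B)).map (A ⊔ B).subtype = B := by
  haveI := pCore_normal' (G := G) (p := p)
  set P := pCore p G with hP
  have hAP : A ≤ P := subnormal_le_pCore hA hAp
  set X := B ⊔ P with hX
  have hidx : ∃ k, (B.subgroupOf X).index = p ^ k := by
    have h1 : Nat.card ↥(P ⊓ B) * B.relIndex X = Nat.card P := by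
      have cmul : ∀ {H K : Subgroup G}, H ≤ K → Nat.card H * H.relIndex K = Nat.card K :=
        fun {H K} hle => by
          rw [← relIndex_bot_left, ← relIndex_bot_left]
          exact relIndex_mul_relIndex ⊥ H K bot_le hle
      have e1 : Nat.card B * B.relIndex X = Nat.card X := cmul le_sup_left
      have e2 : Nat.card P * P.relIndex X = Nat.card X := cmul le_sup_right
      have e3 : P.relIndex X = P.relIndex B := relIndex_sup_right B P
      have e4 : Nat.card ↥(P ⊓ B) * P.relIndex B = Nat.card B := by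
        rw [← inf_relIndex_right]
        exact cmul inf_le_right
      have h5 : P.relIndex B * (Nat.card ↥(P ⊓ B) * B.relIndex X) = P.relIndex B * Nat.card P := by
        rw [← mul_assoc, mul_comm _ (Nat.card ↥(P ⊓ B)), e4, e1, ← e2, e3, mul_comm]
      exact mul_left_cancel₀ (Subgroup.index_ne_zero_of_finite) h5
    obtain ⟨n, hn⟩ := IsPGroup.iff_card.1 (Solv.isPGroup_pCore (G := G) p)
    obtain ⟨j, -, hj⟩ := (Nat.dvd_prime_pow hp.out).1
      (hn ▸ Dvd.intro_left _ h1 : B.relIndex X ∣ p ^ n)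
    exact ⟨j, hj⟩
  obtain ⟨k, hk⟩ := hidx
  have hsn : (B.subgroupOf X).IsSubnormal := hB.comap X.subtype
  have hin : ∀ x ∈ X, (orderOf x).Coprime p → x ∈ B := fun x hx hxp =>
    mem_of_subnormal_index hsn hk (⟨x, hx⟩ : X) (by rwa [Subgroup.orderOf_mk])
  have hBn : ∀ a ∈ X, ∀ b ∈ B, a * b * a⁻¹ ∈ B := by
    intro a ha b hb
    rw [← hBres] at hb
    obtain ⟨b, hb', rfl⟩ := hb
    induction hb' using closure_induction with
    | mem y hy =>
      refine hin _ (X.mul_mem (X.mul_mem ha (mem_sup_left y.2)) (X.inv_mem ha)) ?_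
      have h : orderOf (a * (y : G) * a⁻¹) = orderOf y := by
        rw [← Subgroup.orderOf_coe y]
        exact MulEquiv.orderOf_eq (MulAut.conj a) (y : G)
      show (orderOf (a * (y : G) * a⁻¹)).Coprime p
      rw [h]; exact hy
    | one => simp
    | mul y z _ _ iy iz => simpa [mul_assoc] using B.mul_mem iy iz
    | inv y _ iy => simpa [mul_assoc] using B.inv_mem iy
  refine ⟨fun a ha => mem_normalizer_iff.2 fun b => ⟨hBn a (mem_sup_right (hAP ha)) b, fun h => ?_⟩,
    le_antisymm ?_ ?_⟩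
  · have := hBn a⁻¹ (X.inv_mem (mem_sup_right (hAP ha))) _ h
    simpa [mul_assoc] using this
  · rw [pResidual, MonoidHom.map_closure, closure_le]
    rintro _ ⟨x, hx, rfl⟩
    exact hin _ ((sup_le (hAP.trans le_sup_right) le_sup_left : A ⊔ B ≤ X) x.2)
      (show (orderOf (x : G)).Coprime p by rw [Subgroup.orderOf_coe]; exact hx)
  · refine hBres.ge.trans ?_
    rw [pResidual, MonoidHom.map_closure, closure_le]
    rintro _ ⟨x, hx, rfl⟩
    exact ⟨⟨x, mem_sup_right x.2⟩, Transfer.coprime_orderOf_mem_pResidual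
      (by rw [Subgroup.orderOf_mk, Subgroup.orderOf_coe]; exact hx), rfl⟩

/-- A Sylow subgroup is normal iff the group is `p`-closed. -/
theorem isPClosed_iff (P : Sylow p G) : IsPClosed p G ↔ (P : Subgroup G).Normal := by
  refine ⟨fun h => h P, fun h Q => ?_⟩
  haveI := Sylow.unique_of_normal P h
  rw [Subsingleton.elim Q P]
  exact h

theorem isPClosed_iff_pCore : IsPClosed p G ↔ ¬ p ∣ (pCore p G).index := by
  obtain ⟨P⟩ : Nonempty (Sylow p G) := inferInstance
  rw [isPClosed_iff P]
  constructor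
  · intro h hd
    have h1 : pCore p G = P := le_antisymm (Transfer.pCore_le_sylow P) (Solv.le_pCore h P.isPGroup')
    exact P.not_dvd_index (h1 ▸ hd)
  · intro h
    set Q := (Solv.isPGroup_pCore (G := G) p).toSylow h
    have := Sylow.unique_of_normal Q (pCore_normal')
    rw [Subsingleton.elim P Q]
    exact pCore_normal'

theorem isPClosed_congr {K : Type*} [Group K] (e : G ≃* K) (h : IsPClosed p G) : IsPClosed p K := by
  haveI : Finite K := Finite.of_equiv G e.toEquiv
  refine isPClosed_iff_pCore.2 fun hd => isPClosed_iff_pCore.1 h (hd.trans ?_)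
  exact (index_dvd_of_le (Solv.map_pCore_le (f := e.toMonoidHom) p e.surjective)).trans
    (index_map_dvd _ e.surjective)

/-- In a normal subgroup, the Sylow subgroup is normal in the group iff the subgroup is `p`-closed. -/
theorem sylow_map_normal {N : Subgroup G} [hN : N.Normal] (h : IsPClosed p ↥N) (P : Sylow p ↥N) :
    ((P : Subgroup N).map N.subtype).Normal := by
  haveI := h P
  haveI : (P : Subgroup N).Characteristic := P.characteristic_of_normal this
  exact ConjAct.normal_of_characteristic_of_normal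

theorem isPClosed_of_normal_sylow {N : Subgroup G} (P : Sylow p ↥N)
    (h : ((P : Subgroup N).map N.subtype).Normal) : IsPClosed p ↥N := by
  refine (isPClosed_iff P).2 ?_
  have := h.comap N.subtype
  rwa [comap_map_eq_self_of_injective N.subtype_injective] at this

theorem isPClosed_sub {N K : Subgroup G} (hNK : N ≤ K) (hn : K ≤ normalizer (N : Set G))
    (h : IsPClosed p ↥K) : IsPClosed p ↥N := by
  obtain ⟨Q⟩ : Nonempty (Sylow p ↥N) := inferInstance
  obtain ⟨P, hP⟩ := (Q.isPGroup'.map (inclusion hNK)).exists_le_sylow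
  haveI := h P
  have hQ : (Q : Subgroup N) = (P : Subgroup K).comap (inclusion hNK) :=
    (Q.is_maximal' (P.isPGroup'.comap_of_injective _ (inclusion_injective hNK))
      (map_le_iff_le_comap.1 hP)).symm
  exact (isPClosed_iff Q).2 (hQ ▸ inferInstance)

/-- Strong irreducibility implies irreducibility. -/
theorem irreducible_of_strongly (hH : IsStronglyPIrreducible p G) : IsPIrreducible p G := by
  refine ⟨hH.1, fun N hN hnc => hH.2 N hN fun hle => hnc ?_⟩
  obtain ⟨P⟩ : Nonempty (Sylow p ↥N) := inferInstance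
  haveI := pCore_normal' (G := G) (p := p)
  have h1 : (pCore p G).subgroupOf N ≤ (P : Subgroup N) :=
    (Solv.le_pCore (N := (pCore p G).subgroupOf N) inferInstance
      (Solv.isPGroup_pCore p).comap_subtype).trans (Transfer.pCore_le_sylow P)
  refine (isPClosed_iff P).2 (Subgroup.Normal.of_commutator_le _ (le_trans ?_ h1))
  intro x hx
  refine hle ((commutator_mono le_rfl le_top : ⁅N, N⁆ ≤ _) ?_)
  rw [← map_subtype_commutator]
  exact mem_map_of_mem _ hx

theorem eq_of_minimalOver {Y : Subgroup G} (h : IsMinimalOver Y) {L₀ : Subgroup G} (hL : IsCoatom L₀)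
    (hYL : Y ≤ L₀) {K : Subgroup G} (hYK : Y ≤ K) (hK : K ≠ ⊤) : K ≤ L₀ := by
  obtain ⟨M, hM, hKM⟩ := (eq_top_or_exists_le_coatom K).resolve_left hK
  rw [h.2.unique ⟨hL, hYL⟩ ⟨hM, hYK.trans hKM⟩]
  exact hKM

theorem not_normal_of_minimalOver {Y T : Subgroup G} (h : IsMinimalOver Y) (hYT : Y ≤ T) (hT : T ≠ ⊤) :
    ¬ T.Normal := fun hn => hT (eq_top_iff.2 (h.1 ▸ normalClosure_le_normal hYT))

theorem irreducible_of_minimalOver (T : Sylow p G) (hmin : IsMinimalOver (T : Subgroup G)) :
    IsPIrreducible p G := by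
  obtain ⟨L₀, ⟨hL₀, hTL⟩, -⟩ := hmin.2
  have hT : (T : Subgroup G) ≠ ⊤ := fun e => hL₀.1 (top_le_iff.1 (e ▸ hTL))
  refine ⟨fun h => not_normal_of_minimalOver hmin le_rfl hT (h T), fun N hN hnc => ?_⟩
  haveI := hN
  obtain ⟨P, hP⟩ : ∃ P : Sylow p ↥N, (P : Subgroup N).map N.subtype = (T : Subgroup G) ⊓ N := by
    obtain ⟨Q, hQ⟩ := Solv.sylow_inf_subnormal hN.isSubnormal T
    exact ⟨Q, hQ ▸ subgroupOf_map_subtype _ _⟩
  have hsup : N ⊔ (T : Subgroup G) = ⊤ := by
    by_contra hne
    have h1 := eq_of_minimalOver hmin hL₀ hTL le_sup_right hne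
    have hNP : normalizer (((P : Subgroup N).map N.subtype : Subgroup G) : Set G) ≠ ⊤ := fun e =>
      hnc (isPClosed_of_normal_sylow P (normalizer_eq_top_iff.1 e))
    have h2 := eq_of_minimalOver hmin hL₀ hTL (K := normalizer _) ?_ hNP
    · exact hL₀.1 (top_le_iff.1 (Sylow.normalizer_sup_eq_top P ▸ sup_le h2 (le_sup_left.trans h1)))
    · rw [hP]
      exact (le_inf le_normalizer le_normalizer_of_normal).trans (fun x hx => by
        rw [← Solv.conj_smul_eq_self_iff, smul_inf, Solv.conj_smul_eq_self_iff.2 hx.1,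
          Solv.conj_smul_eq_self_iff.2 hx.2])
  have hq : IsPGroup p (G ⧸ N) := by
    refine T.isPGroup'.of_surjective ((QuotientGroup.mk' N).comp (T : Subgroup G).subtype) ?_
    rw [← MonoidHom.range_eq_top, MonoidHom.range_comp, range_subtype]
    have := congrArg (Subgroup.map (QuotientGroup.mk' N)) hsup
    rwa [Subgroup.map_sup, QuotientGroup.map_mk'_self, bot_sup_eq,
      map_top_of_surjective _ (QuotientGroup.mk'_surjective N)] at this
  obtain ⟨k, hk⟩ := IsPGroup.iff_card.1 hq
  exact Transfer.pResidual_le_of_index_eq_pow N (k := k) (by rw [index_eq_card, hk])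

theorem minimalOver_quotient (T : Sylow p G) (hmin : IsMinimalOver (T : Subgroup G)) (N : Subgroup G)
    [N.Normal] :
    IsPGroup p (G ⧸ N) ∨ IsMinimalOver ((T : Subgroup G).map (QuotientGroup.mk' N)) := by
  set f := QuotientGroup.mk' N
  have hf : Function.Surjective f := QuotientGroup.mk'_surjective N
  by_cases htop : (T : Subgroup G).map f = ⊤
  · refine Or.inl (T.isPGroup'.of_surjective (f.comp (T : Subgroup G).subtype) ?_)
    rw [← MonoidHom.range_eq_top, MonoidHom.range_comp, range_subtype, htop]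
  right
  have hcoatom : ∀ M : Subgroup (G ⧸ N), IsCoatom M → IsCoatom (M.comap f) := fun M hM => by
    refine ⟨fun e => hM.1 ?_, fun K hK => ?_⟩
    · rw [← map_comap_eq_self_of_surjective hf M, e, map_top_of_surjective f hf]
    · have hNK : f.ker ≤ K := (show f.ker ≤ M.comap f from fun x hx => by
        show f x ∈ M; rw [MonoidHom.mem_ker.1 hx]; exact one_mem M).trans hK.le
      have h1 : M < K.map f := by
        rw [← map_comap_eq_self_of_surjective hf M]
        refine lt_of_le_of_ne (map_mono hK.le) fun e => hK.ne ?_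
        rw [← comap_map_eq_self hNK, ← e, map_comap_eq_self_of_surjective hf M]
      rw [← comap_map_eq_self hNK, hM.2 _ h1, comap_top]
  refine ⟨?_, ?_⟩
  · rw [coe_map, ← Subgroup.map_normalClosure _ f hf, hmin.1, map_top_of_surjective f hf]
  · obtain ⟨M, hM, hle⟩ := (eq_top_or_exists_le_coatom _).resolve_left htop
    refine ⟨M, ⟨hM, hle⟩, fun M' hM' => ?_⟩
    have := hmin.2.unique ⟨hcoatom M' hM'.1, map_le_iff_le_comap.1 hM'.2⟩
      ⟨hcoatom M hM, map_le_iff_le_comap.1 hle⟩
    exact comap_injective hf this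

theorem isPClosed_quotient_iff (D N : Subgroup G) [D.Normal] [hN : N.Normal] (hD : IsPGroup p D) :
    IsPClosed p ↥(N.map (QuotientGroup.mk' D)) ↔ IsPClosed p ↥N := by
  set f := QuotientGroup.mk' D
  have hf : Function.Surjective f := QuotientGroup.mk'_surjective D
  haveI := Subgroup.Normal.map hN f hf
  obtain ⟨P⟩ : Nonempty (Sylow p ↥N) := inferInstance
  let g : ↥N →* ↥(N.map f) := (f.comp N.subtype).codRestrict _ fun x => mem_map_of_mem f x.2
  have hg : Function.Surjective g := by rintro ⟨_, x, hx, rfl⟩; exact ⟨⟨x, hx⟩, rfl⟩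
  constructor
  · intro h
    obtain ⟨Q⟩ : Nonempty (Sylow p ↥(N.map f)) := inferInstance
    haveI := h Q
    have hQp : IsPGroup p ↥((Q : Subgroup _).comap g) := by
      refine Q.isPGroup'.comap_of_ker_isPGroup g ?_
      refine hD.of_injective (⟨⟨fun x => ⟨((x : N) : G), ?_⟩, rfl⟩, fun _ _ => rfl⟩ : g.ker →* D) ?_
      · exact (QuotientGroup.eq_one_iff _).1 (congrArg Subtype.val (MonoidHom.mem_ker.1 x.2))
      · intro a b hab
        exact Subtype.ext (Subtype.ext (show ((a : N) : G) = (b : N) from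
          congrArg (fun z : D => (z : G)) hab))
    refine isPClosed_iff_pCore.2 fun hd => Q.not_dvd_index ?_
    rw [← index_comap_of_surjective _ hg]
    exact hd.trans (index_dvd_of_le (Solv.le_pCore inferInstance hQp))
  · intro h
    haveI := h P
    refine isPClosed_iff_pCore.2 fun hd => P.not_dvd_index ?_
    have hn : ((P : Subgroup N).map g).Normal := Subgroup.Normal.map inferInstance g hg
    exact hd.trans ((index_dvd_of_le (Solv.le_pCore hn (P.isPGroup'.map g))).trans (index_map_dvd _ hg))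

theorem irreducible_quotient_iff (D : Subgroup G) [D.Normal] (hD : IsPGroup p D) :
    (IsPIrreducible p G ↔ IsPIrreducible p (G ⧸ D)) ∧
      (IsStronglyPIrreducible p G ↔ IsStronglyPIrreducible p (G ⧸ D)) := by
  set f := QuotientGroup.mk' D with hf'
  have hf : Function.Surjective f := QuotientGroup.mk'_surjective D
  have hDU : D ≤ pCore p G := Solv.le_pCore inferInstance hD
  have hcl : IsPClosed p (G ⧸ D) ↔ IsPClosed p G := by
    constructor
    · intro h
      refine isPClosed_iff_pCore.2 fun hd => isPClosed_iff_pCore.1 h ?_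
      rw [← index_comap_of_surjective _ hf]
      refine hd.trans (index_dvd_of_le (Solv.le_pCore ((pCore_normal').comap f) ?_))
      exact (Solv.isPGroup_pCore p).comap_of_ker_isPGroup f (by rwa [QuotientGroup.ker_mk'])
    · intro h
      refine isPClosed_iff_pCore.2 fun hd => isPClosed_iff_pCore.1 h ?_
      exact hd.trans ((index_dvd_of_le (Solv.map_pCore_le (f := f) p hf)).trans (index_map_dvd _ hf))
  have hres : ∀ N : Subgroup G, N.Normal → (pResidual p (G ⧸ D) ≤ N.map f ↔ pResidual p G ≤ N) := by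
    intro N hN
    rw [← Transfer.map_pResidual_of_surjective f hf]
    refine ⟨fun h => ?_, map_mono⟩
    rw [pResidual, closure_le]
    intro x hx
    obtain ⟨n, hn, hnx⟩ := h (mem_map_of_mem f (Transfer.coprime_orderOf_mem_pResidual hx))
    have hd : n⁻¹ * x ∈ D := QuotientGroup.eq.1 hnx
    -- the image of `x` modulo `N` is a `p`-element of order prime to `p`
    obtain ⟨k, hk⟩ := hD ⟨_, hd⟩
    have he : (QuotientGroup.mk x : G ⧸ N) = QuotientGroup.mk (n⁻¹ * x) := by
      rw [QuotientGroup.mk_mul, QuotientGroup.mk_inv, (QuotientGroup.eq_one_iff n).2 hn, inv_one,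
        one_mul]
    have h1 : (QuotientGroup.mk x : G ⧸ N) ^ p ^ k = 1 := by
      rw [he, ← QuotientGroup.mk_pow, show (n⁻¹ * x) ^ p ^ k = 1 from congrArg Subtype.val hk]
      rfl
    exact (QuotientGroup.eq_one_iff x).1 (orderOf_eq_one_iff.1 (Nat.eq_one_of_dvd_coprimes
      ((Nat.Coprime.coprime_dvd_left (orderOf_map_dvd (QuotientGroup.mk' N) x) hx).pow_right k)
      dvd_rfl (orderOf_dvd_of_pow_eq_one h1)))
  have hcore : ∀ N : Subgroup G, N.Normal →
      (⁅N.map f, (⊤ : Subgroup (G ⧸ D))⁆ ≤ pCore p (G ⧸ D) ↔ ⁅N, (⊤ : Subgroup G)⁆ ≤ pCore p G) := by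
    intro N hN
    rw [← map_top_of_surjective f hf, ← map_commutator, map_le_iff_le_comap]
    have : (pCore p (G ⧸ D)).comap f = pCore p G := le_antisymm
      (Solv.le_pCore ((pCore_normal').comap f)
        ((Solv.isPGroup_pCore p).comap_of_ker_isPGroup f (by rwa [QuotientGroup.ker_mk'])))
      (map_le_iff_le_comap.1 (Solv.map_pCore_le p hf))
    rw [this]
  refine ⟨⟨fun h => ⟨fun h' => h.1 (hcl.1 h'), fun M hM hnc => ?_⟩,
    fun h => ⟨fun h' => h.1 (hcl.2 h'), fun N hN hnc => ?_⟩⟩,
    ⟨fun h => ⟨fun h' => h.1 (hcl.1 h'), fun M hM hnc => ?_⟩,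
    fun h => ⟨fun h' => h.1 (hcl.2 h'), fun N hN hnc => ?_⟩⟩⟩
  · haveI := hM.comap f
    rw [← map_comap_eq_self_of_surjective hf M] at hnc ⊢
    exact (hres _ inferInstance).2 (h.2 _ inferInstance fun h' => hnc ((isPClosed_quotient_iff D _ hD).2 h'))
  · exact (hres N hN).1 (h.2 _ (hN.map f hf) fun h' => hnc ((isPClosed_quotient_iff D N hD).1 h'))
  · have hn := hM.comap f
    rw [← map_comap_eq_self_of_surjective hf M] at hnc ⊢
    exact (hres _ hn).2 (h.2 _ hn fun h' => hnc ((hcore _ hn).2 h'))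
  · exact (hres N hN).1 (h.2 _ (hN.map f hf) fun h' => hnc ((hcore N hN).1 h'))

theorem irreducible_props (hH : IsPIrreducible p G) (T : Sylow p G) :
    normalClosure ((T : Subgroup G) : Set G) = ⊤ ∧ _root_.commutator G ⊔ (T : Subgroup G) = ⊤ ∧
      pResidual p G ≤ _root_.commutator G ∧
      ∀ Y : Subgroup G, Y ≤ (T : Subgroup G) → (T : Subgroup G) ≤ normalizer (Y : Set G) →
        ¬ Y ≤ pCore p G →
        ⁅pResidual p G, Y⁆ = pResidual p G ∧ pResidual p G ≤ normalClosure (Y : Set G) := by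
  set R := pResidual p G
  haveI hRn : R.Normal := Transfer.pResidual_normal p
  have hnotclosed : ∀ N : Subgroup G, N.Normal → (T : Subgroup G) ≤ N → ¬ IsPClosed p ↥N := by
    intro N hN hTN h
    haveI := hN
    refine hH.1 ((isPClosed_iff T).2 ?_)
    have := sylow_map_normal h (T.subtype hTN)
    rwa [Sylow.coe_subtype, map_subgroupOf_eq_of_le hTN] at this
  have htop : ∀ N : Subgroup G, N.Normal → (T : Subgroup G) ≤ N → N = ⊤ := fun N hN hTN =>
    eq_top_iff.2 ((Transfer.pResidual_sup_sylow T).ge.trans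
      (sup_le (hH.2 N hN (hnotclosed N hN hTN)) hTN))
  have h2 : _root_.commutator G ⊔ (T : Subgroup G) = ⊤ :=
    htop _ (Subgroup.Normal.of_commutator_le _ le_sup_left) le_sup_right
  refine ⟨htop _ normalClosure_normal le_normalClosure, h2, ?_, fun Y hYT hTY hY => ?_⟩
  · have hq : IsPGroup p (G ⧸ _root_.commutator G) := by
      refine T.isPGroup'.of_surjective ((QuotientGroup.mk' _).comp (T : Subgroup G).subtype) ?_
      rw [← MonoidHom.range_eq_top, MonoidHom.range_comp, range_subtype]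
      have := congrArg (Subgroup.map (QuotientGroup.mk' (_root_.commutator G))) h2
      rwa [Subgroup.map_sup, QuotientGroup.map_mk'_self, bot_sup_eq,
        map_top_of_surjective _ (QuotientGroup.mk'_surjective _)] at this
    obtain ⟨k, hk⟩ := IsPGroup.iff_card.1 hq
    exact Transfer.pResidual_le_of_index_eq_pow _ (k := k) (by rw [index_eq_card, hk])
  set K := ⁅R, Y⁆ with hK
  have hKR : K ≤ R := commutator_le_left R Y
  haveI hKn : K.Normal := by
    refine normalizer_eq_top_iff.1 (eq_top_iff.2 ((Transfer.pResidual_sup_sylow T).ge.trans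
      (sup_le (Solv.le_normalizer_commutator_left R Y) fun t ht => ?_)))
    rw [← Solv.conj_smul_eq_self_iff, hK, Solv.conj_smul_commutator, Solv.conj_smul_normal _ R,
      Solv.conj_smul_eq_self_iff.2 (hTY ht)]
  -- `K ⊔ Y` is normal
  have hN : (K ⊔ Y).Normal := by
    refine normalizer_eq_top_iff.1 (eq_top_iff.2 ((Transfer.pResidual_sup_sylow T).ge.trans
      (sup_le (fun r hr => mem_normalizer_iff.2 fun z => ?_)
        ((le_inf (le_normalizer_of_normal (H := K)) hTY).trans fun t ht => ?_))))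
    · have hc : ∀ r ∈ R, ∀ y ∈ K ⊔ Y, r * y * r⁻¹ ∈ K ⊔ Y := by
        intro r hr y hy
        rw [mem_sup_of_normal_left] at hy
        obtain ⟨a, ha, b, hb, rfl⟩ := hy
        have h1 : r * b * r⁻¹ * b⁻¹ ∈ K := commutator_mem_commutator hr hb
        have h3 : r * (a * b) * r⁻¹ = (r * a * r⁻¹ * (r * b * r⁻¹ * b⁻¹)) * b := by group
        rw [h3]
        exact mul_mem_sup (K.mul_mem (hKn.conj_mem a ha r) h1) hb
      refine ⟨hc r hr z, fun h => ?_⟩
      have := hc r⁻¹ (R.inv_mem hr) _ h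
      simpa [mul_assoc] using this
    · rw [← Solv.conj_smul_eq_self_iff, smul_sup, Solv.conj_smul_eq_self_iff.2 ht.1,
        Solv.conj_smul_eq_self_iff.2 ht.2]
  haveI := hN
  have hRK : R ≤ K := by
    by_cases hKc : IsPClosed p ↥K
    · have hnc : ¬ IsPClosed p ↥(K ⊔ Y) := by
        intro h
        obtain ⟨P, hP⟩ := ((T.isPGroup'.to_le hYT).comap_subtype (K := K ⊔ Y)).exists_le_sylow
        refine hY ?_
        refine le_trans ?_ (Solv.le_pCore (sylow_map_normal h P) (P.isPGroup'.map _))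
        intro y hy
        exact ⟨⟨y, mem_sup_right hy⟩, hP hy, rfl⟩
      have hR1 : R ≤ K ⊔ Y := hH.2 _ hN hnc
      rw [show R = pResidual p G from rfl, pResidual, closure_le]
      intro x hx
      have hxm := hR1 (Transfer.coprime_orderOf_mem_pResidual hx)
      have hq : IsPGroup p ↥((K ⊔ Y).map (QuotientGroup.mk' K)) := by
        rw [Subgroup.map_sup, QuotientGroup.map_mk'_self, bot_sup_eq]
        exact (T.isPGroup'.to_le hYT).map _
      obtain ⟨j, hj⟩ := hq ⟨_, mem_map_of_mem (QuotientGroup.mk' K) hxm⟩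
      exact (QuotientGroup.eq_one_iff x).1 (orderOf_eq_one_iff.1 (Nat.eq_one_of_dvd_coprimes
        ((Nat.Coprime.coprime_dvd_left (orderOf_map_dvd (QuotientGroup.mk' K) x) hx).pow_right j)
        dvd_rfl (orderOf_dvd_of_pow_eq_one (congrArg Subtype.val hj))))
    · exact hH.2 K hKn hKc
  refine ⟨le_antisymm hKR hRK, hRK.trans (commutator_le.2 fun r _ y hy => ?_)⟩
  exact Subgroup.mul_mem _ (normalClosure_normal.conj_mem y (subset_normalClosure hy) r)
    (Subgroup.inv_mem _ (subset_normalClosure hy))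

theorem irreducible_action (V H : Subgroup G) (hH : IsPIrreducible p ↥H)
    (hnc : ¬ (pResidual p ↥H).map H.subtype ≤ centralizer (V : Set G))
    [hn : ((centralizer (V : Set G)).subgroupOf H).Normal] :
    IsPClosed p ↥(H ⊓ centralizer (V : Set G)) ∧
      (∀ T : Subgroup G, T ≤ H → IsPGroup p ↥T → T ⊓ centralizer (V : Set G) ≤ pCoreOf p H) ∧
      (pCoreOf p H ≤ centralizer (V : Set G) →
        (∀ T : Subgroup G, T ≤ H → IsPGroup p ↥T →
          T ⊓ centralizer (V : Set G) = T ⊓ pCoreOf p H) ∧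
        pCore p (↥H ⧸ (centralizer (V : Set G)).subgroupOf H) = ⊥) := by
  set C := (centralizer (V : Set G)).subgroupOf H with hC
  have hRC : ¬ pResidual p ↥H ≤ C := fun h => hnc (map_le_iff_le_comap.2 h)
  have hCc : IsPClosed p ↥C := by
    by_contra h
    exact hRC (hH.2 C hn h)
  have h1 : ∀ T : Subgroup G, T ≤ H → IsPGroup p ↥T →
      T ⊓ centralizer (V : Set G) ≤ pCoreOf p H := by
    intro T hTH hT x hx
    obtain ⟨P, hP⟩ :=
      ((hT.comap_subtype (K := H)).comap_subtype (K := C)).exists_le_sylow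
    exact ⟨⟨x, hTH hx.1⟩, Solv.le_pCore (sylow_map_normal hCc P) (P.isPGroup'.map _)
      ⟨⟨⟨x, hTH hx.1⟩, hx.2⟩, hP hx.1, rfl⟩, rfl⟩
  refine ⟨?_, h1, fun hU => ⟨fun T hTH hT => le_antisymm (le_inf inf_le_left (h1 T hTH hT))
    (le_inf inf_le_left (inf_le_right.trans hU)), ?_⟩⟩
  · exact isPClosed_congr ((equivMapOfInjective C H.subtype H.subtype_injective).trans
      (MulEquiv.subgroupCongr (by rw [hC, subgroupOf_map_subtype, inf_comm]))) hCc
  set f := QuotientGroup.mk' C
  have hf : Function.Surjective f := QuotientGroup.mk'_surjective C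
  haveI := pCore_normal' (G := ↥H) (p := p)
  haveI := pCore_normal' (G := ↥H ⧸ C) (p := p)
  set N := (pCore p (↥H ⧸ C)).comap f with hN'
  haveI hNn : N.Normal := inferInstance
  have hCN : C ≤ N := fun x hx => by
    show f x ∈ pCore p _
    rw [show f x = 1 from (QuotientGroup.eq_one_iff x).2 hx]
    exact one_mem _
  have hNq : N.map f = pCore p (↥H ⧸ C) := map_comap_eq_self_of_surjective hf _
  by_cases hNc : IsPClosed p ↥N
  · obtain ⟨P⟩ : Nonempty (Sylow p ↥N) := inferInstance
    have hPC : (P : Subgroup N).map N.subtype ≤ C := fun x hx => by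
      have := Solv.le_pCore (sylow_map_normal hNc P) (P.isPGroup'.map _) hx
      exact hU (mem_map_of_mem H.subtype this)
    rw [← hNq, eq_bot_iff]
    rintro _ ⟨x, hx, rfl⟩
    refine mem_bot.2 ((QuotientGroup.eq_one_iff x).2 ?_)
    let g : ↥N →* ↥H ⧸ C := f.comp N.subtype
    have hPg : (P : Subgroup N) ≤ g.ker := fun y hy =>
      MonoidHom.mem_ker.2 ((QuotientGroup.eq_one_iff _).2 (hPC (mem_map_of_mem _ hy)))
    have hd : g.ker.index ∣ (P : Subgroup N).index := index_dvd_of_le hPg
    obtain ⟨k, hk⟩ := IsPGroup.iff_card.1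
      ((Solv.isPGroup_pCore (G := ↥H ⧸ C) p).to_le (show g.range ≤ _ by
        rw [MonoidHom.range_comp, range_subtype, hNq]))
    rw [index_ker, hk] at hd
    have hk0 : k = 0 := by
      by_contra h0
      exact P.not_dvd_index ((dvd_pow_self p h0).trans hd)
    rw [hk0, pow_zero, ← index_ker, index_eq_one] at hk
    exact (QuotientGroup.eq_one_iff _).1 (MonoidHom.mem_ker.1
      (hk ▸ mem_top (⟨x, hx⟩ : N) : (⟨x, hx⟩ : N) ∈ g.ker))
  · exfalso
    refine hRC ?_
    rw [pResidual, closure_le]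
    intro x hx
    have hxN := hH.2 N hNn hNc (Transfer.coprime_orderOf_mem_pResidual hx)
    obtain ⟨j, hj⟩ := Solv.isPGroup_pCore (G := ↥H ⧸ C) p ⟨f x, hxN⟩
    exact (QuotientGroup.eq_one_iff x).1 (orderOf_eq_one_iff.1 (Nat.eq_one_of_dvd_coprimes
      ((Nat.Coprime.coprime_dvd_left (orderOf_map_dvd f x) hx).pow_right j)
      dvd_rfl (orderOf_dvd_of_pow_eq_one (congrArg Subtype.val hj))))

/-- Basic facts about a maximal subgroup over which the group is minimal. -/
theorem minimalOver_props {L₀ : Subgroup G} (hL₀ : IsCoatom L₀) (T : Sylow p ↥L₀) (Y : Subgroup G)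
    (hYT : Y ≤ (T : Subgroup ↥L₀).map L₀.subtype) (hmin : IsMinimalOver Y) :
    normalizer (((T : Subgroup ↥L₀).map L₀.subtype : Subgroup G) : Set G) ≤ L₀ ∧ pCore p G ≤ L₀ ∧
      (∃ P : Sylow p G, (P : Subgroup G) = (T : Subgroup ↥L₀).map L₀.subtype) ∧
      normalizer (L₀ : Set G) = L₀ ∧
      (∀ g : G, g ∉ L₀ → Y ⊔ Y.map (MulAut.conj g).toMonoidHom = ⊤) ∧
      (IsMulCommutative ↥Y → ∀ g : G, g ∉ L₀ →
        Y ⊓ Y.map (MulAut.conj g).toMonoidHom = Y ⊓ center G) := by
  set U := (T : Subgroup ↥L₀).map L₀.subtype with hUdef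
  have hUL : U ≤ L₀ := map_subtype_le _
  have hYL : Y ≤ L₀ := hYT.trans hUL
  have hU1 : U ≠ ⊤ := fun e => hL₀.1 (top_le_iff.1 (e ▸ hUL))
  have h1 : normalizer (U : Set G) ≤ L₀ := eq_of_minimalOver hmin hL₀ hYL (hYT.trans le_normalizer)
    fun e => not_normal_of_minimalOver hmin hYT hU1 (normalizer_eq_top_iff.1 e)
  have hUp : IsPGroup p U := T.isPGroup'.map _
  obtain ⟨P, hP⟩ := hUp.exists_le_sylow
  have hUP : (P : Subgroup G) = U := by
    by_contra hne
    have hne' : U.subgroupOf P ≠ ⊤ := fun e => hne (le_antisymm (subgroupOf_eq_top.1 e) hP)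
    obtain ⟨x, hxN, hxU⟩ := SetLike.exists_of_lt (@Group.normalizerCondition_of_isNilpotent _ _
      P.isPGroup'.isNilpotent _ (lt_top_iff_ne_top.2 hne'))
    have hxG : (x : G) ∈ normalizer (U : Set G) := by
      rw [← map_subgroupOf_eq_of_le hP, ← Solv.conj_smul_eq_self_iff]
      have h3 := Solv.map_conj_smul (P : Subgroup G).subtype x (U.subgroupOf P)
      rw [Solv.conj_smul_eq_self_iff.2 hxN] at h3
      exact h3.symm
    have hTP : (T : Subgroup ↥L₀) = (P : Subgroup G).subgroupOf L₀ :=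
      (T.is_maximal' P.isPGroup'.comap_subtype (map_le_iff_le_comap.1 hP)).symm
    refine hxU ?_
    show (x : G) ∈ U
    exact ⟨⟨x, h1 hxG⟩, hTP ▸ x.2, rfl⟩
  have h4 : normalizer (L₀ : Set G) = L₀ := by
    refine le_antisymm (eq_of_minimalOver hmin hL₀ hYL (hYL.trans le_normalizer) fun e => ?_)
      le_normalizer
    exact not_normal_of_minimalOver hmin hYL hL₀.1 (normalizer_eq_top_iff.1 e)
  have h5 : ∀ g : G, g ∉ L₀ → Y ⊔ Y.map (MulAut.conj g).toMonoidHom = ⊤ := by
    intro g hg
    by_contra hne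
    have hle := eq_of_minimalOver hmin hL₀ hYL le_sup_left hne
    set M := L₀.map (MulAut.conj g⁻¹).toMonoidHom with hM
    have hMc : IsCoatom M :=
      (OrderIso.isCoatom_iff (MulEquiv.mapSubgroup (MulAut.conj g⁻¹)) L₀).2 hL₀
    have hYM : Y ≤ M := fun y hy => ⟨g * y * g⁻¹, hle (mem_sup_right ⟨y, hy, rfl⟩), by simp [mul_assoc]⟩
    have heq := hmin.2.unique ⟨hMc, hYM⟩ ⟨hL₀, hYL⟩
    have : g⁻¹ ∈ normalizer (L₀ : Set G) := by
      rw [← Solv.conj_smul_eq_self_iff]; exact heq
    exact hg (by simpa using L₀.inv_mem (h4.le this))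
  refine ⟨h1, hUP ▸ (Transfer.pCore_le_sylow P) |>.trans hUL, ⟨P, hUP⟩, h4, h5, fun hc g hg => ?_⟩
  refine le_antisymm (le_inf inf_le_left ?_) (le_inf inf_le_left ?_)
  · rintro z ⟨hzY, hzg⟩
    have hall : Y ⊔ Y.map (MulAut.conj g).toMonoidHom ≤ centralizer ({z} : Set G) := by
      refine sup_le (fun y hy => mem_centralizer_singleton_iff.2 ?_) ?_
      · exact congrArg Subtype.val (hc.is_comm.comm (⟨y, hy⟩ : Y) ⟨z, hzY⟩)
      · obtain ⟨w, hw, rfl⟩ := hzg
        rintro _ ⟨y, hy, rfl⟩
        refine mem_centralizer_singleton_iff.2 ?_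
        rw [← map_mul, ← map_mul]
        exact congrArg _ (congrArg Subtype.val (hc.is_comm.comm (⟨y, hy⟩ : Y) ⟨w, hw⟩))
    rw [h5 g hg] at hall
    exact mem_center_iff.2 fun x => mem_centralizer_singleton_iff.1 (hall (mem_top x))
  · rintro z ⟨hzY, hzc⟩
    refine ⟨z, hzY, ?_⟩
    show g * z * g⁻¹ = z
    rw [mem_center_iff.1 hzc g, mul_inv_cancel_right]

end Cfsg.Lib.PLocal.PIrr
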