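import Mathlib
import Cfsg.Prelude.Def_PLocal
import Cfsg.Prelude.Def_LocalEven
import Cfsg.Prelude.Def_LocalStructure
import Cfsg.Prelude.Def_Amalgam
import Cfsg.Agent.Lib.Comp.CharPSubgroups
import Cfsg.Agent.Lib.Solv.Subnormal
import Cfsg.Agent.Lib.Solv.Cores
import Cfsg.Agent.Lib.Transfer.NormalPComplement
import Cfsg.Agent.Lib.PLocal.PIrreducible
import Cfsg.Agent.Lib.PLocal.FrattiniResidual

/-!
`p`-reduced normal subgroups and averaging over cosets of a Sylow subgroup.
-/

set_option autoImplicit false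
set_option linter.style.haveILetI false
set_option linter.unusedSectionVars false

namespace Cfsg.Lib.PReduced

open Subgroup
open scoped commutatorElement

variable {H : Type*} [Group H] [Finite H] {p : ℕ} [hp : Fact p.Prime]

theorem mem_ker_of_coprime_pow {x : H} {C : Subgroup H} {k : ℕ} (h : x ^ p ^ k ∈ C)
    (hx : (orderOf x).Coprime p) : x ∈ C := by
  obtain ⟨r, hr⟩ := exists_pow_eq_self_of_coprime (x := x) (n := p ^ k) (hx.symm.pow_left k)
  rw [← hr]; exact C.pow_mem h r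

/-- `N` is a `p`-group modulo `C`. -/
def PMod (p : ℕ) (C N : Subgroup H) : Prop := ∀ x ∈ N, ∃ k : ℕ, x ^ p ^ k ∈ C

theorem pmod_of_coprime {C N : Subgroup H} (h : ∀ x ∈ N, (orderOf x).Coprime p → x ∈ C) : PMod p C N := by
  intro x hx
  refine ⟨(orderOf x).factorization p, h _ (N.pow_mem hx _) ?_⟩
  rw [orderOf_pow_of_dvd (pow_ne_zero _ hp.out.ne_zero) (Nat.ordProj_dvd _ _)]
  exact (Nat.coprime_ordCompl hp.out (orderOf_pos x).ne').symm

/-- `V` is a `p`-reduced normal subgroup of `K`. -/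
structure Red (p : ℕ) (K V : Subgroup H) : Prop where
  le : V ≤ K
  norm : K ≤ normalizer (V : Set H)
  comm : ∀ a ∈ V, ∀ b ∈ V, a * b = b * a
  exp : ∀ a ∈ V, a ^ p = 1
  kill : ∀ N : Subgroup H, N ≤ K → K ≤ normalizer (N : Set H) →
    PMod p (centralizer (V : Set H)) N → N ≤ centralizer (V : Set H)

theorem mem_centralizer_subgroupOf {K V : Subgroup H} (hV : V ≤ K) (x : K) :
    x ∈ centralizer ((V.subgroupOf K : Subgroup K) : Set K) ↔ (x : H) ∈ centralizer (V : Set H) := by
  rw [mem_centralizer_iff, mem_centralizer_iff]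
  exact ⟨fun h v hv => congrArg Subtype.val (h ⟨v, hV hv⟩ hv), fun h v hv => Subtype.ext (h v hv)⟩

theorem pcore_quotient_eq_bot_iff {G : Type*} [Group G] [Finite G] (C : Subgroup G) [C.Normal] :
    Cfsg.pCore p (G ⧸ C) = ⊥ ↔ ∀ N : Subgroup G, N.Normal → PMod p C N → N ≤ C := by
  constructor
  · intro h N hN hmod
    have h1 := Solv.le_pCore (p := p) (hN.map (QuotientGroup.mk' C) (QuotientGroup.mk'_surjective C)) (by
      rintro ⟨_, x, hx, rfl⟩
      obtain ⟨k, hk⟩ := hmod x hx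
      refine ⟨k, Subtype.ext ?_⟩
      show (QuotientGroup.mk' C x) ^ p ^ k = 1
      rw [← map_pow]
      exact (QuotientGroup.eq_one_iff _).2 hk)
    rwa [h, le_bot_iff, Subgroup.map_eq_bot_iff, QuotientGroup.ker_mk'] at h1
  · intro h
    haveI := Transfer.pCore_normal (G := G ⧸ C) p
    refine le_bot_iff.1 fun w hw => ?_
    obtain ⟨x, rfl⟩ := QuotientGroup.mk'_surjective C w
    refine mem_bot.2 ((QuotientGroup.eq_one_iff x).2
      (h ((Cfsg.pCore p (G ⧸ C)).comap (QuotientGroup.mk' C)) inferInstance ?_ hw))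
    intro y hy
    obtain ⟨k, hk⟩ := (Solv.isPGroup_pCore (G := G ⧸ C) p) ⟨_, hy⟩
    exact ⟨k, (QuotientGroup.eq_one_iff _).1 (congrArg Subtype.val hk)⟩

theorem red_iff {K V : Subgroup H} (hV : V ≤ K) :
    Cfsg.IsPReducedNormal p (V.subgroupOf K) ↔ Red p K V := by
  constructor
  · rintro ⟨hn, ⟨hc, he⟩, hC, hq⟩
    haveI := hn; haveI := hC; haveI := hc
    refine ⟨hV, normal_subgroupOf_iff_le_normalizer hV |>.1 hn, ?_, ?_, ?_⟩
    · intro a ha b hb
      exact congrArg (fun z : V.subgroupOf K => ((z : K) : H))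
        (mul_comm' (⟨⟨a, hV ha⟩, ha⟩ : V.subgroupOf K) ⟨⟨b, hV hb⟩, hb⟩)
    · intro a ha
      exact congrArg Subtype.val (he ⟨a, hV ha⟩ ha)
    · intro N hN hNn hmod x hx
      have h1 := (pcore_quotient_eq_bot_iff (p := p) _).1 hq (N.subgroupOf K)
        ((normal_subgroupOf_iff_le_normalizer hN).2 hNn) (fun y hy => by
          obtain ⟨k, hk⟩ := hmod y hy
          exact ⟨k, (mem_centralizer_subgroupOf hV _).2 hk⟩)
      exact (mem_centralizer_subgroupOf hV ⟨x, hN hx⟩).1 (h1 hx)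
  · intro h
    haveI hn : (V.subgroupOf K).Normal := (normal_subgroupOf_iff_le_normalizer hV).2 h.norm
    refine ⟨hn, ⟨⟨⟨fun a b => Subtype.ext (Subtype.ext (h.comm _ a.2 _ b.2))⟩⟩,
      fun a ha => Subtype.ext (h.exp _ ha)⟩, inferInstance, ?_⟩
    rw [pcore_quotient_eq_bot_iff]
    intro N hN hmod x hx
    refine (mem_centralizer_subgroupOf hV x).2 (h.kill (N.map K.subtype) (map_subtype_le _) ?_ ?_ ⟨x, hx, rfl⟩)
    · rw [← normal_subgroupOf_iff_le_normalizer (map_subtype_le _)]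
      rwa [← comap_subtype, comap_map_eq_self_of_injective K.subtype_injective]
    · rintro _ ⟨y, hy, rfl⟩
      obtain ⟨k, hk⟩ := hmod y hy
      exact ⟨k, by simpa using (mem_centralizer_subgroupOf hV _).1 hk⟩

theorem red_top_iff {V : Subgroup H} : Cfsg.IsPReducedNormal p V ↔ Red p ⊤ V := by
  constructor
  · rintro ⟨hn, ⟨hc, he⟩, hC, hq⟩
    haveI := hn; haveI := hC; haveI := hc
    exact ⟨le_top, le_normalizer_of_normal, fun a ha b hb =>
      congrArg Subtype.val (mul_comm' (⟨a, ha⟩ : V) ⟨b, hb⟩), he,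
      fun N _ hNn hmod => (pcore_quotient_eq_bot_iff (p := p) _).1 hq N
        (normalizer_eq_top_iff.1 (top_le_iff.1 hNn)) hmod⟩
  · intro h
    haveI hn : V.Normal := normalizer_eq_top_iff.1 (top_le_iff.1 h.norm)
    refine ⟨hn, ⟨⟨⟨fun a b => Subtype.ext (h.comm _ a.2 _ b.2)⟩⟩, h.exp⟩, inferInstance, ?_⟩
    rw [pcore_quotient_eq_bot_iff]
    exact fun N hN hmod => h.kill N le_top (by haveI := hN; exact le_normalizer_of_normal) hmod

theorem Red.le_centralizer {K V U : Subgroup H} (h : Red p K V) (hU : U ≤ K)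
    (hUn : K ≤ normalizer (U : Set H)) (hUp : IsPGroup p U) : U ≤ centralizer (V : Set H) :=
  h.kill U hU hUn fun x hx => by
    obtain ⟨k, hk⟩ := hUp ⟨x, hx⟩
    refine ⟨k, ?_⟩
    rw [show x ^ p ^ k = 1 from congrArg Subtype.val hk]
    exact one_mem _

theorem Red.isPGroup {K V : Subgroup H} (h : Red p K V) : IsPGroup p V :=
  fun x => ⟨1, Subtype.ext (by rw [pow_one]; exact h.exp _ x.2)⟩

theorem red_largest_top : Cfsg.IsPReducedNormal p (Cfsg.largestPReduced p H) := by
  set Y := Cfsg.largestPReduced p H with hY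
  have hmem : ∀ V, Cfsg.IsPReducedNormal p V → V ≤ Y := fun V hV => le_sSup hV
  have hYY : Y ≤ centralizer (Y : Set H) := by
    refine sSup_le fun W hW => le_centralizer_iff.1 (sSup_le fun V hV => ?_)
    exact (red_top_iff.1 hW).le_centralizer le_top (red_top_iff.1 hV).norm (red_top_iff.1 hV).isPGroup
  have hcomm : ∀ a ∈ Y, ∀ b ∈ Y, a * b = b * a := fun a ha b hb => mem_centralizer_iff.1 (hYY hb) a ha
  rw [red_top_iff]
  refine ⟨le_top, ?_, hcomm, ?_, ?_⟩
  · haveI : Y.Normal := sSup_normal _ fun _ h => h.1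
    exact le_normalizer_of_normal
  · intro y hy
    let T : Subgroup H :=
      { carrier := {x | x ∈ Y ∧ x ^ p = 1}
        one_mem' := ⟨Y.one_mem, one_pow p⟩
        mul_mem' := by
          rintro a b ⟨ha, ha'⟩ ⟨hb, hb'⟩
          exact ⟨Y.mul_mem ha hb, by rw [Commute.mul_pow (hcomm a ha b hb), ha', hb', one_mul]⟩
        inv_mem' := by
          rintro a ⟨ha, ha'⟩
          exact ⟨Y.inv_mem ha, by rw [inv_pow, ha', inv_one]⟩ }
    exact ((show Y ≤ T from sSup_le fun V hV v hv => ⟨hmem V hV hv, (red_top_iff.1 hV).exp v hv⟩) hy).2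
  · intro N hN hNn hmod
    refine le_centralizer_iff.1 (sSup_le fun V hV => le_centralizer_iff.1 ?_)
    refine (red_top_iff.1 hV).kill N hN hNn fun x hx => ?_
    obtain ⟨k, hk⟩ := hmod x hx
    exact ⟨k, centralizer_le (hmem V hV) hk⟩

theorem red_largest (K : Subgroup H) : Red p K (Cfsg.largestPReducedOf p K) := by
  have hle : Cfsg.largestPReducedOf p K ≤ K := map_subtype_le _
  rw [← red_iff hle]
  rw [Cfsg.largestPReducedOf, ← comap_subtype, comap_map_eq_self_of_injective K.subtype_injective]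
  exact red_largest_top

theorem Red.le_largest {K V : Subgroup H} (h : Red p K V) : V ≤ Cfsg.largestPReducedOf p K := by
  intro v hv
  exact ⟨⟨v, h.le hv⟩, (le_sSup (show V.subgroupOf K ∈ {V : Subgroup ↥K | Cfsg.IsPReducedNormal p V} from
    (red_iff h.le).2 h)) (show (⟨v, h.le hv⟩ : K) ∈ V.subgroupOf K from hv), rfl⟩

theorem largestPReducedOf_top : Cfsg.largestPReducedOf p (⊤ : Subgroup H) = Cfsg.largestPReduced p H :=
  le_antisymm (le_sSup (red_top_iff.2 (red_largest ⊤))) (red_top_iff.1 red_largest_top).le_largest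

/-- The first commutator with a stabilized series. -/
theorem pow_fix {x v : H} (a : H) (ha : x * v * x⁻¹ = v * a) (hxa : x * a = a * x) (i : ℕ) :
    x ^ i * v * (x ^ i)⁻¹ = v * a ^ i := by
  induction i with
  | zero => simp
  | succ i ih =>
    calc x ^ (i + 1) * v * (x ^ (i + 1))⁻¹ = x * (x ^ i * v * (x ^ i)⁻¹) * x⁻¹ := by rw [pow_succ']; group
      _ = (x * v * x⁻¹) * (x * a ^ i * x⁻¹) := by rw [ih]; group
      _ = v * a ^ (i + 1) := by
        rw [ha, show x * a ^ i = a ^ i * x from (Commute.pow_right hxa i).eq, mul_inv_cancel_right,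
          pow_succ', mul_assoc]

theorem inter_normal {K L V : Subgroup H} (h : Red p K V) (hLK : L ≤ K) (hLn : K ≤ normalizer (L : Set H)) :
    Red p L (V ⊓ L) ∧ L ⊓ centralizer ((V ⊓ L : Subgroup H) : Set H) = L ⊓ centralizer (V : Set H) := by
  have hWn : K ≤ normalizer ((V ⊓ L : Subgroup H) : Set H) := fun k hk => by
    rw [mem_normalizer_iff]
    intro x
    simp only [mem_inf]
    rw [mem_normalizer_iff.1 (h.norm hk) x, mem_normalizer_iff.1 (hLn hk) x]
  have hCV : L ⊓ centralizer ((V ⊓ L : Subgroup H) : Set H) ≤ centralizer (V : Set H) := by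
    refine h.kill _ (inf_le_left.trans hLK) (fun k hk => ?_) fun x hx => ⟨1, ?_⟩
    · rw [mem_normalizer_iff]
      intro x
      simp only [mem_inf]
      rw [mem_normalizer_iff.1 (hLn hk) x,
        mem_normalizer_iff.1 (Solv.normalizer_le_normalizer_centralizer _ (hWn hk)) x]
    · rw [mem_centralizer_iff]
      intro v hv
      rw [pow_one]
      have hxK : x ∈ K := hLK hx.1
      have ha : v⁻¹ * (x * v * x⁻¹) ∈ V ⊓ L := by
        refine ⟨V.mul_mem (V.inv_mem hv) ((mem_normalizer_iff.1 (h.norm hxK) v).1 hv), ?_⟩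
        rw [show v⁻¹ * (x * v * x⁻¹) = (v⁻¹ * x * v) * x⁻¹ by group]
        refine L.mul_mem ?_ (L.inv_mem hx.1)
        exact (mem_normalizer_iff''.1 (hLn (h.le hv)) x).1 hx.1
      have hp' := pow_fix (x := x) (v := v) _ (mul_inv_cancel_left _ _).symm
        (mem_centralizer_iff.1 hx.2 _ ha).symm p
      rw [h.exp _ ha.1, mul_one] at hp'
      exact (mul_inv_eq_iff_eq_mul.1 hp').symm
  have heq : L ⊓ centralizer ((V ⊓ L : Subgroup H) : Set H) = L ⊓ centralizer (V : Set H) :=
    le_antisymm (le_inf inf_le_left hCV) (inf_le_inf_left _ (centralizer_le inf_le_left))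
  refine ⟨⟨inf_le_right, fun l hl => hWn (hLK hl), fun a ha b hb => h.comm a ha.1 b hb.1,
    fun a ha => h.exp a ha.1, ?_⟩, heq⟩
  intro N hN hNn hmod
  set C := L ⊓ centralizer (V : Set H)
  let S : Set (Subgroup H) := {N | N ≤ L ∧ L ≤ normalizer (N : Set H) ∧ PMod p C N}
  have hNS : N ∈ S := ⟨hN, hNn, fun x hx => by
    obtain ⟨k, hk⟩ := hmod x hx
    exact ⟨k, heq.le ⟨L.pow_mem (hN hx) _, hk⟩⟩⟩
  set R := sSup S
  have hRL : R ≤ L := sSup_le fun M hM => hM.1
  haveI hCn : (C.subgroupOf L).Normal := by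
    refine (normal_subgroupOf_iff_le_normalizer inf_le_left).2 fun l hl => ?_
    rw [mem_normalizer_iff]
    intro x
    simp only [C, mem_inf]
    rw [mem_normalizer_iff.1 (le_normalizer hl) x,
      mem_normalizer_iff.1 (Solv.normalizer_le_normalizer_centralizer _ (h.norm (hLK hl))) x]
  have hRmod : PMod p C R := by
    set q := QuotientGroup.mk' (C.subgroupOf L)
    have hR : R ≤ ((Cfsg.pCore p (↥L ⧸ C.subgroupOf L)).comap q).map L.subtype := by
      refine sSup_le fun M hM x hx => ⟨⟨x, hM.1 hx⟩, ?_, rfl⟩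
      refine Solv.le_pCore (p := p) (((normal_subgroupOf_iff_le_normalizer hM.1).2 hM.2.1).map q
        (QuotientGroup.mk'_surjective _)) ?_ ⟨⟨x, hM.1 hx⟩, hx, rfl⟩
      rintro ⟨_, y, hy, rfl⟩
      obtain ⟨k, hk⟩ := hM.2.2 y hy
      refine ⟨k, Subtype.ext ?_⟩
      show (q y) ^ p ^ k = 1
      rw [← map_pow]
      exact (QuotientGroup.eq_one_iff _).2 hk
    intro x hx
    obtain ⟨y, hy, rfl⟩ := hR hx
    obtain ⟨k, hk⟩ := (Solv.isPGroup_pCore (G := ↥L ⧸ C.subgroupOf L) p) ⟨_, hy⟩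
    refine ⟨k, ?_⟩
    have h2 : y ^ p ^ k ∈ C.subgroupOf L := (QuotientGroup.eq_one_iff _).1 (congrArg Subtype.val hk)
    exact h2
  have hCn' : K ≤ normalizer (C : Set H) := fun k hk => by
    rw [mem_normalizer_iff]
    intro x
    simp only [C, mem_inf]
    rw [mem_normalizer_iff.1 (hLn hk) x,
      mem_normalizer_iff.1 (Solv.normalizer_le_normalizer_centralizer _ (h.norm hk)) x]
  have hfw : ∀ k ∈ K, R.map (MulAut.conj k).toMonoidHom ≤ R := by
    intro k hk
    rw [map_le_iff_le_comap]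
    refine sSup_le fun M hM => map_le_iff_le_comap.1 (le_sSup ?_)
    refine ⟨?_, fun l hl => ?_, ?_⟩
    · rintro _ ⟨x, hx, rfl⟩
      exact (mem_normalizer_iff.1 (hLn hk) x).1 (hM.1 hx)
    · have hl' : k⁻¹ * l * k ∈ L := (mem_normalizer_iff''.1 (hLn hk) l).1 hl
      rw [mem_normalizer_iff]
      intro x
      simp only [mem_map_equiv, MulAut.conj_symm_apply]
      rw [mem_normalizer_iff.1 (hM.2.1 hl') (k⁻¹ * x * k),
        show k⁻¹ * l * k * (k⁻¹ * x * k) * (k⁻¹ * l * k)⁻¹ = k⁻¹ * (l * x * l⁻¹) * k by group]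
    · rintro _ ⟨x, hx, rfl⟩
      obtain ⟨j, hj⟩ := hM.2.2 x hx
      refine ⟨j, ?_⟩
      rw [← map_pow]
      exact (mem_normalizer_iff.1 (hCn' hk) _).1 hj
  have hRn : K ≤ normalizer (R : Set H) := fun k hk => by
    rw [mem_normalizer_iff]
    intro x
    refine ⟨fun hx => hfw k hk ⟨x, hx, rfl⟩, fun hx => ?_⟩
    have := hfw k⁻¹ (K.inv_mem hk) ⟨_, hx, rfl⟩
    simpa [mul_assoc] using this
  have hRV := h.kill R (hRL.trans hLK) hRn fun x hx => by
    obtain ⟨k, hk⟩ := hRmod x hx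
    exact ⟨k, hk.2⟩
  exact ((le_sSup hNS).trans hRV).trans (centralizer_le inf_le_left)

theorem inter_subnormal {V L : Subgroup H} (h : Red p ⊤ V) (hL : L.IsSubnormal) :
    Red p L (V ⊓ L) ∧ L ⊓ centralizer ((V ⊓ L : Subgroup H) : Set H) = L ⊓ centralizer (V : Set H) := by
  induction hL with
  | top => simpa using h
  | step A B hle _ hN ih =>
    obtain ⟨h1, h2⟩ := inter_normal ih.1 hle ((normal_subgroupOf_iff_le_normalizer hle).1 hN)
    have e : V ⊓ B ⊓ A = V ⊓ A := by rw [inf_assoc, inf_eq_right.2 hle]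
    rw [e] at h1 h2
    refine ⟨h1, h2.trans ?_⟩
    calc A ⊓ centralizer ((V ⊓ B : Subgroup H) : Set H) = A ⊓ (B ⊓ centralizer ((V ⊓ B : Subgroup H) : Set H)) := by
          rw [← inf_assoc, inf_eq_left.2 hle]
      _ = A ⊓ centralizer (V : Set H) := by rw [ih.2, ← inf_assoc, inf_eq_left.2 hle]

/-- A `p`-group acting on a larger abelian group fixes something modulo a smaller invariant one. -/
theorem exists_fixed_mod {W F N : Subgroup H} (hFW : F ≤ W) (hne : F ≠ W)
    (hcomm : ∀ a ∈ W, ∀ b ∈ W, a * b = b * a) (hexp : ∀ a ∈ W, a ^ p = 1)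
    (hNW : N ≤ normalizer (W : Set H)) (hNF : N ≤ normalizer (F : Set H))
    (hmod : PMod p (centralizer (W : Set H)) N) :
    ∃ w ∈ W, w ∉ F ∧ ∀ n ∈ N, w⁻¹ * (n * w * n⁻¹) ∈ F := by
  haveI : (F.subgroupOf W).Normal := ⟨fun a ha g => by
    rw [mem_subgroupOf] at ha ⊢
    simp only [Subgroup.coe_mul, InvMemClass.coe_inv]
    rwa [hcomm g g.2 a a.2, mul_inv_cancel_right]⟩
  let ρ : N →* MulAut W := (W.normalizerMonoidHom).comp (Subgroup.inclusion hNW)
  have hP : IsPGroup p ρ.range := by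
    rintro ⟨_, n, rfl⟩
    obtain ⟨k, hk⟩ := hmod n n.2
    refine ⟨k, Subtype.ext ?_⟩
    show (ρ n) ^ p ^ k = 1
    rw [← map_pow]
    refine MulEquiv.ext fun w => Subtype.ext ?_
    show (n : H) ^ p ^ k * w * ((n : H) ^ p ^ k)⁻¹ = w
    rw [← mem_centralizer_iff.1 hk w w.2, mul_inv_cancel_right]
  have hpres : ∀ g : ρ.range, F.subgroupOf W ≤ (F.subgroupOf W).comap (g : MulAut W).toMonoidHom := by
    rintro ⟨_, n, rfl⟩ w hw
    exact (mem_normalizer_iff.1 (hNF n.2) _).1 hw
  let act : MulAction ρ.range (↥W ⧸ F.subgroupOf W) :=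
    { smul := fun g => QuotientGroup.map _ _ (g : MulAut W).toMonoidHom (hpres g)
      one_smul := fun q => Quotient.inductionOn' q fun _ => rfl
      mul_smul := fun _ _ q => Quotient.inductionOn' q fun _ => rfl }
  letI := act
  haveI : Fintype (↥W ⧸ F.subgroupOf W) := Fintype.ofFinite _
  have hpq : p ∣ Nat.card (↥W ⧸ F.subgroupOf W) := by
    rw [← index_eq_card]
    have hWp : IsPGroup p W := fun x => ⟨1, Subtype.ext (by rw [pow_one]; exact hexp _ x.2)⟩
    obtain ⟨k, hk⟩ := hWp.index (F.subgroupOf W)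
    rcases k with _ | k
    · rw [pow_zero, index_eq_one, subgroupOf_eq_top] at hk
      exact absurd (le_antisymm hFW hk) hne
    · exact hk ▸ dvd_pow_self p k.succ_ne_zero
  obtain ⟨q, hq, hq1⟩ := hP.exists_fixed_point_of_prime_dvd_card_of_fixed_point (↥W ⧸ F.subgroupOf W) hpq
    (a := 1) (fun g => map_one (QuotientGroup.map _ _ (g : MulAut W).toMonoidHom (hpres g)))
  obtain ⟨⟨w, hw⟩, rfl⟩ := QuotientGroup.mk'_surjective _ q
  refine ⟨w, hw, fun hF => hq1
    ((QuotientGroup.eq_one_iff _).2 (show (⟨w, hw⟩ : W) ∈ F.subgroupOf W from hF)).symm, fun n hn => ?_⟩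
  have h1 := hq ⟨ρ ⟨n, hn⟩, ⟨n, hn⟩, rfl⟩
  have h2 : ((⟨w, hw⟩ : W) : ↥W ⧸ F.subgroupOf W) =
      ((⟨n * w * n⁻¹, (mem_normalizer_iff.1 (hNW hn) w).1 hw⟩ : W) : ↥W ⧸ F.subgroupOf W) := h1.symm
  have h3 := QuotientGroup.eq.1 h2
  exact h3

theorem shrink {K L Y : Subgroup H} (hLK : L ≤ K) (hLn : K ≤ normalizer (L : Set H)) (hY : Red p L Y) :
    ∀ (n : ℕ) (W : Subgroup H), Nat.card W ≤ n → W ≤ Y → K ≤ normalizer (W : Set H) →
      L ⊓ centralizer (W : Set H) = L ⊓ centralizer (Y : Set H) →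
      L ⊓ centralizer ((Cfsg.largestPReducedOf p K : Subgroup H) : Set H) ≤ centralizer (Y : Set H) := by
  intro n
  induction n with
  | zero => intro W hW; exact absurd hW (by have : 0 < Nat.card W := Nat.card_pos; omega)
  | succ n ih =>
    intro W hcard hWY hWn hC
    have hWc : ∀ a ∈ W, ∀ b ∈ W, a * b = b * a := fun a ha b hb => hY.comm a (hWY ha) b (hWY hb)
    have hWe : ∀ a ∈ W, a ^ p = 1 := fun a ha => hY.exp a (hWY ha)
    by_cases hred : ∀ N : Subgroup H, N ≤ K → K ≤ normalizer (N : Set H) →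
        PMod p (centralizer (W : Set H)) N → N ≤ centralizer (W : Set H)
    · have hR : Red p K W := ⟨(hWY.trans hY.le).trans hLK, hWn, hWc, hWe, hred⟩
      exact fun x hx => (hC.le ⟨hx.1, centralizer_le hR.le_largest hx.2⟩).2
    · push Not at hred
      obtain ⟨N, hNK, hNn, hmod, hN⟩ := hred
      set W' := W ⊓ centralizer (N : Set H)
      have hW'n : K ≤ normalizer (W' : Set H) := fun k hk => by
        rw [mem_normalizer_iff]
        intro x
        simp only [W', mem_inf]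
        rw [mem_normalizer_iff.1 (hWn hk) x,
          mem_normalizer_iff.1 (Solv.normalizer_le_normalizer_centralizer _ (hNn hk)) x]
      have hlt : Nat.card W' < Nat.card W := by
        refine lt_of_le_of_ne (Nat.card_le_card_of_injective _ (inclusion_injective inf_le_left)) fun e => hN ?_
        exact le_centralizer_iff.1 ((eq_of_le_of_card_ge inf_le_left e.ge).ge.trans inf_le_right)
      refine ih W' (by omega) (inf_le_left.trans hWY) hW'n (le_antisymm (le_inf inf_le_left ?_)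
        (inf_le_inf_left _ (centralizer_le (inf_le_left.trans hWY))))
      have hNL : N ⊓ L ≤ centralizer (Y : Set H) := by
        refine hY.kill _ inf_le_right (fun l hl => ?_) fun x hx => ?_
        · rw [mem_normalizer_iff]
          intro x
          simp only [mem_inf]
          rw [mem_normalizer_iff.1 (hNn (hLK hl)) x, mem_normalizer_iff.1 (le_normalizer hl) x]
        · obtain ⟨k, hk⟩ := hmod x hx.1
          exact ⟨k, (hC.le ⟨L.pow_mem hx.2 _, hk⟩).2⟩
      refine hY.kill _ inf_le_left (fun l hl => ?_) (pmod_of_coprime fun x hx hxp => ?_)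
      · rw [mem_normalizer_iff]
        intro x
        simp only [mem_inf]
        rw [mem_normalizer_iff.1 (le_normalizer hl) x,
          mem_normalizer_iff.1 (Solv.normalizer_le_normalizer_centralizer _ (hW'n (hLK hl))) x]
      refine (hC.le ⟨hx.1, ?_⟩).2
      -- an element of order prime to `p` fixing the fixed points is trivial on `W`
      by_contra hxW
      set F := W ⊓ centralizer ({x} : Set H)
      have hxK : x ∈ K := hLK hx.1
      have hcomN : ∀ m ∈ N, ∀ w ∈ W, m * (x * w * x⁻¹) * m⁻¹ = x * (m * w * m⁻¹) * x⁻¹ := by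
        intro m hm w hw
        have h1 : x⁻¹ * m⁻¹ * x * m ∈ centralizer (W : Set H) := by
          suffices hh : x⁻¹ * m⁻¹ * x * m ∈ L ⊓ centralizer (Y : Set H) from (hC.ge hh).2
          have hin : x⁻¹ * m⁻¹ * x * m ∈ N ⊓ L := by
            refine ⟨N.mul_mem ((mem_normalizer_iff''.1 (hNn hxK) m⁻¹).1 (N.inv_mem hm)) hm, ?_⟩
            rw [show x⁻¹ * m⁻¹ * x * m = x⁻¹ * (m⁻¹ * x * m) by group]
            exact L.mul_mem (L.inv_mem hx.1) ((mem_normalizer_iff''.1 (hLn (hNK hm)) x).1 hx.1)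
          exact ⟨hin.2, hNL hin⟩
        calc m * (x * w * x⁻¹) * m⁻¹
            = m * x * w * (x⁻¹ * m⁻¹ * x * m) * m⁻¹ * x⁻¹ := by group
          _ = m * x * ((x⁻¹ * m⁻¹ * x * m) * w) * m⁻¹ * x⁻¹ := by
              rw [← mem_centralizer_iff.1 h1 w hw]; group
          _ = _ := by group
      have hNF : N ≤ normalizer (F : Set H) := fun m hm => by
        have hfw : ∀ m ∈ N, ∀ w ∈ F, m * w * m⁻¹ ∈ F := by
          intro m hm w hw
          refine ⟨(mem_normalizer_iff.1 (hWn (hNK hm)) w).1 hw.1, ?_⟩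
          refine mem_centralizer_singleton_iff.2 ?_
          have h2 := hcomN m hm w hw.1
          rw [← mem_centralizer_singleton_iff.1 hw.2, mul_inv_cancel_right] at h2
          exact (eq_mul_inv_iff_mul_eq.1 h2).symm ▸ rfl
        rw [mem_normalizer_iff]
        refine fun w => ⟨hfw m hm w, fun hw => ?_⟩
        have := hfw m⁻¹ (N.inv_mem hm) _ hw
        simpa [mul_assoc] using this
      have hne : F ≠ W := fun e => hxW (mem_centralizer_iff.2 fun w hw => by
        rw [← e] at hw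
        exact mem_centralizer_singleton_iff.1 hw.2)
      obtain ⟨w, hw, hwF, hfix⟩ := exists_fixed_mod inf_le_left hne hWc hWe (fun m hm => hWn (hNK hm)) hNF hmod
      set a := w⁻¹ * (x * w * x⁻¹) with ha
      have haW : a ∈ W := W.mul_mem (W.inv_mem hw) ((mem_normalizer_iff.1 (hWn hxK) w).1 hw)
      have haW' : a ∈ W' := by
        refine ⟨haW, mem_centralizer_iff.2 fun m hm => ?_⟩
        set f := w⁻¹ * (m * w * m⁻¹) with hf
        have hfF : f ∈ F := hfix m hm
        have hmw : m * w * m⁻¹ = w * f := by rw [hf, mul_inv_cancel_left]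
        have hxf : x * f * x⁻¹ = f := by
          rw [← mem_centralizer_singleton_iff.1 hfF.2, mul_inv_cancel_right]
        have h2 : m * a * m⁻¹ = a := by
          calc m * a * m⁻¹ = (m * w * m⁻¹)⁻¹ * (m * (x * w * x⁻¹) * m⁻¹) := by rw [ha]; group
            _ = (w * f)⁻¹ * ((x * w * x⁻¹) * (x * f * x⁻¹)) := by rw [hcomN m hm w hw, hmw]; group
            _ = f⁻¹ * (a * f) := by rw [hxf, ha]; group
            _ = a := by rw [hWc a haW f hfF.1, inv_mul_cancel_left]
        exact mul_inv_eq_iff_eq_mul.1 h2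
      have hp' := pow_fix (x := x) (v := w) a (by rw [ha, mul_inv_cancel_left])
        (mem_centralizer_iff.1 hx.2 a haW').symm (orderOf x)
      rw [pow_orderOf_eq_one, one_mul, inv_one, mul_one, eq_comm, mul_eq_left] at hp'
      have ha1 : a = 1 := orderOf_eq_one_iff.1 (Nat.eq_one_of_dvd_coprimes hxp
        (orderOf_dvd_of_pow_eq_one hp') (orderOf_dvd_of_pow_eq_one (hWe a haW)))
      rw [ha, inv_mul_eq_one] at ha1
      refine hwF ⟨hw, ?_⟩
      refine mem_centralizer_singleton_iff.2 ?_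
      exact eq_mul_inv_iff_mul_eq.1 ha1

theorem centralizer_largest_normal {K L : Subgroup H} (hLK : L ≤ K) (hLn : K ≤ normalizer (L : Set H)) :
    L ⊓ centralizer ((Cfsg.largestPReducedOf p L : Subgroup H) : Set H) =
      L ⊓ centralizer ((Cfsg.largestPReducedOf p K : Subgroup H) : Set H) := by
  have hY := red_largest (p := p) L
  set Y := Cfsg.largestPReducedOf p L with hYdef
  refine le_antisymm (le_inf inf_le_left ?_) (le_inf inf_le_left ?_)
  · obtain ⟨h1, h2⟩ := inter_normal (red_largest (p := p) K) hLK hLn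
    intro x hx
    exact (h2.le ⟨hx.1, centralizer_le h1.le_largest hx.2⟩).2
  · refine shrink hLK hLn hY _ Y le_rfl le_rfl ?_ rfl
    -- invariance
    have hfw : ∀ k ∈ K, Y.map (MulAut.conj k).toMonoidHom ≤ Y := by
      intro k hk
      have hL' : ∀ l ∈ L, k⁻¹ * l * k ∈ L := fun l hl => (mem_normalizer_iff''.1 (hLn hk) l).1 hl
      refine Red.le_largest ⟨?_, ?_, ?_, ?_, ?_⟩
      · rintro _ ⟨y, hy, rfl⟩
        exact (mem_normalizer_iff.1 (hLn hk) y).1 (hY.le hy)
      · intro l hl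
        rw [mem_normalizer_iff]
        intro x
        simp only [mem_map_equiv, MulAut.conj_symm_apply]
        rw [mem_normalizer_iff.1 (hY.norm (hL' l hl)) (k⁻¹ * x * k),
          show k⁻¹ * l * k * (k⁻¹ * x * k) * (k⁻¹ * l * k)⁻¹ = k⁻¹ * (l * x * l⁻¹) * k by group]
      · rintro _ ⟨a, ha, rfl⟩ _ ⟨b, hb, rfl⟩
        rw [← map_mul, hY.comm a ha b hb, map_mul]
      · rintro _ ⟨a, ha, rfl⟩
        rw [← map_pow, hY.exp a ha, map_one]
      · intro N hN hNn hmod
        have hN' : N.map (MulAut.conj k⁻¹).toMonoidHom ≤ centralizer (Y : Set H) := by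
          refine hY.kill _ ?_ (fun l hl => ?_) ?_
          · rintro _ ⟨y, hy, rfl⟩
            show k⁻¹ * y * k⁻¹⁻¹ ∈ L
            rw [inv_inv]; exact hL' y (hN hy)
          · have hl' : k * l * k⁻¹ ∈ L := (mem_normalizer_iff.1 (hLn hk) l).1 hl
            rw [mem_normalizer_iff]
            intro x
            simp only [mem_map_equiv, MulAut.conj_symm_apply, inv_inv]
            rw [mem_normalizer_iff.1 (hNn hl') (k * x * k⁻¹),
              show k * l * k⁻¹ * (k * x * k⁻¹) * (k * l * k⁻¹)⁻¹ = k * (l * x * l⁻¹) * k⁻¹ by group]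
          · rintro _ ⟨y, hy, rfl⟩
            obtain ⟨j, hj⟩ := hmod y hy
            refine ⟨j, ?_⟩
            rw [← map_pow, mem_centralizer_iff]
            intro v hv
            show v * (k⁻¹ * y ^ p ^ j * k⁻¹⁻¹) = k⁻¹ * y ^ p ^ j * k⁻¹⁻¹ * v
            have hc := mem_centralizer_iff.1 hj _ ⟨v, hv, rfl⟩
            simp only [MulEquiv.coe_toMonoidHom, MulAut.conj_apply] at hc
            calc v * (k⁻¹ * y ^ p ^ j * k⁻¹⁻¹) = k⁻¹ * ((k * v * k⁻¹) * y ^ p ^ j) * k := by group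
              _ = _ := by rw [hc]; group
        intro y hy
        rw [mem_centralizer_iff]
        rintro _ ⟨v, hv, rfl⟩
        have hc := mem_centralizer_iff.1 (hN' ⟨y, hy, rfl⟩) v hv
        simp only [MulEquiv.coe_toMonoidHom, MulAut.conj_apply] at hc ⊢
        calc k * v * k⁻¹ * y = k * (v * (k⁻¹ * y * k⁻¹⁻¹)) * k⁻¹ := by group
          _ = _ := by rw [hc]; group
    intro k hk
    rw [mem_normalizer_iff]
    intro x
    refine ⟨fun hx => hfw k hk ⟨x, hx, rfl⟩, fun hx => ?_⟩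
    have := hfw k⁻¹ (K.inv_mem hk) ⟨_, hx, rfl⟩
    simpa [mul_assoc] using this

theorem centralizer_largest_subnormal {L : Subgroup H} (hL : L.IsSubnormal) :
    L ⊓ centralizer ((Cfsg.largestPReducedOf p L : Subgroup H) : Set H) =
      L ⊓ centralizer (Cfsg.largestPReduced p H : Set H) := by
  induction hL with
  | top => rw [largestPReducedOf_top]
  | step A B hle _ hN ih =>
    rw [centralizer_largest_normal hle ((normal_subgroupOf_iff_le_normalizer hle).1 hN)]
    calc A ⊓ centralizer ((Cfsg.largestPReducedOf p B : Subgroup H) : Set H)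
        = A ⊓ (B ⊓ centralizer ((Cfsg.largestPReducedOf p B : Subgroup H) : Set H)) := by
          rw [← inf_assoc, inf_eq_left.2 hle]
      _ = A ⊓ centralizer (Cfsg.largestPReduced p H : Set H) := by rw [ih, ← inf_assoc, inf_eq_left.2 hle]

/-- S2825. -/
theorem subnormal_summary (L : Subgroup H) (hL : L.IsSubnormal) :
    Cfsg.largestPReduced p H ⊓ L = Cfsg.largestPReduced p H ⊓ (Cfsg.largestPReducedOf p L) ∧
    Cfsg.IsPReducedNormal p ((Cfsg.largestPReduced p H ⊓ L).subgroupOf L) ∧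
    L ⊓ centralizer ((Cfsg.largestPReducedOf p L : Subgroup H) : Set H) =
      L ⊓ centralizer (Cfsg.largestPReduced p H : Set H) ∧
    L ⊓ centralizer (Cfsg.largestPReduced p H : Set H) =
      L ⊓ centralizer ((Cfsg.largestPReduced p H ⊓ L : Subgroup H) : Set H) ∧
    (Cfsg.pResidual p H ≤ L →
      (⁅(Cfsg.largestPReducedOf p L), L⁆ = ⊥ ↔ ⁅Cfsg.largestPReduced p H, (⊤ : Subgroup H)⁆ = ⊥)) := by
  have hY := red_top_iff.1 (red_largest_top (p := p) (H := H))
  obtain ⟨h1, h2⟩ := inter_subnormal hY hL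
  have h3 := centralizer_largest_subnormal (p := p) hL
  refine ⟨le_antisymm (le_inf inf_le_left h1.le_largest) (inf_le_inf_left _ (map_subtype_le _)),
    (red_iff inf_le_right).2 h1, h3, h2.symm, fun hres => ?_⟩
  rw [commutator_comm, commutator_eq_bot_iff_le_centralizer, commutator_comm, commutator_eq_bot_iff_le_centralizer]
  refine ⟨fun h => hY.kill ⊤ le_rfl le_normalizer_of_normal (pmod_of_coprime fun x _ hx => ?_),
    fun h x hx => (h3.ge ⟨hx, h (mem_top x)⟩).2⟩
  have hxL : x ∈ L := hres (subset_closure hx)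
  exact (h3.le ⟨hxL, h hxL⟩).2

/-- Averaging over the cosets of a subgroup of index prime to `p`. -/
theorem exists_average {W Q D S : Subgroup H} (hSD : S ≤ D) (hidx : ¬ p ∣ S.relIndex D)
    (hDW : D ≤ normalizer (W : Set H)) (hcomm : ∀ a ∈ W, ∀ b ∈ W, a * b = b * a)
    (hexp : ∀ a ∈ W, a ^ p = 1) (hQW : Q ≤ W) {z : H} (hz : z ∈ W) (hzS : ∀ s ∈ S, s * z = z * s)
    (hq : ∀ g ∈ D, z⁻¹ * (g * z * g⁻¹) ∈ Q) :
    ∃ c ∈ W, ∃ w ∈ Q, z = c * w ∧ (∀ g ∈ D, g * c = c * g) ∧ (∀ s ∈ S, s * w = w * s) ∧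
      ∀ t : H, t ∈ normalizer (D : Set H) → t ∈ normalizer (S : Set H) →
        t * z * t⁻¹ * z⁻¹ ∈ W → (∀ g ∈ D, g * (t * z * t⁻¹ * z⁻¹) = (t * z * t⁻¹ * z⁻¹) * g) →
        t * w = w * t := by
  classical
  letI cg : CommGroup W :=
    { (inferInstance : Group W) with mul_comm := fun a b => Subtype.ext (hcomm _ a.2 _ b.2) }
  set S' := S.subgroupOf D
  haveI : Fintype (↥D ⧸ S') := Fintype.ofFinite _
  let f : ↥D ⧸ S' → W := fun q => Quotient.liftOn' q
    (fun g => ⟨(g : H) * z * (g : H)⁻¹, (mem_normalizer_iff.1 (hDW g.2) z).1 hz⟩) fun a b hab => by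
      rw [QuotientGroup.leftRel_apply, mem_subgroupOf] at hab
      apply Subtype.ext
      have h := hzS _ hab
      simp only [Subgroup.coe_mul, InvMemClass.coe_inv] at h
      show (a : H) * z * (a : H)⁻¹ = (b : H) * z * (b : H)⁻¹
      calc (a : H) * z * (a : H)⁻¹ = (a : H) * (z * ((a : H)⁻¹ * b)) * (b : H)⁻¹ := by group
        _ = (a : H) * (((a : H)⁻¹ * b) * z) * (b : H)⁻¹ := by rw [h]
        _ = _ := by group
  have hf : ∀ g : D, (f (g : ↥D ⧸ S') : H) = (g : H) * z * (g : H)⁻¹ := fun g => rfl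
  set n := Fintype.card (↥D ⧸ S')
  have hn : n = S.relIndex D := by rw [relIndex, index_eq_card, Nat.card_eq_fintype_card]
  obtain ⟨m, -, hm⟩ := Nat.exists_mul_mod_eq_one_of_coprime
    ((hp.out.coprime_iff_not_dvd.2 (hn ▸ hidx)).symm) hp.out.one_lt
  have hpow : ∀ a : W, a ^ (n * m) = a := fun a => by
    have ha : a ^ p = 1 := Subtype.ext (hexp _ a.2)
    rw [← Nat.mod_add_div (n * m) p, hm, pow_add, pow_mul, ha, one_pow, mul_one, pow_one]
  set P := ∏ q, f q
  set c : W := P ^ m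
  set z' : W := ⟨z, hz⟩
  set w : W := c⁻¹ * z'
  have hfix : ∀ g ∈ D, g * (c : H) = (c : H) * g := by
    intro g hg
    let φ : W →* W := ((W.normalizerMonoidHom) ⟨g, hDW hg⟩).toMonoidHom
    have hφ : φ P = P := by
      rw [map_prod]
      refine Fintype.prod_equiv (MulAction.toPerm (⟨g, hg⟩ : D)) _ _ fun q => ?_
      refine QuotientGroup.induction_on q fun a => ?_
      · apply Subtype.ext
        show g * ((a : H) * z * (a : H)⁻¹) * g⁻¹ =
          (((⟨g, hg⟩ : D) * a : D) : H) * z * (((⟨g, hg⟩ : D) * a : D) : H)⁻¹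
        simp only [Subgroup.coe_mul]; group
    have hc : φ c = c := by rw [map_pow, hφ]
    exact mul_inv_eq_iff_eq_mul.1 (congrArg Subtype.val hc)
  have hwQ : (w : H) ∈ Q := by
    have h1 : w = (∏ q, (f q)⁻¹ * z') ^ m := by
      rw [Finset.prod_mul_distrib, Finset.prod_const, Finset.card_univ, Finset.prod_inv_distrib, mul_pow,
        ← pow_mul, hpow, inv_pow]
    rw [h1, SubmonoidClass.coe_pow]
    refine Q.pow_mem ?_ m
    have h2 : (∏ q, (f q)⁻¹ * z') ∈ Q.subgroupOf W := Subgroup.prod_mem _ fun q _ => by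
      induction q using Quotient.inductionOn' with
      | h a =>
        rw [mem_subgroupOf]
        show ((a : H) * z * (a : H)⁻¹)⁻¹ * z ∈ Q
        have := Q.inv_mem (hq a a.2)
        rwa [mul_inv_rev, inv_inv] at this
    exact h2
  refine ⟨c, c.2, w, hwQ, ?_, hfix, fun s hs => ?_, fun t htD htS htW hta => ?_⟩
  · show z = ((c * (c⁻¹ * z') : W) : H)
    rw [mul_inv_cancel_left]
  · show s * ((c : H)⁻¹ * z) = (c : H)⁻¹ * z * s
    exact ((Commute.inv_right (hfix s (hSD hs))).mul_right (hzS s hs)).eq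
  · set a : W := ⟨t * z * t⁻¹ * z⁻¹, htW⟩ with ha
    let e : ↥D ⧸ S' ≃ ↥D ⧸ S' :=
      { toFun := Quotient.map' (fun g => ⟨t * g * t⁻¹, (mem_normalizer_iff.1 htD g).1 g.2⟩) fun x y hxy => by
          rw [QuotientGroup.leftRel_apply, mem_subgroupOf] at hxy ⊢
          simp only [Subgroup.coe_mul, InvMemClass.coe_inv] at hxy ⊢
          rw [show (t * (x : H) * t⁻¹)⁻¹ * (t * y * t⁻¹) = t * ((x : H)⁻¹ * y) * t⁻¹ by group]
          exact (mem_normalizer_iff.1 htS _).1 hxy
        invFun := Quotient.map' (fun g => ⟨t⁻¹ * g * t, (mem_normalizer_iff''.1 htD g).1 g.2⟩) fun x y hxy => by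
          rw [QuotientGroup.leftRel_apply, mem_subgroupOf] at hxy ⊢
          simp only [Subgroup.coe_mul, InvMemClass.coe_inv] at hxy ⊢
          rw [show (t⁻¹ * (x : H) * t)⁻¹ * (t⁻¹ * y * t) = t⁻¹ * ((x : H)⁻¹ * y) * t by group]
          exact (mem_normalizer_iff''.1 htS _).1 hxy
        left_inv := fun q => Quotient.inductionOn' q fun g =>
          congrArg Quotient.mk'' (Subtype.ext (by show t⁻¹ * (t * g * t⁻¹) * t = (g : H); group))
        right_inv := fun q => Quotient.inductionOn' q fun g =>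
          congrArg Quotient.mk'' (Subtype.ext (by show t * (t⁻¹ * g * t) * t⁻¹ = (g : H); group)) }
    have hPt : t * (P : H) * t⁻¹ = ((a ^ n * P : W) : H) := by
      have h1 : ∀ q, t * (f q : H) * t⁻¹ = ((a * f (e q) : W) : H) := fun q =>
        Quotient.inductionOn' q fun g => by
          show t * ((g : H) * z * (g : H)⁻¹) * t⁻¹ =
            t * z * t⁻¹ * z⁻¹ * ((t * g * t⁻¹) * z * (t * g * t⁻¹)⁻¹)
          have h2 := hta _ ((mem_normalizer_iff.1 htD g).1 g.2)
          calc t * ((g : H) * z * (g : H)⁻¹) * t⁻¹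
              = (t * g * t⁻¹) * (t * z * t⁻¹ * z⁻¹) * (z * (t * g * t⁻¹)⁻¹) := by group
            _ = _ := by rw [h2]; group
      have h3 : ∀ (s : Finset (↥D ⧸ S')), t * ((∏ q ∈ s, f q : W) : H) * t⁻¹ =
          ((∏ q ∈ s, a * f (e q) : W) : H) := by
        intro s
        induction s using Finset.induction_on with
        | empty => simp
        | insert q s hqs ih =>
          rw [Finset.prod_insert hqs, Finset.prod_insert hqs, Subgroup.coe_mul, Subgroup.coe_mul,
            ← h1 q, ← ih]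
          group
      rw [h3 Finset.univ, Finset.prod_mul_distrib, Finset.prod_const, Finset.card_univ,
        Fintype.prod_equiv e (fun q => f (e q)) f fun _ => rfl]
    have hct : t * (c : H) * t⁻¹ = ((a * c : W) : H) := by
      show t * ((P ^ m : W) : H) * t⁻¹ = ((a * P ^ m : W) : H)
      rw [SubmonoidClass.coe_pow, ← conj_pow, hPt, ← SubmonoidClass.coe_pow, mul_pow, ← pow_mul, hpow]
    refine mul_inv_eq_iff_eq_mul.1 ?_
    show t * ((c : H)⁻¹ * z) * t⁻¹ = ((c⁻¹ * z' : W) : H)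
    rw [show t * ((c : H)⁻¹ * z) * t⁻¹ = (t * c * t⁻¹)⁻¹ * ((t * z * t⁻¹ * z⁻¹) * z) by group, hct]
    have h4 : (a * c)⁻¹ * (a * z') = c⁻¹ * z' := by
      rw [mul_inv_rev, mul_assoc, inv_mul_cancel_left]
    exact congrArg Subtype.val h4

end Cfsg.Lib.PReduced
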