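import Mathlib
import Cfsg.Agent.Lib.PLocal.PReduced

/-!
Applications: the largest `p`-reduced subgroup and the centre of a Sylow subgroup.
-/

set_option autoImplicit false
set_option linter.style.haveILetI false
set_option linter.unusedSectionVars false

namespace Cfsg.Lib.PReduced

open Subgroup
open scoped commutatorElement

variable {H : Type*} [Group H] [Finite H] {p : ℕ} [hp : Fact p.Prime]

theorem not_dvd_relIndex_subnormal {P C K : Subgroup H} (hPK : P ≤ K) (hP : IsPGroup p P)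
    (hidx : ¬ p ∣ P.relIndex K) (hCK : C ≤ K) (hC : (C.subgroupOf K).IsSubnormal) :
    ¬ p ∣ P.relIndex C := by
  obtain ⟨Q, hQ⟩ := Solv.sylow_inf_subnormal hC
    ((hP.comap_of_injective K.subtype K.subtype_injective).toSylow
      (show ¬ p ∣ (P.subgroupOf K).index from hidx))
  have h := Q.not_dvd_index
  rw [hQ] at h
  have h' : ¬ p ∣ (P.subgroupOf K).relIndex (C.subgroupOf K) := h
  rwa [relIndex_subgroupOf hCK] at h'

theorem le_of_not_dvd_relIndex {P X K : Subgroup H} (hX : IsPGroup p X) (hPX : P ≤ X) (hXK : X ≤ K)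
    (hidx : ¬ p ∣ P.relIndex K) : X ≤ P := by
  obtain ⟨k, hk⟩ := hX.index (P.subgroupOf X)
  have hk' : P.relIndex X = p ^ k := hk
  rcases k with _ | k
  · exact relIndex_eq_one.1 (by rwa [pow_zero] at hk')
  · exact absurd ((dvd_pow_self p k.succ_ne_zero).trans (hk' ▸ Dvd.intro _ (relIndex_mul_relIndex P X K hPX hXK))) hidx

theorem pCoreOf_le (K : Subgroup H) : Cfsg.pCoreOf p K ≤ K := map_subtype_le _

theorem pCoreOf_isPGroup (K : Subgroup H) : IsPGroup p (Cfsg.pCoreOf p K) := (Solv.isPGroup_pCore p).map _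

theorem le_normalizer_map {K : Subgroup H} (N : Subgroup ↥K) (hN : N.Normal) :
    K ≤ normalizer ((N.map K.subtype : Subgroup H) : Set H) := by
  rw [← normal_subgroupOf_iff_le_normalizer (map_subtype_le _)]
  rwa [← comap_subtype, comap_map_eq_self_of_injective K.subtype_injective]

theorem pCoreOf_norm (K : Subgroup H) : K ≤ normalizer (Cfsg.pCoreOf p K : Set H) :=
  le_normalizer_map _ (Transfer.pCore_normal p)

theorem le_pCoreOf {N K : Subgroup H} (hNK : N ≤ K) (hn : K ≤ normalizer (N : Set H)) (hN : IsPGroup p N) :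
    N ≤ Cfsg.pCoreOf p K := fun x hx =>
  ⟨⟨x, hNK hx⟩, Solv.le_pCore (N := N.subgroupOf K) ((normal_subgroupOf_iff_le_normalizer hNK).2 hn)
    hN.comap_subtype hx, rfl⟩

theorem pCoreOf_le_of_sylow {P K : Subgroup H} (hPK : P ≤ K) (hP : IsPGroup p P)
    (hidx : ¬ p ∣ P.relIndex K) : Cfsg.pCoreOf p K ≤ P :=
  le_sup_left.trans (le_of_not_dvd_relIndex (IsPGroup.to_sup_of_normal_left' (pCoreOf_isPGroup K) hP
    (hPK.trans (pCoreOf_norm K))) le_sup_right (sup_le (pCoreOf_le K) hPK) hidx)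

/-- Characteristic `p` for a subgroup. -/
def CharP (p : ℕ) (K : Subgroup H) : Prop :=
  K ⊓ centralizer (Cfsg.pCoreOf p K : Set H) ≤ Cfsg.pCoreOf p K

theorem charP_of {K : Subgroup H}
    (h : centralizer (Cfsg.pCore p ↥K : Set ↥K) ≤ Cfsg.pCore p ↥K) : CharP p K := by
  rintro x ⟨hx, hc⟩
  refine ⟨⟨x, hx⟩, h (mem_centralizer_iff.2 fun u hu => Subtype.ext ?_), rfl⟩
  exact mem_centralizer_iff.1 hc u ⟨u, hu, rfl⟩

theorem pCoreOf_top : Cfsg.pCoreOf p (⊤ : Subgroup H) = Cfsg.pCore p H := by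
  rw [Cfsg.pCoreOf, Solv.map_pCore_subgroup, inf_top_eq]

theorem charP_top (h : centralizer (Cfsg.pCore p H : Set H) ≤ Cfsg.pCore p H) : CharP p (⊤ : Subgroup H) := by
  rw [CharP, pCoreOf_top, top_inf_eq]; exact h

theorem Red.le_pCoreOf {K V : Subgroup H} (h : Red p K V) : V ≤ Cfsg.pCoreOf p K :=
  PReduced.le_pCoreOf h.le h.norm h.isPGroup

theorem Red.pCoreOf_le_centralizer {K V : Subgroup H} (h : Red p K V) :
    Cfsg.pCoreOf p K ≤ centralizer (V : Set H) :=
  h.le_centralizer (pCoreOf_le K) (pCoreOf_norm K) (pCoreOf_isPGroup K)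

theorem mem_omegaZ {P : Subgroup H} {x : H} :
    x ∈ Cfsg.omegaOne p (P ⊓ centralizer (P : Set H)) ↔ x ∈ P ∧ (∀ y ∈ P, y * x = x * y) ∧ x ^ p = 1 := by
  refine ⟨fun h => ?_, fun h => subset_closure ⟨⟨h.1, mem_centralizer_iff.2 h.2.1⟩, h.2.2⟩⟩
  refine closure_induction (fun x hx => ⟨hx.1.1, mem_centralizer_iff.1 hx.1.2, hx.2⟩)
    ⟨P.one_mem, fun y _ => by rw [mul_one, one_mul], one_pow p⟩ ?_ ?_ h
  · rintro a b - - ⟨ha, ha', ha''⟩ ⟨hb, hb', hb''⟩
    exact ⟨P.mul_mem ha hb, fun y hy => (Commute.mul_right (ha' y hy) (hb' y hy)).eq, by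
      rw [Commute.mul_pow (hb' a ha), ha'', hb'', one_mul]⟩
  · rintro a - ⟨ha, ha', ha''⟩
    exact ⟨P.inv_mem ha, fun y hy => (Commute.inv_right (ha' y hy)).eq, by rw [inv_pow, ha'', inv_one]⟩

theorem omegaZ_le {P : Subgroup H} : Cfsg.omegaOne p (P ⊓ centralizer (P : Set H)) ≤ P :=
  fun _ hx => (mem_omegaZ.1 hx).1

theorem normalizer_le_omegaZ (P : Subgroup H) :
    normalizer (P : Set H) ≤ normalizer (Cfsg.omegaOne p (P ⊓ centralizer (P : Set H)) : Set H) := by
  have key : ∀ g ∈ normalizer (P : Set H), ∀ x ∈ Cfsg.omegaOne p (P ⊓ centralizer (P : Set H)),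
      g * x * g⁻¹ ∈ Cfsg.omegaOne p (P ⊓ centralizer (P : Set H)) := by
    intro g hg x hx
    obtain ⟨h1, h2, h3⟩ := mem_omegaZ.1 hx
    refine mem_omegaZ.2 ⟨(mem_normalizer_iff.1 hg x).1 h1, fun y hy => ?_, by rw [conj_pow, h3, mul_one, mul_inv_cancel]⟩
    have := h2 _ ((mem_normalizer_iff''.1 hg y).1 hy)
    calc y * (g * x * g⁻¹) = g * ((g⁻¹ * y * g) * x) * g⁻¹ := by group
      _ = _ := by rw [this]; group
  intro g hg
  rw [mem_normalizer_iff]
  refine fun x => ⟨key g hg x, fun h => ?_⟩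
  have := key g⁻¹ (inv_mem hg) _ h
  simpa [mul_assoc] using this

theorem red_self {P : Subgroup H} (hP : IsPGroup p P) :
    Red p P (Cfsg.omegaOne p (P ⊓ centralizer (P : Set H))) :=
  ⟨omegaZ_le, le_normalizer.trans (normalizer_le_omegaZ P),
    fun a ha b hb => (mem_omegaZ.1 hb).2.1 a (mem_omegaZ.1 ha).1, fun a ha => (mem_omegaZ.1 ha).2.2,
    fun N hN _ _ x hx => mem_centralizer_iff.2 fun z hz => ((mem_omegaZ.1 hz).2.1 x (hN hx)).symm⟩

theorem omegaZ_le_largest {K : Subgroup H} (hK : centralizer (Cfsg.pCore p ↥K : Set ↥K) ≤ Cfsg.pCore p ↥K)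
    {P : Subgroup H} (hPK : P ≤ K) (hP : IsPGroup p P) (hidx : ¬ p ∣ P.relIndex K) :
    Cfsg.omegaOne p (P ⊓ centralizer (P : Set H)) ≤ Cfsg.largestPReducedOf p K := by
  set Z := Cfsg.omegaOne p (P ⊓ centralizer (P : Set H))
  set P' := P.subgroupOf K
  have hPp : IsPGroup p P' := hP.comap_subtype
  let T : Sylow p K := hPp.toSylow hidx
  have hmapP : P'.map K.subtype = P := map_subgroupOf_eq_of_le hPK
  set Z' := Cfsg.omegaOne p (P' ⊓ centralizer (P' : Set K))
  have hred : Cfsg.IsPReducedNormal p (Z'.subgroupOf P') := (red_iff omegaZ_le).2 (red_self hPp)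
  have h2 := PLocal.FrattiniResidual.normalClosure_pReduced hK T P' le_rfl _ hred
  rw [map_subgroupOf_eq_of_le (omegaZ_le (P := P'))] at h2
  intro z hz
  obtain ⟨hz1, hz2, hz3⟩ := mem_omegaZ.1 hz
  refine ⟨⟨z, hPK hz1⟩, le_sSup (show _ ∈ {V : Subgroup K | Cfsg.IsPReducedNormal p V} from h2) ?_, rfl⟩
  exact le_normalClosure (mem_omegaZ.2 ⟨hz1, fun y hy => Subtype.ext (hz2 y hy), Subtype.ext hz3⟩)

/-- `K = N_K(T₀) C_K(Y)`, and `Y = Ω₁(Z(T₀))`. -/
theorem largest_structure {K : Subgroup H} (hK : centralizer (Cfsg.pCore p ↥K : Set ↥K) ≤ Cfsg.pCore p ↥K)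
    {P : Subgroup H} (hPK : P ≤ K) (hP : IsPGroup p P) (hidx : ¬ p ∣ P.relIndex K)
    {T₀ : Subgroup H} (hT₀ : T₀ = P ⊓ centralizer (Cfsg.largestPReducedOf p K : Set H)) :
    Cfsg.largestPReducedOf p K = Cfsg.omegaOne p (T₀ ⊓ centralizer (T₀ : Set H)) ∧
      (∀ g ∈ K, ∃ a ∈ K ⊓ normalizer (T₀ : Set H), ∃ c ∈ K ⊓ centralizer (Cfsg.largestPReducedOf p K : Set H),
        g = a * c) ∧
      Cfsg.pCoreOf p (K ⊓ normalizer (T₀ : Set H)) = T₀ := by
  set Y := Cfsg.largestPReducedOf p K with hYdef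
  have hY : Red p K Y := red_largest K
  have hcp : CharP p K := charP_of hK
  set C := K ⊓ centralizer (Y : Set H)
  have hCn : K ≤ normalizer (C : Set H) := fun k hk => by
    rw [mem_normalizer_iff]
    intro x
    simp only [C, mem_inf]
    rw [mem_normalizer_iff.1 (le_normalizer hk) x,
      mem_normalizer_iff.1 (Solv.normalizer_le_normalizer_centralizer _ (hY.norm hk)) x]
  have hT₀C : T₀ ≤ C := hT₀ ▸ inf_le_inf_right _ hPK
  have hidx0 : ¬ p ∣ T₀.relIndex C := by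
    have h1 := not_dvd_relIndex_subnormal hPK hP hidx (inf_le_left : C ≤ K)
      ((normal_subgroupOf_iff_le_normalizer inf_le_left).2 hCn).isSubnormal
    have e : T₀ = P ⊓ C := by
      rw [hT₀, ← inf_assoc, inf_eq_left.2 hPK]
    rwa [e, inf_relIndex_right]
  have hT₀p : IsPGroup p T₀ := hT₀ ▸ hP.to_inf_left
  have hPn : P ≤ normalizer (T₀ : Set H) := fun x hx => by
    rw [mem_normalizer_iff]
    intro y
    simp only [hT₀, mem_inf]
    rw [mem_normalizer_iff.1 (le_normalizer hx) y,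
      mem_normalizer_iff.1 (Solv.normalizer_le_normalizer_centralizer _ (hY.norm (hPK hx))) y]
  -- Frattini
  have hfrat : ∀ g ∈ K, ∃ a ∈ K ⊓ normalizer (T₀ : Set H), ∃ c ∈ C, g = a * c := by
    intro g hg
    let S : Sylow p C := hT₀p.comap_subtype.toSylow (show ¬ p ∣ (T₀.subgroupOf C).index from hidx0)
    have hgT : T₀.map (MulAut.conj g⁻¹).toMonoidHom ≤ C := by
      rintro _ ⟨x, hx, rfl⟩
      exact (mem_normalizer_iff.1 (hCn (K.inv_mem hg)) x).1 (hT₀C hx)
    obtain ⟨Q, hQ⟩ := ((hT₀p.map (MulAut.conj g⁻¹).toMonoidHom).comap_subtype (K := C)).exists_le_sylow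
    obtain ⟨c, hc⟩ := MulAction.exists_smul_eq C Q S
    have hnorm : (c : H) * g⁻¹ ∈ normalizer (T₀ : Set H) := by
      rw [mem_normalizer_iff_map_conj_eq]
      refine eq_of_le_of_card_ge ?_ (card_map_of_injective (MulAut.conj ((c : H) * g⁻¹)).injective).ge
      rintro _ ⟨x, hx, rfl⟩
      have h1 : (⟨g⁻¹ * x * g⁻¹⁻¹, hgT ⟨x, hx, rfl⟩⟩ : C) ∈ (Q : Subgroup C) := hQ ⟨x, hx, rfl⟩
      have h2 : c * ⟨g⁻¹ * x * g⁻¹⁻¹, hgT ⟨x, hx, rfl⟩⟩ * c⁻¹ ∈ (S : Subgroup C) := by
        rw [← hc, Sylow.coe_subgroup_smul]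
        exact ⟨_, h1, rfl⟩
      have h3 : (c : H) * (g⁻¹ * x * g⁻¹⁻¹) * (c : H)⁻¹ ∈ T₀ := h2
      show (c : H) * g⁻¹ * x * ((c : H) * g⁻¹)⁻¹ ∈ T₀
      rwa [show (c : H) * g⁻¹ * x * ((c : H) * g⁻¹)⁻¹ = (c : H) * (g⁻¹ * x * g⁻¹⁻¹) * (c : H)⁻¹ by group]
    refine ⟨g * (c : H)⁻¹, ⟨K.mul_mem hg (K.inv_mem c.2.1), ?_⟩, c, c.2, by group⟩
    have := inv_mem hnorm
    rwa [mul_inv_rev, inv_inv] at this
  set N := K ⊓ normalizer (T₀ : Set H)
  have hPN : P ≤ N := le_inf hPK hPn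
  have hidxN : ¬ p ∣ P.relIndex N :=
    fun h => hidx (h.trans (Dvd.intro _ (relIndex_mul_relIndex P N K hPN inf_le_left)))
  have hT₀N : T₀ ≤ N := le_inf (hT₀C.trans inf_le_left) le_normalizer
  -- pull subgroups of `N` normal in `N` up to `K`
  have hlift : ∀ M : Subgroup H, M ≤ N → N ≤ normalizer (M : Set H) →
      PMod p (centralizer (Y : Set H)) M → M ≤ centralizer (Y : Set H) := by
    intro M hMN hMn hmod
    refine le_sup_left.trans (hY.kill (M ⊔ C) (sup_le (hMN.trans inf_le_left) inf_le_left) ?_ ?_)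
    · intro g hg
      obtain ⟨a, ha, c, hc, rfl⟩ := hfrat g hg
      have hfix : ∀ x ∈ normalizer (M : Set H) ⊓ normalizer (C : Set H), x ∈ normalizer ((M ⊔ C : Subgroup H) : Set H) :=
        fun x hx => Solv.conj_smul_eq_self_iff.1 (by
          rw [Subgroup.smul_sup, Solv.conj_smul_eq_self_iff.2 hx.1, Solv.conj_smul_eq_self_iff.2 hx.2])
      exact mul_mem (hfix a ⟨hMn ha, hCn (inf_le_left (α := Subgroup H) ha)⟩) (le_normalizer (mem_sup_right hc))
    · haveI := (normal_subgroupOf_iff_le_normalizer (inf_le_left : C ≤ K)).2 hCn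
      intro x hx
      set q := QuotientGroup.mk' (C.subgroupOf K)
      have hxK : x ∈ K := sup_le (hMN.trans inf_le_left) (inf_le_left : C ≤ K) hx
      have h1 : q ⟨x, hxK⟩ ∈ (M.subgroupOf K).map q := by
        have hx' : (⟨x, hxK⟩ : K) ∈ M.subgroupOf K ⊔ C.subgroupOf K := by
          rw [← subgroupOf_sup (hMN.trans inf_le_left) inf_le_left]; exact hx
        have := mem_map_of_mem q hx'
        rwa [Subgroup.map_sup, QuotientGroup.map_mk'_self, sup_bot_eq] at this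
      obtain ⟨y, hy, e⟩ := h1
      obtain ⟨k, hk⟩ := hmod _ hy
      refine ⟨k, ?_⟩
      have h2 : (q ⟨x, hxK⟩) ^ p ^ k = 1 := by
        rw [← e, ← map_pow]
        exact (QuotientGroup.eq_one_iff _).2 ⟨K.pow_mem y.2 _, hk⟩
      rw [← map_pow] at h2
      exact ((QuotientGroup.eq_one_iff _).1 h2).2
  have hcore : Cfsg.pCoreOf p N = T₀ := by
    refine le_antisymm ?_ (le_pCoreOf hT₀N inf_le_right hT₀p)
    rw [hT₀]
    exact le_inf (pCoreOf_le_of_sylow hPN hP hidxN) (hlift _ (pCoreOf_le N) (pCoreOf_norm N) fun x hx => by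
      obtain ⟨k, hk⟩ := pCoreOf_isPGroup N ⟨x, hx⟩
      exact ⟨k, by rw [show x ^ p ^ k = 1 from congrArg Subtype.val hk]; exact one_mem _⟩)
  refine ⟨le_antisymm (fun y hy => ?_) ?_, hfrat, hcore⟩
  · have hyT : y ∈ T₀ := by
      rw [hT₀]
      exact ⟨pCoreOf_le_of_sylow hPK hP hidx (hY.le_pCoreOf hy),
        mem_centralizer_iff.2 fun v hv => hY.comm v hv y hy⟩
    exact mem_omegaZ.2 ⟨hyT, fun t ht => (mem_centralizer_iff.1 (hT₀C ht).2 y hy).symm, hY.exp y hy⟩
  · set Z := Cfsg.omegaOne p (T₀ ⊓ centralizer (T₀ : Set H))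
    have hYZ : Y ≤ Z := fun y hy => mem_omegaZ.2 ⟨by
      rw [hT₀]
      exact ⟨pCoreOf_le_of_sylow hPK hP hidx (hY.le_pCoreOf hy),
        mem_centralizer_iff.2 fun v hv => hY.comm v hv y hy⟩,
      fun t ht => (mem_centralizer_iff.1 (hT₀C ht).2 y hy).symm, hY.exp y hy⟩
    have hZ : Red p N Z := by
      refine ⟨omegaZ_le.trans hT₀N, inf_le_right.trans (normalizer_le_omegaZ T₀),
        (red_self hT₀p).comm, (red_self hT₀p).exp, fun M hMN hMn hmod => ?_⟩
      have hMY : M ≤ centralizer (Y : Set H) := hlift M hMN hMn fun x hx => by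
        obtain ⟨k, hk⟩ := hmod x hx
        exact ⟨k, centralizer_le hYZ hk⟩
      intro x hx
      obtain ⟨k, hk⟩ := hmod x hx
      -- split `x` into parts
      have hxC : x ∈ N ⊓ centralizer (Y : Set H) := ⟨hMN hx, hMY hx⟩
      set D := N ⊓ centralizer (Y : Set H)
      have hT₀D : T₀ ≤ D := le_inf hT₀N (hT₀C.trans inf_le_right)
      have hidxD : ¬ p ∣ T₀.relIndex D := fun h => hidx0 (h.trans (Dvd.intro _
        (relIndex_mul_relIndex T₀ D C hT₀D (inf_le_inf_right _ inf_le_left))))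
      set d := (T₀.subgroupOf D).index
      have hd : x ^ d ∈ T₀ := by
        haveI : (T₀.subgroupOf D).Normal :=
          (normal_subgroupOf_iff_le_normalizer hT₀D).2 (inf_le_left.trans inf_le_right)
        exact Subgroup.pow_index_mem (T₀.subgroupOf D) (⟨x, hxC⟩ : D)
      have hdC : x ^ d ∈ centralizer (Z : Set H) :=
        mem_centralizer_iff.2 fun z hz => ((mem_omegaZ.1 hz).2.1 _ hd).symm
      have hco : (p ^ k).gcd d = 1 := ((hp.out.coprime_iff_not_dvd.2 hidxD).pow_left k)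
      have := Nat.gcd_eq_gcd_ab (p ^ k) d
      rw [hco] at this
      rw [← zpow_one x, show (1 : ℤ) = _ from this, zpow_add, zpow_mul, zpow_mul, zpow_natCast, zpow_natCast]
      exact mul_mem (zpow_mem hk _) (zpow_mem hdC _)
    -- normal closure into `K`
    intro z hz
    let T : Sylow p K := hP.comap_subtype.toSylow hidx
    have hred : Cfsg.IsPReducedNormal p ((Z.subgroupOf K).subgroupOf (N.subgroupOf K)) := by
      rw [red_iff (show Z.subgroupOf K ≤ N.subgroupOf K from fun x hx => hZ.le hx)]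
      refine ⟨fun x hx => hZ.le hx, fun x hx => ?_, fun a ha b hb => Subtype.ext (hZ.comm _ ha _ hb),
        fun a ha => Subtype.ext (hZ.exp _ ha), fun M hMN hMn hmod => ?_⟩
      · rw [mem_normalizer_iff]
        exact fun y => mem_normalizer_iff.1 (hZ.norm hx) (y : H)
      · have h1 := hZ.kill (M.map K.subtype) (by rintro _ ⟨y, hy, rfl⟩; exact hMN hy) (fun n hn => ?_) ?_
        · exact fun y hy => (mem_centralizer_subgroupOf (hZ.le.trans inf_le_left) y).2 (h1 ⟨y, hy, rfl⟩)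
        · have hn' : (⟨n, hn.1⟩ : K) ∈ normalizer (M : Set K) := hMn hn
          have hfix : ∀ (a : K), a ∈ normalizer (M : Set K) → ∀ y ∈ M.map K.subtype, (a : H) * y * (a : H)⁻¹ ∈ M.map K.subtype := by
            rintro a ha _ ⟨y, hy, rfl⟩
            exact ⟨a * y * a⁻¹, (mem_normalizer_iff.1 ha y).1 hy, rfl⟩
          rw [mem_normalizer_iff]
          refine fun y => ⟨hfix _ hn' y, fun h => ?_⟩
          have := hfix _ (inv_mem hn') _ h
          simpa [mul_assoc] using this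
        · rintro _ ⟨y, hy, rfl⟩
          obtain ⟨j, hj⟩ := hmod y hy
          exact ⟨j, by simpa using (mem_centralizer_subgroupOf (hZ.le.trans inf_le_left) _).1 hj⟩
    have h2 := PLocal.FrattiniResidual.normalClosure_pReduced hK T (N.subgroupOf K)
      (fun x hx => hPN hx) _ hred
    rw [map_subgroupOf_eq_of_le (show Z.subgroupOf K ≤ N.subgroupOf K from fun x hx => hZ.le hx)] at h2
    exact ⟨⟨z, inf_le_left (α := Subgroup H) (hZ.le hz)⟩,
      le_sSup (show _ ∈ {V : Subgroup K | Cfsg.IsPReducedNormal p V} from h2) (le_normalClosure hz), rfl⟩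

/-- S2803. -/
theorem structure_top (hchar : centralizer (Cfsg.pCore p H : Set H) ≤ Cfsg.pCore p H)
    (T : Sylow p H) (Y : Subgroup H)
    (hY : Cfsg.IsPReducedNormal p Y ∧ ∀ V : Subgroup H, Cfsg.IsPReducedNormal p V → V ≤ Y)
    (TL : Subgroup H) (hTL : TL = (T : Subgroup H) ⊓ centralizer (Y : Set H)) :
    (∀ g : H, ∃ a ∈ normalizer (TL : Set H), ∃ c ∈ centralizer (Y : Set H), g = a * c) ∧
      (Cfsg.pCore p ↥(normalizer (TL : Set H))).map (normalizer (TL : Set H)).subtype = TL ∧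
      Y = Cfsg.omegaOne p (TL ⊓ centralizer (TL : Set H)) := by
  have hYe : Y = Cfsg.largestPReducedOf p (⊤ : Subgroup H) :=
    le_antisymm (red_top_iff.1 hY.1).le_largest (hY.2 _ (red_top_iff.2 (red_largest ⊤)))
  subst hYe
  have hK : centralizer (Cfsg.pCore p ↥(⊤ : Subgroup H) : Set ↥(⊤ : Subgroup H)) ≤ Cfsg.pCore p ↥(⊤ : Subgroup H) :=
    Comp.charP_subnormal hchar ⊤ IsSubnormal.top
  obtain ⟨h1, h2, h3⟩ := largest_structure hK le_top T.isPGroup'
    (by rw [relIndex_top_right]; exact T.not_dvd_index) hTL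
  rw [top_inf_eq] at h3
  refine ⟨fun g => ?_, h3, h1⟩
  obtain ⟨a, ha, c, hc, e⟩ := h2 g (mem_top g)
  exact ⟨a, ha.2, c, hc.2, e⟩

theorem sylow_relIndex {L : Subgroup H} (T : Sylow p H) (hTL : (T : Subgroup H) ≤ L) :
    ¬ p ∣ (T : Subgroup H).relIndex L :=
  fun h => T.not_dvd_index (h.trans (relIndex_dvd_index_of_le hTL))

/-- S2821. -/
theorem basics (T : Sylow p H) (L : Subgroup H) (hTL : (T : Subgroup H) ≤ L)
    (hL : centralizer (Cfsg.pCore p ↥L : Set ↥L) ≤ Cfsg.pCore p ↥L) (T₀ : Subgroup H)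
    (hT₀ : T₀ = (T : Subgroup H) ⊓ centralizer ((Cfsg.largestPReducedOf p L : Subgroup H) : Set H)) :
    (∃ P : Sylow p ↥(centralizer ((Cfsg.largestPReducedOf p L : Subgroup H) : Set H)),
      (P : Subgroup ↥(centralizer ((Cfsg.largestPReducedOf p L : Subgroup H) : Set H))) =
        T₀.subgroupOf (centralizer ((Cfsg.largestPReducedOf p L : Subgroup H) : Set H))) ∧
    Cfsg.pCoreOf p L ≤ T₀ ∧
    T₀ ≤ L ⊓ centralizer ((Cfsg.largestPReducedOf p L : Subgroup H) : Set H) ∧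
    Cfsg.omegaOne p ((T : Subgroup H) ⊓ centralizer ((T : Subgroup H) : Set H)) ≤ Cfsg.sylowCenterClosure p L ∧
    Cfsg.sylowCenterClosure p L ≤ Cfsg.largestPReducedOf p L ∧
    Cfsg.largestPReducedOf p L ≤ Cfsg.omegaOne p (Cfsg.pCoreOf p L ⊓ centralizer (Cfsg.pCoreOf p L : Set H)) := by
  set Y := Cfsg.largestPReducedOf p L
  have hY : Red p L Y := red_largest L
  have hidx := sylow_relIndex T hTL
  refine ⟨?_, ?_, hT₀ ▸ inf_le_inf_right _ hTL, ?_, ?_, fun y hy => mem_omegaZ.2 ⟨hY.le_pCoreOf hy,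
    fun u hu => (mem_centralizer_iff.1 (hY.pCoreOf_le_centralizer hu) y hy).symm, hY.exp y hy⟩⟩
  · set C := centralizer (Y : Set H)
    set N := normalizer (Y : Set H)
    have hCN : C ≤ N := centralizer_le_normalizer _
    have hTN : (T : Subgroup H) ≤ N := hTL.trans hY.norm
    have h1 := not_dvd_relIndex_subnormal hTN T.isPGroup' (sylow_relIndex T hTN) hCN
      ((normal_subgroupOf_iff_le_normalizer hCN).2 (Solv.normalizer_le_normalizer_centralizer _)).isSubnormal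
    have hp0 : IsPGroup p (T₀.subgroupOf C) := (hT₀ ▸ T.isPGroup'.to_inf_left : IsPGroup p T₀).comap_subtype
    refine ⟨hp0.toSylow ?_, rfl⟩
    show ¬ p ∣ T₀.relIndex C
    rwa [hT₀, inf_relIndex_right]
  · rw [hT₀]
    exact le_inf (pCoreOf_le_of_sylow hTL T.isPGroup' hidx) hY.pCoreOf_le_centralizer
  · have e : ((T.subtype hTL : Sylow p L) : Subgroup L).map L.subtype = (T : Subgroup H) := by
      rw [Sylow.coe_subtype, map_subgroupOf_eq_of_le hTL]
    refine le_trans ?_ (le_iSup (fun S : Sylow p L => Cfsg.omegaOne p (((S : Subgroup L).map L.subtype) ⊓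
      centralizer ((((S : Subgroup L).map L.subtype) : Subgroup H) : Set H))) (T.subtype hTL))
    rw [e]
  · refine iSup_le fun S => omegaZ_le_largest hL (map_subtype_le _) (S.isPGroup'.map _) ?_
    show ¬ p ∣ (((S : Subgroup L).map L.subtype).subgroupOf L).index
    rw [← comap_subtype, comap_map_eq_self_of_injective L.subtype_injective]
    exact S.not_dvd_index

theorem largest_le_of_sup_eq {L M C : Subgroup H} {Y : Subgroup H} (hY : Red p M Y)
    (hC : C = centralizer (Y : Set H)) (hYL : Y ≤ L) (h : L ⊔ C = M ⊔ C) : Red p L Y := by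
  subst hC
  set C := centralizer (Y : Set H)
  have hMN : M ⊔ C ≤ normalizer (Y : Set H) := sup_le hY.norm (centralizer_le_normalizer _)
  have hLN : L ≤ normalizer (Y : Set H) := le_sup_left.trans (h.le.trans hMN)
  refine ⟨hYL, hLN, hY.comm, hY.exp, fun N hN hNn hmod => ?_⟩
  haveI hCn : (C.subgroupOf (M ⊔ C)).Normal := (normal_subgroupOf_iff_le_normalizer le_sup_right).2
    (hMN.trans (Solv.normalizer_le_normalizer_centralizer _))
  set X := M ⊔ C
  set q := QuotientGroup.mk' (C.subgroupOf X)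
  have hMX : M ≤ X := le_sup_left
  have hLX : L ≤ X := le_sup_left.trans h.le
  have hsurjM : ∀ g : X, ∃ m : X, (m : H) ∈ M ∧ q m = q g := by
    intro g
    have hg : g ∈ M.subgroupOf X ⊔ C.subgroupOf X := by
      rw [← subgroupOf_sup hMX le_sup_right]; exact g.2
    have h1 := mem_map_of_mem q hg
    rw [Subgroup.map_sup, QuotientGroup.map_mk'_self, sup_bot_eq] at h1
    obtain ⟨m, hm, e⟩ := h1
    exact ⟨m, hm, e⟩
  have hsurjL : ∀ g : X, ∃ l : X, (l : H) ∈ L ∧ q l = q g := by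
    intro g
    have hg : g ∈ L.subgroupOf X ⊔ C.subgroupOf X := by
      rw [← subgroupOf_sup hLX le_sup_right]
      show (g : H) ∈ L ⊔ C
      rw [h]; exact g.2
    have h1 := mem_map_of_mem q hg
    rw [Subgroup.map_sup, QuotientGroup.map_mk'_self, sup_bot_eq] at h1
    obtain ⟨m, hm, e⟩ := h1
    exact ⟨m, hm, e⟩
  set R := ((((N.subgroupOf X).map q).comap q).map X.subtype) ⊓ M with hR
  have hRmem : ∀ x, x ∈ R ↔ x ∈ M ∧ ∃ hx : x ∈ X, q ⟨x, hx⟩ ∈ (N.subgroupOf X).map q := fun x => by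
    rw [hR, mem_inf]
    exact ⟨fun ⟨⟨y, hy, e⟩, hm⟩ => ⟨hm, e ▸ y.2, by subst e; exact hy⟩, fun ⟨hm, hx, hq⟩ => ⟨⟨_, hq, rfl⟩, hm⟩⟩
  have hNq : ((N.subgroupOf X).map q).Normal := ⟨fun a ha g => by
    obtain ⟨a, ha, rfl⟩ := ha
    obtain ⟨g, rfl⟩ := QuotientGroup.mk'_surjective _ g
    obtain ⟨l, hl, e⟩ := hsurjL g
    rw [← e, ← map_inv, ← map_mul, ← map_mul]
    exact ⟨_, (mem_normalizer_iff.1 (hNn hl) (a : H)).1 ha, rfl⟩⟩
  have hRC : R ≤ C := by
    refine hY.kill R inf_le_right (fun m hm => ?_) fun x hx => ?_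
    · have hfw : ∀ m ∈ M, ∀ x ∈ R, m * x * m⁻¹ ∈ R := by
        intro m hm x hx
        rw [hRmem] at hx ⊢
        obtain ⟨hxM, hxX, hq⟩ := hx
        refine ⟨M.mul_mem (M.mul_mem hm hxM) (M.inv_mem hm), X.mul_mem (X.mul_mem (hMX hm) hxX) (X.inv_mem (hMX hm)), ?_⟩
        have h1 := hNq.conj_mem _ hq (q ⟨m, hMX hm⟩)
        rwa [← map_inv, ← map_mul, ← map_mul] at h1
      rw [mem_normalizer_iff]
      refine fun x => ⟨hfw m hm x, fun hx => ?_⟩
      have := hfw m⁻¹ (M.inv_mem hm) _ hx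
      simpa [mul_assoc] using this
    · obtain ⟨-, hxX, ⟨y, hy, e⟩⟩ := (hRmem x).1 hx
      obtain ⟨k, hk⟩ := hmod _ hy
      refine ⟨k, ?_⟩
      have h2 : q (⟨x, hxX⟩ ^ p ^ k) = 1 := by
        rw [map_pow, ← e, ← map_pow]
        exact (QuotientGroup.eq_one_iff _).2 hk
      have h3 := (QuotientGroup.eq_one_iff _).1 h2
      exact h3
  intro x hx
  obtain ⟨m, hm, e⟩ := hsurjM ⟨x, hLX (hN hx)⟩
  have h1 : (m : H) ∈ C := hRC ((hRmem m).2 ⟨hm, m.2, ⟨⟨x, hLX (hN hx)⟩, hx, e.symm⟩⟩)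
  have h2 : q m = 1 := (QuotientGroup.eq_one_iff _).2 h1
  rw [e] at h2
  have h3 := (QuotientGroup.eq_one_iff _).1 h2
  exact h3

/-- S2822. -/
theorem largest_mono (T : Sylow p H) (L M : Subgroup H) (hTL : (T : Subgroup H) ≤ L) (hTM : (T : Subgroup H) ≤ M)
    (h : L ⊔ centralizer ((Cfsg.largestPReducedOf p M : Subgroup H) : Set H) =
      M ⊔ centralizer ((Cfsg.largestPReducedOf p M : Subgroup H) : Set H)) :
    Cfsg.largestPReducedOf p M ≤ Cfsg.largestPReducedOf p L :=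
  (largest_le_of_sup_eq (red_largest M) rfl
    ((red_largest M).le_pCoreOf.trans ((pCoreOf_le_of_sylow hTM T.isPGroup' (sylow_relIndex T hTM)).trans hTL))
    h).le_largest

/-- S2824. -/
theorem frattini_transport (T : Sylow p H) (L M : Subgroup H) (hTL : (T : Subgroup H) ≤ L) (hTM : (T : Subgroup H) ≤ M)
    (hL : centralizer (Cfsg.pCore p ↥L : Set ↥L) ≤ Cfsg.pCore p ↥L)
    (T₀ : Subgroup H) (hT₀ : T₀ = (T : Subgroup H) ⊓ centralizer ((Cfsg.largestPReducedOf p L : Subgroup H) : Set H))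
    (hfac : M ⊔ centralizer ((Cfsg.largestPReducedOf p L : Subgroup H) : Set H) =
      L ⊔ centralizer ((Cfsg.largestPReducedOf p L : Subgroup H) : Set H))
    (Ls : Subgroup H) (hLs : Ls = M ⊓ normalizer (T₀ : Set H)) :
    Cfsg.largestPReducedOf p Ls = Cfsg.largestPReducedOf p L ∧
      L ⊔ centralizer ((Cfsg.largestPReducedOf p L : Subgroup H) : Set H) =
        Ls ⊔ centralizer ((Cfsg.largestPReducedOf p L : Subgroup H) : Set H) := by
  set Y := Cfsg.largestPReducedOf p L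
  have hY : Red p L Y := red_largest L
  set C := centralizer (Y : Set H)
  have hidx := sylow_relIndex T hTL
  have hMN : M ≤ normalizer (Y : Set H) :=
    le_sup_left.trans (hfac.le.trans (sup_le hY.norm (centralizer_le_normalizer _)))
  have hTn : (T : Subgroup H) ≤ normalizer (T₀ : Set H) := fun x hx => by
    rw [mem_normalizer_iff]
    intro y
    simp only [hT₀, mem_inf]
    rw [mem_normalizer_iff.1 (le_normalizer hx) y,
      mem_normalizer_iff.1 (Solv.normalizer_le_normalizer_centralizer _ (hY.norm (hTL hx))) y]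
  have hTLs : (T : Subgroup H) ≤ Ls := hLs ▸ le_inf hTM hTn
  have heq : L ⊔ C = Ls ⊔ C := by
    rw [← hfac]
    refine le_antisymm (sup_le ?_ le_sup_right) (sup_le_sup_right (hLs ▸ inf_le_left) _)
    intro g hg
    set D := M ⊓ C
    have hDn : M ≤ normalizer (D : Set H) := fun k hk => by
      rw [mem_normalizer_iff]
      intro x
      simp only [D, mem_inf]
      rw [mem_normalizer_iff.1 (le_normalizer hk) x,
        mem_normalizer_iff.1 (Solv.normalizer_le_normalizer_centralizer _ (hMN hk)) x]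
    haveI := (normal_subgroupOf_iff_le_normalizer (inf_le_left : D ≤ M)).2 hDn
    have hT₀D : T₀ ≤ D := hT₀ ▸ inf_le_inf_right _ hTM
    have h1 : ¬ p ∣ T₀.relIndex D := by
      have := not_dvd_relIndex_subnormal hTM T.isPGroup' (sylow_relIndex T hTM) (inf_le_left : D ≤ M)
        ((normal_subgroupOf_iff_le_normalizer inf_le_left).2 hDn).isSubnormal
      have e : T₀ = (T : Subgroup H) ⊓ D := by rw [hT₀, ← inf_assoc, inf_eq_left.2 hTM]
      rwa [e, inf_relIndex_right]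
    let S : Sylow p ↥(D.subgroupOf M) :=
      (((hT₀ ▸ T.isPGroup'.to_inf_left : IsPGroup p T₀).comap_subtype (K := M)).comap_subtype).toSylow (by
        show ¬ p ∣ (T₀.subgroupOf M).relIndex (D.subgroupOf M)
        rwa [relIndex_subgroupOf inf_le_left])
    have h2 := Sylow.normalizer_sup_eq_top S
    have h3 : (S : Subgroup ↥(D.subgroupOf M)).map (D.subgroupOf M).subtype = T₀.subgroupOf M :=
      map_subgroupOf_eq_of_le (fun x hx => hT₀D hx)
    rw [h3] at h2
    obtain ⟨a, ha, c, hc, e⟩ := Subgroup.mem_sup_of_normal_right.1 (h2.ge (mem_top (⟨g, hg⟩ : M)))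
    have hg' : g = (a : H) * c := (congrArg Subtype.val e).symm
    rw [hg']
    refine mul_mem (mem_sup_left ?_) (mem_sup_right (inf_le_right (α := Subgroup H) hc))
    rw [hLs]
    refine ⟨a.2, mem_normalizer_iff.2 fun x => ?_⟩
    by_cases hx : x ∈ M
    · exact mem_normalizer_iff.1 ha ⟨x, hx⟩
    · refine iff_of_false (fun h => hx ((hT₀D h).1)) fun h => hx ?_
      have := M.mul_mem (M.mul_mem (M.inv_mem a.2) (hT₀D h).1) a.2
      simpa [mul_assoc] using this
  refine ⟨le_antisymm ?_ ?_, heq⟩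
  · set Y' := Cfsg.largestPReducedOf p Ls
    have hY' : Red p Ls Y' := red_largest Ls
    have hidx' := sylow_relIndex T hTLs
    have hY'T : Y' ≤ (T : Subgroup H) := hY'.le_pCoreOf.trans (pCoreOf_le_of_sylow hTLs T.isPGroup' hidx')
    have hT₀n : Ls ≤ normalizer (T₀ : Set H) := hLs ▸ inf_le_right
    have hT₀T : T₀ ≤ (T : Subgroup H) := hT₀ ▸ inf_le_left
    have hT₀p : IsPGroup p T₀ := T.isPGroup'.to_le hT₀T
    have hT₀Y : T₀ ≤ centralizer (Y' : Set H) := hY'.le_centralizer (hT₀T.trans hTLs) hT₀n hT₀p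
    have hU : Cfsg.pCoreOf p L ≤ T₀ := hT₀ ▸ le_inf (pCoreOf_le_of_sylow hTL T.isPGroup' hidx) hY.pCoreOf_le_centralizer
    rw [show Y = _ from (largest_structure hL hTL T.isPGroup' hidx hT₀).1]
    intro y hy
    refine mem_omegaZ.2 ⟨hU (charP_of hL ⟨hTL (hY'T hy), mem_centralizer_iff.2 fun u hu => ?_⟩),
      fun t ht => (mem_centralizer_iff.1 (hT₀Y ht) y hy).symm, hY'.exp y hy⟩
    exact (mem_centralizer_iff.1 (hT₀Y (hU hu)) y hy).symm
  · exact (largest_le_of_sup_eq hY rfl ((hY.le_pCoreOf.trans (pCoreOf_le_of_sylow hTL T.isPGroup' hidx)).trans hTLs)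
      heq.symm).le_largest

theorem centralizer_omegaZ_normal {K L P : Subgroup H} (hK : CharP p K) (hL : CharP p L) (hLK : L ≤ K)
    (hLn : K ≤ normalizer (L : Set H)) (hPK : P ≤ K) (hP : IsPGroup p P) (hidx : ¬ p ∣ P.relIndex K)
    (hidxL : ¬ p ∣ P.relIndex L) :
    L ⊓ centralizer (Cfsg.omegaOne p (P ⊓ centralizer (P : Set H)) : Set H) =
      L ⊓ centralizer (Cfsg.omegaOne p ((P ⊓ L) ⊓ centralizer ((P ⊓ L : Subgroup H) : Set H)) : Set H) := by
  set Z := Cfsg.omegaOne p (P ⊓ centralizer (P : Set H))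
  set Z₀ := Cfsg.omegaOne p ((P ⊓ L) ⊓ centralizer ((P ⊓ L : Subgroup H) : Set H))
  set S := P ⊓ L
  have hSidx : ¬ p ∣ S.relIndex L := by rwa [inf_relIndex_right]
  have hUL : Cfsg.pCoreOf p L ≤ S := pCoreOf_le_of_sylow inf_le_right hP.to_inf_left hSidx
  have hPnS : P ≤ normalizer (S : Set H) := fun x hx => by
    rw [mem_normalizer_iff]
    intro y
    simp only [S, mem_inf]
    rw [mem_normalizer_iff.1 (le_normalizer hx) y, mem_normalizer_iff.1 (hLn (hPK hx)) y]
  have hZn : P ≤ normalizer (Z : Set H) := le_normalizer.trans (normalizer_le_omegaZ P)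
  have hZ₀n : P ≤ normalizer (Z₀ : Set H) := hPnS.trans (normalizer_le_omegaZ S)
  have hPD : ∀ X : Subgroup H, P ≤ normalizer (X : Set H) →
      P ≤ normalizer ((L ⊓ centralizer (X : Set H) : Subgroup H) : Set H) := fun X hX x hx => by
    rw [mem_normalizer_iff]
    intro y
    simp only [mem_inf]
    rw [mem_normalizer_iff.1 (hLn (hPK hx)) y,
      mem_normalizer_iff.1 (Solv.normalizer_le_normalizer_centralizer _ (hX hx)) y]
  have hDidx : ∀ D : Subgroup H, S ≤ D → D ≤ L → ¬ p ∣ S.relIndex D := fun D hSD hDL h =>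
    hSidx (h.trans (Dvd.intro _ (relIndex_mul_relIndex S D L hSD hDL)))
  refine le_antisymm (le_inf inf_le_left ?_) (le_inf inf_le_left ?_)
  · set D := L ⊓ centralizer (Z : Set H)
    have hSD : S ≤ D := le_inf inf_le_right fun s hs => mem_centralizer_iff.2 fun z hz =>
      ((mem_omegaZ.1 hz).2.1 s hs.1).symm
    set U := Cfsg.pCoreOf p L
    set W := Cfsg.omegaOne p (U ⊓ centralizer (U : Set H))
    have hZ₀W : Z₀ ≤ W := fun z hz => by
      obtain ⟨h1, h2, h3⟩ := mem_omegaZ.1 hz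
      exact mem_omegaZ.2 ⟨hL ⟨h1.2, mem_centralizer_iff.2 fun u hu => h2 u (hUL hu)⟩,
        fun u hu => h2 u (hUL hu), h3⟩
    set A := Z₀ ⊓ centralizer (D : Set H)
    by_cases hA : A = Z₀
    · exact le_centralizer_iff.1 (inf_eq_left.1 hA)
    exfalso
    have hAn : P ≤ normalizer (A : Set H) := fun x hx => by
      rw [mem_normalizer_iff]
      intro y
      simp only [A, mem_inf]
      rw [mem_normalizer_iff.1 (hZ₀n hx) y,
        mem_normalizer_iff.1 (Solv.normalizer_le_normalizer_centralizer _ (hPD Z hZn hx)) y]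
    have hred₀ : Red p S Z₀ := red_self hP.to_inf_left
    obtain ⟨z, hz, hzA, hfix⟩ := exists_fixed_mod (W := Z₀) (N := P) inf_le_left hA hred₀.comm hred₀.exp
      hZ₀n hAn (fun x hx => by
        obtain ⟨k, hk⟩ := hP ⟨x, hx⟩
        exact ⟨k, by rw [show x ^ p ^ k = 1 from congrArg Subtype.val hk]; exact one_mem _⟩)
    have hred₁ : Red p U W := red_self (pCoreOf_isPGroup L)
    have hDW : D ≤ normalizer (W : Set H) :=
      inf_le_left.trans ((pCoreOf_norm L).trans (normalizer_le_omegaZ _))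
    obtain ⟨c, hc, w, hw, hzcw, hcD, hwS, hwt⟩ := exists_average hSD (hDidx D hSD inf_le_left) hDW hred₁.comm
      hred₁.exp le_rfl (hZ₀W hz) (fun s hs => (mem_omegaZ.1 hz).2.1 s hs)
      (fun g hg => W.mul_mem (W.inv_mem (hZ₀W hz)) ((mem_normalizer_iff.1 (hDW hg) z).1 (hZ₀W hz)))
    have hwZ : w ∈ Z := by
      refine mem_omegaZ.2 ⟨(hUL (omegaZ_le hw)).1, fun t ht => ?_, hred₁.exp w hw⟩
      have ha : t * z * t⁻¹ * z⁻¹ ∈ A := by
        have h1 := hfix t ht
        have hconj := (mem_normalizer_iff.1 (hZ₀n ht) z).1 hz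
        rwa [← hred₀.comm _ hconj _ (Z₀.inv_mem hz)] at h1
      exact hwt t (hPD Z hZn ht) (hPnS ht) (hZ₀W ha.1) fun g hg => mem_centralizer_iff.1 ha.2 g hg
    refine hzA ⟨hz, mem_centralizer_iff.2 fun g hg => ?_⟩
    have h1 : g * w = w * g := (mem_centralizer_iff.1 hg.2 w hwZ).symm
    rw [hzcw]
    exact (Commute.mul_right (hcD g hg) h1).eq
  · set D := L ⊓ centralizer (Z₀ : Set H)
    have hSD : S ≤ D := le_inf inf_le_right fun s hs => mem_centralizer_iff.2 fun z hz =>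
      ((mem_omegaZ.1 hz).2.1 s hs).symm
    set U := Cfsg.pCoreOf p K
    set W := Cfsg.omegaOne p (U ⊓ centralizer (U : Set H))
    have hUP : U ≤ P := pCoreOf_le_of_sylow hPK hP hidx
    have hred₁ : Red p U W := red_self (pCoreOf_isPGroup K)
    refine le_centralizer_iff.1 fun z hz => mem_centralizer_iff.2 fun g hg => ?_
    obtain ⟨h1, h2, h3⟩ := mem_omegaZ.1 hz
    have hzW : z ∈ W := mem_omegaZ.2 ⟨hK ⟨hPK h1, mem_centralizer_iff.2 fun u hu => h2 u (hUP hu)⟩,
      fun u hu => h2 u (hUP hu), h3⟩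
    have hDW : D ≤ normalizer (W : Set H) :=
      (inf_le_left.trans hLK).trans ((pCoreOf_norm K).trans (normalizer_le_omegaZ _))
    obtain ⟨c, hc, w, hw, hzcw, hcD, hwS, hwt⟩ := exists_average (Q := W ⊓ L) hSD (hDidx D hSD inf_le_left)
      hDW hred₁.comm hred₁.exp inf_le_left hzW (fun s hs => h2 s hs.1) (fun g hg => by
        refine ⟨W.mul_mem (W.inv_mem hzW) ((mem_normalizer_iff.1 (hDW hg) z).1 hzW), ?_⟩
        rw [show z⁻¹ * (g * z * g⁻¹) = (z⁻¹ * g * z) * g⁻¹ by group]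
        exact L.mul_mem ((mem_normalizer_iff''.1 (hLn (hPK h1)) g).1 hg.1) (L.inv_mem hg.1))
    have hwZ₀ : w ∈ Z₀ := by
      refine mem_omegaZ.2 ⟨⟨hUP (omegaZ_le hw.1), hw.2⟩, fun s hs => hwS s hs, hred₁.exp w hw.1⟩
    have h4 : g * w = w * g := (mem_centralizer_iff.1 hg.2 w hwZ₀).symm
    rw [hzcw]
    exact (Commute.mul_right (hcD g hg) h4).eq

/-- S2805. -/
theorem kieler (hH : centralizer (Cfsg.pCore p H : Set H) ≤ Cfsg.pCore p H) (T : Sylow p H)
    (L : Subgroup H) (hL : L.IsSubnormal) :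
    L ⊓ centralizer (Cfsg.omegaOne p ((T : Subgroup H) ⊓ centralizer ((T : Subgroup H) : Set H)) : Set H) =
      L ⊓ centralizer (Cfsg.omegaOne p (((T : Subgroup H) ⊓ L) ⊓
        centralizer (((T : Subgroup H) ⊓ L : Subgroup H) : Set H)) : Set H) := by
  induction hL with
  | top => rw [inf_top_eq]
  | step A B hle hB hN ih =>
    have hidxB : ∀ X : Subgroup H, X.IsSubnormal → ¬ p ∣ (T : Subgroup H).relIndex X := fun X hX => by
      obtain ⟨Q, hQ⟩ := Solv.sylow_inf_subnormal hX T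
      have := Q.not_dvd_index
      rwa [hQ] at this
    have hA : A.IsSubnormal := IsSubnormal.step _ _ hle hB hN
    have e : (T : Subgroup H) ⊓ B ⊓ A = (T : Subgroup H) ⊓ A := by rw [inf_assoc, inf_eq_right.2 hle]
    have h := centralizer_omegaZ_normal (charP_of (Comp.charP_subnormal hH B hB))
      (charP_of (Comp.charP_subnormal hH A hA)) hle ((normal_subgroupOf_iff_le_normalizer hle).1 hN)
      (inf_le_right : (T : Subgroup H) ⊓ B ≤ B) T.isPGroup'.to_inf_left
      (by rw [inf_relIndex_right]; exact hidxB B hB)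
      (by
        have h1 := hidxB A hA
        rwa [← inf_relIndex_right, e, inf_relIndex_right])
    rw [e] at h
    rw [← h]
    calc A ⊓ centralizer (Cfsg.omegaOne p ((T : Subgroup H) ⊓ centralizer ((T : Subgroup H) : Set H)) : Set H)
        = A ⊓ (B ⊓ centralizer (Cfsg.omegaOne p ((T : Subgroup H) ⊓ centralizer ((T : Subgroup H) : Set H)) : Set H)) := by
          rw [← inf_assoc, inf_eq_left.2 hle]
      _ = _ := by rw [ih, ← inf_assoc, inf_eq_left.2 hle]

theorem exists_mul_residual {L : Subgroup H} (T : Sylow p H) (hTL : (T : Subgroup H) ≤ L) :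
    ∀ g ∈ L, ∃ r ∈ (Cfsg.pResidual p ↥L).map L.subtype, ∃ t ∈ (T : Subgroup H), g = r * t := by
  intro g hg
  haveI := Transfer.pResidual_normal (G := ↥L) p
  obtain ⟨r, hr, t, ht, e⟩ := Subgroup.mem_sup_of_normal_left.1
    ((Transfer.pResidual_sup_sylow (T.subtype hTL)).ge (mem_top (⟨g, hg⟩ : L)))
  rw [Sylow.coe_subtype, mem_subgroupOf] at ht
  exact ⟨r, ⟨r, hr, rfl⟩, t, ht, (congrArg Subtype.val e).symm⟩

/-- S2823. -/
theorem sylowCenterClosure_decomp (T : Sylow p H) (L : Subgroup H) (hTL : (T : Subgroup H) ≤ L)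
    (hL : centralizer (Cfsg.pCore p ↥L : Set ↥L) ≤ Cfsg.pCore p ↥L) :
    Cfsg.sylowCenterClosure p L = Cfsg.omegaOne p (L ⊓ centralizer (L : Set H)) ⊔
        ⁅Cfsg.sylowCenterClosure p L, (Cfsg.pResidual p ↥L).map L.subtype⁆ ∧
      ⁅Cfsg.sylowCenterClosure p L, L⁆ = ⁅Cfsg.sylowCenterClosure p L, (Cfsg.pResidual p ↥L).map L.subtype⁆ := by
  set Z := Cfsg.sylowCenterClosure p L
  set R := (Cfsg.pResidual p ↥L).map L.subtype
  set Y := Cfsg.largestPReducedOf p L
  have hY : Red p L Y := red_largest L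
  obtain ⟨-, -, -, hTZ, hZY, hYU⟩ := basics T L hTL hL _ rfl
  set W := ⁅Z, R⁆
  have hRn : L ≤ normalizer (R : Set H) := le_normalizer_map _ (Transfer.pResidual_normal p)
  have hRL : R ≤ L := map_subtype_le _
  -- invariance of `Z`
  have hZn : L ≤ normalizer (Z : Set H) := by
    have hfw : ∀ g ∈ L, ∀ z ∈ Z, g * z * g⁻¹ ∈ Z := by
      intro g hg z hz
      have hle : Z ≤ Z.comap (MulAut.conj g).toMonoidHom := by
        refine iSup_le fun S x hx => ?_
        rw [mem_comap]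
        obtain ⟨h1, h2, h3⟩ := mem_omegaZ.1 hx
        refine le_iSup (fun S : Sylow p L => Cfsg.omegaOne p (((S : Subgroup L).map L.subtype) ⊓
          centralizer ((((S : Subgroup L).map L.subtype) : Subgroup H) : Set H))) ((⟨g, hg⟩ : L) • S) ?_
        have e : (((⟨g, hg⟩ : L) • S : Sylow p L) : Subgroup L).map L.subtype =
            ((S : Subgroup L).map L.subtype).map (MulAut.conj g).toMonoidHom := by
          rw [Sylow.coe_subgroup_smul, Subgroup.map_map]
          ext y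
          constructor
          · rintro ⟨_, ⟨s, hs, rfl⟩, rfl⟩; exact ⟨s, hs, rfl⟩
          · rintro ⟨s, hs, rfl⟩; exact ⟨_, ⟨s, hs, rfl⟩, rfl⟩
        rw [e]
        refine mem_omegaZ.2 ⟨⟨x, h1, rfl⟩, ?_, by rw [← map_pow, h3, map_one]⟩
        rintro _ ⟨y, hy, rfl⟩
        rw [← map_mul, h2 y hy, map_mul]
      exact hle hz
    intro g hg
    rw [mem_normalizer_iff]
    refine fun z => ⟨hfw g hg z, fun h => ?_⟩
    have := hfw g⁻¹ (L.inv_mem hg) _ h
    simpa [mul_assoc] using this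
  have hWZ : W ≤ Z := by
    rw [commutator_le]
    intro z hz r hr
    rw [commutatorElement_def, show z * r * z⁻¹ * r⁻¹ = z * (r * z⁻¹ * r⁻¹) by group]
    exact Z.mul_mem hz ((mem_normalizer_iff.1 (hZn (hRL hr)) _).1 (Z.inv_mem hz))
  have hWn : L ≤ normalizer (W : Set H) := fun g hg => Solv.conj_smul_eq_self_iff.1 (by
    rw [Solv.conj_smul_commutator, Solv.conj_smul_eq_self_iff.2 (hZn hg), Solv.conj_smul_eq_self_iff.2 (hRn hg)])
  set C := Cfsg.omegaOne p (L ⊓ centralizer (L : Set H))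
  have hgen : Z ≤ C ⊔ W := by
    refine iSup_le fun S z hz => ?_
    obtain ⟨h1, h2, h3⟩ := mem_omegaZ.1 hz
    set P := (S : Subgroup L).map L.subtype
    have hPL : P ≤ L := map_subtype_le _
    have hPidx : ¬ p ∣ P.relIndex L := by
      show ¬ p ∣ (((S : Subgroup L).map L.subtype).subgroupOf L).index
      rw [← comap_subtype, comap_map_eq_self_of_injective L.subtype_injective]
      exact S.not_dvd_index
    have hzZ : z ∈ Z := le_iSup (fun S : Sylow p L => Cfsg.omegaOne p (((S : Subgroup L).map L.subtype) ⊓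
      centralizer ((((S : Subgroup L).map L.subtype) : Subgroup H) : Set H))) S hz
    obtain ⟨c, hc, w, hw, e, hcD, -, -⟩ := exists_average (Q := W) hPL hPidx hY.norm hY.comm hY.exp
      (hWZ.trans hZY) (hZY hzZ) h2 (fun g hg => by
        haveI := Transfer.pResidual_normal (G := ↥L) p
        obtain ⟨r, hr, t, ht, e⟩ := Subgroup.mem_sup_of_normal_left.1
          ((Transfer.pResidual_sup_sylow S).ge (mem_top (⟨g, hg⟩ : L)))
        have hg' : g = (r : H) * t := (congrArg Subtype.val e).symm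
        have htz : (t : H) * z = z * t := h2 t ⟨t, ht, rfl⟩
        rw [hg', show z⁻¹ * ((r : H) * t * z * ((r : H) * t)⁻¹) = z⁻¹ * (r * ((t : H) * z) * (t : H)⁻¹ * (r : H)⁻¹) by group,
          htz, show z⁻¹ * ((r : H) * (z * t) * (t : H)⁻¹ * (r : H)⁻¹) = ⁅z⁻¹, (r : H)⁆ by
            rw [commutatorElement_def]; group]
        exact commutator_mem_commutator (Z.inv_mem hzZ) ⟨r, hr, rfl⟩)
    rw [e]
    exact mul_mem_sup (mem_omegaZ.2 ⟨hY.le hc, hcD, hY.exp c hc⟩) hw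
  have hCZ : C ≤ Z := fun c hc => by
    obtain ⟨h1, h2, h3⟩ := mem_omegaZ.1 hc
    refine hTZ (mem_omegaZ.2 ⟨?_, fun t ht => h2 t (hTL ht), h3⟩)
    have hcU : c ∈ Cfsg.pCoreOf p L := charP_of hL ⟨h1, mem_centralizer_iff.2 fun u hu => h2 u (pCoreOf_le L hu)⟩
    exact pCoreOf_le_of_sylow hTL T.isPGroup' (sylow_relIndex T hTL) hcU
  refine ⟨le_antisymm hgen (sup_le hCZ hWZ), le_antisymm ?_ (commutator_mono le_rfl hRL)⟩
  rw [commutator_le]
  intro z hz l hl
  have hfix : ∀ z ∈ C ⊔ W, ⁅z, l⁆ ∈ W := by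
    intro z hz
    rw [sup_eq_closure] at hz
    refine closure_induction (p := fun z _ => z ∈ L ∧ ⁅z, l⁆ ∈ W) ?_ ⟨L.one_mem, by simp⟩ ?_ ?_ hz |>.2
    · rintro x (hx | hx)
      · refine ⟨(mem_omegaZ.1 hx).1, ?_⟩
        rw [commutatorElement_eq_one_iff_mul_comm.2 (((mem_omegaZ.1 hx).2.1 l hl).symm)]
        exact W.one_mem
      · refine ⟨hY.le (hZY (hWZ hx)), ?_⟩
        rw [commutatorElement_def, show x * l * x⁻¹ * l⁻¹ = x * (l * x⁻¹ * l⁻¹) by group]
        exact W.mul_mem hx ((mem_normalizer_iff.1 (hWn hl) _).1 (W.inv_mem hx))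
    · rintro a b - - ⟨haL, ha⟩ ⟨hbL, hb⟩
      refine ⟨L.mul_mem haL hbL, ?_⟩
      rw [show ⁅a * b, l⁆ = a * ⁅b, l⁆ * a⁻¹ * ⁅a, l⁆ by simp only [commutatorElement_def]; group]
      exact W.mul_mem ((mem_normalizer_iff.1 (hWn haL) _).1 hb) ha
    · rintro a - ⟨haL, ha⟩
      refine ⟨L.inv_mem haL, ?_⟩
      rw [show ⁅a⁻¹, l⁆ = a⁻¹ * ⁅a, l⁆⁻¹ * a⁻¹⁻¹ by simp only [commutatorElement_def]; group]
      exact (mem_normalizer_iff.1 (hWn (L.inv_mem haL)) _).1 (W.inv_mem ha)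
  exact hfix z (hgen hz)

/-- S2826. -/
theorem centralizer_residual_inter (T : Sylow p H) (V : Subgroup H) [V.Normal]
    (hV : Cfsg.IsElementaryAbelian p V)
    (hZV : Cfsg.omegaOne p ((T : Subgroup H) ⊓ centralizer ((T : Subgroup H) : Set H)) ≤ V) :
    centralizer (Cfsg.omegaOne p ((T : Subgroup H) ⊓ centralizer ((T : Subgroup H) : Set H)) : Set H) =
      centralizer ((⁅V, Cfsg.pResidual p H⁆ ⊓
        Cfsg.omegaOne p ((T : Subgroup H) ⊓ centralizer ((T : Subgroup H) : Set H)) : Subgroup H) : Set H) := by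
  set Z := Cfsg.omegaOne p ((T : Subgroup H) ⊓ centralizer ((T : Subgroup H) : Set H))
  set W := ⁅V, Cfsg.pResidual p H⁆
  haveI := Transfer.pResidual_normal (G := H) p
  refine le_antisymm (centralizer_le inf_le_right) (le_centralizer_iff.1 fun z hz => mem_centralizer_iff.2 fun g hg => ?_)
  obtain ⟨hc', hexp⟩ := hV
  have hcomm : ∀ a ∈ V, ∀ b ∈ V, a * b = b * a := fun a ha b hb =>
    haveI := hc'; congrArg Subtype.val (mul_comm' (⟨a, ha⟩ : V) ⟨b, hb⟩)
  set D := centralizer ((W ⊓ Z : Subgroup H) : Set H)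
  obtain ⟨h1, h2, h3⟩ := mem_omegaZ.1 hz
  have hTD : (T : Subgroup H) ≤ D := fun t ht => mem_centralizer_iff.2 fun w hw =>
    ((mem_omegaZ.1 hw.2).2.1 t ht).symm
  obtain ⟨c, hc, w, hw, e, hcD, hwS, -⟩ := exists_average (Q := W) hTD (sylow_relIndex T hTD)
    le_normalizer_of_normal hcomm hexp (commutator_le_left _ _) (hZV hz) h2 (fun g _ => by
      obtain ⟨r, hr, t, ht, e⟩ := Subgroup.mem_sup_of_normal_left.1
        ((Transfer.pResidual_sup_sylow T).ge (mem_top g))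
      have htz : t * z = z * t := h2 t ht
      rw [← e, show z⁻¹ * (r * t * z * (r * t)⁻¹) = z⁻¹ * (r * (t * z) * t⁻¹ * r⁻¹) by group, htz,
        show z⁻¹ * (r * (z * t) * t⁻¹ * r⁻¹) = ⁅z⁻¹, r⁆ by rw [commutatorElement_def]; group]
      exact commutator_mem_commutator (V.inv_mem (hZV hz)) hr)
  have hwV : w ∈ V := commutator_le_left _ _ hw
  have hwT : w ∈ (T : Subgroup H) := by
    have hVT : V ≤ (T : Subgroup H) := (Solv.le_pCore inferInstance
      (fun x => ⟨1, Subtype.ext (by rw [pow_one]; exact hexp _ x.2)⟩ : IsPGroup p V)).trans (Transfer.pCore_le_sylow T)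
    exact hVT hwV
  have hwZ : w ∈ W ⊓ Z := ⟨hw, mem_omegaZ.2 ⟨hwT, hwS, hexp w hwV⟩⟩
  rw [e]
  exact (Commute.mul_right (hcD g hg) (mem_centralizer_iff.1 hg w hwZ).symm).eq

theorem commutator_fix {x : H} {W : Subgroup H} (hW : ∀ a ∈ W, ∀ b ∈ W, a * b = b * a)
    (hexp : ∀ a ∈ W, a ^ p = 1) (hxW : x ∈ normalizer (W : Set H)) (hx : (orderOf x).Coprime p) :
    ∀ w ∈ W, x * (w⁻¹ * (x * w * x⁻¹)) = (w⁻¹ * (x * w * x⁻¹)) * x → x * w = w * x := by
  intro w hw h
  have ha : w⁻¹ * (x * w * x⁻¹) ∈ W := W.mul_mem (W.inv_mem hw) ((mem_normalizer_iff.1 hxW w).1 hw)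
  have hp' := pow_fix (x := x) (v := w) _ (by rw [mul_inv_cancel_left]) h (orderOf x)
  rw [pow_orderOf_eq_one, one_mul, inv_one, mul_one, eq_comm, mul_eq_left] at hp'
  have ha1 := orderOf_eq_one_iff.1 (Nat.eq_one_of_dvd_coprimes hx (orderOf_dvd_of_pow_eq_one hp')
    (orderOf_dvd_of_pow_eq_one (hexp _ ha)))
  exact eq_mul_inv_iff_mul_eq.1 (inv_mul_eq_one.1 ha1) |>.symm

/-- S2804. -/
theorem commutator_residual_reduced (V : Subgroup H) (hV : Cfsg.IsPReducedNormal p V) (K : Subgroup H)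
    (hK : K.IsSubnormal) :
    ⁅V, (Cfsg.pResidual p ↥K).map K.subtype⁆ ≤ K ∧
      Cfsg.IsPReducedNormal p ((⁅V, (Cfsg.pResidual p ↥K).map K.subtype⁆).subgroupOf K) := by
  have hR := red_top_iff.1 hV
  haveI : V.Normal := hV.1
  set R := (Cfsg.pResidual p ↥K).map K.subtype
  set W := ⁅V, R⁆
  have hstep : ∀ x ∈ K, (orderOf x).Coprime p → ∀ v ∈ V, ⁅v, x⁆ ∈ K := by
    intro x hxK hx
    -- `φ` is bijective on its image
    let φ : V →* V := MonoidHom.mk' (fun v => ⟨(v : H) * (x * (v : H)⁻¹ * x⁻¹),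
      V.mul_mem v.2 (hV.1.conj_mem _ (V.inv_mem v.2) x)⟩) fun a b => Subtype.ext (by
        show (a : H) * b * (x * ((a : H) * b)⁻¹ * x⁻¹) = (a : H) * (x * (a : H)⁻¹ * x⁻¹) * ((b : H) * (x * (b : H)⁻¹ * x⁻¹))
        have hbc := hR.comm (b : H) b.2 (x * (a : H)⁻¹ * x⁻¹) (hV.1.conj_mem _ (V.inv_mem a.2) x)
        calc (a : H) * b * (x * ((a : H) * b)⁻¹ * x⁻¹)
            = (a : H) * ((b : H) * (x * (b : H)⁻¹ * x⁻¹) * (x * (a : H)⁻¹ * x⁻¹)) := by group
          _ = (a : H) * ((x * (a : H)⁻¹ * x⁻¹) * ((b : H) * (x * (b : H)⁻¹ * x⁻¹))) := by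
              rw [hR.comm _ (V.mul_mem b.2 (hV.1.conj_mem _ (V.inv_mem b.2) x)) _ (hV.1.conj_mem _ (V.inv_mem a.2) x)]
          _ = _ := by group)
    have hφ : ∀ v : V, (φ v : H) = ⁅(v : H), x⁆ := fun v => by
      show (v : H) * (x * (v : H)⁻¹ * x⁻¹) = _
      rw [commutatorElement_def]; group
    let f : φ.range →* φ.range :=
      (φ.comp φ.range.subtype).codRestrict φ.range fun u => ⟨u, rfl⟩
    have hinj : Function.Injective f := by
      rw [injective_iff_map_eq_one]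
      rintro ⟨u, v, rfl⟩ hu
      have h1 : φ (φ v) = 1 := congrArg Subtype.val hu
      have h2 : x * (φ v : H) = (φ v : H) * x :=
        (commutatorElement_eq_one_iff_mul_comm.1 (by rw [← hφ, h1]; rfl)).symm
      refine Subtype.ext (Subtype.ext ?_)
      show (φ v : H) = 1
      rw [hφ]
      refine commutatorElement_eq_one_iff_mul_comm.2 (commutator_fix (W := V) hR.comm hR.exp
        (le_normalizer_of_normal (mem_top x)) hx v v.2 ?_).symm
      have e : (v : H)⁻¹ * (x * v * x⁻¹) = ((φ v : H))⁻¹ := by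
        rw [hφ, commutatorElement_inv, commutatorElement_def,
          hR.comm _ (V.inv_mem v.2) _ (hV.1.conj_mem _ v.2 x)]
      rw [e]
      exact (Commute.inv_right h2).eq
    have hsurj := Finite.surjective_of_injective hinj
    -- climb down the chain
    suffices key : ∀ B : Subgroup H, B.IsSubnormal → x ∈ B → ∀ u : φ.range, ((u : V) : H) ∈ B by
      intro v hv
      have := key K hK hxK ⟨φ ⟨v, hv⟩, _, rfl⟩
      rwa [hφ] at this
    intro B hB
    induction hB with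
    | top => exact fun _ _ => mem_top _
    | step A B hle _ hN ih =>
      intro hxA u
      obtain ⟨u', rfl⟩ := hsurj u
      have hu' := ih (hle hxA) u'
      show (φ (u' : V) : H) ∈ A
      rw [hφ, commutatorElement_def]
      exact A.mul_mem ((mem_normalizer_iff.1 ((normal_subgroupOf_iff_le_normalizer hle).1 hN hu') x).1 hxA)
        (A.inv_mem hxA)
  have hRK : R ≤ K := map_subtype_le _
  have hcl : ∀ v ∈ V, ∀ r ∈ R, ⁅v, r⁆ ∈ K := by
    intro v hv r hr
    obtain ⟨r, hr, rfl⟩ := hr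
    refine closure_induction (p := fun (y : K) _ => ∀ v ∈ V, ⁅v, (y : H)⁆ ∈ K) ?_ ?_ ?_ ?_ hr v hv
    · exact fun y hy v hv => hstep y y.2 (by rw [Subgroup.orderOf_coe]; exact hy) v hv
    · intro v _; rw [OneMemClass.coe_one, commutatorElement_one_right]; exact K.one_mem
    · intro a b _ _ ha hb v hv
      rw [Subgroup.coe_mul, show ⁅v, (a : H) * b⁆ = ⁅v, (a : H)⁆ * ((a : H) * ⁅v, (b : H)⁆ * (a : H)⁻¹) by
        simp only [commutatorElement_def]; group]
      exact K.mul_mem (ha v hv) (K.mul_mem (K.mul_mem a.2 (hb v hv)) (K.inv_mem a.2))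
    · intro a _ ha v hv
      rw [InvMemClass.coe_inv, show ⁅v, (a : H)⁻¹⁆ = (a : H)⁻¹ * ⁅v, (a : H)⁆⁻¹ * (a : H) by
        simp only [commutatorElement_def]; group]
      exact K.mul_mem (K.mul_mem (K.inv_mem a.2) (K.inv_mem (ha v hv))) a.2
  have hWK : W ≤ K := commutator_le.2 hcl
  refine ⟨hWK, (red_iff hWK).2 ?_⟩
  obtain ⟨h1, h2⟩ := inter_subnormal hR hK
  have hWV : W ≤ V := commutator_le_left _ _
  have hRn : K ≤ normalizer (R : Set H) := le_normalizer_map _ (Transfer.pResidual_normal p)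
  have hWn : K ≤ normalizer (W : Set H) := fun g hg => Solv.conj_smul_eq_self_iff.1 (by
    rw [Solv.conj_smul_commutator, Solv.conj_smul_eq_self_iff.2 (le_normalizer_of_normal (mem_top g)),
      Solv.conj_smul_eq_self_iff.2 (hRn hg)])
  refine ⟨hWK, hWn, fun a ha b hb => hR.comm a (hWV ha) b (hWV hb), fun a ha => hR.exp a (hWV ha),
    fun N hN hNn hmod => ?_⟩
  refine le_trans (h1.kill N hN hNn ?_) (centralizer_le (le_inf hWV hWK))
  refine pmod_of_coprime fun x hx hxp => ?_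
  obtain ⟨k, hk⟩ := hmod x hx
  have hxW := mem_ker_of_coprime_pow hk hxp
  refine centralizer_le inf_le_left (mem_centralizer_iff.2 fun v hv => ?_)
  refine (commutator_fix (W := V) hR.comm hR.exp (le_normalizer_of_normal (mem_top x)) hxp v hv ?_).symm
  have hmem : v⁻¹ * (x * v * x⁻¹) ∈ W := by
    rw [show v⁻¹ * (x * v * x⁻¹) = ⁅v⁻¹, x⁆ by rw [commutatorElement_def]; group]
    refine commutator_mem_commutator (V.inv_mem hv) ⟨⟨x, hN hx⟩, subset_closure ?_, rfl⟩
    show (orderOf (⟨x, hN hx⟩ : K)).Coprime p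
    rwa [Subgroup.orderOf_mk]
  exact (mem_centralizer_iff.1 hxW _ hmem).symm

end Cfsg.Lib.PReduced
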