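import Mathlib
import Cfsg.Agent.Lib.PLocal.PReducedApply
import Cfsg.Agent.Lib.PLocal.ClosedConjugates

/-!
Weakly closed centric subgroups, large subgroups and the basic property.
-/

set_option autoImplicit false
set_option linter.style.haveILetI false
set_option linter.unusedSectionVars false

namespace Cfsg.Lib.LargeSub

open Subgroup Cfsg.Lib.PReduced Cfsg.Lib.PLocal.Closed
open scoped commutatorElement

variable {H : Type*} [Group H] [Finite H] {p : ℕ} [hp : Fact p.Prime]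

theorem pCoreOf_map {C : Subgroup H} (X : Subgroup ↥C) :
    Cfsg.pCoreOf p (X.map C.subtype) = (Cfsg.pCoreOf p X).map C.subtype := by
  refine le_antisymm (fun a ha => ?_) (le_pCoreOf (map_mono (pCoreOf_le X))
    ((map_mono (pCoreOf_norm X)).trans (le_normalizer_map' _ _)) ((pCoreOf_isPGroup X).map _))
  obtain ⟨b, hb, rfl⟩ := pCoreOf_le (X.map C.subtype) ha
  refine ⟨b, le_pCoreOf (N := (Cfsg.pCoreOf p (X.map C.subtype)).comap C.subtype) ?_ ?_
    ((pCoreOf_isPGroup _).comap_of_injective _ C.subtype_injective) ha, rfl⟩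
  · intro y hy
    obtain ⟨z, hz, e⟩ := pCoreOf_le (X.map C.subtype) hy
    exact (Subtype.ext e : z = y) ▸ hz
  · intro x hx
    have h1 := pCoreOf_norm (p := p) (X.map C.subtype) ⟨x, hx, rfl⟩
    rw [mem_normalizer_iff]
    exact fun y => mem_normalizer_iff.1 h1 (y : H)
where
  le_normalizer_map' (C' : Subgroup H) (N : Subgroup ↥C') :
      (normalizer (N : Set ↥C')).map C'.subtype ≤ normalizer ((N.map C'.subtype : Subgroup H) : Set H) := by
    rintro _ ⟨x, hx, rfl⟩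
    have hfw : ∀ a ∈ normalizer (N : Set ↥C'), ∀ y ∈ N.map C'.subtype,
        (a : H) * y * (a : H)⁻¹ ∈ N.map C'.subtype := by
      rintro a ha _ ⟨y, hy, rfl⟩
      exact ⟨a * y * a⁻¹, (mem_normalizer_iff.1 ha y).1 hy, rfl⟩
    rw [mem_normalizer_iff]
    refine fun y => ⟨hfw x hx y, fun hy => ?_⟩
    have := hfw x⁻¹ (inv_mem hx) _ hy
    simpa [mul_assoc] using this

theorem charP_map {C : Subgroup H} {X : Subgroup ↥C} (h : CharP p X) : CharP p (X.map C.subtype) := by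
  rintro a ⟨⟨b, hb, rfl⟩, hc⟩
  rw [pCoreOf_map]
  refine ⟨b, h ⟨hb, mem_centralizer_iff.2 fun u hu => Subtype.ext ?_⟩, rfl⟩
  exact mem_centralizer_iff.1 hc u ((pCoreOf_map X).ge ⟨u, hu, rfl⟩)

theorem charP_to {K : Subgroup H} (h : CharP p K) :
    centralizer (Cfsg.pCore p ↥K : Set ↥K) ≤ Cfsg.pCore p ↥K := by
  intro x hx
  obtain ⟨y, hy, e⟩ := h ⟨x.2, mem_centralizer_iff.2 (by
    rintro _ ⟨u, hu, rfl⟩
    exact congrArg Subtype.val (mem_centralizer_iff.1 hx u hu))⟩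
  exact (Subtype.ext e : y = x) ▸ hy

theorem charP_normal {N X : Subgroup H} (hX : CharP p X) (hNX : N ≤ X) (hn : X ≤ normalizer (N : Set H)) :
    CharP p N := by
  have h1 := charP_of (Comp.charP_subnormal (charP_to hX) (N.subgroupOf X)
    ((normal_subgroupOf_iff_le_normalizer hNX).2 hn).isSubnormal)
  have := charP_map h1
  rwa [map_subgroupOf_eq_of_le hNX] at this

theorem charP_centric {Q C X : Subgroup H} (hQ : IsPGroup p Q) (hwc : Cfsg.IsWeaklyClosedSubgroup p Q)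
    (hCQ : centralizer (Q : Set H) ≤ Q) (hC : CharP p C) (hQX : Q ≤ X) (hXC : X ≤ C) : CharP p X := by
  have hw := (wc_props hQ hwc C (hQX.trans hXC) ⊥).1
  obtain ⟨T, hQT, -⟩ := id hw
  have h1 := Comp.charP_of_centric (charP_to hC) T (Q.subgroupOf C) hQT
    (le_normalizer.trans (wc_normalizer hw T.isPGroup' hQT))
    (fun x hx => hCQ ((mem_centralizer_subgroupOf (hQX.trans hXC) x).1 hx.2))
    (X.subgroupOf C) (fun x hx => hQX hx)
  have := charP_map (charP_of h1)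
  rwa [map_subgroupOf_eq_of_le hXC] at this

theorem isPGroup_of_coprime {N : Subgroup H} (h : ∀ x ∈ N, (orderOf x).Coprime p → x = 1) : IsPGroup p N :=
  fun x => by
    obtain ⟨k, hk⟩ := pmod_of_coprime (C := (⊥ : Subgroup H)) (fun y hy hyp => mem_bot.2 (h y hy hyp)) x x.2
    exact ⟨k, Subtype.ext (by simpa using mem_bot.1 hk)⟩

theorem centric_core {Q L C : Subgroup H} (hQ : IsPGroup p Q) (hwc : Cfsg.IsWeaklyClosedSubgroup p Q)
    (hCQ : centralizer (Q : Set H) ≤ Q) (hQL : Q ≤ L) (hC : CharP p C) (hQC : Q ≤ C)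
    (hAC : centralizer (Cfsg.pCoreOf p L : Set H) ≤ C) :
    ⁅Q, centralizer (Cfsg.pCoreOf p L : Set H)⁆ ≤ Q ⊓ Cfsg.pCoreOf p L ∧
      IsPGroup p ↥(centralizer (Cfsg.pCoreOf p L : Set H)) ∧
      centralizer (Cfsg.pCore p ↥L : Set ↥L) ≤ Cfsg.pCore p ↥L := by
  set U := Cfsg.pCoreOf p L
  set A := centralizer (U : Set H)
  have hQU : Q ≤ normalizer (U : Set H) := hQL.trans (pCoreOf_norm L)
  have hNA : normalizer (U : Set H) ≤ normalizer (A : Set H) := Solv.normalizer_le_normalizer_centralizer _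
  -- the part in `L`
  have hLA : L ⊓ A ≤ U := by
    have hX : CharP p (L ⊓ C) := charP_centric hQ hwc hCQ hC (le_inf hQL hQC) inf_le_right
    have hn : L ≤ normalizer ((L ⊓ A : Subgroup H) : Set H) := fun x hx => by
      rw [mem_normalizer_iff]
      intro y
      simp only [mem_inf]
      rw [mem_normalizer_iff.1 (le_normalizer hx) y, mem_normalizer_iff.1 (hNA (pCoreOf_norm L hx)) y]
    have hLAc : CharP p (L ⊓ A) :=
      charP_normal hX (le_inf inf_le_left (inf_le_right.trans hAC)) (inf_le_left.trans hn)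
    have hcore : Cfsg.pCoreOf p (L ⊓ A) ≤ U := by
      have h1 := PLocal.PIrr.subnormal_le_pCore (p := p) (A := (Cfsg.pCoreOf p (L ⊓ A)).subgroupOf L) ?_
        (pCoreOf_isPGroup _).comap_subtype
      · exact fun x hx => ⟨⟨x, inf_le_left (α := Subgroup H) (pCoreOf_le _ hx)⟩, h1 hx, rfl⟩
      refine IsSubnormal.step _ ((L ⊓ A).subgroupOf L) (fun x hx => pCoreOf_le (p := p) (L ⊓ A) hx)
        ((normal_subgroupOf_iff_le_normalizer inf_le_left).2 hn).isSubnormal ?_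
      refine (normal_subgroupOf_iff_le_normalizer (show (Cfsg.pCoreOf p (L ⊓ A)).subgroupOf L ≤ (L ⊓ A).subgroupOf L from fun x hx => pCoreOf_le (p := p) (L ⊓ A) hx)).2 fun x hx => ?_
      rw [mem_normalizer_iff]
      exact fun y => mem_normalizer_iff.1 (pCoreOf_norm (p := p) (L ⊓ A) hx) (y : H)
    exact fun x hx => hcore (hLAc ⟨hx, centralizer_le hcore hx.2⟩)
  set Z := Q ⊓ A
  have hZU : Z ≤ U := fun z hz => hLA ⟨hQL hz.1, hz.2⟩
  -- `A` has characteristic `p`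
  have hAn : CharP p A := by
    have hX : CharP p (C ⊓ normalizer (U : Set H)) :=
      charP_centric hQ hwc hCQ hC (le_inf hQC hQU) inf_le_left
    exact charP_normal hX (le_inf hAC (centralizer_le_normalizer _)) (inf_le_right.trans hNA)
  set M := Cfsg.pCoreOf p A
  have hMA : M ≤ A := pCoreOf_le A
  have hMchar : normalizer (A : Set H) ≤ normalizer (M : Set H) := by
    have hfw : ∀ g ∈ normalizer (A : Set H), M.map (MulAut.conj g).toMonoidHom ≤ M := by
      intro g hg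
      refine le_pCoreOf (fun x ⟨y, hy, e⟩ => e ▸ (mem_normalizer_iff.1 hg y).1 (hMA hy)) (fun a ha => ?_)
        ((pCoreOf_isPGroup A).map _)
      have ha' : g⁻¹ * a * g ∈ A := (mem_normalizer_iff''.1 hg a).1 ha
      rw [mem_normalizer_iff]
      intro x
      simp only [mem_map_equiv, MulAut.conj_symm_apply]
      rw [mem_normalizer_iff.1 (pCoreOf_norm A ha') (g⁻¹ * x * g),
        show g⁻¹ * a * g * (g⁻¹ * x * g) * (g⁻¹ * a * g)⁻¹ = g⁻¹ * (a * x * a⁻¹) * g by group]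
    intro g hg
    rw [mem_normalizer_iff]
    refine fun x => ⟨fun hx => hfw g hg ⟨x, hx, rfl⟩, fun hx => ?_⟩
    have := hfw g⁻¹ (inv_mem hg) ⟨_, hx, rfl⟩
    simpa [mul_assoc] using this
  have hQM : Q ≤ normalizer (M : Set H) := (hQU.trans hNA).trans hMchar
  have hMQp : IsPGroup p ↥(M ⊔ Q) := IsPGroup.to_sup_of_normal_left' (pCoreOf_isPGroup A) hQ hQM
  have hMNQ : M ≤ normalizer (Q : Set H) :=
    (le_sup_left.trans le_normalizer).trans (wc_normalizer hwc hMQp le_sup_right)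
  -- commutators act trivially on `M` modulo `Z`
  have hMZ : ∀ q ∈ Q, ∀ m ∈ M, q * m * q⁻¹ * m⁻¹ ∈ Z := fun q hq m hm =>
    ⟨by
      rw [show q * m * q⁻¹ * m⁻¹ = q * (m * q⁻¹ * m⁻¹) by group]
      exact Q.mul_mem hq ((mem_normalizer_iff.1 (hMNQ hm) _).1 (Q.inv_mem hq)),
     A.mul_mem ((mem_normalizer_iff.1 (hNA (hQU hq)) m).1 (hMA hm)) (A.inv_mem (hMA hm))⟩
  have hAZ : ∀ a ∈ A, ∀ z ∈ Z, a * z = z * a := fun a ha z hz =>
    (mem_centralizer_iff.1 ha z (hZU hz)).symm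
  have hcomm : ∀ a ∈ A, ∀ q ∈ Q, ⁅a, q⁆ ∈ A ∧ ∀ m ∈ M, ⁅a, q⁆ * m * ⁅a, q⁆⁻¹ * m⁻¹ ∈ Z := by
    intro a ha q hq
    have hq' : q * a⁻¹ * q⁻¹ ∈ A := (mem_normalizer_iff.1 (hNA (hQU hq)) _).1 (A.inv_mem ha)
    refine ⟨?_, fun m hm => ?_⟩
    · rw [commutatorElement_def, show a * q * a⁻¹ * q⁻¹ = a * (q * a⁻¹ * q⁻¹) by group]
      exact A.mul_mem ha hq'
    · rw [commutatorElement_def]
      set m₁ := q⁻¹ * m * q
      have hm₁ : m₁ ∈ M := (mem_normalizer_iff''.1 (hQM hq) m).1 hm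
      set m₂ := a⁻¹ * m₁ * a
      have hm₂ : m₂ ∈ M := (mem_normalizer_iff''.1 (pCoreOf_norm A ha) m₁).1 hm₁
      have hz₂ := hMZ q hq m₂ hm₂
      set z₂ := q * m₂ * q⁻¹ * m₂⁻¹ with hz₂def
      have hz₁ := hMZ q hq m₁ hm₁
      set z₁ := q * m₁ * q⁻¹ * m₁⁻¹ with hz₁def
      have e : a * q * a⁻¹ * q⁻¹ * m * (a * q * a⁻¹ * q⁻¹)⁻¹ * m⁻¹ = z₂ * z₁⁻¹ := by
        calc a * q * a⁻¹ * q⁻¹ * m * (a * q * a⁻¹ * q⁻¹)⁻¹ * m⁻¹
            = a * z₂ * (a⁻¹ * m₁) * m⁻¹ := by simp only [hz₂def, m₂, m₁]; group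
          _ = z₂ * (m₁ * m⁻¹) := by rw [hAZ a ha z₂ hz₂]; group
          _ = z₂ * z₁⁻¹ := by simp only [hz₁def, m₁]; group
      rw [e]
      exact Z.mul_mem hz₂ (Z.inv_mem hz₁)
  set D : Subgroup H :=
    { carrier := {g | g ∈ A ∧ ∀ m ∈ M, g * m * g⁻¹ * m⁻¹ ∈ Z}
      one_mem' := ⟨A.one_mem, fun m _ => by simp⟩
      mul_mem' := by
        rintro a b ⟨ha, ha'⟩ ⟨hb, hb'⟩
        refine ⟨A.mul_mem ha hb, fun m hm => ?_⟩
        have hm' : b * m * b⁻¹ ∈ M := (mem_normalizer_iff.1 (pCoreOf_norm A hb) m).1 hm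
        rw [show a * b * m * (a * b)⁻¹ * m⁻¹ =
          (a * (b * m * b⁻¹) * a⁻¹ * (b * m * b⁻¹)⁻¹) * (b * m * b⁻¹ * m⁻¹) by group]
        exact Z.mul_mem (ha' _ hm') (hb' m hm)
      inv_mem' := by
        rintro a ⟨ha, ha'⟩
        refine ⟨A.inv_mem ha, fun m hm => ?_⟩
        have hm' : a⁻¹ * m * a ∈ M := (mem_normalizer_iff''.1 (pCoreOf_norm A ha) m).1 hm
        have := Z.inv_mem (ha' _ hm')
        simpa [mul_assoc] using this }
  have hAQD : ⁅A, Q⁆ ≤ D := commutator_le.2 fun a ha q hq => hcomm a ha q hq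
  have hMp := pCoreOf_isPGroup (p := p) A
  have hAQp : IsPGroup p ↥⁅A, Q⁆ := isPGroup_of_coprime fun x hx hxp => by
    obtain ⟨hxA, hxZ⟩ := hAQD hx
    have hxM : x ∈ A ⊓ centralizer (M : Set H) := by
      refine ⟨hxA, mem_centralizer_iff.2 fun m hm => ?_⟩
      set b := x * m * x⁻¹ * m⁻¹ with hb
      have hbZ : b ∈ Z := hxZ m hm
      have hinv : m⁻¹ * (x * m * x⁻¹) = m⁻¹ * b * m := by rw [hb]; group
      have hbm : m⁻¹ * b * m = b := by
        rw [mul_assoc, ← hAZ m (hMA hm) b hbZ, inv_mul_cancel_left]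
      have hp' := pow_fix (x := x) (v := m) b (by rw [← hbm, ← hinv, mul_inv_cancel_left])
        (hAZ x hxA b hbZ) (orderOf x)
      rw [pow_orderOf_eq_one, one_mul, inv_one, mul_one, eq_comm, mul_eq_left] at hp'
      obtain ⟨k, hk⟩ := IsPGroup.iff_orderOf.1 hQ ⟨b, hbZ.1⟩
      rw [Subgroup.orderOf_mk] at hk
      have hb1 : b = 1 := orderOf_eq_one_iff.1 (Nat.eq_one_of_dvd_coprimes (hk ▸ hxp.pow_right k)
        (orderOf_dvd_of_pow_eq_one hp') dvd_rfl)
      rw [hb, mul_inv_eq_one] at hb1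
      exact (mul_inv_eq_iff_eq_mul.1 hb1).symm
    obtain ⟨k, hk⟩ := IsPGroup.iff_orderOf.1 hMp ⟨x, hAn hxM⟩
    rw [Subgroup.orderOf_mk] at hk
    exact orderOf_eq_one_iff.1 (Nat.eq_one_of_dvd_coprimes (hk ▸ hxp.pow_right k) dvd_rfl dvd_rfl)
  have hAQA : ⁅A, Q⁆ ≤ A := fun x hx => (hAQD hx).1
  have hAQM : ⁅A, Q⁆ ≤ M := le_pCoreOf hAQA (Solv.le_normalizer_commutator_left A Q) hAQp
  have hANQ : A ≤ normalizer (Q : Set H) := fun a ha => by
    refine wc_normalizer hwc hMQp le_sup_right ?_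
    have hfw : ∀ a ∈ A, ∀ x ∈ M ⊔ Q, a * x * a⁻¹ ∈ M ⊔ Q := by
      intro a ha x hx
      have hle : M ⊔ Q ≤ (M ⊔ Q).comap (MulAut.conj a).toMonoidHom := by
        refine sup_le (fun m hm => mem_sup_left ((mem_normalizer_iff.1 (pCoreOf_norm A ha) m).1 hm)) fun q hq => ?_
        show a * q * a⁻¹ ∈ M ⊔ Q
        rw [show a * q * a⁻¹ = ⁅a, q⁆ * q by rw [commutatorElement_def]; group]
        exact mul_mem_sup (hAQM (commutator_mem_commutator ha hq)) hq
      exact hle hx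
    rw [mem_normalizer_iff]
    refine fun x => ⟨hfw a ha x, fun hx => ?_⟩
    have := hfw a⁻¹ (A.inv_mem ha) _ hx
    simpa [mul_assoc] using this
  have hQA : ⁅Q, A⁆ ≤ Z := by
    rw [commutator_le]
    intro q hq a ha
    refine ⟨?_, ?_⟩
    · rw [commutatorElement_def, show q * a * q⁻¹ * a⁻¹ = q * (a * q⁻¹ * a⁻¹) by group]
      exact Q.mul_mem hq ((mem_normalizer_iff.1 (hANQ ha) _).1 (Q.inv_mem hq))
    · exact A.mul_mem ((mem_normalizer_iff.1 (hNA (hQU hq)) a).1 ha) (A.inv_mem ha)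
  refine ⟨hQA.trans (le_inf inf_le_left hZU), isPGroup_of_coprime fun x hx hxp => ?_, charP_to ?_⟩
  · have hxQ : x ∈ centralizer (Q : Set H) := by
      refine mem_centralizer_iff.2 fun q hq => ?_
      have hbZ : ⁅q⁻¹, x⁆ ∈ Z := hQA (commutator_mem_commutator (Q.inv_mem hq) hx)
      have e : q⁻¹ * (x * q * x⁻¹) = ⁅q⁻¹, x⁆ := by rw [commutatorElement_def]; group
      have hp' := pow_fix (x := x) (v := q) _ (by rw [← e, mul_inv_cancel_left]) (hAZ x hx _ hbZ) (orderOf x)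
      rw [pow_orderOf_eq_one, one_mul, inv_one, mul_one, eq_comm, mul_eq_left] at hp'
      obtain ⟨k, hk⟩ := IsPGroup.iff_orderOf.1 hQ ⟨_, hbZ.1⟩
      rw [Subgroup.orderOf_mk] at hk
      have hb1 := orderOf_eq_one_iff.1 (Nat.eq_one_of_dvd_coprimes (hk ▸ hxp.pow_right k)
        (orderOf_dvd_of_pow_eq_one hp') dvd_rfl)
      rw [← e, inv_mul_eq_one] at hb1
      exact eq_mul_inv_iff_mul_eq.1 hb1
    obtain ⟨k, hk⟩ := IsPGroup.iff_orderOf.1 hQ ⟨x, hCQ hxQ⟩
    rw [Subgroup.orderOf_mk] at hk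
    exact orderOf_eq_one_iff.1 (Nat.eq_one_of_dvd_coprimes (hk ▸ hxp.pow_right k) dvd_rfl dvd_rfl)
  · exact hLA

/-- S2842. -/
theorem centric_weakly_closed (Q : Subgroup H) (hQp : IsPGroup p ↥Q)
    (hwc : Cfsg.IsWeaklyClosedSubgroup p Q) (hCQ : centralizer (Q : Set H) ≤ Q) (L : Subgroup H) (hQL : Q ≤ L)
    (hyp : centralizer (Cfsg.pCore p H : Set H) ≤ Cfsg.pCore p H ∨ ∃ y : H, y ≠ 1 ∧
      y ∈ Cfsg.pCoreOf p L ⊓ centralizer (Q : Set H) ∧
      centralizer (Cfsg.pCore p ↥(centralizer ({y} : Set H)) : Set ↥(centralizer ({y} : Set H))) ≤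
        Cfsg.pCore p ↥(centralizer ({y} : Set H))) :
    ⁅Q, centralizer (Cfsg.pCoreOf p L : Set H)⁆ ≤ Q ⊓ Cfsg.pCoreOf p L ∧
      IsPGroup p ↥(centralizer (Cfsg.pCoreOf p L : Set H)) ∧
      centralizer (Cfsg.pCore p ↥L : Set ↥L) ≤ Cfsg.pCore p ↥L := by
  rcases hyp with h | ⟨y, -, hy, hc⟩
  · exact centric_core hQp hwc hCQ hQL (charP_top h) le_top le_top
  · refine centric_core hQp hwc hCQ hQL (charP_of hc) (fun q hq => mem_centralizer_singleton_iff.2 ?_)
      (fun a ha => mem_centralizer_singleton_iff.2 ?_)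
    · exact mem_centralizer_iff.1 hy.2 q hq
    · exact (mem_centralizer_iff.1 ha y hy.1).symm

/-! ### Large subgroups -/

theorem exists_fixed {Q Y : Subgroup H} (hQ : IsPGroup p Q) (hY : IsPGroup p Y) (hY1 : Y ≠ ⊥)
    (hn : Q ≤ normalizer (Y : Set H)) : ∃ u ∈ Y, u ≠ 1 ∧ u ∈ centralizer (Q : Set H) := by
  let φ : Q →* MulAut Y := (Y.normalizerMonoidHom).comp (Subgroup.inclusion hn)
  letI : MulAction Q Y := MulAction.compHom Y φ
  obtain ⟨k, hk⟩ := IsPGroup.iff_card.1 hY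
  have hk0 : k ≠ 0 := fun h => hY1 (eq_bot_of_card_eq Y (by rw [hk, h, pow_zero]))
  obtain ⟨u, hu, hne⟩ := hQ.exists_fixed_point_of_prime_dvd_card_of_fixed_point Y (hk ▸ dvd_pow_self p hk0)
    (a := 1) (fun q => map_one (φ q))
  refine ⟨u, u.2, fun h => hne (Subtype.ext h.symm), mem_centralizer_iff.2 fun q hq => ?_⟩
  have h1 : q * (u : H) * q⁻¹ = u := congrArg Subtype.val (hu ⟨q, hq⟩)
  exact mul_inv_eq_iff_eq_mul.1 h1

theorem large_normalizer {Q : Subgroup H} (hL : Cfsg.IsLarge Q) {u : H} (hu : u ∈ centralizer (Q : Set H))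
    (hu1 : u ≠ 1) : centralizer ({u} : Set H) ≤ normalizer (Q : Set H) := by
  have hle : zpowers u ≤ centralizer (Q : Set H) := zpowers_le.2 hu
  refine le_trans ?_ (hL.2 (zpowers u) hle (zpowers_ne_bot.2 hu1))
  refine le_trans ?_ (centralizer_le_normalizer _)
  rw [le_centralizer_iff, zpowers_le]
  exact mem_centralizer_iff.2 fun x hx => (mem_centralizer_singleton_iff.1 hx)

theorem large_charP {Q : Subgroup H} (hQ : IsPGroup p Q) (hL : Cfsg.IsLarge Q) {X : Subgroup H} (hQX : Q ≤ X)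
    (hX : X ≤ normalizer (Q : Set H)) : CharP p X :=
  fun _ hx => le_pCoreOf hQX hX hQ (hL.1 (centralizer_le (le_pCoreOf hQX hX hQ) hx.2))

theorem large_conj {Q : Subgroup H} (hL : Cfsg.IsLarge Q) (g : H) : Cfsg.IsLarge (cj g Q) := by
  have hC : ∀ X : Subgroup H, cj g (centralizer (X : Set H)) = centralizer (cj g X : Set H) := fun X => by
    ext x
    simp only [cj, mem_map_equiv, MulAut.conj_symm_apply, mem_centralizer_iff, SetLike.mem_coe]
    constructor
    · intro h y hy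
      have := h _ hy
      calc y * x = g * ((g⁻¹ * y * g) * (g⁻¹ * x * g)) * g⁻¹ := by group
        _ = _ := by rw [this]; group
    · intro h y hy
      have := h (g * y * g⁻¹) (by rwa [show g⁻¹ * (g * y * g⁻¹) * g = y by group])
      calc y * (g⁻¹ * x * g) = g⁻¹ * (g * y * g⁻¹ * x) * g := by group
        _ = _ := by rw [this]; group
  refine ⟨hC Q ▸ cj_mono g hL.1, fun U hU hU1 => ?_⟩
  have h1 := hL.2 (cj g⁻¹ U) (by rw [← cj_inv_cj g (centralizer (Q : Set H)), hC]; exact cj_mono _ hU)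
    (fun h => hU1 (by rw [← cj_cj_inv g U, h, cj, Subgroup.map_bot]))
  have h2 := cj_mono g h1
  rwa [cj_normalizer, cj_normalizer, cj_cj_inv] at h2

theorem large_core_facts {Q : Subgroup H} (hQ : IsPGroup p Q) (hQ1 : Q ≠ ⊥) (hL : Cfsg.IsLarge Q) (L : Subgroup H)
    (hQL : Q ≤ L) (hU : Cfsg.pCore p ↥L ≠ ⊥) :
    IsPGroup p ↥(centralizer (Cfsg.pCoreOf p L : Set H)) ∧
      centralizer (Cfsg.pCore p ↥L : Set ↥L) ≤ Cfsg.pCore p ↥L := by
  have hU' : Cfsg.pCoreOf p L ≠ ⊥ := fun h => hU ((map_eq_bot_iff_of_injective _ L.subtype_injective).1 h)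
  obtain ⟨y, hy, hy1, hyQ⟩ := exists_fixed hQ (pCoreOf_isPGroup L) hU' (hQL.trans (pCoreOf_norm L))
  have hc : CharP p (centralizer ({y} : Set H)) := large_charP hQ hL
    (fun q hq => mem_centralizer_singleton_iff.2 (mem_centralizer_iff.1 hyQ q hq)) (large_normalizer hL hyQ hy1)
  exact (centric_weakly_closed Q hQ (large_wc hQ hQ1 hL) hL.1 L hQL (Or.inr ⟨y, hy1, ⟨hy, hyQ⟩, charP_to hc⟩)).2

/-- S2843. -/
theorem large_weakClosure {Q : Subgroup H} (hQ : IsPGroup p Q) (hQ1 : Q ≠ ⊥) (hL : Cfsg.IsLarge Q) (L : Subgroup H)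
    (hQL : Q ≤ L) (Y : Subgroup H) (hYp : IsPGroup p Y) (hY1 : Y ≠ ⊥) (hLY : L ≤ normalizer (Y : Set H)) :
    Cfsg.weakClosure Q L = Cfsg.weakClosure Q (L ⊔ centralizer (Y : Set H)) ∧
      ⁅Cfsg.weakClosure Q L, centralizer (Y : Set H)⁆ ≤ Cfsg.pCoreOf p (Cfsg.weakClosure Q L) ∧
      centralizer (Y : Set H) ≤ normalizer (Cfsg.weakClosure Q L : Set H) := by
  set A := centralizer (Y : Set H)
  have hKN : L ⊔ A ≤ normalizer (Y : Set H) := sup_le hLY (centralizer_le_normalizer _)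
  have hfix : ∀ g : H, cj g Q ≤ normalizer (Y : Set H) → A ≤ normalizer (cj g Q : Set H) := by
    intro g hg
    obtain ⟨u, hu, hu1, huQ⟩ := exists_fixed (hQ.map _) hYp hY1 hg
    refine le_trans (fun a ha => ?_) (large_normalizer (large_conj hL g) huQ hu1)
    exact mem_centralizer_singleton_iff.2 (mem_centralizer_iff.1 ha u hu).symm
  have hwc := large_wc hQ hQ1 hL
  set W := Cfsg.weakClosure Q L
  have hAW : A ≤ normalizer (W : Set H) := fun a ha => by
    rw [← Solv.conj_smul_eq_self_iff]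
    show cj a W = W
    simp only [W, Cfsg.weakClosure, cj, Subgroup.map_iSup]
    exact iSup_congr fun g => cj_eq_self_iff.2 (hfix g.1 (g.2.trans hLY) ha)
  refine ⟨le_antisymm (iSup_le fun g => le_iSup_of_le ⟨g.1, g.2.trans le_sup_left⟩ le_rfl) (iSup_le fun g => ?_),
    ?_, hAW⟩
  · obtain ⟨k, hk, e⟩ := wc_conj_inside hQ hwc (hQL.trans le_sup_left) g.1 g.2
    have hkal : ∃ a ∈ A, ∃ l ∈ L, k = a * l := by
      haveI : (A.subgroupOf (L ⊔ A)).Normal := (normal_subgroupOf_iff_le_normalizer le_sup_right).2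
        (hKN.trans (Solv.normalizer_le_normalizer_centralizer _))
      have h1 : (⟨k, hk⟩ : ↥(L ⊔ A)) ∈ A.subgroupOf (L ⊔ A) ⊔ L.subgroupOf (L ⊔ A) := by
        rw [← subgroupOf_sup le_sup_right le_sup_left, sup_comm A L]
        exact hk
      obtain ⟨a, ha, l, hl, e⟩ := mem_sup_of_normal_left.1 h1
      exact ⟨a, ha, l, hl, (congrArg Subtype.val e).symm⟩
    obtain ⟨a, ha, l, hl, rfl⟩ := hkal
    have hlQ : cj l Q ≤ L := by
      rintro _ ⟨x, hx, rfl⟩
      exact L.mul_mem (L.mul_mem hl (hQL hx)) (L.inv_mem hl)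
    have e2 : Q.map (MulAut.conj g.1).toMonoidHom = cj l Q := by
      show cj g.1 Q = cj l Q
      rw [e, ← cj_cj, cj_eq_self_iff.2 (hfix l (hlQ.trans hLY) ha)]
    rw [e2]
    exact le_iSup_of_le (⟨l, hlQ⟩ : {g : H // cj g Q ≤ L}) le_rfl
  · have hWN : W ≤ normalizer (A : Set H) :=
      ((iSup_le fun g => g.2 : W ≤ L).trans hLY).trans (Solv.normalizer_le_normalizer_centralizer _)
    have hXA : ⁅W, A⁆ ≤ A := commutator_le.2 fun w hw a ha => by
      rw [commutatorElement_def]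
      exact A.mul_mem ((mem_normalizer_iff.1 (hWN hw) a).1 ha) (A.inv_mem ha)
    have hXW : ⁅W, A⁆ ≤ W := commutator_le.2 fun w hw a ha => by
      rw [commutatorElement_def, show w * a * w⁻¹ * a⁻¹ = w * (a * w⁻¹ * a⁻¹) by group]
      exact W.mul_mem hw ((mem_normalizer_iff.1 (hAW ha) _).1 (W.inv_mem hw))
    refine le_pCoreOf hXW (Solv.le_normalizer_commutator_left W A) ((pCoreOf_isPGroup A).to_le ?_)
    -- each generator commutes with `A` modulo `O_p(A)`
    have hMn : normalizer (A : Set H) ≤ normalizer (Cfsg.pCoreOf p A : Set H) := by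
      have hfw : ∀ g ∈ normalizer (A : Set H), cj g (Cfsg.pCoreOf p A) ≤ Cfsg.pCoreOf p A := by
        intro g hg
        refine le_pCoreOf (fun x ⟨y, hy, e⟩ => e ▸ (mem_normalizer_iff.1 hg y).1 (pCoreOf_le A hy)) ?_
          ((pCoreOf_isPGroup A).map _)
        intro a ha
        have ha' : g⁻¹ * a * g ∈ A := (mem_normalizer_iff''.1 hg a).1 ha
        have h2 := cj_cj a g (Cfsg.pCoreOf p A)
        rw [show a * g = g * (g⁻¹ * a * g) by group, ← cj_cj, cj_eq_self_iff.2 (pCoreOf_norm A ha')] at h2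
        exact cj_eq_self_iff.1 h2
      intro g hg
      refine cj_eq_self_iff.1 (le_antisymm (hfw g hg) ?_)
      exact (cj_cj_inv g _).ge.trans (cj_mono g (hfw g⁻¹ (inv_mem hg)))
    set M := Cfsg.pCoreOf p A
    let D : Subgroup H :=
      { carrier := {w | w ∈ normalizer (M : Set H) ∧ ∀ a ∈ A, ⁅w, a⁆ ∈ M}
        one_mem' := ⟨one_mem _, fun a _ => by rw [commutatorElement_one_left]; exact M.one_mem⟩
        mul_mem' := by
          rintro u v ⟨hu, hu'⟩ ⟨hv, hv'⟩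
          refine ⟨mul_mem hu hv, fun a ha => ?_⟩
          rw [show ⁅u * v, a⁆ = u * ⁅v, a⁆ * u⁻¹ * ⁅u, a⁆ by simp only [commutatorElement_def]; group]
          exact M.mul_mem ((mem_normalizer_iff.1 hu _).1 (hv' a ha)) (hu' a ha)
        inv_mem' := by
          rintro u ⟨hu, hu'⟩
          refine ⟨inv_mem hu, fun a ha => ?_⟩
          rw [show ⁅u⁻¹, a⁆ = u⁻¹ * ⁅u, a⁆⁻¹ * u⁻¹⁻¹ by simp only [commutatorElement_def]; group]
          exact (mem_normalizer_iff.1 (inv_mem hu) _).1 (M.inv_mem (hu' a ha)) }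
    have hWD : W ≤ D := by
      refine iSup_le fun g x hx => ?_
      have hgN : cj g.1 Q ≤ normalizer (A : Set H) :=
        (g.2.trans hLY).trans (Solv.normalizer_le_normalizer_centralizer _)
      refine ⟨hMn (hgN hx), fun a ha => ?_⟩
      have hP : cj g.1 Q ⊓ A ≤ M := le_pCoreOf inf_le_right (fun b hb => ?_) ((hQ.map _).to_inf_left)
      · refine hP ⟨?_, A.mul_mem ((mem_normalizer_iff.1 (hgN hx) a).1 ha) (A.inv_mem ha)⟩
        rw [commutatorElement_def, show x * a * x⁻¹ * a⁻¹ = x * (a * x⁻¹ * a⁻¹) by group]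
        exact (cj g.1 Q).mul_mem hx ((mem_normalizer_iff.1 (hfix g.1 (g.2.trans hLY) ha) _).1 ((cj g.1 Q).inv_mem hx))
      · rw [mem_normalizer_iff]
        intro y
        simp only [mem_inf]
        rw [mem_normalizer_iff.1 (hfix g.1 (g.2.trans hLY) hb) y, mem_normalizer_iff.1 (le_normalizer hb) y]
    exact commutator_le.2 fun w hw a ha => (hWD hw).2 a ha

/-- S2845. -/
theorem large_parabolic {Q : Subgroup H} (hQ : IsPGroup p Q) (hQ1 : Q ≠ ⊥) (hL : Cfsg.IsLarge Q) :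
    (∀ L : Subgroup H, Q ≤ L → Cfsg.pCore p ↥L ≠ ⊥ →
      IsPGroup p ↥(centralizer (Cfsg.pCoreOf p L : Set H)) ∧
      centralizer (Cfsg.pCore p ↥L : Set ↥L) ≤ Cfsg.pCore p ↥L ∧
      (Cfsg.weakClosure Q L = Q ∨ centralizer (Cfsg.weakClosure Q L : Set H) = ⊥)) ∧
    (∀ R : Subgroup H, Cfsg.IsParabolic p R → Cfsg.pCore p ↥R ≠ ⊥ →
      centralizer (Cfsg.pCoreOf p R : Set H) ≤ Cfsg.pCoreOf p R) ∧
    Cfsg.IsOfParabolicCharacteristic p H := by
  have hpar : ∀ R : Subgroup H, Cfsg.IsParabolic p R → Cfsg.pCore p ↥R ≠ ⊥ →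
      centralizer (Cfsg.pCoreOf p R : Set H) ≤ Cfsg.pCoreOf p R := by
    rintro R ⟨T, hTR⟩ hR
    obtain ⟨S, hS⟩ := hQ.exists_le_sylow
    obtain ⟨g, hg⟩ := MulAction.exists_smul_eq H S T
    have hQT : cj g Q ≤ (T : Subgroup H) := by
      refine (cj_mono g hS).trans (le_of_eq ?_)
      rw [← hg, Sylow.coe_subgroup_smul]
      rfl
    have hne : cj g Q ≠ ⊥ := fun h => hQ1 (by rw [← cj_inv_cj g Q, h, cj, Subgroup.map_bot])
    obtain ⟨hC, -⟩ := large_core_facts (hQ.map _) hne (large_conj hL g) R (hQT.trans hTR) hR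
    set C := centralizer (Cfsg.pCoreOf p R : Set H)
    have hRC : R ≤ normalizer (C : Set H) :=
      (pCoreOf_norm R).trans (Solv.normalizer_le_normalizer_centralizer _)
    have hCT : C ≤ (T : Subgroup H) := le_sup_left.trans (T.is_maximal'
      (IsPGroup.to_sup_of_normal_left' hC T.isPGroup' (hTR.trans hRC)) le_sup_right).le
    exact le_pCoreOf (hCT.trans hTR) hRC hC
  refine ⟨fun L hQL hU => ?_, hpar, fun R hR hR1 hp => ?_⟩
  · obtain ⟨h1, h2⟩ := large_core_facts hQ hQ1 hL L hQL hU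
    refine ⟨h1, h2, ?_⟩
    by_cases hall : ∀ g : {g : H // cj g Q ≤ L}, g.1 ∈ normalizer (Q : Set H)
    · left
      refine le_antisymm (iSup_le fun g => (cj_eq_self_iff.2 (hall g)).le) ?_
      exact le_iSup_of_le (⟨1, (cj_one Q).le.trans hQL⟩ : {g : H // cj g Q ≤ L}) (cj_one Q).ge
    · right
      push Not at hall
      obtain ⟨g, hg⟩ := hall
      refine le_bot_iff.1 (le_trans (le_inf ?_ ?_)
        ((large_props hQ hQ1 hL _ rfl).1 g.1 hg).1.le)
      · exact centralizer_le (show Q ≤ Cfsg.weakClosure Q L from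
          le_iSup_of_le (⟨1, (cj_one Q).le.trans hQL⟩ : {g : H // cj g Q ≤ L}) (cj_one Q).ge)
      · exact centralizer_le (show cj g.1 Q ≤ Cfsg.weakClosure Q L from le_iSup_of_le g le_rfl)
  · set N := normalizer (R : Set H)
    have hne : Cfsg.pCore p ↥N ≠ ⊥ := fun h => hR1 (le_bot_iff.1 (by
      have := le_pCoreOf (N := R) (K := N) le_normalizer le_rfl hR
      rwa [Cfsg.pCoreOf, h, Subgroup.map_bot] at this))
    exact charP_to fun x hx => hpar N hp hne hx.2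

/-! ### The basic property -/

theorem frakM_core {S : Sylow p H} {M : Subgroup H} (hSM : (S : Subgroup H) ≤ M) (hM : Cfsg.IsInFrakM p M) :
    Cfsg.pCoreOf p M = (S : Subgroup H) ⊓ centralizer (Cfsg.largestPReducedOf p M : Set H) := by
  have hY := red_largest (p := p) M
  set U := Cfsg.pCoreOf p M
  set Y := Cfsg.largestPReducedOf p M
  set D := M ⊓ centralizer (Y : Set H)
  refine le_antisymm (le_inf (pCoreOf_le_of_sylow hSM S.isPGroup' (sylow_relIndex S hSM)) hY.pCoreOf_le_centralizer) ?_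
  set X := (S : Subgroup H) ⊓ centralizer (Y : Set H)
  have hXD : X ≤ D := inf_le_inf_right _ hSM
  obtain ⟨P, hP⟩ := ((S.isPGroup'.to_inf_left : IsPGroup p X).comap_subtype (K := D)).exists_le_sylow
  have hPn : (P : Subgroup D).Normal := hM.2.2.2.2.1 P
  have hPle : (P : Subgroup D).map D.subtype ≤ U := by
    have hDn : M ≤ normalizer (D : Set H) := fun k hk => by
      rw [mem_normalizer_iff]
      intro x
      simp only [D, mem_inf]
      rw [mem_normalizer_iff.1 (le_normalizer hk) x,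
        mem_normalizer_iff.1 (Solv.normalizer_le_normalizer_centralizer _ (hY.norm hk)) x]
    have hPeq : (P : Subgroup D) = Cfsg.pCore p ↥D :=
      le_antisymm (Solv.le_pCore hPn P.isPGroup') (Solv.pCore_le_sylow p P)
    rw [hPeq]
    have hsn : ((Cfsg.pCoreOf p D).subgroupOf M).IsSubnormal := by
      refine IsSubnormal.step _ (D.subgroupOf M) (fun x hx => pCoreOf_le (p := p) D hx)
        ((normal_subgroupOf_iff_le_normalizer inf_le_left).2 hDn).isSubnormal ?_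
      refine (normal_subgroupOf_iff_le_normalizer
        (show (Cfsg.pCoreOf p D).subgroupOf M ≤ D.subgroupOf M from fun x hx => pCoreOf_le (p := p) D hx)).2 fun x hx => ?_
      rw [mem_normalizer_iff]
      exact fun y => mem_normalizer_iff.1 (pCoreOf_norm (p := p) D hx) (y : H)
    have h1 := PLocal.PIrr.subnormal_le_pCore (p := p) hsn (pCoreOf_isPGroup _).comap_subtype
    exact fun x hx => ⟨⟨x, inf_le_left (α := Subgroup H) (pCoreOf_le (p := p) D hx)⟩, h1 hx, rfl⟩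
  exact fun x hx => hPle ⟨⟨x, hXD hx⟩, hP hx, rfl⟩

/-- S2848. -/
theorem frakM_wc {S : Sylow p H} {M : Subgroup H} (hSM : (S : Subgroup H) ≤ M) (hM : Cfsg.IsInFrakM p M) :
    Cfsg.IsWeaklyClosedSubgroup p
      ((Cfsg.pCoreOf p M).subgroupOf (M ⊔ centralizer (Cfsg.largestPReducedOf p M : Set H))) := by
  have hY := red_largest (p := p) M
  set U := Cfsg.pCoreOf p M
  set Y := Cfsg.largestPReducedOf p M
  set C := centralizer (Y : Set H)
  set M' := M ⊔ C
  have hU : U = (S : Subgroup H) ⊓ C := frakM_core hSM hM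
  have hUS : U ≤ (S : Subgroup H) := hU ▸ inf_le_left
  refine ⟨S.subtype (hSM.trans le_sup_left), fun x hx => hUS hx, fun g hg => ?_⟩
  refine eq_of_le_of_card_ge ?_ (card_map_of_injective (MulAut.conj g).injective).ge
  rintro _ ⟨x, hx, rfl⟩
  have hgN : (g : H) ∈ normalizer (C : Set H) :=
    (sup_le (hY.norm.trans (Solv.normalizer_le_normalizer_centralizer _)) le_normalizer : M' ≤ _) g.2
  have h1 : ((MulAut.conj g x : M') : H) ∈ (S : Subgroup H) := hg ⟨x, hx, rfl⟩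
  show ((MulAut.conj g x : M') : H) ∈ U
  rw [hU]
  exact ⟨h1, (mem_normalizer_iff.1 hgN (x : H)).1 (hU.le hx).2⟩

/-- S2849. -/
theorem asymmetric_closure {M : Subgroup H} (hasym : ¬ Cfsg.IsSymmetricIn (Cfsg.largestPReducedOf p M))
    (R : Subgroup H) (hYR : Cfsg.largestPReducedOf p M ≤ R)
    (hRM : R ≤ M ⊔ centralizer (Cfsg.largestPReducedOf p M : Set H)) :
    Cfsg.IsElementaryAbelian p ((normalClosure (((Cfsg.largestPReducedOf p M).subgroupOf (normalizer (R : Set H)) :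
      Subgroup ↥(normalizer (R : Set H))) : Set ↥(normalizer (R : Set H)))).map (normalizer (R : Set H)).subtype) := by
  have hY := red_largest (p := p) M
  set Y := Cfsg.largestPReducedOf p M
  set N := normalizer (R : Set H)
  have hRY : R ≤ normalizer (Y : Set H) := hRM.trans (sup_le hY.norm (centralizer_le_normalizer _))
  have hcj : ∀ n ∈ N, cj n Y ≤ R ∧ R ≤ normalizer (cj n Y : Set H) := fun n hn => by
    refine ⟨(cj_mono n hYR).trans (cj_eq_self_iff.2 hn).le, ?_⟩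
    rw [← cj_normalizer]
    exact (cj_eq_self_iff.2 hn).ge.trans (cj_mono n hRY)
  have hcomm : ∀ n ∈ N, ∀ a ∈ Y, ∀ b ∈ cj n Y, a * b = b * a := by
    intro n hn a ha b hb
    obtain ⟨h1, h2⟩ := hcj n hn
    have hle : ⁅Y, cj n Y⁆ ≤ Y ⊓ cj n Y := commutator_le.2 fun u hu v hv => by
      refine ⟨?_, ?_⟩
      · rw [commutatorElement_def, show u * v * u⁻¹ * v⁻¹ = u * (v * u⁻¹ * v⁻¹) by group]
        exact Y.mul_mem hu ((mem_normalizer_iff.1 (hRY (h1 hv)) _).1 (Y.inv_mem hu))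
      · rw [commutatorElement_def]
        exact (cj n Y).mul_mem ((mem_normalizer_iff.1 (h2 (hYR hu)) v).1 hv) ((cj n Y).inv_mem hv)
    have hbot : ⁅Y, cj n Y⁆ = ⊥ := by
      by_contra hne; exact hasym ⟨n, hne, hle⟩
    exact commutatorElement_eq_one_iff_mul_comm.1 (mem_bot.1 (hbot ▸ commutator_mem_commutator ha hb))
  set V := (normalClosure ((Y.subgroupOf N : Subgroup N) : Set N)).map N.subtype
  have hVc : V ≤ centralizer (V : Set H) ∧ ∀ v ∈ V, v ^ p = 1 := by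
    have hgen : V = closure {x | ∃ n ∈ N, ∃ y ∈ Y, y ∈ N ∧ x = n * y * n⁻¹} := by
      refine le_antisymm ?_ ?_
      · rintro _ ⟨x, hx, rfl⟩
        refine closure_induction (p := fun (z : N) _ => (z : H) ∈ Subgroup.closure _) ?_ (one_mem _)
          (fun _ _ _ _ h1 h2 => mul_mem h1 h2) (fun _ _ h => inv_mem h) hx
        intro z hz
        obtain ⟨y, hy, hyz⟩ := Group.mem_conjugatesOfSet_iff.1 hz
        obtain ⟨n, rfl⟩ := isConj_iff.1 hyz
        exact subset_closure ⟨n, n.2, y, hy, y.2, rfl⟩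
      · rw [closure_le]
        rintro _ ⟨n, hn, y, hy, hyN, rfl⟩
        exact ⟨_, normalClosure_normal.conj_mem _
          (le_normalClosure (show (⟨y, hyN⟩ : N) ∈ Y.subgroupOf N from hy)) ⟨n, hn⟩, rfl⟩
    have hgc : ∀ x ∈ {x | ∃ n ∈ N, ∃ y ∈ Y, y ∈ N ∧ x = n * y * n⁻¹},
        ∀ z ∈ {x | ∃ n ∈ N, ∃ y ∈ Y, y ∈ N ∧ x = n * y * n⁻¹}, x * z = z * x := by
      rintro _ ⟨n, hn, y, hy, -, rfl⟩ _ ⟨m, hm, w, hw, -, rfl⟩
      have h1 := hcomm (n⁻¹ * m) (N.mul_mem (N.inv_mem hn) hm) y hy (n⁻¹ * m * w * (n⁻¹ * m)⁻¹) ⟨w, hw, rfl⟩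
      calc n * y * n⁻¹ * (m * w * m⁻¹) = n * (y * (n⁻¹ * m * w * (n⁻¹ * m)⁻¹)) * n⁻¹ := by group
        _ = _ := by rw [h1]; group
    rw [hgen]
    set S0 := {x | ∃ n ∈ N, ∃ y ∈ Y, y ∈ N ∧ x = n * y * n⁻¹}
    have hc : closure S0 ≤ centralizer (closure S0 : Set H) := by
      rw [closure_le]
      intro x hx
      rw [SetLike.mem_coe, mem_centralizer_iff]
      intro z hz
      have : closure S0 ≤ centralizer ({x} : Set H) := by
        rw [closure_le]
        exact fun w hw => mem_centralizer_singleton_iff.2 (hgc w hw x hx)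
      exact mem_centralizer_singleton_iff.1 (this hz)
    refine ⟨hc, fun v hv => ?_⟩
    refine closure_induction (p := fun z hz => z ^ p = 1) ?_ (one_pow p) ?_ ?_ hv
    · rintro _ ⟨n, hn, y, hy, -, rfl⟩
      rw [conj_pow, hY.exp y hy, mul_one, mul_inv_cancel]
    · intro a b ha hb h1 h2
      rw [Commute.mul_pow (mem_centralizer_iff.1 (hc hb) a ha), h1, h2, one_mul]
    · intro a _ h1
      rw [inv_pow, h1, inv_one]
  exact ⟨⟨⟨fun a b => Subtype.ext (mem_centralizer_iff.1 (hVc.1 b.2) a a.2)⟩⟩, hVc.2⟩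

end Cfsg.Lib.LargeSub
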