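import Mathlib
import Cfsg.Agent.Lib.PLocal.LargeSubgroup

/-!
Existence of subgroups with the basic property.
-/

set_option autoImplicit false
set_option linter.style.haveILetI false
set_option linter.unusedSectionVars false

namespace Cfsg.Lib.BasicProperty

open Subgroup Cfsg.Lib.PReduced Cfsg.Lib.LargeSub Cfsg.Lib.PLocal.Closed

variable {H : Type*} [Group H] [Finite H] {p : ℕ} [hp : Fact p.Prime]

theorem exists_mul {A C : Subgroup H} (h : A ≤ normalizer (C : Set H)) {x : H} (hx : x ∈ A ⊔ C) :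
    ∃ a ∈ A, ∃ c ∈ C, x = a * c := by
  haveI : (C.subgroupOf (A ⊔ C)).Normal :=
    (normal_subgroupOf_iff_le_normalizer le_sup_right).2 (sup_le h le_normalizer)
  have h1 : (⟨x, hx⟩ : ↥(A ⊔ C)) ∈ A.subgroupOf (A ⊔ C) ⊔ C.subgroupOf (A ⊔ C) := by
    rw [← subgroupOf_sup le_sup_left le_sup_right]; exact hx
  obtain ⟨a, ha, c, hc, e⟩ := mem_sup_of_normal_right.1 h1
  exact ⟨a, ha, c, hc, (congrArg Subtype.val e).symm⟩

theorem pCoreOf_ne_bot {K : Subgroup H} (h : Cfsg.pCore p ↥K ≠ ⊥) : Cfsg.pCoreOf p K ≠ ⊥ :=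
  fun e => h ((map_eq_bot_iff_of_injective _ K.subtype_injective).1 e)

theorem mem_charP_of {H : Type*} [Group H] [Finite H] (hH : Cfsg.IsOfParabolicCharacteristic p H) {T : Sylow p H}
    {R : Subgroup H} (hTR : (T : Subgroup H) ≤ R) (hR : Cfsg.pCore p ↥R ≠ ⊥) :
    R ∈ Cfsg.charPSubgroups p H := by
  refine ⟨hR, ?_⟩
  set U := Cfsg.pCoreOf p R
  show centralizer (U : Set H) ≤ U
  set N := normalizer (U : Set H)
  have hRN : R ≤ N := pCoreOf_norm R
  have hN : CharP p N := charP_of (hH U (pCoreOf_isPGroup R) (pCoreOf_ne_bot hR) ⟨T, hTR.trans hRN⟩)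
  have hW : Cfsg.pCoreOf p N ≤ U := by
    have h1 : Cfsg.pCoreOf p N ≤ R :=
      (pCoreOf_le_of_sylow (hTR.trans hRN) T.isPGroup' (sylow_relIndex T (hTR.trans hRN))).trans hTR
    exact le_pCoreOf h1 (hRN.trans (pCoreOf_norm N)) (pCoreOf_isPGroup N)
  intro x hx
  exact hW (hN ⟨centralizer_le_normalizer _ hx, centralizer_le hW hx⟩)

theorem largest_ne_bot {T : Sylow p H} {L : Subgroup H} (hTL : (T : Subgroup H) ≤ L)
    (hL : L ∈ Cfsg.charPSubgroups p H) : Cfsg.largestPReducedOf p L ≠ ⊥ := by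
  have hT : (T : Subgroup H) ≠ ⊥ := fun h => pCoreOf_ne_bot hL.1
    (le_bot_iff.1 ((pCoreOf_le_of_sylow hTL T.isPGroup' (sylow_relIndex T hTL)).trans h.le))
  obtain ⟨u, hu, hu1, huc⟩ := exists_fixed T.isPGroup' T.isPGroup' hT le_normalizer
  obtain ⟨k, hk⟩ := IsPGroup.iff_orderOf.1 T.isPGroup' ⟨u, hu⟩
  rw [Subgroup.orderOf_mk] at hk
  have hk0 : k ≠ 0 := fun h => hu1 (orderOf_eq_one_iff.1 (by rw [hk, h, pow_zero]))
  obtain ⟨j, rfl⟩ := Nat.exists_eq_succ_of_ne_zero hk0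
  have hz : u ^ p ^ j ∈ Cfsg.omegaOne p ((T : Subgroup H) ⊓ centralizer ((T : Subgroup H) : Set H)) :=
    mem_omegaZ.2 ⟨pow_mem hu _, fun y hy => (Commute.pow_right (mem_centralizer_iff.1 huc y hy) _).eq, by
      rw [← pow_mul, ← pow_succ, ← hk, pow_orderOf_eq_one]⟩
  intro h
  have h1 := omegaZ_le_largest (charP_to (fun x hx => hL.2 hx.2)) hTL T.isPGroup' (sylow_relIndex T hTL) hz
  rw [h, mem_bot] at h1
  have := orderOf_dvd_of_pow_eq_one h1
  rw [hk] at this
  exact absurd ((Nat.pow_dvd_pow_iff_le_right hp.out.one_lt).1 this) (by omega)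

theorem largest_mono_le {T : Sylow p H} {A B : Subgroup H} (hTA : (T : Subgroup H) ≤ A) (hAB : A ≤ B)
    (hB : B ∈ Cfsg.charPSubgroups p H) : Cfsg.largestPReducedOf p A ≤ Cfsg.largestPReducedOf p B := by
  have hY := red_largest (p := p) A
  set Y := Cfsg.largestPReducedOf p A
  have hYB : Y ≤ B := hY.le.trans hAB
  have hred : Cfsg.IsPReducedNormal p ((Y.subgroupOf B).subgroupOf (A.subgroupOf B)) := by
    rw [red_iff (show Y.subgroupOf B ≤ A.subgroupOf B from fun x hx => hY.le hx)]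
    refine ⟨fun x hx => hY.le hx, fun x hx => ?_, fun a ha b hb => Subtype.ext (hY.comm _ ha _ hb),
      fun a ha => Subtype.ext (hY.exp _ ha), fun M hMN hMn hmod => ?_⟩
    · rw [mem_normalizer_iff]
      exact fun y => mem_normalizer_iff.1 (hY.norm hx) (y : H)
    · have h1 := hY.kill (M.map B.subtype) (by rintro _ ⟨y, hy, rfl⟩; exact hMN hy) (fun n hn => ?_) ?_
      · exact fun y hy => (mem_centralizer_subgroupOf hYB y).2 (h1 ⟨y, hy, rfl⟩)
      · exact pCoreOf_map.le_normalizer_map' B M ⟨⟨n, hAB hn⟩, hMn (show (⟨n, hAB hn⟩ : B) ∈ A.subgroupOf B from hn), rfl⟩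
      · rintro _ ⟨y, hy, rfl⟩
        obtain ⟨j, hj⟩ := hmod y hy
        exact ⟨j, by simpa using (mem_centralizer_subgroupOf hYB _).1 hj⟩
  have h2 := PLocal.FrattiniResidual.normalClosure_pReduced (charP_to (fun x hx => hB.2 hx.2))
    (T.subtype (hTA.trans hAB)) (A.subgroupOf B) (fun x hx => hTA hx) _ hred
  rw [map_subgroupOf_eq_of_le (show Y.subgroupOf B ≤ A.subgroupOf B from fun x hx => hY.le hx)] at h2
  intro y hy
  exact ⟨⟨y, hYB hy⟩, le_sSup (show _ ∈ {V : Subgroup B | Cfsg.IsPReducedNormal p V} from h2)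
    (le_normalClosure hy), rfl⟩

/-- The common construction. -/
theorem exists_basic (hH : Cfsg.IsOfParabolicCharacteristic p H) (T : Sylow p H) (L : Subgroup H)
    (hTL : (T : Subgroup H) ≤ L) (hL : L ∈ Cfsg.charPSubgroups p H) :
    ∃ M Ls : Subgroup H, (T : Subgroup H) ≤ M ∧ Cfsg.IsInFrakM p M ∧ (T : Subgroup H) ≤ Ls ∧ Ls ≤ M ∧
      Ls ∈ Cfsg.charPSubgroups p H ∧ Cfsg.largestPReducedOf p L = Cfsg.largestPReducedOf p Ls ∧
      Cfsg.largestPReducedOf p L ≤ Cfsg.largestPReducedOf p M ∧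
      L ⊔ centralizer (Cfsg.largestPReducedOf p L : Set H) =
        Ls ⊔ centralizer (Cfsg.largestPReducedOf p L : Set H) := by
  classical
  haveI : Finite (Subgroup H) := Finite.of_injective (fun K => (K : Set H)) SetLike.coe_injective
  set Y := Cfsg.largestPReducedOf p L with hYdef
  have hY : Red p L Y := red_largest L
  set C := centralizer (Y : Set H)
  set L' := L ⊔ C with hL'def
  have hTL' : (T : Subgroup H) ≤ L' := hTL.trans le_sup_left
  let 𝒳 : Set (Subgroup H) := {X | X ∈ Cfsg.maxCharPSubgroups p H ∧ (T : Subgroup H) ≤ X ∧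
    Y ≤ Cfsg.largestPReducedOf p X ∧ L' ≤ (L' ⊓ X) ⊔ C}
  have hmaxex : ∀ K ∈ Cfsg.charPSubgroups p H, ∃ X ∈ Cfsg.maxCharPSubgroups p H, K ≤ X := by
    intro K hK
    obtain ⟨X, hX, hmax⟩ := (Set.toFinite {X : Subgroup H | X ∈ Cfsg.charPSubgroups p H ∧ K ≤ X}).exists_maximal
      ⟨K, hK, le_rfl⟩
    exact ⟨X, ⟨hX.1, fun Z hZ hXZ => le_antisymm (hmax ⟨hZ, hX.2.trans hXZ⟩ hXZ) hXZ⟩, hX.2⟩
  have hne : 𝒳.Nonempty := by
    obtain ⟨X, hX, hLX⟩ := hmaxex L hL
    exact ⟨X, hX, hTL.trans hLX, largest_mono_le hTL hLX hX.1,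
      sup_le ((le_inf le_sup_left hLX).trans le_sup_left) le_sup_right⟩
  obtain ⟨X, hX, hXmax⟩ := (Set.toFinite 𝒳).exists_maximalFor (fun X => Cfsg.largestPReducedOf p X) 𝒳 hne
  obtain ⟨hXm, hTX, hYX, hLX⟩ := hX
  set YX := Cfsg.largestPReducedOf p X with hYXdef
  have hYXr : Red p X YX := red_largest X
  set D := centralizer (YX : Set H)
  have hYX1 : YX ≠ ⊥ := largest_ne_bot hTX hXm.1
  have hNX : normalizer (YX : Set H) = X := by
    refine hXm.2 _ (mem_charP_of hH (hTX.trans hYXr.norm) ?_) hYXr.norm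
    intro e
    have := le_pCoreOf (K := normalizer (YX : Set H)) le_normalizer le_rfl hYXr.isPGroup
    rw [Cfsg.pCoreOf, e, Subgroup.map_bot, le_bot_iff] at this
    exact hYX1 this
  have hDX : D ≤ X := (centralizer_le_normalizer _).trans hNX.le
  have hXD : X ≤ normalizer (D : Set H) := hYXr.norm.trans (Solv.normalizer_le_normalizer_centralizer _)
  obtain ⟨M, hM, hMmin⟩ := (Set.toFinite {M : Subgroup H | (T : Subgroup H) ≤ M ∧ M ≤ X ∧ X ≤ M ⊔ D}).exists_minimal
    ⟨X, hTX, le_rfl, le_sup_left⟩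
  obtain ⟨hTM, hMX, hXMD⟩ := hM
  have hMeq : M ⊔ D = X := le_antisymm (sup_le hMX hDX) hXMD
  set U := Cfsg.pCoreOf p M
  have hMne : Cfsg.pCore p ↥M ≠ ⊥ := by
    intro e
    have h1 : Cfsg.pCoreOf p X ≤ M :=
      (pCoreOf_le_of_sylow hTX T.isPGroup' (sylow_relIndex T hTX)).trans hTM
    have := le_pCoreOf h1 (hMX.trans (pCoreOf_norm X)) (pCoreOf_isPGroup X)
    unfold Cfsg.pCoreOf at this
    rw [e, Subgroup.map_bot, le_bot_iff] at this
    exact pCoreOf_ne_bot hXm.1.1 this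
  have hMc := mem_charP_of hH hTM hMne
  have hYM : Cfsg.largestPReducedOf p M = YX := by
    refine le_antisymm (largest_mono_le hTM hMX hXm.1) ?_
    refine (largest_le_of_sup_eq hYXr rfl ?_ ?_).le_largest
    · exact hYXr.le_pCoreOf.trans ((pCoreOf_le_of_sylow hTX T.isPGroup' (sylow_relIndex T hTX)).trans hTM)
    · show M ⊔ D = X ⊔ D
      rw [hMeq, sup_eq_left.2 hDX]
  -- the part of `M` centralizing `YX`
  set E := M ⊓ D
  set T₀ := (T : Subgroup H) ⊓ D
  have hEn : M ≤ normalizer (E : Set H) := fun x hx => by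
    rw [mem_normalizer_iff]
    intro y
    simp only [E, mem_inf]
    rw [mem_normalizer_iff.1 (le_normalizer hx) y, mem_normalizer_iff.1 (hXD (hMX hx)) y]
  have hT₀E : T₀ ≤ E := inf_le_inf_right _ hTM
  have hMN : M ≤ normalizer (T₀ : Set H) := by
    have hTn : (T : Subgroup H) ≤ normalizer (T₀ : Set H) := fun x hx => by
      rw [mem_normalizer_iff]
      intro y
      simp only [T₀, mem_inf]
      rw [mem_normalizer_iff.1 (le_normalizer hx) y, mem_normalizer_iff.1 (hXD (hTX hx)) y]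
    refine le_trans ?_ inf_le_right (b := M ⊓ normalizer (T₀ : Set H))
    refine hMmin ⟨le_inf hTM hTn, inf_le_left.trans hMX, ?_⟩ inf_le_left
    -- Frattini
    refine hXMD.trans (sup_le (fun g hg => ?_) le_sup_right)
    have hidx : ¬ p ∣ T₀.relIndex E := by
      have := not_dvd_relIndex_subnormal hTM T.isPGroup' (sylow_relIndex T hTM) (inf_le_left : E ≤ M)
        ((normal_subgroupOf_iff_le_normalizer inf_le_left).2 hEn).isSubnormal
      have e : T₀ = (T : Subgroup H) ⊓ E := by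
        show (T : Subgroup H) ⊓ D = (T : Subgroup H) ⊓ (M ⊓ D)
        rw [← inf_assoc, inf_eq_left.2 hTM]
      rwa [e, inf_relIndex_right]
    let P : Sylow p E := ((T.isPGroup'.to_inf_left : IsPGroup p T₀).comap_subtype (K := E)).toSylow hidx
    have hgT : T₀.map (MulAut.conj g⁻¹).toMonoidHom ≤ E := by
      rintro _ ⟨x, hx, rfl⟩
      exact (mem_normalizer_iff.1 (hEn (M.inv_mem hg)) x).1 (hT₀E hx)
    obtain ⟨P', hP'⟩ := ((T.isPGroup'.to_inf_left : IsPGroup p T₀).map (MulAut.conj g⁻¹).toMonoidHom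
      |>.comap_subtype (K := E)).exists_le_sylow
    obtain ⟨c, hc⟩ := MulAction.exists_smul_eq E P' P
    have hnorm : (c : H) * g⁻¹ ∈ normalizer (T₀ : Set H) := by
      rw [mem_normalizer_iff_map_conj_eq]
      refine eq_of_le_of_card_ge ?_ (card_map_of_injective (MulAut.conj ((c : H) * g⁻¹)).injective).ge
      rintro _ ⟨x, hx, rfl⟩
      have h1 : (⟨g⁻¹ * x * g⁻¹⁻¹, hgT ⟨x, hx, rfl⟩⟩ : E) ∈ (P' : Subgroup E) := hP' ⟨x, hx, rfl⟩
      have h2 : c * ⟨g⁻¹ * x * g⁻¹⁻¹, hgT ⟨x, hx, rfl⟩⟩ * c⁻¹ ∈ (P : Subgroup E) := by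
        rw [← hc, Sylow.coe_subgroup_smul]
        exact ⟨_, h1, rfl⟩
      have h3 : (c : H) * (g⁻¹ * x * g⁻¹⁻¹) * (c : H)⁻¹ ∈ T₀ := h2
      show (c : H) * g⁻¹ * x * ((c : H) * g⁻¹)⁻¹ ∈ T₀
      rwa [show (c : H) * g⁻¹ * x * ((c : H) * g⁻¹)⁻¹ = (c : H) * (g⁻¹ * x * g⁻¹⁻¹) * (c : H)⁻¹ by group]
    have e : g = (g * (c : H)⁻¹) * c := by group
    rw [e]
    refine mul_mem (mem_sup_left ⟨M.mul_mem hg (M.inv_mem c.2.1), ?_⟩) (mem_sup_right c.2.2)
    have := inv_mem hnorm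
    rwa [mul_inv_rev, inv_inv] at this
  have hidx0 : ¬ p ∣ T₀.relIndex E := by
    have := not_dvd_relIndex_subnormal hTM T.isPGroup' (sylow_relIndex T hTM) (inf_le_left : E ≤ M)
      ((normal_subgroupOf_iff_le_normalizer inf_le_left).2 hEn).isSubnormal
    have e : T₀ = (T : Subgroup H) ⊓ E := by
      show (T : Subgroup H) ⊓ D = (T : Subgroup H) ⊓ (M ⊓ D)
      rw [← inf_assoc, inf_eq_left.2 hTM]
    rwa [e, inf_relIndex_right]
  have hclosed : Cfsg.IsPClosed p ↥E := by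
    intro P
    haveI : (T₀.subgroupOf E).Normal :=
      (normal_subgroupOf_iff_le_normalizer hT₀E).2 (inf_le_left.trans hMN)
    let P₀ : Sylow p E := ((T.isPGroup'.to_inf_left : IsPGroup p T₀).comap_subtype (K := E)).toSylow hidx0
    haveI : (P₀ : Subgroup E).Normal := this
    obtain ⟨g, hg⟩ := MulAction.exists_smul_eq E P₀ P
    rw [← hg, Sylow.smul_eq_of_normal]
    infer_instance
  have hfrat : (E.subgroupOf M).map (QuotientGroup.mk' (Cfsg.pCore p ↥M)) ≤ frattini (↥M ⧸ Cfsg.pCore p ↥M) := by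
    set q := QuotientGroup.mk' (Cfsg.pCore p ↥M)
    refine le_iInf fun X₀ => le_iInf fun hX₀ => ?_
    rw [map_le_iff_le_comap]
    by_contra hE
    set M₀ := (X₀.comap q).map M.subtype with hM₀def
    have hM₀M : M₀ ≤ M := map_subtype_le _
    have hT₀M₀ : T₀ ≤ M₀ := by
      have h1 : T₀ ≤ U := le_pCoreOf (hT₀E.trans inf_le_left) hMN T.isPGroup'.to_inf_left
      intro x hx
      obtain ⟨y, hy, rfl⟩ := h1 hx
      refine ⟨y, ?_, rfl⟩
      show q y ∈ X₀
      rw [show q y = 1 from (QuotientGroup.eq_one_iff y).2 hy]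
      exact one_mem _
    have hsup : M₀ ⊔ E = M := by
      refine le_antisymm (sup_le hM₀M inf_le_left) fun x hx => ?_
      have h1 : X₀.comap q ⊔ E.subgroupOf M = ⊤ :=
        (isCoatom_comap_of_surjective (QuotientGroup.mk'_surjective _) hX₀).2 _
          (lt_of_le_of_ne le_sup_left fun e => hE (le_sup_right.trans e.ge))
      have h2 := mem_map_of_mem M.subtype (h1.ge (mem_top (⟨x, hx⟩ : M)))
      rwa [Subgroup.map_sup, map_subgroupOf_eq_of_le inf_le_left] at h2
    -- a Sylow subgroup inside `M₀`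
    have hidxM : ¬ p ∣ M₀.relIndex M := by
      intro hdvd
      have h1 : M₀.relIndex M ∣ T₀.relIndex E := by
        haveI : (E.subgroupOf M).Normal := (normal_subgroupOf_iff_le_normalizer inf_le_left).2 hEn
        have e1 : M₀.relIndex M = (M₀.subgroupOf M).relIndex (E.subgroupOf M) := by
          have hMM : M₀.subgroupOf M ⊔ E.subgroupOf M = ⊤ := by
            rw [← subgroupOf_sup hM₀M inf_le_left, hsup, subgroupOf_self]
          have hcard := relIndex_sup_right (M₀.subgroupOf M) (E.subgroupOf M)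
          rw [hMM, relIndex_top_right] at hcard
          have c1 := card_mul_index (E.subgroupOf M)
          have c2 := card_mul_index (M₀.subgroupOf M)
          have c3 := card_mul_index ((E.subgroupOf M).subgroupOf (M₀.subgroupOf M))
          have c4 := card_mul_index ((M₀.subgroupOf M).subgroupOf (E.subgroupOf M))
          have hi : Nat.card ↥((E.subgroupOf M).subgroupOf (M₀.subgroupOf M)) =
              Nat.card ↥((M₀.subgroupOf M).subgroupOf (E.subgroupOf M)) := by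
            rw [← inf_subgroupOf_right (E.subgroupOf M) (M₀.subgroupOf M),
              ← inf_subgroupOf_right (M₀.subgroupOf M) (E.subgroupOf M),
              Nat.card_congr (subgroupOfEquivOfLe inf_le_right).toEquiv,
              Nat.card_congr (subgroupOfEquivOfLe inf_le_right).toEquiv, inf_comm]
          change (M₀.subgroupOf M).index = _
          rw [relIndex] at hcard ⊢
          set a := Nat.card ↥((M₀.subgroupOf M).subgroupOf (E.subgroupOf M))
          have ha : 0 < a := Nat.card_pos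
          set i := (E.subgroupOf M).index
          rw [hi, ← hcard] at c3
          rw [← c1, ← c3, ← c4] at c2
          have hi0 : 0 < i := Nat.pos_of_ne_zero index_ne_zero_of_finite
          exact Nat.eq_of_mul_eq_mul_left (Nat.mul_pos ha hi0) (by linarith [c2])
        rw [e1, relIndex_subgroupOf inf_le_left]
        exact relIndex_dvd_of_le_left _ hT₀M₀
      exact hidx0 (hdvd.trans h1)
    obtain ⟨P⟩ := (inferInstance : Nonempty (Sylow p M₀))
    have hidxP : ¬ p ∣ ((P : Subgroup M₀).map M₀.subtype).relIndex M := by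
      intro hdvd
      have e := relIndex_mul_relIndex ((P : Subgroup M₀).map M₀.subtype) M₀ M (map_subtype_le _) hM₀M
      rw [← e] at hdvd
      rcases hp.out.dvd_mul.1 hdvd with h | h
      · refine P.not_dvd_index ?_
        change p ∣ (((P : Subgroup M₀).map M₀.subtype).subgroupOf M₀).index at h
        rwa [← comap_subtype, comap_map_eq_self_of_injective M₀.subtype_injective] at h
      · exact hidxM h
    let P₁ : Sylow p M := ((P.isPGroup'.map M₀.subtype).comap_subtype (K := M)).toSylow hidxP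
    obtain ⟨m, hm⟩ := MulAction.exists_smul_eq M P₁ (T.subtype hTM)
    have hconj : (T : Subgroup H) ≤ cj (m : H) M₀ := by
      intro x hx
      have h1 : (⟨x, hTM hx⟩ : M) ∈ ((T.subtype hTM : Sylow p M) : Subgroup M) := hx
      rw [← hm, Sylow.coe_subgroup_smul] at h1
      obtain ⟨y, hy, e⟩ := h1
      exact ⟨y, (map_subtype_le _ hy : (y : H) ∈ M₀), congrArg Subtype.val e⟩
    have hsup' : X ≤ cj (m : H) M₀ ⊔ D := by
      have h1 : cj (m : H) (M₀ ⊔ E) = M := by
        rw [hsup]; exact cj_eq_self_iff.2 (le_normalizer m.2)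
      refine hXMD.trans (sup_le (h1.ge.trans ?_) le_sup_right)
      show (M₀ ⊔ E).map _ ≤ _
      rw [Subgroup.map_sup]
      refine sup_le le_sup_left (le_trans ?_ le_sup_right)
      exact (cj_mono _ inf_le_right).trans (cj_eq_self_iff.2 (hXD (hMX m.2))).le
    have hle : cj (m : H) M₀ ≤ M := (cj_mono _ hM₀M).trans (cj_eq_self_iff.2 (le_normalizer m.2)).le
    have hMle : M ≤ cj (m : H) M₀ := hMmin ⟨hconj, hle.trans hMX, hsup'⟩ hle
    have hM₀eq : M₀ = M := eq_of_le_of_card_ge hM₀M (by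
      calc Nat.card M ≤ Nat.card ↥(cj (m : H) M₀) := Nat.card_le_card_of_injective _ (inclusion_injective hMle)
        _ = Nat.card M₀ := card_map_of_injective (MulAut.conj (m : H)).injective)
    refine hE fun x hx => ?_
    obtain ⟨y, hy, e⟩ := (hM₀eq.ge (x.2) : (x : H) ∈ M₀)
    exact (Subtype.ext e : y = x) ▸ hy
  have hfrakM : Cfsg.IsInFrakM p M := by
    refine ⟨hMc, ?_, ?_, ?_, ?_, ?_⟩
    · rw [hYM]; show M ⊔ D ∈ _; rw [hMeq]; exact hXm
    · intro Z hZ hMZ
      rw [hYM]; show Z = M ⊔ D; rw [hMeq]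
      have hle : YX ≤ Cfsg.largestPReducedOf p Z := hYM ▸ largest_mono_le hTM hMZ hZ.1
      have hZmem : Z ∈ 𝒳 := by
        refine ⟨hZ, hTM.trans hMZ, hYX.trans hle, hLX.trans (sup_le ?_ le_sup_right)⟩
        intro x hx
        obtain ⟨a, ha, c, hc, e⟩ := exists_mul (hMX.trans hXD) (hXMD hx.2)
        have hcC : c ∈ C := centralizer_le hYX hc
        have haL : a ∈ L' := by
          rw [show a = x * c⁻¹ by rw [e]; group]
          exact L'.mul_mem hx.1 (L'.inv_mem (mem_sup_right hcC))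
        rw [e]
        exact mul_mem_sup ⟨haL, hMZ ha⟩ hcC
      have heq : Cfsg.largestPReducedOf p Z ≤ YX := hXmax hZmem hle
      have hYe : Cfsg.largestPReducedOf p Z = YX := le_antisymm heq hle
      have hZX : Z ≤ X := by
        rw [← hNX, ← hYe]
        exact (red_largest Z).norm
      exact (hZ.2 X hXm.1 hZX).symm
    · rw [hYM]; show YX = Cfsg.largestPReducedOf p (M ⊔ D); rw [hMeq]
    · rw [hYM]; exact hclosed
    · rw [hYM]; exact hfrat
  -- the subgroup `Ls`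
  set M₁ := L' ⊓ M
  set T₁ := (T : Subgroup H) ⊓ C with hT₁
  set Ls := M₁ ⊓ normalizer (T₁ : Set H) with hLsdef
  have hTM₁ : (T : Subgroup H) ≤ M₁ := le_inf hTL' hTM
  have hfac : M₁ ⊔ C = L ⊔ C := by
    refine le_antisymm (sup_le inf_le_left le_sup_right) (hLX.trans (sup_le ?_ le_sup_right))
    intro x hx
    obtain ⟨a, ha, c, hc, e⟩ := exists_mul (hMX.trans hXD) (hXMD hx.2)
    have hcC : c ∈ C := centralizer_le hYX hc
    have haL : a ∈ L' := by
      rw [show a = x * c⁻¹ by rw [e]; group]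
      exact L'.mul_mem hx.1 (L'.inv_mem (mem_sup_right hcC))
    rw [e]
    exact mul_mem_sup ⟨haL, ha⟩ hcC
  obtain ⟨h1, h2⟩ := frattini_transport T L M₁ hTL hTM₁ (charP_to (fun x hx => hL.2 hx.2)) T₁ rfl hfac Ls rfl
  have hTn : (T : Subgroup H) ≤ normalizer (T₁ : Set H) := fun x hx => by
    rw [mem_normalizer_iff]
    intro y
    simp only [T₁, mem_inf]
    rw [mem_normalizer_iff.1 (le_normalizer hx) y,
      mem_normalizer_iff.1 (Solv.normalizer_le_normalizer_centralizer _ (hY.norm (hTL hx))) y]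
  have hTLs : (T : Subgroup H) ≤ Ls := le_inf hTM₁ hTn
  have hLsne : Cfsg.pCore p ↥Ls ≠ ⊥ := by
    intro e
    have hU : Cfsg.pCoreOf p L ≤ T₁ :=
      le_inf (pCoreOf_le_of_sylow hTL T.isPGroup' (sylow_relIndex T hTL)) hY.pCoreOf_le_centralizer
    have := le_pCoreOf (K := Ls) ((inf_le_left : T₁ ≤ _).trans hTLs) inf_le_right T.isPGroup'.to_inf_left
    rw [Cfsg.pCoreOf, e, Subgroup.map_bot] at this
    exact pCoreOf_ne_bot hL.1 (le_bot_iff.1 (hU.trans this))
  exact ⟨M, Ls, hTM, hfrakM, hTLs, inf_le_left.trans inf_le_right, mem_charP_of hH hTLs hLsne, h1.symm,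
    hYM ▸ hYX, h2⟩

/-- S2846. -/
theorem exists_basic_large {Q : Subgroup H} (hQp : IsPGroup p Q) (hQ1 : Q ≠ ⊥) (hLg : Cfsg.IsLarge Q)
    (S : Sylow p H) (hQS : Q ≤ (S : Subgroup H)) (L : Subgroup H) (hSL : (S : Subgroup H) ≤ L)
    (hL : L ∈ Cfsg.charPSubgroups p H) :
    ∃ M Ls : Subgroup H, (S : Subgroup H) ≤ M ∧ Cfsg.IsInFrakM p M ∧ (S : Subgroup H) ≤ Ls ∧ Ls ≤ M ∧
      Ls ∈ Cfsg.charPSubgroups p H ∧
      L ⊔ centralizer (Cfsg.largestPReducedOf p L : Set H) = Ls ⊔ centralizer (Cfsg.largestPReducedOf p L : Set H) ∧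
      Cfsg.weakClosure Q L = Cfsg.weakClosure Q Ls ∧ Cfsg.weakClosure Q Ls ≤ Cfsg.weakClosure Q M ∧
      Cfsg.largestPReducedOf p L = Cfsg.largestPReducedOf p Ls ∧
      Cfsg.largestPReducedOf p Ls ≤ Cfsg.largestPReducedOf p M ∧
      (¬ L ≤ normalizer (Q : Set H) → ¬ Ls ≤ normalizer (Q : Set H) ∧ ¬ M ≤ normalizer (Q : Set H)) := by
  obtain ⟨M, Ls, h1, h2, h3, h4, h5, h6, h7, h8⟩ :=
    exists_basic (large_parabolic hQp hQ1 hLg).2.2 S L hSL hL
  set Y := Cfsg.largestPReducedOf p L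
  have hY : Red p L Y := red_largest L
  have hY1 : Y ≠ ⊥ := largest_ne_bot hSL hL
  have hLsY : Ls ≤ normalizer (Y : Set H) := h6 ▸ (red_largest Ls).norm
  have hw : Cfsg.weakClosure Q L = Cfsg.weakClosure Q Ls := by
    rw [(large_weakClosure hQp hQ1 hLg L (hQS.trans hSL) Y hY.isPGroup hY1 hY.norm).1,
      (large_weakClosure hQp hQ1 hLg Ls (hQS.trans h3) Y hY.isPGroup hY1 hLsY).1, h8]
  have hmono : Cfsg.weakClosure Q Ls ≤ Cfsg.weakClosure Q M :=
    iSup_le fun g => le_iSup_of_le (⟨g.1, g.2.trans h4⟩ : {g : H // cj g Q ≤ M}) le_rfl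
  refine ⟨M, Ls, h1, h2, h3, h4, h5, h8, hw, hmono, h6, h6 ▸ h7, fun hnot => ?_⟩
  have hLs : ¬ Ls ≤ normalizer (Q : Set H) := by
    intro hLs
    refine hnot fun l hl => ?_
    have hwc := large_wc hQp hQ1 hLg
    have e1 : Cfsg.weakClosure Q Ls ≤ Q := by
      rw [(weakClosure_eq hQp hwc Ls (hQS.trans h3)).1]
      exact iSup_le fun k => (cj_eq_self_iff.2 (hLs k.2)).le
    have e2 : cj l Q ≤ Q := by
      refine le_trans ?_ e1
      rw [← hw, (weakClosure_eq hQp hwc L (hQS.trans hSL)).1]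
      exact le_iSup_of_le (⟨l, hl⟩ : L) le_rfl
    exact cj_eq_self_iff.1 (eq_of_le_of_card_ge e2 (card_map_of_injective (MulAut.conj l).injective).ge)
  exact ⟨hLs, fun hMQ => hLs (h4.trans hMQ)⟩

end Cfsg.Lib.BasicProperty
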