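import Mathlib
import Cfsg.Prelude.Def_LocalStructure
import Cfsg.Agent.Lib.Comp.Misc
import Cfsg.Agent.Lib.Comp.Extra
import Cfsg.Agent.Lib.Solv.Coprime2
import Cfsg.Agent.Lib.Solv.PGroupBasic
import Cfsg.Agent.Lib.Transfer.NormalPComplement

/-!
`p`-groups acting on the generalized Fitting subgroup of a group with trivial `p`-core.
-/

set_option autoImplicit false
set_option linter.unusedSectionVars false

namespace Cfsg.Lib.FStarAction

open Subgroup Cfsg.Lib.Comp
open scoped commutatorElement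

variable {G : Type*} [Group G]

theorem le_normalizer_of_conj {X C : Subgroup G} (h : ∀ x ∈ X, ∀ c ∈ C, x * c * x⁻¹ ∈ C) :
    X ≤ normalizer (C : Set G) := by
  intro x hx
  rw [mem_normalizer_iff]
  refine fun c => ⟨h x hx c, fun hc => ?_⟩
  have := h x⁻¹ (inv_mem hx) _ hc
  simpa [mul_assoc] using this

theorem mem_centralizer_sup {A B : Subgroup G} {x : G} :
    x ∈ centralizer ((A ⊔ B : Subgroup G) : Set G) ↔
      x ∈ centralizer (A : Set G) ∧ x ∈ centralizer (B : Set G) := by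
  refine ⟨fun h => ⟨centralizer_le (le_sup_left : A ≤ A ⊔ B) h,
    centralizer_le (le_sup_right : B ≤ A ⊔ B) h⟩, fun h => ?_⟩
  refine (le_centralizer_iff (K := zpowers x)).1 (sup_le ?_ ?_) (mem_zpowers x)
  · rw [le_centralizer_iff, zpowers_le]; exact h.1
  · rw [le_centralizer_iff, zpowers_le]; exact h.2

theorem component_le_or_centralized {L Y K : Subgroup G} (hKL : K ≤ L) (hq : Cfsg.IsQuasisimple K)
    (hconj : ∀ y ∈ Y, K.map (MulAut.conj y).toMonoidHom = K ∨
      ⁅K.map (MulAut.conj y).toMonoidHom, K⁆ = ⊥) :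
    K ≤ ⁅L, Y⁆ ∨ K ≤ centralizer (Y : Set G) := by
  refine or_iff_not_imp_left.2 fun hK => ?_
  have hperf : ⁅K, K⁆ = K := (Subgroup.isPerfect_iff).1 hq.1
  have hKn : K ≤ normalizer ((⁅L, Y⁆ : Subgroup G) : Set G) :=
    hKL.trans (Cfsg.Lib.Solv.le_normalizer_commutator_left L Y)
  haveI : (⁅L, Y⁆.subgroupOf K).Normal := normal_subgroupOf_of_le_normalizer hKn
  have hcen : ∀ x ∈ ⁅L, Y⁆, x ∈ K → x ∈ centralizer (K : Set G) := by
    rcases isQuasisimple_normal hq (⁅L, Y⁆.subgroupOf K) with h | h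
    · exact absurd (subgroupOf_eq_top.1 h) hK
    · intro x hx hxK
      rw [mem_centralizer_iff]
      intro k hk
      exact congrArg Subtype.val (mem_center_iff.1 (h (show (⟨x, hxK⟩ : K) ∈ _ from hx)) ⟨k, hk⟩)
  rw [le_centralizer_iff]
  intro y hy
  rcases hconj y hy with h | h
  · have hyK : zpowers y ≤ normalizer (K : Set G) := by
      rw [zpowers_le, mem_normalizer_iff]
      intro k
      constructor
      · intro hk
        rw [← h]
        exact ⟨k, hk, rfl⟩
      · intro hk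
        rw [← h] at hk
        obtain ⟨k', hk', he⟩ := hk
        have : k' = k := (MulAut.conj y).injective he
        exact this ▸ hk'
    have h1 : ⁅⁅zpowers y, K⁆, K⁆ = ⊥ := by
      rw [commutator_comm (zpowers y) K, commutator_eq_bot_iff_le_centralizer]
      intro x hx
      exact hcen x (commutator_mono hKL (zpowers_le.2 hy) hx)
        (Cfsg.Lib.Solv.commutator_le_of_normalizes hyK hx)
    have h2 := commutator_eq_bot_of_perfect hperf h1
    rw [commutator_comm, commutator_eq_bot_iff_le_centralizer] at h2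
    exact h2 (mem_zpowers y)
  · exfalso
    refine hK (hperf.ge.trans ((commutator_le).2 fun k hk k' hk' => ?_))
    have hz : y * k⁻¹ * y⁻¹ ∈ K.map (MulAut.conj y).toMonoidHom := ⟨k⁻¹, inv_mem hk, rfl⟩
    have hc : Commute k' (y * k⁻¹ * y⁻¹) :=
      mem_centralizer_iff.1 (commutator_eq_bot_iff_le_centralizer.1 h hz) k' hk'
    have h1 : ⁅k, y⁆ ∈ ⁅L, Y⁆ := commutator_mem_commutator (hKL hk) hy
    have h2 : ⁅k, y⁆ * (k' * ⁅k, y⁆⁻¹ * k'⁻¹) ∈ ⁅L, Y⁆ :=
      mul_mem h1 ((mem_normalizer_iff.1 (hKn hk') _).1 (inv_mem h1))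
    have key : ∀ z : G, Commute k' z → (k * z) * (k' * (k * z)⁻¹ * k'⁻¹) = ⁅k, k'⁆ := by
      intro z hz
      have h3 : z * k' * z⁻¹ = k' := by rw [← hz.eq, mul_inv_cancel_right]
      calc (k * z) * (k' * (k * z)⁻¹ * k'⁻¹) = k * (z * k' * z⁻¹) * k⁻¹ * k'⁻¹ := by group
        _ = k * k' * k⁻¹ * k'⁻¹ := by rw [h3]
        _ = ⁅k, k'⁆ := by rw [commutatorElement_def]
    have h4 := key _ hc
    rw [show k * (y * k⁻¹ * y⁻¹) = ⁅k, y⁆ by rw [commutatorElement_def]; group] at h4
    rwa [← h4]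

variable [Finite G] {p : ℕ} [hp : Fact p.Prime]

theorem coprime_card_of_isPGroup {Y F : Subgroup G} (hY : IsPGroup p Y) (hF : (Nat.card F).Coprime p) :
    (Nat.card Y).Coprime (Nat.card F) := by
  obtain ⟨n, hn⟩ := IsPGroup.iff_card.1 hY
  rw [hn]
  exact hF.symm.pow_left n

theorem solvable_of_isPGroup {Y : Subgroup G} (hY : IsPGroup p Y) : Group.IsSolvable Y := by
  haveI := hY.isNilpotent
  exact inferInstance

/-- Abstract splitting `L = [L,Y] C_L(Y)`. -/
theorem splitting {L Y F : Subgroup G} (S : Set (Subgroup G)) (hY : IsPGroup p Y)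
    (hgen : L ≤ sSup S ⊔ F) (hSL : ∀ K ∈ S, K ≤ L) (hq : ∀ K ∈ S, Cfsg.IsQuasisimple K)
    (hconj : ∀ K ∈ S, ∀ y ∈ Y, K.map (MulAut.conj y).toMonoidHom = K ∨
      ⁅K.map (MulAut.conj y).toMonoidHom, K⁆ = ⊥)
    (hYL : Y ≤ normalizer (L : Set G)) (hFL : F ≤ L) (hYF : Y ≤ normalizer (F : Set G))
    (hF : (Nat.card F).Coprime p) :
    ⁅L, Y⁆ ⊔ (L ⊓ centralizer (Y : Set G)) = L ∧ ⁅L, Y⁆ = ⁅⁅L, Y⁆, Y⁆ := by
  have hle : ⁅L, Y⁆ ≤ L := Cfsg.Lib.Solv.commutator_le_of_normalizes hYL
  have hfirst : ⁅L, Y⁆ ⊔ (L ⊓ centralizer (Y : Set G)) = L := by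
    refine le_antisymm (sup_le hle inf_le_left) (hgen.trans (sup_le (sSup_le fun K hK => ?_) ?_))
    · rcases component_le_or_centralized (hSL K hK) (hq K hK) (hconj K hK) with h | h
      · exact h.trans le_sup_left
      · exact le_sup_of_le_right (le_inf (hSL K hK) h)
    · refine le_trans (Cfsg.Lib.Solv.commutator_sup_centralizer Y F hYF (coprime_card_of_isPGroup hY hF)
        (Or.inl (solvable_of_isPGroup hY))).ge ?_
      exact sup_le_sup (commutator_mono hFL le_rfl) (inf_le_inf_right _ hFL)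
  refine ⟨hfirst, le_antisymm ((commutator_le).2 fun k hk y hy => ?_)
    (Cfsg.Lib.Solv.commutator_le_of_normalizes (Cfsg.Lib.Solv.le_normalizer_commutator_right L Y))⟩
  have hn : L ⊓ centralizer (Y : Set G) ≤ normalizer ((⁅L, Y⁆ : Subgroup G) : Set G) :=
    inf_le_left.trans (Cfsg.Lib.Solv.le_normalizer_commutator_left L Y)
  rw [← hfirst, ← SetLike.mem_coe, coe_mul_of_right_le_normalizer_left _ _ hn] at hk
  obtain ⟨x, hx, c, hc, rfl⟩ := hk
  have hcy : Commute c y := (mem_centralizer_iff.1 hc.2 y hy).symm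
  have h3 : c * y * c⁻¹ = y := by rw [hcy.eq, mul_inv_cancel_right]
  have he : ⁅x * c, y⁆ = ⁅x, y⁆ := by
    rw [commutatorElement_def, commutatorElement_def]
    calc x * c * y * (x * c)⁻¹ * y⁻¹ = x * (c * y * c⁻¹) * x⁻¹ * y⁻¹ := by group
      _ = _ := by rw [h3]
  rw [he]
  exact commutator_mem_commutator hx hy

theorem coprime_fitting (hO : Cfsg.pCore p G = ⊥) : (Nat.card (Cfsg.fittingSubgroup G)).Coprime p := by
  refine (hp.out.coprime_iff_not_dvd.2 fun hd => ?_).symm
  obtain ⟨x, hx⟩ := exists_prime_orderOf_dvd_card' p hd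
  rw [← Subgroup.orderOf_coe] at hx
  have h := Cfsg.Lib.Solv.le_pCore_of_le_fitting (p := p) (zpowers_le.2 x.2)
    (IsPGroup.of_card (n := 1) (by rw [Nat.card_zpowers, hx, pow_one]))
  rw [hO, le_bot_iff, zpowers_eq_bot] at h
  rw [h, orderOf_one] at hx
  exact hp.out.one_lt.ne hx

theorem coprime_of_le {A B : Subgroup G} (h : A ≤ B) (hB : (Nat.card B).Coprime p) :
    (Nat.card A).Coprime p :=
  Nat.Coprime.coprime_dvd_left (card_dvd_of_le h) hB

theorem eq_bot_of_pgroup_coprime {A : Subgroup G} (hA : IsPGroup p A) (h : (Nat.card A).Coprime p) :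
    A = ⊥ := by
  obtain ⟨n, hn⟩ := IsPGroup.iff_card.1 hA
  refine eq_bot_of_card_eq A ?_
  rw [hn] at h ⊢
  rcases n with _ | n
  · rfl
  · exact absurd (Nat.Coprime.eq_one_of_dvd h.symm (dvd_pow_self p n.succ_ne_zero)) hp.out.one_lt.ne'

/-- A subnormal subgroup of `F*` is generated by its components and its part of the Fitting subgroup. -/
theorem gen_of_subnormal {L : Subgroup G} (hLF : L ≤ Cfsg.generalizedFittingSubgroup G)
    (hLsn : L.IsSubnormal) :
    L ≤ sSup {K : Subgroup G | Cfsg.IsComponent K ∧ K ≤ L} ⊔ (Cfsg.fittingSubgroup G ⊓ L) := by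
  conv_lhs => rw [← inf_eq_right.2 hLF, fstar_inf_eq hLsn]
  show (Cfsg.layer ↥L ⊔ Cfsg.fittingSubgroup ↥L).map L.subtype ≤ _
  rw [Subgroup.map_sup]
  refine sup_le_sup ?_ (le_inf ?_ (map_subtype_le _))
  · rw [map_le_iff_le_comap]
    exact layer_le_iff.2 fun K hK => map_le_iff_le_comap.1 (le_sSup
      (show K.map L.subtype ∈ {K : Subgroup G | Cfsg.IsComponent K ∧ K ≤ L} from
        ⟨(component_map_subtype_iff hLsn K).2 hK, map_subtype_le _⟩))
  · have := Cfsg.Lib.Solv.fitting_isNilpotent (G := ↥L)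
    exact Cfsg.Lib.Solv.subnormal_nilpotent_le_fitting
      ((inferInstance : (Cfsg.fittingSubgroup ↥L).Normal).isSubnormal.trans' hLsn)
      (Group.nilpotent_of_mulEquiv
        (equivMapOfInjective (Cfsg.fittingSubgroup ↥L) L.subtype L.subtype_injective))

omit [Finite G] in
theorem map_conj_subtype {H : Subgroup G} {y : G} (hy : y ∈ normalizer (H : Set G)) (K : Subgroup ↥H) :
    (K.map H.subtype).map (MulAut.conj y).toMonoidHom =
      (K.map (H.normalizerMonoidHom ⟨y, hy⟩).toMonoidHom).map H.subtype := by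
  rw [Subgroup.map_map, Subgroup.map_map]
  congr 1

/-- Subnormal subgroups of `F*(H)` split under a `p`-group normalizing `H`. -/
theorem splitting_subnormal {H : Subgroup G} (hO : Cfsg.pCore p ↥H = ⊥) {Y : Subgroup G}
    (hY : IsPGroup p Y) (hYH : Y ≤ normalizer (H : Set G)) {L : Subgroup G}
    (hLF : L ≤ (Cfsg.generalizedFittingSubgroup ↥H).map H.subtype)
    (hLsn : (L.subgroupOf H).IsSubnormal) (hYL : Y ≤ normalizer (L : Set G)) :
    ⁅L, Y⁆ ⊔ (L ⊓ centralizer (Y : Set G)) = L ∧ ⁅L, Y⁆ = ⁅⁅L, Y⁆, Y⁆ := by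
  have hLH : L ≤ H := hLF.trans (map_subtype_le _)
  have hLF' : L.subgroupOf H ≤ Cfsg.generalizedFittingSubgroup ↥H := by
    rw [← map_le_map_iff_of_injective H.subtype_injective, map_subtype_eq_of_le hLH]
    exact hLF
  refine splitting (F := (Cfsg.fittingSubgroup ↥H).map H.subtype ⊓ L)
    ((fun K : Subgroup ↥H => K.map H.subtype) ''
      {K : Subgroup ↥H | Cfsg.IsComponent K ∧ K ≤ L.subgroupOf H}) hY ?_ ?_ ?_ ?_ hYL inf_le_right ?_ ?_
  · have h := map_mono (f := H.subtype) (gen_of_subnormal hLF' hLsn)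
    rw [map_subtype_eq_of_le hLH, Subgroup.map_sup] at h
    refine h.trans (sup_le_sup ?_ ?_)
    · rw [map_le_iff_le_comap]
      exact sSup_le fun K hK => map_le_iff_le_comap.1 (le_sSup (Set.mem_image_of_mem _ hK))
    · exact le_inf (map_mono inf_le_left) ((map_mono inf_le_right).trans (map_subtype_eq_of_le hLH).le)
  · rintro _ ⟨K, ⟨-, hKL⟩, rfl⟩
    exact (map_mono hKL).trans (map_subtype_eq_of_le hLH).le
  · rintro _ ⟨K, ⟨hK, -⟩, rfl⟩
    exact (isQuasisimple_congr (equivMapOfInjective K H.subtype H.subtype_injective)).1 hK.2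
  · rintro _ ⟨K, ⟨hK, -⟩, rfl⟩ y hy
    show (K.map H.subtype).map (MulAut.conj y).toMonoidHom = K.map H.subtype ∨
      ⁅(K.map H.subtype).map (MulAut.conj y).toMonoidHom, K.map H.subtype⁆ = ⊥
    rw [map_conj_subtype (hYH hy)]
    rcases eq_or_ne (K.map (H.normalizerMonoidHom ⟨y, hYH hy⟩).toMonoidHom) K with h | h
    · left; rw [h]
    · right
      rw [← map_commutator, component_commute (component_map_equiv _ hK) hK h, Subgroup.map_bot]
  · intro y hy
    refine Subgroup.mem_normalizer_iff.2 fun x => ?_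
    have hF : ((Cfsg.fittingSubgroup ↥H).map H.subtype).map (MulAut.conj y).toMonoidHom =
        (Cfsg.fittingSubgroup ↥H).map H.subtype := by
      rw [map_conj_subtype (hYH hy), characteristic_iff_map_eq.1 inferInstance]
    rw [Subgroup.mem_inf, Subgroup.mem_inf, mem_normalizer_iff.1 (hYL hy) x]
    refine and_congr_left fun _ => ?_
    conv_rhs => rw [← hF]
    exact (mem_map_iff_mem (MulAut.conj y).injective).symm
  · refine coprime_of_le inf_le_left ?_
    rw [card_map_of_injective H.subtype_injective]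
    exact coprime_fitting hO

theorem splitting_top (hO : Cfsg.pCore p G = ⊥) {Y : Subgroup G} (hY : IsPGroup p Y) {L : Subgroup G}
    (hLF : L ≤ Cfsg.generalizedFittingSubgroup G) (hLsn : L.IsSubnormal)
    (hYL : Y ≤ normalizer (L : Set G)) :
    ⁅L, Y⁆ ⊔ (L ⊓ centralizer (Y : Set G)) = L ∧ ⁅L, Y⁆ = ⁅⁅L, Y⁆, Y⁆ := by
  refine splitting_subnormal (H := ⊤) ?_ hY (by rw [normalizer_eq_top]; exact le_top) ?_ hLsn.subgroupOf hYL
  · rw [← map_eq_bot_iff_of_injective _ (⊤ : Subgroup G).subtype_injective,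
      Cfsg.Lib.Solv.map_pCore_subgroup p (⊤ : Subgroup G), hO, bot_inf_eq]
  · rw [← fstar_inf_eq IsSubnormal.top, inf_top_eq]
    exact hLF

/-- S2816, first part. -/
theorem commutator_fstar_subnormal (hO : Cfsg.pCore p G = ⊥) {Y : Subgroup G} (hY : IsPGroup p Y)
    {K : Subgroup G} (hK : K.IsSubnormal) (hYK : Y ≤ K) :
    ⁅Cfsg.generalizedFittingSubgroup G, Y⁆ =
        ⁅(Cfsg.generalizedFittingSubgroup ↥K).map K.subtype, Y⁆ ∧
      ⁅(Cfsg.generalizedFittingSubgroup ↥K).map K.subtype, Y⁆ =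
        ⁅⁅(Cfsg.generalizedFittingSubgroup ↥K).map K.subtype, Y⁆, Y⁆ := by
  set A := Cfsg.generalizedFittingSubgroup G
  have hA := (splitting_top hO hY (le_refl A) (Normal.isSubnormal inferInstance)
    le_normalizer_of_normal).2
  have hle : ⁅A, Y⁆ ≤ K := by
    induction hK with
    | top => exact le_top
    | step B C hBC _ hN ih =>
      rw [hA]
      refine (commutator_mono (ih (hYK.trans hBC)) hYK).trans ?_
      rw [commutator_comm]
      exact Cfsg.Lib.Solv.commutator_le_of_normalizes ((normal_subgroupOf_iff_le_normalizer hBC).1 hN)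
  have hAY : ⁅A, Y⁆ ≤ A := commutator_le_left A Y
  have hFK : ⁅A, Y⁆ ≤ (Cfsg.generalizedFittingSubgroup ↥K).map K.subtype :=
    (le_inf hAY hle).trans (fstar_inf_eq hK).le
  have hKA : (Cfsg.generalizedFittingSubgroup ↥K).map K.subtype ≤ A :=
    (fstar_inf_eq hK).ge.trans inf_le_left
  have heq : ⁅A, Y⁆ = ⁅(Cfsg.generalizedFittingSubgroup ↥K).map K.subtype, Y⁆ :=
    le_antisymm (hA.le.trans (commutator_mono hFK le_rfl)) (commutator_mono hKA le_rfl)
  exact ⟨heq, by rw [← heq]; exact hA⟩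

theorem pgroup_centralizing_eq_bot (hO : Cfsg.pCore p G = ⊥) {Y : Subgroup G} (hY : IsPGroup p Y)
    (h : ⁅Cfsg.generalizedFittingSubgroup G, Y⁆ = ⊥) : Y = ⊥ := by
  refine eq_bot_of_pgroup_coprime hY (coprime_of_le ?_ (coprime_fitting hO))
  rw [commutator_comm, commutator_eq_bot_iff_le_centralizer] at h
  exact h.trans centralizer_fstar_le_fitting

/-- S2816, second part. -/
theorem eq_bot_of_commutator_commutator (hO : Cfsg.pCore p G = ⊥) {Y Y₀ : Subgroup G} (hY : IsPGroup p Y)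
    (h0 : Y₀ ≤ Y) (h : ⁅⁅Cfsg.generalizedFittingSubgroup G, Y⁆, Y₀⁆ = ⊥) : Y₀ = ⊥ := by
  have hY0 : IsPGroup p Y₀ := hY.to_le h0
  refine pgroup_centralizing_eq_bot hO hY0 (le_bot_iff.1 ?_)
  rw [(splitting_top hO hY0 (le_refl (Cfsg.generalizedFittingSubgroup G))
    (Normal.isSubnormal inferInstance) le_normalizer_of_normal).2, ← h]
  exact commutator_mono (commutator_mono le_rfl h0) le_rfl

/-! ### The commutator of `F*` with a `p`-group -/

theorem exists_fixed {Q Y : Subgroup G} (hQ : IsPGroup p Q) (hY : IsPGroup p Y) (hY1 : Y ≠ ⊥)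
    (hn : Q ≤ normalizer (Y : Set G)) : ∃ u ∈ Y, u ≠ 1 ∧ u ∈ centralizer (Q : Set G) := by
  let φ : Q →* MulAut Y := (Y.normalizerMonoidHom).comp (Subgroup.inclusion hn)
  letI : MulAction Q Y := MulAction.compHom Y φ
  obtain ⟨k, hk⟩ := IsPGroup.iff_card.1 hY
  have hk0 : k ≠ 0 := fun h => hY1 (eq_bot_of_card_eq Y (by rw [hk, h, pow_zero]))
  obtain ⟨u, hu, hne⟩ := hQ.exists_fixed_point_of_prime_dvd_card_of_fixed_point Y
    (hk ▸ dvd_pow_self p hk0) (a := 1) (fun q => map_one (φ q))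
  refine ⟨u, u.2, fun h => hne (Subtype.ext h.symm), mem_centralizer_iff.2 fun q hq => ?_⟩
  exact mul_inv_eq_iff_eq_mul.1 (congrArg Subtype.val (hu ⟨q, hq⟩))

/-- A `p`-group normalizing a group of order divisible by `p` centralizes a nontrivial `p`-element of it. -/
theorem exists_pElem_centralizing {Q X : Subgroup G} (hQ : IsPGroup p Q) (hQX : Q ≤ normalizer (X : Set G))
    (hX : p ∣ Nat.card X) :
    ∃ u ∈ X, u ≠ 1 ∧ IsPGroup p (zpowers u) ∧ u ∈ centralizer (Q : Set G) := by
  obtain ⟨x, hx⟩ := exists_prime_orderOf_dvd_card' p hX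
  rw [← Subgroup.orderOf_coe] at hx
  obtain ⟨P, hP⟩ := (hQ.comap_subtype (K := X ⊔ Q)).exists_le_sylow
  have hxp : IsPGroup p ↥((zpowers (x : G)).subgroupOf (X ⊔ Q)) :=
    (IsPGroup.of_card (p := p) (n := 1) (by rw [Nat.card_zpowers, hx, pow_one])).comap_subtype
  obtain ⟨R, hR⟩ := hxp.exists_le_sylow
  obtain ⟨c, hc⟩ := MulAction.exists_smul_eq ↥(X ⊔ Q) R P
  set Y := (P : Subgroup ↥(X ⊔ Q)).map (X ⊔ Q).subtype ⊓ X with hYdef
  have hcn : (c : G) ∈ normalizer (X : Set G) := (sup_le le_normalizer hQX) c.2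
  have hmem : (c : G) * x * (c : G)⁻¹ ∈ Y := by
    refine ⟨⟨c * ⟨x, mem_sup_left x.2⟩ * c⁻¹, ?_, rfl⟩, (mem_normalizer_iff.1 hcn _).1 x.2⟩
    rw [← hc]
    exact smul_mem_pointwise_smul _ (MulAut.conj c) _ (hR (show ((x : G)) ∈ zpowers (x : G) from mem_zpowers _))
  have hY1 : Y ≠ ⊥ := fun h => by
    rw [h, mem_bot, conj_eq_one_iff] at hmem
    rw [hmem, orderOf_one] at hx
    exact hp.out.one_lt.ne hx
  have hqP : ∀ q ∈ Q, q ∈ (P : Subgroup ↥(X ⊔ Q)).map (X ⊔ Q).subtype := fun q hq =>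
    ⟨⟨q, mem_sup_right hq⟩, hP hq, rfl⟩
  have hQY : Q ≤ normalizer (Y : Set G) := le_normalizer_of_conj fun q hq y hy =>
    Subgroup.mem_inf.2 ⟨mul_mem (mul_mem (hqP q hq) hy.1) (inv_mem (hqP q hq)),
      (mem_normalizer_iff.1 (hQX hq) y).1 hy.2⟩
  have hYp : IsPGroup p Y := (P.isPGroup'.map _).to_inf_left
  obtain ⟨u, hu, hu1, huc⟩ := exists_fixed hQ hYp hY1 hQY
  exact ⟨u, hu.2, hu1, hYp.to_le (zpowers_le.2 hu), huc⟩

theorem abelianization_coprime {L : Subgroup G} (hO : Cfsg.pCore p G = ⊥)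
    (hLF : L ≤ Cfsg.generalizedFittingSubgroup G) (hLsn : L.IsSubnormal) :
    (Nat.card (Abelianization L)).Coprime p := by
  set F := (Cfsg.fittingSubgroup G ⊓ L).subgroupOf L
  have htop : (⊤ : Subgroup L) ≤ F ⊔ _root_.commutator L := by
    rw [← map_le_map_iff_of_injective L.subtype_injective, Subgroup.map_sup,
      map_subtype_commutator, ← MonoidHom.range_eq_map, range_subtype, map_subtype_eq_of_le inf_le_right]
    refine (gen_of_subnormal hLF hLsn).trans (sup_le (sSup_le fun K hK => ?_) le_sup_left)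
    exact le_sup_of_le_right ((component_perfect hK.1).ge.trans (commutator_mono hK.2 hK.2))
  have hsurj : F.map (Abelianization.of (G := L)) = ⊤ := by
    refine top_le_iff.1 ?_
    have h := map_mono (f := Abelianization.of (G := L)) htop
    rw [map_top_of_surjective _ QuotientGroup.mk_surjective, Subgroup.map_sup] at h
    refine h.trans (sup_le le_rfl ?_)
    exact ((Subgroup.map_eq_bot_iff _).2 (Abelianization.ker_of L).ge).le.trans bot_le
  refine Nat.Coprime.coprime_dvd_left ?_ (coprime_of_le (inf_le_left : _ ⊓ L ≤ _) (coprime_fitting hO))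
  have h := F.card_map_dvd (Abelianization.of (G := L))
  rw [hsurj, card_top, Nat.card_congr (subgroupOfEquivOfLe inf_le_right).toEquiv] at h
  exact h

/-- If `Q` fixes `z` and `L = [L,Q]`, then `z ∈ [L,L]`, for `L` with abelianization of order prime to `p`. -/
theorem fixed_mem_commutator {Q L : Subgroup G} (hQ : IsPGroup p Q) (hQL : Q ≤ normalizer (L : Set G))
    (hL : ⁅L, Q⁆ = L) (hab : (Nat.card (Abelianization L)).Coprime p) {z : L}
    (hz : (z : G) ∈ centralizer (Q : Set G)) : z ∈ _root_.commutator L := by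
  classical
  haveI := Fintype.ofFinite Q
  let φ : Q → (L →* Abelianization L) := fun q =>
    (Abelianization.of).comp (L.normalizerMonoidHom (Subgroup.inclusion hQL q)).toMonoidHom
  let f : L →* Abelianization L := ∏ q, φ q
  have hconj : ∀ (q : Q) (x : L), ((L.normalizerMonoidHom (Subgroup.inclusion hQL q) x : L) : G) =
      (q : G) * x * (q : G)⁻¹ := fun q x => rfl
  have hf : ∀ x : L, f x = 1 := by
    have key : L ≤ f.ker.map L.subtype := by
      refine hL.ge.trans ((commutator_le).2 fun a ha q hq => ?_)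
      have hmem : ⁅a, q⁆ ∈ L := hL.le (commutator_mem_commutator ha hq)
      refine ⟨⟨⁅a, q⁆, hmem⟩, ?_, rfl⟩
      show f ⟨⁅a, q⁆, hmem⟩ = 1
      have hsplit : (⟨⁅a, q⁆, hmem⟩ : L) = ⟨a, ha⟩ *
          (L.normalizerMonoidHom (Subgroup.inclusion hQL ⟨q, hq⟩) ⟨a, ha⟩)⁻¹ := by
        apply Subtype.ext
        show ⁅a, q⁆ = a * (q * a * q⁻¹)⁻¹
        rw [commutatorElement_def]; group
      rw [hsplit, map_mul, map_inv, mul_inv_eq_one]
      simp only [f, MonoidHom.finsetProd_apply]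
      refine Fintype.prod_equiv (Equiv.mulRight (⟨q, hq⟩ : Q)⁻¹) _ _ fun r => ?_
      show Abelianization.of _ = Abelianization.of _
      congr 1
      apply Subtype.ext
      show (r : G) * a * (r : G)⁻¹ =
        ((r : G) * q⁻¹) * (q * a * q⁻¹) * ((r : G) * q⁻¹)⁻¹
      group
    intro x
    obtain ⟨y, hy, he⟩ := key x.2
    rw [show x = y from Subtype.ext he.symm]
    exact hy
  have hfix : ∀ q : Q, φ q z = Abelianization.of z := fun q => by
    show Abelianization.of _ = Abelianization.of _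
    congr 1
    apply Subtype.ext
    refine (hconj q z).trans ?_
    rw [mem_centralizer_iff.1 hz q q.2, mul_inv_cancel_right]
  have hn : Abelianization.of z ^ Nat.card Q = 1 := by
    have h := hf z
    simp only [f, MonoidHom.finsetProd_apply, hfix, Finset.prod_const, Finset.card_univ] at h
    rw [Nat.card_eq_fintype_card]; exact h
  have hcop : (Nat.card Q).Coprime (Nat.card (Abelianization L)) := by
    obtain ⟨n, hn⟩ := IsPGroup.iff_card.1 hQ
    rw [hn]; exact hab.symm.pow_left n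
  have h1 := (pow_gcd_eq_one (a := Abelianization.of z)).2 ⟨hn, pow_card_eq_one'⟩
  rw [hcop.gcd_eq_one, pow_one] at h1
  rw [← Abelianization.ker_of]
  exact h1

omit [Finite G] in
theorem commutator_inf_center_le_frattini {X : Type*} [Group X] {z : X} (hz : z ∈ center X)
    (hz' : z ∈ _root_.commutator X) : z ∈ frattini X := by
  rw [Cfsg.Lib.Solv.mem_frattini_iff]
  intro M hM
  by_contra hzM
  have hsup : M ⊔ center X = ⊤ :=
    hM.2 _ (lt_of_le_of_ne le_sup_left fun e => hzM (e ▸ mem_sup_right hz))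
  haveI hMn : M.Normal := normalizer_eq_top_iff.1 (top_le_iff.1
    (hsup ▸ sup_le le_normalizer (center_le_normalizer (M : Set X))))
  refine hzM ?_
  have hle : _root_.commutator X ≤ M := by
    rw [_root_.commutator_def, commutator_le]
    intro a _ b _
    obtain ⟨m, hm, c, hc, rfl⟩ := mem_sup_of_normal_left.1 (show a ∈ M ⊔ center X from hsup ▸ mem_top a)
    obtain ⟨n, hn, d, hd, rfl⟩ := mem_sup_of_normal_left.1 (show b ∈ M ⊔ center X from hsup ▸ mem_top b)
    have hc' : ∀ w : X, c * w = w * c := fun w => (mem_center_iff.1 hc w).symm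
    have hd' : ∀ w : X, d * w = w * d := fun w => (mem_center_iff.1 hd w).symm
    have he : ⁅m * c, n * d⁆ = ⁅m, n⁆ := by
      simp only [commutatorElement_def]
      calc m * c * (n * d) * (m * c)⁻¹ * (n * d)⁻¹
          = m * (c * (n * d) * c⁻¹) * m⁻¹ * d⁻¹ * n⁻¹ := by group
        _ = m * (n * d) * m⁻¹ * d⁻¹ * n⁻¹ := by rw [hc', mul_inv_cancel_right]
        _ = m * n * (d * m⁻¹ * d⁻¹) * n⁻¹ := by group
        _ = m * n * m⁻¹ * n⁻¹ := by rw [hd', mul_inv_cancel_right]
    rw [he, commutatorElement_def]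
    exact mul_mem (mul_mem (mul_mem hm hn) (inv_mem hm)) (inv_mem hn)
  exact hle hz'

/-- S2817. -/
theorem commutator_fstar_pgroup (hO : Cfsg.pCore p G = ⊥) (Q : Subgroup G) (hQ : IsPGroup p Q)
    (L : Subgroup G) (hL : L = ⁅Cfsg.generalizedFittingSubgroup G, Q⁆) (F : Subgroup G)
    (hF : F ≤ Cfsg.generalizedFittingSubgroup G ∧
      Cfsg.generalizedFittingSubgroup G ≤ normalizer (F : Set G) ∧ Q ≤ centralizer (F : Set G) ∧
      ∀ N : Subgroup G, N ≤ Cfsg.generalizedFittingSubgroup G →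
        Cfsg.generalizedFittingSubgroup G ≤ normalizer (N : Set G) → Q ≤ centralizer (N : Set G) → N ≤ F) :
    F = Cfsg.generalizedFittingSubgroup G ⊓ centralizer ((L ⊔ Q : Subgroup G) : Set G) ∧ ⁅L, Q⁆ = L ∧
      L ⊓ F ≤ (frattini ↥L).map L.subtype ∧
      (∀ B : Subgroup G, IsPGroup p B → B ≤ normalizer (Q : Set G) → ⁅L, B⁆ ≤ F → ⁅L, B⁆ = ⊥) ∧
      (Nat.card ↥(centralizer ((F ⊔ L : Subgroup G) : Set G))).Coprime p := by
  obtain ⟨hFA, hAF, hQF, hmax⟩ := hF
  set A := Cfsg.generalizedFittingSubgroup G with hAdef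
  obtain ⟨hgen, hLQ⟩ := splitting_top hO hQ (le_refl A) (Normal.isSubnormal inferInstance)
    le_normalizer_of_normal
  subst hL
  set L := ⁅A, Q⁆ with hLdef
  have hLA : L ≤ A := commutator_le_left A Q
  have hAL : A ≤ normalizer (L : Set G) := Cfsg.Lib.Solv.le_normalizer_commutator_left A Q
  have hQL : Q ≤ normalizer (L : Set G) := Cfsg.Lib.Solv.le_normalizer_commutator_right A Q
  have hLsn : L.IsSubnormal := IsSubnormal.step L A hLA (Normal.isSubnormal inferInstance)
    (normal_subgroupOf_of_le_normalizer hAL)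
  have hFQ : F ≤ centralizer (Q : Set G) := le_centralizer_iff.1 hQF
  have hFL : F ≤ centralizer (L : Set G) := by
    rw [le_centralizer_iff, ← commutator_eq_bot_iff_le_centralizer]
    refine commutator_commutator_eq_bot_of_rotate ?_ (le_bot_iff.1 ?_)
    · rw [commutator_eq_bot_iff_le_centralizer.2 hQF, commutator_bot_left]
    · rw [← commutator_eq_bot_iff_le_centralizer.2 hFQ]
      exact commutator_mono (Cfsg.Lib.Solv.commutator_le_of_normalizes hAF) le_rfl
  have hC1 : A ≤ normalizer ((A ⊓ centralizer ((L ⊔ Q : Subgroup G) : Set G) : Subgroup G) : Set G) := by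
    conv_lhs => rw [← hgen]
    refine sup_le ?_ (le_normalizer_of_conj fun x hx c hc => ?_)
    · refine le_trans ?_ (centralizer_le_normalizer _)
      rw [le_centralizer_iff]
      exact fun c hc => (mem_centralizer_sup.1 hc.2).1
    · obtain ⟨hcL, hcQ⟩ := mem_centralizer_sup.1 hc.2
      refine Subgroup.mem_inf.2 ⟨mul_mem (mul_mem hx.1 hc.1) (inv_mem hx.1), mem_centralizer_sup.2 ⟨?_, ?_⟩⟩
      · rw [mem_centralizer_iff]
        intro l hl
        have h1 : x⁻¹ * l * x ∈ L := by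
          simpa using (mem_normalizer_iff.1 (hAL (inv_mem hx.1)) l).1 hl
        have h2 := mem_centralizer_iff.1 hcL _ h1
        calc l * (x * c * x⁻¹) = x * ((x⁻¹ * l * x) * c) * x⁻¹ := by group
          _ = x * (c * (x⁻¹ * l * x)) * x⁻¹ := by rw [h2]
          _ = x * c * x⁻¹ * l := by group
      · exact mul_mem (mul_mem hx.2 hcQ) (inv_mem hx.2)
  have hFeq : F = A ⊓ centralizer ((L ⊔ Q : Subgroup G) : Set G) :=
    le_antisymm (le_inf hFA fun x hx => mem_centralizer_sup.2 ⟨hFL hx, hFQ hx⟩)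
      (hmax _ inf_le_left hC1 (le_centralizer_iff.1 (inf_le_right.trans (centralizer_le (le_sup_right : Q ≤ L ⊔ Q)))))
  have hab := abelianization_coprime hO hLA hLsn
  have hZ : L ⊓ F ≤ ⁅L, L⁆ := fun x hx => by
    rw [← map_subtype_commutator]
    exact ⟨⟨x, hx.1⟩, fixed_mem_commutator hQ hQL hLQ.symm hab (hFQ hx.2), rfl⟩
  refine ⟨hFeq, hLQ.symm, fun x hx => ?_, fun B hB hBQ hLB => ?_, ?_⟩
  · refine ⟨⟨x, hx.1⟩, commutator_inf_center_le_frattini (mem_center_iff.2 fun y =>
      Subtype.ext (mem_centralizer_iff.1 (hFL hx.2) y y.2))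
      (fixed_mem_commutator hQ hQL hLQ.symm hab (hFQ hx.2)), rfl⟩
  · have hBL : B ≤ normalizer (L : Set G) := by
      refine le_normalizer_of_conj fun b hb x hx => ?_
      have h : L.map (MulAut.conj b).toMonoidHom = L := by
        have h1 : A.map (MulAut.conj b).toMonoidHom = A :=
          characteristic_iff_map_eq.1 inferInstance (MulAut.conj b)
        have h2 : Q.map (MulAut.conj b).toMonoidHom = Q := by
          refine le_antisymm (map_le_iff_le_comap.2 fun y hy => (mem_normalizer_iff.1 (hBQ hb) y).1 hy) fun y hy => ?_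
          refine ⟨b⁻¹ * y * b, ?_, ?_⟩
          · simpa using (mem_normalizer_iff.1 (inv_mem (hBQ hb)) y).1 hy
          · show b * (b⁻¹ * y * b) * b⁻¹ = y
            group
        rw [hLdef, map_commutator, h1, h2]
      rw [← h]
      exact ⟨x, hx, rfl⟩
    have hsp := (splitting_top hO hB hLA hLsn hBL).2
    have hle : ⁅L, B⁆ ≤ L ⊓ F := le_inf (Cfsg.Lib.Solv.commutator_le_of_normalizes hBL) hLB
    have h1 : ⁅⁅L, B⁆, L⁆ = ⊥ := commutator_eq_bot_iff_le_centralizer.2
      (hle.trans (inf_le_right.trans hFL))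
    have h2 : ⁅⁅L, L⁆, B⁆ = ⊥ := commutator_commutator_eq_bot_of_rotate h1 (by rw [commutator_comm B L]; exact h1)
    rw [hsp, ← le_bot_iff, ← h2]
    exact commutator_mono (hle.trans hZ) le_rfl
  · set X := centralizer ((F ⊔ L : Subgroup G) : Set G) with hXdef
    refine (hp.out.coprime_iff_not_dvd.2 fun hd => ?_).symm
    have hQX : Q ≤ normalizer (X : Set G) := le_normalizer_of_conj fun q hq c hc => by
      obtain ⟨hcF, hcL⟩ := mem_centralizer_sup.1 hc
      refine mem_centralizer_sup.2 ⟨mem_centralizer_iff.2 fun l hl => ?_, mem_centralizer_iff.2 fun l hl => ?_⟩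
      · have h1 : q⁻¹ * l * q ∈ F := by
          rw [mul_assoc, mem_centralizer_iff.1 (hFQ hl) q hq |>.symm, inv_mul_cancel_left]; exact hl
        have h2 := mem_centralizer_iff.1 hcF _ h1
        calc l * (q * c * q⁻¹) = q * ((q⁻¹ * l * q) * c) * q⁻¹ := by group
          _ = q * (c * (q⁻¹ * l * q)) * q⁻¹ := by rw [h2]
          _ = q * c * q⁻¹ * l := by group
      · have h1 : q⁻¹ * l * q ∈ L := by
          simpa using (mem_normalizer_iff.1 (hQL (inv_mem hq)) l).1 hl
        have h2 := mem_centralizer_iff.1 hcL _ h1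
        calc l * (q * c * q⁻¹) = q * ((q⁻¹ * l * q) * c) * q⁻¹ := by group
          _ = q * (c * (q⁻¹ * l * q)) * q⁻¹ := by rw [h2]
          _ = q * c * q⁻¹ * l := by group
    obtain ⟨u, hu, hu1, hup, huQ⟩ := exists_pElem_centralizing hQ hQX hd
    obtain ⟨huF, huL⟩ := mem_centralizer_sup.1 hu
    have hAu : ⁅A, zpowers u⁆ ≤ F := by
      refine (commutator_le).2 fun a ha w hw => ?_
      have hwL : w ∈ centralizer (L : Set G) := zpowers_le.2 huL hw
      have hwQ : w ∈ centralizer (Q : Set G) := zpowers_le.2 huQ hw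
      have hn : A ⊓ centralizer (Q : Set G) ≤ normalizer (L : Set G) := inf_le_left.trans hAL
      rw [← hgen, ← SetLike.mem_coe, coe_mul_of_right_le_normalizer_left _ _ hn] at ha
      obtain ⟨l, hl, c, hc, rfl⟩ := ha
      have hcw : ⁅c, w⁆ ∈ F := by
        rw [hFeq]
        refine ⟨commutator_le_left A ⊤ (commutator_mem_commutator hc.1 (mem_top w)), mem_centralizer_sup.2 ⟨?_, ?_⟩⟩
        · rw [mem_centralizer_iff]
          intro m hm
          have h1 : c⁻¹ * m * c ∈ L := by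
            simpa using (mem_normalizer_iff.1 (hn (inv_mem hc)) m).1 hm
          have h2 := mem_centralizer_iff.1 hwL _ h1
          have h3 := mem_centralizer_iff.1 (inv_mem hwL) m hm
          rw [commutatorElement_def]
          calc m * (c * w * c⁻¹ * w⁻¹) = c * ((c⁻¹ * m * c) * w) * c⁻¹ * w⁻¹ := by group
            _ = c * (w * (c⁻¹ * m * c)) * c⁻¹ * w⁻¹ := by rw [h2]
            _ = c * w * c⁻¹ * (m * w⁻¹) := by group
            _ = c * w * c⁻¹ * (w⁻¹ * m) := by rw [h3]
            _ = c * w * c⁻¹ * w⁻¹ * m := by group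
        · rw [commutatorElement_def]
          exact mul_mem (mul_mem (mul_mem hc.2 hwQ) (inv_mem hc.2)) (inv_mem hwQ)
      have h4 : ⁅l, w⁆ = 1 :=
        commutatorElement_eq_one_iff_commute.2 (mem_centralizer_iff.1 hwL l hl)
      have h5 : ⁅l * c, w⁆ = l * ⁅c, w⁆ * l⁻¹ * ⁅l, w⁆ := by
        simp only [commutatorElement_def]; group
      rw [h5, h4, mul_one, mem_centralizer_iff.1 (hFL hcw) l hl, mul_inv_cancel_right]
      exact hcw
    have h0 : zpowers u = ⊥ := by
      refine eq_bot_of_commutator_commutator hO hup le_rfl (commutator_eq_bot_iff_le_centralizer.2 ?_)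
      exact hAu.trans (le_centralizer_iff.1 (zpowers_le.2 huF))
    exact hu1 (zpowers_eq_bot.1 h0)

/-! ### Quasisimple `p`-residual -/

/-- S2815. -/
theorem quasisimple_residual (hd : p ∣ Nat.card G) (hO : Cfsg.pCore p G = ⊥)
    (hq : Cfsg.IsQuasisimple ↥(Cfsg.pResidual p G)) :
    Cfsg.pResidual p G = Cfsg.generalizedFittingSubgroup G ∧
      (∀ Y : Subgroup G, IsPGroup p Y → Y ≠ ⊥ → ⁅Cfsg.pResidual p G, Y⁆ = Cfsg.pResidual p G ∧
        Cfsg.pResidual p G ≤ ⨆ k : ↥(Cfsg.pResidual p G), Y.map (MulAut.conj (k : G)).toMonoidHom) ∧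
      (∀ C : Subgroup G, C.Normal → ¬ Cfsg.pResidual p G ≤ C → (Nat.card ↥C).Coprime p) ∧
      Cfsg.IsPIrreducible p G := by
  set K := Cfsg.pResidual p G with hKdef
  haveI hKn : K.Normal := Transfer.pResidual_normal p
  have hKc : Cfsg.IsComponent K := ⟨hKn.isSubnormal, hq⟩
  have hperf : ⁅K, K⁆ = K := component_perfect hKc
  have hfst : K = Cfsg.generalizedFittingSubgroup G := by
    refine le_antisymm ((component_le_layer hKc).trans layer_le_fstar) (sup_le ?_ ?_)
    · exact layer_le_iff.2 fun L hL => perfect_le_of_coprime_mem (component_perfect hL)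
        fun x _ hx => Transfer.coprime_orderOf_mem_pResidual hx
    · intro x hx
      refine Transfer.coprime_orderOf_mem_pResidual (Nat.Coprime.coprime_dvd_left ?_ (coprime_fitting hO))
      exact (Subgroup.orderOf_mk x hx) ▸ orderOf_dvd_natCard _
  have hCK : (Nat.card ↥(centralizer (K : Set G))).Coprime p :=
    coprime_of_le (hfst ▸ centralizer_fstar_le_fitting) (coprime_fitting hO)
  have hnormal : ∀ D : Subgroup G, K ≤ normalizer (D : Set G) → D ≤ K → ¬ K ≤ D →
      D ≤ centralizer (K : Set G) := by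
    intro D hD hDK hKD x hx
    haveI : (D.subgroupOf K).Normal := normal_subgroupOf_of_le_normalizer hD
    rcases isQuasisimple_normal hq (D.subgroupOf K) with h | h
    · exact absurd (subgroupOf_eq_top.1 h) hKD
    · rw [mem_centralizer_iff]
      intro k hk
      exact congrArg Subtype.val (mem_center_iff.1 (h (show (⟨x, hDK hx⟩ : K) ∈ _ from hx)) ⟨k, hk⟩)
  have hsmall : ∀ C : Subgroup G, C.Normal → ¬ K ≤ C → (Nat.card ↥C).Coprime p := by
    intro C hC hKC
    refine coprime_of_le ?_ hCK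
    have h1 : ⁅C, K⁆ ≤ centralizer (K : Set G) := by
      refine le_trans (le_inf (commutator_le_left C K) (commutator_le_right C K)) (hnormal _ ?_ inf_le_right ?_)
      · exact le_normalizer_of_normal
      · exact fun h => hKC (h.trans inf_le_left)
    have h2 := commutator_eq_bot_of_perfect hperf (commutator_eq_bot_iff_le_centralizer.2 h1)
    rw [commutator_comm, commutator_eq_bot_iff_le_centralizer] at h2
    exact h2
  refine ⟨hfst, fun Y hY hY1 => ?_, hsmall, ?_, ?_⟩
  · have hKY : ⁅K, Y⁆ = K := by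
      refine le_antisymm (commutator_le_left K Y) (by_contra fun hne => hY1 ?_)
      have h1 := hnormal _ (Cfsg.Lib.Solv.le_normalizer_commutator_left K Y) (commutator_le_left K Y) hne
      have h2 := commutator_eq_bot_of_perfect hperf
        (A := Y) (by rw [commutator_comm Y K]; exact commutator_eq_bot_iff_le_centralizer.2 h1)
      rw [commutator_comm, commutator_eq_bot_iff_le_centralizer] at h2
      exact eq_bot_of_pgroup_coprime hY (coprime_of_le h2 hCK)
    refine ⟨hKY, hKY.ge.trans ((commutator_le).2 fun k hk y hy => ?_)⟩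
    rw [commutatorElement_def]
    refine mul_mem ?_ ?_
    · exact le_iSup (fun k : ↥K => Y.map (MulAut.conj (k : G)).toMonoidHom) ⟨k, hk⟩ ⟨y, hy, rfl⟩
    · refine le_iSup (fun k : ↥K => Y.map (MulAut.conj (k : G)).toMonoidHom) 1 ⟨y⁻¹, inv_mem hy, ?_⟩
      simp
  · intro h
    obtain ⟨P⟩ : Nonempty (Sylow p G) := inferInstance
    have h1 : (P : Subgroup G) ≤ ⊥ := hO ▸ Cfsg.Lib.Solv.le_pCore (h P) P.isPGroup'
    have h2 := P.dvd_card_of_dvd_card hd
    rw [le_bot_iff.1 h1, card_bot] at h2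
    exact hp.out.one_lt.ne' (Nat.dvd_one.1 h2)
  · intro N hN hNp
    by_contra hKN
    refine hNp fun P => ?_
    have h1 : (Nat.card ↥(P : Subgroup ↥N)).Coprime p :=
      Nat.Coprime.coprime_dvd_left (card_subgroup_dvd_card _) (hsmall N hN hKN)
    rw [eq_bot_of_pgroup_coprime P.isPGroup' h1]
    infer_instance

end Cfsg.Lib.FStarAction
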