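import Mathlib
import Cfsg.Prelude.Def_BaumannBlocks
import Cfsg.Agent.Lib.Solv.Cores
import Cfsg.Agent.Lib.PLocal.ElementaryAbelian
import Cfsg.Agent.Lib.PLocal.FStarAction

/-!
The module of a `B(T)`-block: irreducibility and faithfulness.
-/

set_option autoImplicit false
set_option linter.style.haveILetI false
set_option linter.unusedSectionVars false

namespace Cfsg.Lib.BlockMod

open Subgroup Cfsg
open scoped Pointwise commutatorElement Matrix

section SL2

variable {F : Type} [Field F]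

/-- The derived group of `SL₂` has no invariant proper nontrivial additive subgroup in the plane. -/
theorem sl2_irred (U : AddSubgroup (Fin 2 → F))
    (hU : ∀ r ∈ commutator (Matrix.SpecialLinearGroup (Fin 2) F), ∀ v ∈ U, (r : Matrix (Fin 2) (Fin 2) F) *ᵥ v ∈ U)
    {v : Fin 2 → F} (hv : v ∈ U) (hv0 : v ≠ 0) : ∀ w, w ∈ U := by
  obtain ⟨g, hg⟩ : ∃ g : Matrix.SpecialLinearGroup (Fin 2) F, (g : Matrix (Fin 2) (Fin 2) F) *ᵥ ![1, 0] = v := by
    by_cases h0 : v 0 = 0
    · have h1 : v 1 ≠ 0 := fun h1 => hv0 (funext fun i => by fin_cases i <;> simp [h0, h1])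
      refine ⟨⟨!![0, -(v 1)⁻¹; v 1, 0], by simp [Matrix.det_fin_two, h1]⟩, ?_⟩
      ext i; fin_cases i <;> simp [Matrix.mulVec, dotProduct, h0]
    · refine ⟨⟨!![v 0, 0; v 1, (v 0)⁻¹], by simp [Matrix.det_fin_two, h0]⟩, ?_⟩
      ext i; fin_cases i <;> simp [Matrix.mulVec, dotProduct]
  set R := commutator (Matrix.SpecialLinearGroup (Fin 2) F)
  have hc : ∀ t : F, ∀ x : Fin 2 → F, (g : Matrix (Fin 2) (Fin 2) F) *ᵥ x ∈ U →
      (g : Matrix (Fin 2) (Fin 2) F) *ᵥ ![x 0 - t * x 1, -(t * x 0) + (1 + t ^ 2) * x 1] ∈ U := by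
    intro t x hx
    set a : Matrix.SpecialLinearGroup (Fin 2) F := ⟨!![0, 1; -1, 0], by simp [Matrix.det_fin_two]⟩
    set b : Matrix.SpecialLinearGroup (Fin 2) F := ⟨!![1, t; 0, 1], by simp [Matrix.det_fin_two]⟩
    have hab : ⁅a, b⁆ ∈ R := commutator_mem_commutator (mem_top a) (mem_top b)
    have h := hU _ ((inferInstance : R.Normal).conj_mem _ hab g) _ hx
    rw [Matrix.mulVec_mulVec, ← Matrix.SpecialLinearGroup.coe_mul,
      show g * ⁅a, b⁆ * g⁻¹ * g = g * ⁅a, b⁆ by group, Matrix.SpecialLinearGroup.coe_mul,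
      ← Matrix.mulVec_mulVec] at h
    have e : (⁅a, b⁆ : Matrix.SpecialLinearGroup (Fin 2) F).1 *ᵥ x =
        ![x 0 - t * x 1, -(t * x 0) + (1 + t ^ 2) * x 1] := by
      have ha : (a : Matrix (Fin 2) (Fin 2) F) = !![0, 1; -1, 0] := rfl
      have hb : (b : Matrix (Fin 2) (Fin 2) F) = !![1, t; 0, 1] := rfl
      simp only [commutatorElement_def, Matrix.SpecialLinearGroup.coe_mul, Matrix.SpecialLinearGroup.coe_inv,
        ha, hb, Matrix.adjugate_fin_two_of]
      ext i; fin_cases i <;> simp [Matrix.mulVec, dotProduct, Matrix.mul_apply, Fin.sum_univ_two] <;>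
        ring_nf <;> simp
    rwa [e] at h
  have hg' : (g : Matrix (Fin 2) (Fin 2) F) *ᵥ ![1, 0] ∈ U := hg ▸ hv
  have h2 : ∀ s : F, (g : Matrix (Fin 2) (Fin 2) F) *ᵥ ![0, s] ∈ U := fun s => by
    have h := U.sub_mem (hc (-s) ![1, 0] hg') hg'
    rw [← Matrix.mulVec_sub] at h
    convert h using 2
    ext i; fin_cases i <;> simp
  have h1 : ∀ s : F, (g : Matrix (Fin 2) (Fin 2) F) *ᵥ ![s, 0] ∈ U := fun s => by
    have h := hc (-s) ![0, 1] (h2 1)
    have h' := U.sub_mem h (h2 (1 + s ^ 2))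
    rw [← Matrix.mulVec_sub] at h'
    convert h' using 2
    ext i; fin_cases i <;> simp
  intro w
  set y := ((g⁻¹ : Matrix.SpecialLinearGroup (Fin 2) F) : Matrix (Fin 2) (Fin 2) F) *ᵥ w
  have hy : w = (g : Matrix (Fin 2) (Fin 2) F) *ᵥ y := by
    rw [Matrix.mulVec_mulVec, ← Matrix.SpecialLinearGroup.coe_mul, mul_inv_cancel,
      Matrix.SpecialLinearGroup.coe_one, Matrix.one_mulVec]
  have hsplit : (g : Matrix (Fin 2) (Fin 2) F) *ᵥ y =
      (g : Matrix (Fin 2) (Fin 2) F) *ᵥ ![y 0, 0] + (g : Matrix (Fin 2) (Fin 2) F) *ᵥ ![0, y 1] := by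
    rw [← Matrix.mulVec_add]; congr 1; ext i; fin_cases i <;> simp
  rw [hy, hsplit]
  exact U.add_mem (h1 _) (h2 _)

theorem sl2_faithful {g : Matrix.SpecialLinearGroup (Fin 2) F}
    (h : ∀ v : Fin 2 → F, (g : Matrix (Fin 2) (Fin 2) F) *ᵥ v = v) : g = 1 :=
  Subtype.ext (Matrix.ext_iff_mulVec.2 fun v => (h v).trans (by simp))

end SL2

section Alt

variable {n : ℕ}

/-- The even weight module of an alternating group of odd degree is irreducible. -/
theorem alt_irred (hn : Odd n) (U : AddSubgroup (Fin n → ZMod 2))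
    (hU : ∀ r ∈ alternatingGroup (Fin n), ∀ v ∈ U, (fun i => v (r⁻¹ i)) ∈ U)
    {v : Fin n → ZMod 2} (hv : v ∈ U) (hev : ∑ i, v i = 0) (hv0 : v ≠ 0) :
    ∀ w : Fin n → ZMod 2, ∑ i, w i = 0 → w ∈ U := by
  classical
  set P : Fin n → Fin n → (Fin n → ZMod 2) := fun a b => Pi.single a 1 + Pi.single b 1
  -- `v` takes both values
  have h01 : ∀ z : ZMod 2, z = 0 ∨ z = 1 := by decide
  obtain ⟨i, hi⟩ : ∃ i, v i = 1 := by
    by_contra h
    push Not at h
    exact hv0 (funext fun i => (h01 (v i)).resolve_right (h i))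
  obtain ⟨j, hj⟩ : ∃ j, v j = 0 := by
    by_contra h
    push Not at h
    rw [Finset.sum_congr rfl fun k _ => (h01 (v k)).resolve_left (h k)] at hev
    simp only [Finset.sum_const, Finset.card_univ, Fintype.card_fin, nsmul_eq_mul, mul_one] at hev
    rw [ZMod.natCast_eq_zero_iff_even] at hev
    exact Nat.not_even_iff_odd.2 hn hev
  have hij : i ≠ j := fun e => by rw [e, hj] at hi; exact zero_ne_one hi
  have hn3 : 3 ≤ n := by
    rcases hn with ⟨k, rfl⟩
    have : (i : ℕ) ≠ j := fun e => hij (Fin.ext e)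
    omega
  have third : ∀ a b : Fin n, ∃ c, c ≠ a ∧ c ≠ b := fun a b => by
    by_contra h
    push Not at h
    have : (Finset.univ : Finset (Fin n)) ⊆ {a, b} := fun c _ => by
      simp only [Finset.mem_insert, Finset.mem_singleton]
      by_cases hc : c = a
      · exact Or.inl hc
      · exact Or.inr (h c hc)
    have := (Finset.card_le_card this).trans Finset.card_le_two
    rw [Finset.card_univ, Fintype.card_fin] at this
    omega
  have hmem3 : ∀ a b c : Fin n, a ≠ b → c ≠ a → c ≠ b →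
      Equiv.swap a b * Equiv.swap b c ∈ alternatingGroup (Fin n) := fun a b c hab hca hcb => by
    rw [Equiv.Perm.mem_alternatingGroup, map_mul, Equiv.Perm.sign_swap hab, Equiv.Perm.sign_swap hcb.symm]
    decide
  -- some pair lies in `U`
  obtain ⟨a, b, hab, hP⟩ : ∃ a b, a ≠ b ∧ P a b ∈ U := by
    obtain ⟨k, hki, hkj⟩ := third i j
    set r := Equiv.swap i j * Equiv.swap j k with hr
    have hd := U.sub_mem (hU r (hmem3 i j k hij hki hkj) v hv) hv
    have hri : ∀ t, r⁻¹ t = Equiv.swap j k (Equiv.swap i j t) := fun t => by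
      rw [hr, mul_inv_rev, Equiv.swap_inv, Equiv.swap_inv]; rfl
    rcases h01 (v k) with hk | hk
    · refine ⟨i, j, hij, ?_⟩ <;>
      · convert hd using 1
        ext t
        by_cases h1 : t = i
        · subst h1; simp [P, hri, Equiv.swap_apply_def, hij, hi, hk, hki.symm, hj]
        by_cases h2 : t = j
        · subst h2; simp [P, hri, Equiv.swap_apply_def, hij, hij.symm, hi, hk, hki.symm, hkj.symm, hj]
        by_cases h3 : t = k
        · subst h3; simp [P, hri, Equiv.swap_apply_def, hki, hkj, hk, hj]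
        simp [P, hri, Equiv.swap_apply_def, h1, h2, h3]
    · refine ⟨j, k, hkj.symm, ?_⟩ <;>
      · convert hd using 1
        ext t
        by_cases h1 : t = i
        · subst h1; simp [P, hri, Equiv.swap_apply_def, hij, hi, hk, hki.symm, hj]
        by_cases h2 : t = j
        · subst h2; simp [P, hri, Equiv.swap_apply_def, hij, hij.symm, hi, hk, hki.symm, hkj.symm, hj]
        by_cases h3 : t = k
        · subst h3; simp [P, hri, Equiv.swap_apply_def, hki, hkj, hk, hj]
        simp [P, hri, Equiv.swap_apply_def, h1, h2, h3]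
  have hperm : ∀ (σ : Equiv.Perm (Fin n)) (x y : Fin n), σ ∈ alternatingGroup (Fin n) → P x y ∈ U →
      P (σ x) (σ y) ∈ U := by
    intro σ x y hσ hxy
    convert hU σ hσ _ hxy using 1
    ext t
    simp [P, Pi.single_apply, Equiv.Perm.inv_def, Equiv.symm_apply_eq]
  have hself : ∀ x, P x x = 0 := fun x => by
    ext t; simp only [P, Pi.add_apply, Pi.zero_apply]
    exact CharTwo.add_self_eq_zero _
  have hac : ∀ c, P a c ∈ U := by
    intro c
    by_cases hca : c = a
    · rw [hca, hself]; exact U.zero_mem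
    by_cases hcb : c = b
    · rw [hcb]; exact hP
    have h := hperm _ a b (hmem3 a b c hab hca hcb) hP
    have e1 : (Equiv.swap a b * Equiv.swap b c) a = b := by
      simp [Equiv.swap_apply_def, hab, Ne.symm hca]
    have e2 : (Equiv.swap a b * Equiv.swap b c) b = c := by
      simp [Equiv.swap_apply_def, hca, hcb]
    rw [e1, e2] at h
    convert U.add_mem hP h using 1
    ext t
    simp only [P, Pi.add_apply]
    have := CharTwo.add_self_eq_zero (Pi.single (M := fun _ => ZMod 2) b 1 t)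
    linear_combination -this
  intro w hw
  have e : w = ∑ t, w t • P a t := by
    ext s
    simp only [Finset.sum_apply, Pi.smul_apply, P, Pi.add_apply, smul_eq_mul, mul_add, Finset.sum_add_distrib]
    rw [← Finset.sum_mul, hw, zero_mul, zero_add, Finset.sum_eq_single s]
    · simp
    · intro t _ ht; simp [Pi.single_apply, ht.symm]
    · simp
  rw [e]
  refine U.sum_mem fun t _ => ?_
  rcases h01 (w t) with h | h <;> rw [h]
  · rw [zero_smul]; exact U.zero_mem
  · rw [one_smul]; exact hac t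

theorem alt_faithful (hn : 3 ≤ n) {r : Equiv.Perm (Fin n)}
    (h : ∀ v : Fin n → ZMod 2, ∑ i, v i = 0 → ∀ i, v (r i) = v i) : r = 1 := by
  classical
  ext a
  rw [Equiv.Perm.one_apply]
  by_contra hne
  have hne' : r a ≠ a := fun e => hne (congrArg _ e)
  obtain ⟨c, hc1, hc2⟩ : ∃ c : Fin n, c ≠ a ∧ c ≠ r a := by
    by_contra h'
    push Not at h'
    have : (Finset.univ : Finset (Fin n)) ⊆ {a, r a} := fun c _ => by
      simp only [Finset.mem_insert, Finset.mem_singleton]
      by_cases hc : c = a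
      · exact Or.inl hc
      · exact Or.inr (h' c hc)
    have := (Finset.card_le_card this).trans Finset.card_le_two
    rw [Finset.card_univ, Fintype.card_fin] at this
    omega
  have := h (Pi.single (r a) 1 + Pi.single c 1) (by
    simp [Finset.sum_add_distrib, CharTwo.add_self_eq_zero]) a
  simp [hne'.symm, hc1.symm, hc2.symm, hne'] at this

end Alt

variable {G : Type*} [Group G] [Finite G] {p : ℕ} [hp : Fact p.Prime]

/-- The action of a block on `W / C_W(E)` is irreducible, and only `O_p(E)` centralizes `W`. -/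
theorem module_props {T E : Subgroup G} (hE : IsBaumannBlock p T E) :
    E ≤ normalizer (omegaOneCenter p (pCoreOf p E) : Set G) ∧
    (∀ U : Subgroup G, U ≤ omegaOneCenter p (pCoreOf p E) →
      omegaOneCenter p (pCoreOf p E) ⊓ centralizer (E : Set G) ≤ U → E ≤ normalizer (U : Set G) →
      U ≤ centralizer (E : Set G) ∨ omegaOneCenter p (pCoreOf p E) ≤ U) ∧
    ∀ e ∈ E, e ∈ centralizer (omegaOneCenter p (pCoreOf p E) : Set G) → e ∈ pCoreOf p E := by
  classical
  obtain ⟨hres, -, -, hne, hcases⟩ := hE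
  set W := omegaOneCenter p (pCoreOf p E) with hWdef
  -- a hom killing `O_p(E)` onto a group of the order of `E / O_p(E)`
  have hker : ∀ {R : Type} [Group R] (R₀ : Subgroup R) (ρ : ↥E →* R), ρ.range = R₀ →
      Nonempty (↥E ⧸ pCore p ↥E ≃* ↥R₀) → (∀ e : ↥E, e ∈ pCore p ↥E → ρ e = 1) → ρ.ker = pCore p ↥E := by
    intro R _ R₀ ρ hρ he hk
    obtain ⟨e⟩ := he
    refine (eq_of_le_of_card_ge (fun a ha => MonoidHom.mem_ker.2 (hk a ha)) ?_).symm
    have h1 : ρ.ker.index = (pCore p ↥E).index := by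
      rw [index_ker, hρ, index_eq_card]
      exact (Nat.card_congr e.toEquiv).symm
    have h2 := ρ.ker.card_mul_index
    have h3 := (pCore p ↥E).card_mul_index
    rw [h1, ← h3] at h2
    exact le_of_eq (Nat.eq_of_mul_eq_mul_right (Nat.pos_of_ne_zero index_ne_zero_of_finite) h2)
  have hWc : ∀ e : ↥E, e ∈ pCore p ↥E → ∀ u ∈ W, (e : G) * u * (e : G)⁻¹ = u := by
    intro e he u hu
    have h1 := mem_centralizer_iff.1 (((PLocal.omegaOne_le _) hu).2) (e : G) ⟨e, he, rfl⟩
    rw [h1, mul_inv_cancel_right]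
  rcases hcases with ⟨F, _, _, n, hF, hiso, hact, -⟩ | ⟨hp2, m, hiso, hact, -⟩
  · obtain ⟨hn, hle, ρ, ψ, hρ, hψ, hker', heq⟩ := hact
    have hk : ρ.ker = pCore p ↥E := hker _ ρ hρ hiso fun e he => sl2_faithful fun v => by
      obtain ⟨u, hu⟩ := hψ (Multiplicative.ofAdd v)
      obtain ⟨w, hw, hwv⟩ := heq e u
      have : w = u := Subtype.ext (hw.trans (hWc e he u u.2))
      rw [this, hu] at hwv
      exact hwv.symm
    refine ⟨hn, fun U hU hZU hUn => ?_, fun e he hec => ?_⟩
    · let U' : AddSubgroup (Fin 2 → F) := Subgroup.toAddSubgroup' ((U.subgroupOf W).map ψ)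
      by_cases h0 : ∀ u : ↥W, (u : G) ∈ U → ψ u = 1
      · exact Or.inl fun u hu => ((hker' ⟨u, hU hu⟩).1 (h0 _ hu)).2
      · push Not at h0
        obtain ⟨u, huU, hu1⟩ := h0
        have hall := sl2_irred U' (fun r hr x hx => by
          rw [← hρ] at hr
          obtain ⟨e, rfl⟩ := hr
          obtain ⟨u', hu', hx'⟩ := hx
          obtain ⟨w, hw, hwv⟩ := heq e u'
          refine ⟨w, ?_, ?_⟩
          · show (w : G) ∈ U
            rw [hw]
            exact (mem_normalizer_iff.1 (hUn e.2) _).1 hu'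
          · rw [show Multiplicative.toAdd (ψ u') = x by rw [hx']; rfl] at hwv
            exact hwv)
          (v := Multiplicative.toAdd (ψ u)) ⟨u, huU, rfl⟩ (fun h => hu1 h)
        right
        intro y hy
        obtain ⟨u', hu', e'⟩ := hall (Multiplicative.toAdd (ψ ⟨y, hy⟩))
        have h1 : ψ (u'⁻¹ * ⟨y, hy⟩) = 1 := by
          rw [map_mul, map_inv, show ψ u' = ψ ⟨y, hy⟩ from e', inv_mul_cancel]
        have h2 := mul_mem (show (u' : G) ∈ U from hu') (hZU ((hker' _).1 h1))
        simpa using h2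
    · refine ⟨⟨e, he⟩, ?_, rfl⟩
      show (⟨e, he⟩ : ↥E) ∈ pCore p ↥E
      rw [← hk, MonoidHom.mem_ker]
      refine sl2_faithful fun v => ?_
      obtain ⟨u, hu⟩ := hψ (Multiplicative.ofAdd v)
      obtain ⟨w, hw, hwv⟩ := heq ⟨e, he⟩ u
      have h1 : (e : G) * u * e⁻¹ = u := by
        rw [← mem_centralizer_iff.1 hec u u.2, mul_inv_cancel_right]
      have : w = u := Subtype.ext (hw.trans h1)
      rw [this, hu] at hwv
      exact hwv.symm
  · obtain ⟨hn, hle, ρ, ψ, hρ, heven, hsurj, hker', heq⟩ := hact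
    by_cases hm : m = 0
    · -- then `E` is trivial
      subst hm
      exfalso
      obtain ⟨e⟩ := hiso
      haveI : Subsingleton (Fin (2 * 0 + 1)) := Fin.subsingleton_one
      haveI : Subsingleton ↥(alternatingGroup (Fin (2 * 0 + 1))) :=
        ⟨fun a b => Subtype.ext (Equiv.ext fun i => Subsingleton.elim _ _)⟩
      haveI : Subsingleton (↥E ⧸ pCore p ↥E) := e.toEquiv.subsingleton
      have htop : pCore p ↥E = ⊤ := QuotientGroup.subgroup_eq_top_of_subsingleton _ this
      have hEp : IsPGroup p ↥E := fun g => by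
        obtain ⟨k, hk⟩ := Solv.isPGroup_pCore p (⟨g, htop ▸ mem_top g⟩ : ↥(pCore p ↥E))
        exact ⟨k, congrArg Subtype.val hk⟩
      apply hne
      have hbot : E = ⊥ := by
        rw [← hres, pResidualOf, pResidual, map_eq_bot_iff_of_injective _ E.subtype_injective, closure_eq_bot_iff]
        intro x hx
        obtain ⟨k, hk⟩ := IsPGroup.iff_orderOf.1 hEp x
        have h1 : (orderOf x).Coprime p := hx
        rw [hk] at h1
        rcases Nat.eq_zero_or_pos k with rfl | hk0
        · rw [pow_zero, orderOf_eq_one_iff] at hk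
          exact hk
        · rw [Nat.coprime_pow_left_iff hk0, Nat.coprime_self] at h1
          exact absurd h1 hp.out.ne_one
      rw [hbot, commutator_bot_left]
    have hodd : Odd (2 * m + 1) := ⟨m, rfl⟩
    have hn3 : 3 ≤ 2 * m + 1 := by omega
    have hfix : ∀ e : ↥E, (∀ u ∈ W, (e : G) * u * (e : G)⁻¹ = u) → ρ e = 1 := by
      intro e hec
      refine (inv_eq_one).1 (alt_faithful hn3 fun v hv i => ?_)
      obtain ⟨u, hu⟩ := hsurj v hv
      obtain ⟨w, hw, hwv⟩ := heq e u
      have : w = u := Subtype.ext (hw.trans (hec u u.2))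
      have h := hwv i
      rw [this, hu] at h
      exact h.symm
    have hk : ρ.ker = pCore p ↥E := hker _ ρ hρ hiso fun e he => hfix e (hWc e he)
    refine ⟨hn, fun U hU hZU hUn => ?_, fun e he hec => ?_⟩
    · let U' : AddSubgroup (Fin (2 * m + 1) → ZMod 2) := Subgroup.toAddSubgroup' ((U.subgroupOf W).map ψ)
      by_cases h0 : ∀ u : ↥W, (u : G) ∈ U → ψ u = 1
      · exact Or.inl fun u hu => ((hker' ⟨u, hU hu⟩).1 (h0 _ hu)).2
      · push Not at h0
        obtain ⟨u, huU, hu1⟩ := h0
        have hall := alt_irred hodd U' (fun r hr x hx => by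
          rw [← hρ] at hr
          obtain ⟨e, rfl⟩ := hr
          obtain ⟨u', hu', hx'⟩ := hx
          obtain ⟨w, hw, hwv⟩ := heq e u'
          refine ⟨w, ?_, ?_⟩
          · show (w : G) ∈ U
            rw [hw]
            exact (mem_normalizer_iff.1 (hUn e.2) _).1 hu'
          · have hx'' : Multiplicative.toAdd (ψ u') = x := by rw [hx']; rfl
            rw [hx''] at hwv
            exact congrArg Multiplicative.ofAdd (funext hwv))
          (v := Multiplicative.toAdd (ψ u)) ⟨u, huU, rfl⟩ (heven u) (fun h => hu1 h)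
        right
        intro y hy
        obtain ⟨u', hu', e'⟩ := hall (Multiplicative.toAdd (ψ ⟨y, hy⟩)) (heven _)
        have h1 : ψ (u'⁻¹ * ⟨y, hy⟩) = 1 := by
          rw [map_mul, map_inv, show ψ u' = ψ ⟨y, hy⟩ from e', inv_mul_cancel]
        have h2 := mul_mem (show (u' : G) ∈ U from hu') (hZU ((hker' _).1 h1))
        simpa using h2
    · refine ⟨⟨e, he⟩, ?_, rfl⟩
      show (⟨e, he⟩ : ↥E) ∈ pCore p ↥E
      rw [← hk, MonoidHom.mem_ker]
      exact hfix ⟨e, he⟩ fun u hu => by
        rw [← mem_centralizer_iff.1 hec u hu, mul_inv_cancel_right]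

end Cfsg.Lib.BlockMod
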