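import Mathlib
import Cfsg.Prelude.Def_BaumannBlocks
import Cfsg.Agent.Lib.PLocal.ElementaryAbelian
import Cfsg.Agent.Lib.PLocal.FStarAction
import Cfsg.Agent.Lib.Solv.Coprime

/-!
A `p`-subgroup normalized by a `B(T)`-block and by `B(T)` normalizes the block.
-/

set_option autoImplicit false
set_option linter.unusedVariables false
set_option linter.style.haveILetI false
set_option linter.unusedSectionVars false

namespace Cfsg.Lib.BlockNorm

open Subgroup Cfsg Cfsg.Lib.PLocal
open scoped Pointwise commutatorElement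

variable {G : Type*} [Group G] [Finite G] {p : ℕ} [hp : Fact p.Prime]

theorem thompson_eq_conj {T : Subgroup G} {g : G}
    (hJ : thompsonSubgroupOf p T ≤ T.map (MulAut.conj g).toMonoidHom) :
    thompsonSubgroupOf p (T.map (MulAut.conj g).toMonoidHom) = thompsonSubgroupOf p T := by
  refine (eq_of_le_of_card_ge ?_ (by
    rw [thompsonSubgroupOf_conj, card_map_of_injective (MulAut.conj g).injective])).symm
  set T' := T.map (MulAut.conj g).toMonoidHom
  rw [thompsonSubgroupOf_eq_iSup T]
  refine iSup₂_le fun A hA => le_thompsonSubgroupOf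
    ((le_thompsonSubgroupOf hA.1 hA.2.1 hA.2.2).trans hJ) hA.2.1 fun B hB hBe => ?_
  have hB' : B.map (MulAut.conj g⁻¹).toMonoidHom ≤ T := by
    rintro _ ⟨b, hb, rfl⟩
    obtain ⟨t, ht, rfl⟩ := hB hb
    simpa [mul_assoc] using ht
  have := hA.2.2 _ hB' (elem_map hBe _)
  rwa [card_map_of_injective (MulAut.conj g⁻¹).injective] at this

theorem baumann_conj_le (T : Subgroup G) (g : G) :
    (baumannSubgroupOf p T).map (MulAut.conj g).toMonoidHom ≤
      baumannSubgroupOf p (T.map (MulAut.conj g).toMonoidHom) := by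
  rintro _ ⟨b, ⟨hbT, hbc⟩, rfl⟩
  refine ⟨⟨b, hbT, rfl⟩, ?_⟩
  have hle : omegaOne p (centerThompsonOf p (T.map (MulAut.conj g).toMonoidHom)) ≤
      (omegaOne p (centerThompsonOf p T)).map (MulAut.conj g).toMonoidHom := by
    rw [omegaOne_map]
    refine closure_mono fun y hy => ⟨?_, hy.2⟩
    obtain ⟨h1, h2⟩ := hy.1
    rw [thompsonSubgroupOf_conj] at h1 h2
    obtain ⟨j, hj, rfl⟩ := h1
    refine ⟨j, ⟨hj, mem_centralizer_iff.2 fun k hk => ?_⟩, rfl⟩
    have := mem_centralizer_iff.1 h2 _ ⟨k, hk, rfl⟩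
    exact (MulAut.conj g).injective (by simpa using this)
  refine mem_centralizer_iff.2 fun y hy => ?_
  obtain ⟨z, hz, rfl⟩ := hle hy
  have := mem_centralizer_iff.1 hbc z hz
  show (MulAut.conj g) z * (MulAut.conj g) b = (MulAut.conj g) b * (MulAut.conj g) z
  rw [← map_mul, ← map_mul, this]

theorem thompson_le_baumann (T : Subgroup G) : thompsonSubgroupOf p T ≤ baumannSubgroupOf p T := fun j hj =>
  ⟨thompsonSubgroupOf_le T hj, mem_centralizer_iff.2 fun z hz =>
    ((mem_centralizer_iff.1 ((omegaOne_le _ hz).2)) j hj).symm⟩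

theorem card_baumann_conj (T : Subgroup G) (g : G) :
    Nat.card ↥(baumannSubgroupOf p (T.map (MulAut.conj g).toMonoidHom)) = Nat.card ↥(baumannSubgroupOf p T) := by
  refine le_antisymm ?_ ?_
  · have h := card_le_of_le (baumann_conj_le (p := p) (T.map (MulAut.conj g).toMonoidHom) g⁻¹)
    rw [card_map_of_injective (MulAut.conj g⁻¹).injective, Subgroup.map_map] at h
    have e : (MulAut.conj g⁻¹).toMonoidHom.comp (MulAut.conj g).toMonoidHom = MonoidHom.id G := by
      ext x; simp [mul_assoc]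
    rwa [e, Subgroup.map_id] at h
  · have h := card_le_of_le (baumann_conj_le (p := p) T g)
    rwa [card_map_of_injective (MulAut.conj g).injective] at h

/-- `B(T)` is the Baumann subgroup of each conjugate of `T` containing it. -/
theorem baumann_eq_conj {T : Subgroup G} {g : G}
    (hB : baumannSubgroupOf p T ≤ T.map (MulAut.conj g).toMonoidHom) :
    baumannSubgroupOf p (T.map (MulAut.conj g).toMonoidHom) = baumannSubgroupOf p T := by
  have hJ := thompson_eq_conj ((thompson_le_baumann T).trans hB)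
  have hle : baumannSubgroupOf p T ≤ baumannSubgroupOf p (T.map (MulAut.conj g).toMonoidHom) := by
    intro b hb
    refine ⟨hB hb, ?_⟩
    rw [show centerThompsonOf p (T.map (MulAut.conj g).toMonoidHom) = centerThompsonOf p T by
      rw [centerThompsonOf, centerThompsonOf, hJ]]
    exact hb.2
  exact (eq_of_le_of_card_ge hle (card_baumann_conj T g).le).symm

theorem le_normalizer_baumann (T : Subgroup G) :
    T ≤ normalizer (baumannSubgroupOf p T : Set G) := by
  refine FStarAction.le_normalizer_of_conj fun t ht b hb => ?_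
  have h := baumann_conj_le (p := p) T t ⟨b, hb, rfl⟩
  have e : T.map (MulAut.conj t).toMonoidHom = T := by
    refine eq_of_le_of_card_ge ?_ (card_map_of_injective (MulAut.conj t).injective).ge
    rintro _ ⟨x, hx, rfl⟩
    exact mul_mem (mul_mem ht hx) (inv_mem ht)
  rwa [e] at h

theorem normalizes_of_residual (J K Q : Subgroup G) (hJ : IsPGroup p ↥J)
    (hgen : Subgroup.closure {g : G | g ∈ K ∧ (orderOf g).Coprime p} = K) (hKJ : ⁅K, J⁆ = K)
    (hQ1 : K ⊔ J ≤ normalizer (Q : Set G)) (hQ2 : Q ≤ normalizer (J : Set G)) :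
    Q ≤ normalizer (K : Set G) := by
  have hJK : J ≤ normalizer (K : Set G) := by
    have h := Solv.le_normalizer_commutator_right K J
    rwa [hKJ] at h
  have hconj : ∀ q ∈ Q, ∀ k ∈ K, q * k * q⁻¹ ∈ K ⊔ J := by
    intro q hq k hk
    rw [← hKJ] at hk
    have hle : ⁅K, J⁆ ≤ (K ⊔ J).comap (MulAut.conj q).toMonoidHom := by
      refine commutator_le.2 fun a ha b hb => ?_
      show q * ⁅a, b⁆ * q⁻¹ ∈ K ⊔ J
      have hb' : q * b * q⁻¹ ∈ J := (mem_normalizer_iff.1 (hQ2 hq) b).1 hb
      have hq' : a⁻¹ * q * a ∈ Q := by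
        have := (mem_normalizer_iff.1 (hQ1 (mem_sup_left (K.inv_mem ha))) q).1 hq
        simpa using this
      set q' := a⁻¹ * q * a * q⁻¹ with hq'def
      have hq'' : q' ∈ Q := Q.mul_mem hq' (Q.inv_mem hq)
      have hc : ⁅q', q * b * q⁻¹⁆ ∈ J := by
        rw [_root_.commutatorElement_def]
        exact J.mul_mem ((mem_normalizer_iff.1 (hQ2 hq'') _).1 hb') (J.inv_mem hb')
      have e : q * ⁅a, b⁆ * q⁻¹ = a * ⁅q', q * b * q⁻¹⁆ * a⁻¹ * ⁅a, q * b * q⁻¹⁆ := by
        simp only [_root_.commutatorElement_def, hq'def]; group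
      rw [e]
      exact mul_mem (mul_mem (mul_mem (mem_sup_left ha) (mem_sup_right hc)) (inv_mem (mem_sup_left ha)))
        (mem_sup_left (hKJ.le (commutator_mem_commutator ha hb')))
    exact hle hk
  have hodd : ∀ x ∈ K ⊔ J, (orderOf x).Coprime p → x ∈ K := by
    intro x hx ho
    set X := K ⊔ J with hX
    haveI : (K.subgroupOf X).Normal := normal_subgroupOf_of_le_normalizer (sup_le le_normalizer hJK)
    set f := QuotientGroup.mk' (K.subgroupOf X)
    obtain ⟨k, hk, j, hj, hkj⟩ : (x : G) ∈ ((K : Set G) * (J : Set G)) := by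
      rw [← coe_mul_of_right_le_normalizer_left K J hJK]; exact hx
    set jX : ↥X := ⟨j, mem_sup_right hj⟩
    set kX : ↥X := ⟨k, mem_sup_left hk⟩
    set xX : ↥X := ⟨x, hx⟩
    have he : f xX = f jX := by
      rw [show xX = kX * jX from Subtype.ext hkj.symm, map_mul,
        show f kX = 1 from (QuotientGroup.eq_one_iff kX).2 hk, one_mul]
    obtain ⟨n, hn⟩ := hJ ⟨j, hj⟩
    have h1 : f xX ^ p ^ n = 1 := by
      rw [he, ← map_pow, show jX ^ p ^ n = 1 from Subtype.ext (congrArg Subtype.val hn : j ^ p ^ n = 1), map_one]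
    have h2 : f xX ^ orderOf x = 1 := by
      rw [← map_pow, show xX ^ orderOf x = 1 from Subtype.ext (pow_orderOf_eq_one x), map_one]
    have h3 := pow_gcd_eq_one.2 ⟨h1, h2⟩
    rw [(ho.symm).pow_left n, pow_one] at h3
    exact (QuotientGroup.eq_one_iff xX).1 h3
  refine FStarAction.le_normalizer_of_conj fun q hq k hk => ?_
  rw [← hgen] at hk
  have hle : Subgroup.closure {g : G | g ∈ K ∧ (orderOf g).Coprime p} ≤ K.comap (MulAut.conj q).toMonoidHom := by
    refine (closure_le _).2 fun a ha => hodd _ (hconj q hq a ha.1) ?_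
    show (orderOf (q * a * q⁻¹)).Coprime p
    rw [show orderOf (q * a * q⁻¹) = orderOf a from MulEquiv.orderOf_eq (MulAut.conj q) a]
    exact ha.2
  exact hle hk

/-- S2983. -/
theorem block_normalized (T : Sylow p G) (E : Subgroup G) (hE : IsBaumannBlock p (T : Subgroup G) E)
    (Q : Subgroup G) (hQ : IsPGroup p ↥Q)
    (hBQ : baumannSubgroupOf p (T : Subgroup G) ≤ normalizer (Q : Set G))
    (hEQ : E ≤ normalizer (Q : Set G)) : Q ≤ normalizer (E : Set G) := by
  set B := baumannSubgroupOf p (T : Subgroup G) with hB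
  have hBp : IsPGroup p ↥B := T.isPGroup'.to_le inf_le_left
  obtain ⟨T', hT'⟩ := (IsPGroup.to_sup_of_normal_left' (H := Q) (K := B) hQ hBp hBQ).exists_le_sylow
  obtain ⟨g, rfl⟩ := MulAction.exists_smul_eq G T T'
  rw [Sylow.coe_subgroup_smul] at hT'
  replace hT' : Q ⊔ B ≤ (T : Subgroup G).map (MulAut.conj g).toMonoidHom := hT'
  have hQB : Q ≤ normalizer (B : Set G) := by
    rw [hB, ← baumann_eq_conj (le_sup_right.trans hT')]
    exact le_sup_left.trans (hT'.trans (le_normalizer_baumann _))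
  refine normalizes_of_residual B E Q hBp ?_ hE.2.1 (sup_le hEQ hBQ) hQB
  refine le_antisymm ((closure_le _).2 fun y hy => hy.1) ?_
  conv_lhs => rw [← hE.1]
  rw [pResidualOf, map_le_iff_le_comap, pResidual]
  refine (closure_le _).2 fun y hy => subset_closure ⟨y.2, ?_⟩
  show (orderOf (y : G)).Coprime p
  rw [Subgroup.orderOf_coe]
  exact hy

end Cfsg.Lib.BlockNorm
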