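import Mathlib
import Cfsg.Prelude.Def_BaumannBlocks
import Cfsg.Agent.Lib.Solv.Cores
import Cfsg.Agent.Lib.Solv.Coprime
import Cfsg.Agent.Lib.PLocal.BlockModule
import Cfsg.Agent.Lib.PLocal.BlockNormalize

/-!
The commutator module `[Ω₁(Z(O_p(E))), E]` of a `B(T)`-block in a group of characteristic `p`.
-/

set_option autoImplicit false
set_option linter.style.haveILetI false
set_option linter.unusedSectionVars false

namespace Cfsg.Lib.BlockComm

open Subgroup Cfsg Cfsg.Lib.PLocal
open scoped Pointwise commutatorElement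

variable {G : Type*} [Group G] [Finite G] {p : ℕ} [hp : Fact p.Prime]

/-- Inside a `p`-group `W ⊔ Q`, a subgroup `W ≤ [W,Q] Z` lies in the normalized subgroup `Z`. -/
theorem le_of_le_commutator_sup {W Q Z : Subgroup G} (hP : IsPGroup p ↥(W ⊔ Q))
    (hZ : W ⊔ Q ≤ normalizer (Z : Set G)) (h : W ≤ ⁅W, Q⁆ ⊔ Z) : W ≤ Z := by
  set P := W ⊔ Q
  obtain ⟨n, hn⟩ := P.isNilpotent_iff_lowerCentralSeries.1 hP.isNilpotent
  have key : ∀ k, W ≤ P.lowerCentralSeries k ⊔ Z := by
    intro k
    induction k with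
    | zero => exact le_sup_of_le_left le_sup_left
    | succ k ih =>
      have hstep : ⁅P.lowerCentralSeries k ⊔ Z, P⁆ ≤ P.lowerCentralSeries (k + 1) ⊔ Z := by
        refine commutator_le.2 fun x hx r hr => ?_
        have hA : P.lowerCentralSeries k ≤ P := P.lowerCentralSeries_antitone (Nat.zero_le k)
        obtain ⟨a, ha, z, hz, rfl⟩ : x ∈ ((P.lowerCentralSeries k : Set G) * (Z : Set G)) := by
          rw [← coe_mul_of_left_le_normalizer_right _ Z (hA.trans hZ)]; exact hx
        have e : ⁅a * z, r⁆ = (a * (z * (r * z⁻¹ * r⁻¹)) * a⁻¹) * ⁅a, r⁆ := by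
          simp only [_root_.commutatorElement_def]; group
        rw [e]
        refine mul_mem (mem_sup_right ?_) (mem_sup_left (commutator_mem_commutator ha hr))
        refine (mem_normalizer_iff.1 (hZ (hA ha)) _).1 (mul_mem hz ?_)
        exact (mem_normalizer_iff.1 (hZ hr) _).1 (inv_mem hz)
      have h1 : ⁅W, Q⁆ ≤ P.lowerCentralSeries (k + 1) ⊔ Z :=
        (commutator_mono ih le_sup_right).trans hstep
      exact h.trans (sup_le h1 le_sup_right)
  have := key n
  rwa [hn, bot_sup_eq] at this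

theorem coprime_mem_of_sup {E Q : Subgroup G} (hQE : Q ≤ normalizer (E : Set G)) (hQ : IsPGroup p ↥Q)
    {x : G} (hx : x ∈ E ⊔ Q) (ho : (orderOf x).Coprime p) : x ∈ E := by
  set X := E ⊔ Q
  haveI : (E.subgroupOf X).Normal := normal_subgroupOf_of_le_normalizer (sup_le le_normalizer hQE)
  set f := QuotientGroup.mk' (E.subgroupOf X)
  obtain ⟨e, he, q, hq, heq⟩ : x ∈ ((E : Set G) * (Q : Set G)) := by
    rw [← coe_mul_of_right_le_normalizer_left E Q hQE]; exact hx
  set qX : ↥X := ⟨q, mem_sup_right hq⟩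
  set xX : ↥X := ⟨x, hx⟩
  have hf : f xX = f qX := by
    rw [show xX = ⟨e, mem_sup_left he⟩ * qX from Subtype.ext heq.symm, map_mul,
      show f ⟨e, mem_sup_left he⟩ = 1 from (QuotientGroup.eq_one_iff _).2 he, one_mul]
  obtain ⟨n, hn⟩ := hQ ⟨q, hq⟩
  have h1 : f xX ^ p ^ n = 1 := by
    rw [hf, ← map_pow, show qX ^ p ^ n = 1 from Subtype.ext (congrArg Subtype.val hn : q ^ p ^ n = 1), map_one]
  have h2 : f xX ^ orderOf x = 1 := by
    rw [← map_pow, show xX ^ orderOf x = 1 from Subtype.ext (pow_orderOf_eq_one x), map_one]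
  have h3 := pow_gcd_eq_one.2 ⟨h1, h2⟩
  rw [(ho.symm).pow_left n, pow_one] at h3
  exact (QuotientGroup.eq_one_iff xX).1 h3

theorem residual_gen {E : Subgroup G} (hres : pResidualOf p E = E) :
    Subgroup.closure {g : G | g ∈ E ∧ (orderOf g).Coprime p} = E := by
  refine le_antisymm ((closure_le _).2 fun y hy => hy.1) ?_
  conv_lhs => rw [← hres]
  rw [pResidualOf, map_le_iff_le_comap, pResidual]
  refine (closure_le _).2 fun y hy => subset_closure ⟨y.2, ?_⟩
  show (orderOf (y : G)).Coprime p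
  rw [Subgroup.orderOf_coe]
  exact hy

theorem coprime_mem_pResidualOf {X : Subgroup G} {x : G} (hx : x ∈ X) (ho : (orderOf x).Coprime p) :
    x ∈ pResidualOf p X :=
  ⟨⟨x, hx⟩, subset_closure (by show (orderOf (⟨x, hx⟩ : ↥X)).Coprime p; rwa [Subgroup.orderOf_mk]), rfl⟩

theorem eq_bot_of_residual {E : Subgroup G} (hres : pResidualOf p E = E) (hE : IsPGroup p ↥E) : E = ⊥ := by
  rw [← residual_gen hres, closure_eq_bot_iff]
  rintro x ⟨hx, ho⟩
  obtain ⟨k, hk⟩ := hE ⟨x, hx⟩
  have h1 : x ^ p ^ k = 1 := congrArg Subtype.val hk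
  have h3 := pow_gcd_eq_one.2 ⟨h1, pow_orderOf_eq_one x⟩
  rw [(ho.symm).pow_left k, pow_one] at h3
  exact h3

theorem conj_omegaOneCenter {X : Subgroup G} {x : G} (hx : x ∈ normalizer (X : Set G)) {y : G}
    (hy : y ∈ omegaOneCenter p X) : x * y * x⁻¹ ∈ omegaOneCenter p X := by
  have hle : omegaOneCenter p X ≤ (omegaOneCenter p X).comap (MulAut.conj x).toMonoidHom := by
    refine (closure_le _).2 fun z hz => ?_
    obtain ⟨⟨hzX, hzc⟩, hzp⟩ := hz
    refine mem_omegaOne ⟨(mem_normalizer_iff.1 hx z).1 hzX, mem_centralizer_iff.2 fun w hw => ?_⟩ ?_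
    · have h1 : x⁻¹ * w * x ∈ X := by
        have := (mem_normalizer_iff.1 (inv_mem hx) w).1 hw
        simpa using this
      have h2 := mem_centralizer_iff.1 hzc _ h1
      show w * (x * z * x⁻¹) = x * z * x⁻¹ * w
      calc w * (x * z * x⁻¹) = x * ((x⁻¹ * w * x) * z) * x⁻¹ := by group
        _ = x * (z * (x⁻¹ * w * x)) * x⁻¹ := by rw [h2]
        _ = _ := by group
    · show (MulAut.conj x z) ^ p = 1
      rw [← map_pow, hzp, map_one]
  exact hle hy

theorem normalizer_le_omegaOneCenter (X : Subgroup G) :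
    normalizer (X : Set G) ≤ normalizer (omegaOneCenter p X : Set G) :=
  FStarAction.le_normalizer_of_conj fun _ hx _ hy => conj_omegaOneCenter hx hy

theorem normalizer_le_pCoreOf (E : Subgroup G) :
    normalizer (E : Set G) ≤ normalizer (pCoreOf p E : Set G) := by
  refine FStarAction.le_normalizer_of_conj fun x hx c hc => ?_
  set N := (pCoreOf p E).map (MulAut.conj x).toMonoidHom
  have hNE : N ≤ E := by
    rintro _ ⟨a, ha, rfl⟩
    exact (mem_normalizer_iff.1 hx a).1 ((map_subtype_le _) ha)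
  have hn : E ≤ normalizer (N : Set G) := by
    refine FStarAction.le_normalizer_of_conj fun e he a ha => ?_
    obtain ⟨b, hb, rfl⟩ := ha
    have he' : x⁻¹ * e * x ∈ E := by
      have := (mem_normalizer_iff.1 (inv_mem hx) e).1 he
      simpa using this
    obtain ⟨b', hb', rfl⟩ := hb
    refine ⟨(x⁻¹ * e * x) * b' * (x⁻¹ * e * x)⁻¹, ⟨⟨_, he'⟩ * b' * ⟨_, he'⟩⁻¹,
      (inferInstance : (pCore p ↥E).Normal).conj_mem b' hb' _, rfl⟩, ?_⟩
    show x * _ * x⁻¹ = e * (x * b' * x⁻¹) * e⁻¹
    group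
  have hNp : IsPGroup p ↥N := ((Solv.isPGroup_pCore p).map _).map _
  exact ⟨⟨_, hNE ⟨c, hc, rfl⟩⟩, Solv.le_pCore (N := N.subgroupOf E)
    ((normal_subgroupOf_iff_le_normalizer hNE).2 hn) hNp.comap_subtype ⟨c, hc, rfl⟩, rfl⟩

theorem omegaOneCenter_elem (X : Subgroup G) : IsElementaryAbelian p (omegaOneCenter p X) :=
  omegaOne_elem fun _ hx _ hy => mem_centralizer_iff.1 hy.2 _ hx.1

/-- Basic facts on the module `W = Ω₁(Z(O_p(E)))` of a block. -/
theorem module_facts {T E : Subgroup G} (hE : IsBaumannBlock p T E) :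
    E ≤ normalizer (omegaOneCenter p (pCoreOf p E) : Set G) ∧
    omegaOneCenter p (pCoreOf p E) ≤ (omegaOneCenter p (pCoreOf p E) ⊓ centralizer (E : Set G)) ⊔
      ⁅omegaOneCenter p (pCoreOf p E), E⁆ ∧
    ¬ omegaOneCenter p (pCoreOf p E) ≤ centralizer (E : Set G) := by
  obtain ⟨hn, hirr, hfaith⟩ := BlockMod.module_props hE
  set W := omegaOneCenter p (pCoreOf p E)
  set Z := W ⊓ centralizer (E : Set G)
  have hWE : ¬ W ≤ centralizer (E : Set G) := by
    intro h
    refine hE.2.2.2.1 ?_
    have hEQ : E ≤ pCoreOf p E := fun e he => hfaith e he (mem_centralizer_iff.2 fun w hw =>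
      (mem_centralizer_iff.1 (h hw) e he).symm)
    rw [eq_bot_of_residual hE.1 (((Solv.isPGroup_pCore p).map _).to_le hEQ), commutator_bot_left]
  refine ⟨hn, ?_, hWE⟩
  have hW := omegaOneCenter_elem (p := p) (pCoreOf p E)
  have hcle : ⁅W, E⁆ ≤ W := le_normalizer_iff_commutator_le_left.1 hn
  rcases hirr (Z ⊔ ⁅W, E⁆) (sup_le inf_le_left hcle) le_sup_left (by
    refine le_trans (le_inf ?_ (Solv.le_normalizer_commutator_right W E)) (normalizer_inf_normalizer_le_normalizer_sup _ _)
    refine FStarAction.le_normalizer_of_conj fun e he z hz => ?_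
    rw [mem_centralizer_iff.1 hz.2 e he, mul_inv_cancel_right]
    exact hz) with h | h
  · exfalso
    refine hWE fun w hw => ?_
    have hle : E ≤ centralizer ({w} : Set G) := by
      rw [← residual_gen hE.1, closure_le]
      rintro x ⟨hx, ho⟩
      set c := ⁅w, x⁆
      have hc : c ∈ W := hcle (commutator_mem_commutator hw hx)
      have hcx : Commute x c := mem_centralizer_iff.1 (h (mem_sup_right (commutator_mem_commutator hw hx))) x hx
      have e1 : x * w * x⁻¹ = c⁻¹ * w := by simp [c, _root_.commutatorElement_def, mul_assoc]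
      have key : ∀ n : ℕ, x ^ n * w * (x ^ n)⁻¹ = c⁻¹ ^ n * w := by
        intro n
        induction n with
        | zero => simp
        | succ n ih =>
          have h1 : x * c⁻¹ ^ n * x⁻¹ = c⁻¹ ^ n := by
            rw [((hcx.inv_right).pow_right n).eq, mul_inv_cancel_right]
          calc x ^ (n + 1) * w * (x ^ (n + 1))⁻¹ = (x * c⁻¹ ^ n * x⁻¹) * (x * w * x⁻¹) := by
                rw [pow_succ', mul_inv_rev]
                calc x * x ^ n * w * ((x ^ n)⁻¹ * x⁻¹) = x * (x ^ n * w * (x ^ n)⁻¹) * x⁻¹ := by group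
                  _ = _ := by rw [ih]; group
            _ = _ := by rw [h1, e1, pow_succ, mul_assoc]
      have h0 := key (orderOf x)
      rw [pow_orderOf_eq_one, one_mul, inv_one, mul_one] at h0
      have h2 : c⁻¹ ^ orderOf x = 1 := mul_eq_right.1 h0.symm
      have h3 := pow_gcd_eq_one.2 ⟨h2, hW.2 _ (inv_mem hc)⟩
      rw [ho, pow_one, inv_eq_one, commutatorElement_eq_one_iff_commute] at h3
      exact mem_centralizer_iff.2 fun y hy => by rw [Set.mem_singleton_iff.1 hy]; exact h3.eq
    exact mem_centralizer_iff.2 fun e he => (mem_centralizer_iff.1 (hle he) w rfl).symm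
  · exact h

/-- S2984. -/
theorem block_location (hG : centralizer (pCore p G : Set G) ≤ pCore p G) (T : Sylow p G) (E : Subgroup G)
    (hE : IsBaumannBlock p (T : Subgroup G) E) :
    pResidualOf p (E ⊔ pCore p G) = E ∧
    ⁅omegaOneCenter p (pCoreOf p E), E⁆ ≤ omegaOneCenter p (pCore p G) ∧
    ⁅⁅omegaOneCenter p (pCoreOf p E), E⁆, thompsonSubgroupOf p (T : Subgroup G)⁆ ≠ ⊥ := by
  have hQp : IsPGroup p ↥(pCore p G) := Solv.isPGroup_pCore p
  have hQn : ∀ H : Subgroup G, H ≤ normalizer (pCore p G : Set G) := fun H => by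
    rw [normalizer_eq_top]; exact le_top
  have hQE : pCore p G ≤ normalizer (E : Set G) :=
    BlockNorm.block_normalized T E hE _ hQp (hQn _) (hQn _)
  obtain ⟨-, -, hfaith⟩ := BlockMod.module_props hE
  obtain ⟨hEW, hWsup, hWE⟩ := module_facts hE
  set Q := pCore p G
  set Q0 := pCoreOf p E
  set W := omegaOneCenter p Q0
  have hQ0E : Q0 ≤ E := map_subtype_le _
  have hQ0p : IsPGroup p ↥Q0 := (Solv.isPGroup_pCore p).map _
  have hWQ0 : W ≤ Q0 := (omegaOne_le _).trans inf_le_left
  have hWc : W ≤ centralizer (Q0 : Set G) := (omegaOne_le _).trans inf_le_right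
  have hW : IsElementaryAbelian p W := omegaOneCenter_elem Q0
  have hWEle : ⁅W, E⁆ ≤ W := le_normalizer_iff_commutator_le_left.1 hEW
  refine ⟨?_, ?_, ?_⟩
  · refine le_antisymm ?_ ?_
    · rw [pResidualOf, map_le_iff_le_comap, pResidual]
      refine (closure_le _).2 fun x hx => coprime_mem_of_sup hQE hQp x.2 ?_
      show (orderOf (x : G)).Coprime p
      rw [Subgroup.orderOf_coe]; exact hx
    · conv_lhs => rw [← residual_gen hE.1]
      exact (closure_le _).2 fun x hx => coprime_mem_pResidualOf (mem_sup_left hx.1) hx.2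
  · have hQW : Q ≤ normalizer (W : Set G) :=
      hQE.trans ((normalizer_le_pCoreOf E).trans (normalizer_le_omegaOneCenter _))
    set Z := W ⊓ centralizer (E : Set G)
    have hQZ : W ⊔ Q ≤ normalizer (Z : Set G) := by
      refine sup_le (FStarAction.le_normalizer_of_conj fun w hw z hz => ?_)
        (FStarAction.le_normalizer_of_conj fun q hq z hz => ⟨(mem_normalizer_iff.1 (hQW hq) z).1 hz.1, ?_⟩)
      · rw [elem_comm hW hw hz.1, mul_inv_cancel_right]; exact hz
      · refine mem_centralizer_iff.2 fun e he => ?_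
        have he' : q⁻¹ * e * q ∈ E := by
          have := (mem_normalizer_iff.1 (inv_mem (hQE hq)) e).1 he
          simpa using this
        calc e * (q * z * q⁻¹) = q * ((q⁻¹ * e * q) * z) * q⁻¹ := by group
          _ = q * (z * (q⁻¹ * e * q)) * q⁻¹ := by rw [mem_centralizer_iff.1 hz.2 _ he']
          _ = _ := by group
    have hPp : IsPGroup p ↥(W ⊔ Q) :=
      IsPGroup.to_sup_of_normal_left' (H := W) (K := Q) (hQ0p.to_le hWQ0) hQp hQW
    have hWQle : ⁅W, Q⁆ ≤ W := le_normalizer_iff_commutator_le_left.1 hQW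
    have hWQ : ⁅W, Q⁆ ≤ centralizer (E : Set G) := by
      rcases (BlockMod.module_props hE).2.1 (⁅W, Q⁆ ⊔ Z) (sup_le hWQle inf_le_left) le_sup_right (by
        refine le_trans (le_inf ?_ ?_) (normalizer_inf_normalizer_le_normalizer_sup _ _)
        · refine FStarAction.le_normalizer_of_conj fun e he c hc => ?_
          have hle : ⁅W, Q⁆ ≤ (⁅W, Q⁆ : Subgroup G).comap (MulAut.conj e).toMonoidHom := by
            refine commutator_le.2 fun w hw q hq => ?_
            show (MulAut.conj e) ⁅w, q⁆ ∈ ⁅W, Q⁆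
            rw [map_commutatorElement]
            exact commutator_mem_commutator ((mem_normalizer_iff.1 (hEW he) w).1 hw)
              ((mem_normalizer_iff.1 (hQn E he) q).1 hq)
          exact hle hc
        · refine FStarAction.le_normalizer_of_conj fun e he z hz => ?_
          rw [mem_centralizer_iff.1 hz.2 e he, mul_inv_cancel_right]
          exact hz) with h | h
      · exact le_sup_left.trans h
      · exact absurd ((le_of_le_commutator_sup hPp hQZ h).trans inf_le_right) hWE
    have h1 : ⁅⁅Q, W⁆, E⁆ = ⊥ := commutator_eq_bot_iff_le_centralizer.2 (by rw [commutator_comm]; exact hWQ)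
    have hEQ : ⁅E, Q⁆ ≤ Q0 := by
      refine (le_inf (le_normalizer_iff_commutator_le_left.1 hQE)
        (le_normalizer_iff_commutator_le_right.1 (hQn E))).trans fun x hx => ?_
      exact ⟨⟨x, hx.1⟩, Solv.le_pCore (N := (E ⊓ Q).subgroupOf E)
        ((normal_subgroupOf_iff_le_normalizer inf_le_left).2
          (FStarAction.le_normalizer_of_conj fun e he c hc =>
            ⟨E.mul_mem (E.mul_mem he hc.1) (E.inv_mem he), (mem_normalizer_iff.1 (hQn E he) c).1 hc.2⟩))
        (hQp.to_le inf_le_right).comap_subtype hx, rfl⟩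
    have h2 : ⁅⁅E, Q⁆, W⁆ = ⊥ := commutator_eq_bot_iff_le_centralizer.2
      (hEQ.trans (le_centralizer_iff.1 hWc))
    have h3 : ⁅W, E⁆ ≤ centralizer (Q : Set G) :=
      commutator_eq_bot_iff_le_centralizer.1 (commutator_commutator_eq_bot_of_rotate h2 h1)
    exact fun x hx => mem_omegaOne ⟨hG (h3 hx), h3 hx⟩ (hW.2 x (hWEle hx))
  · intro hbot
    set S := (T : Subgroup G)
    set J := thompsonSubgroupOf p S
    set B := baumannSubgroupOf p S
    have hJB : J ≤ B := BlockNorm.thompson_le_baumann S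
    have hBE : B ≤ normalizer (E : Set G) := by
      have h := Solv.le_normalizer_commutator_right E B
      rwa [hE.2.1] at h
    have hJE : J ≤ normalizer (E : Set G) := hJB.trans hBE
    have hr1 : ⁅⁅J, ⁅W, E⁆⁆, E⁆ = ⊥ := by
      rw [commutator_comm J, hbot, commutator_bot_left]
    have hr2 : ⁅⁅⁅W, E⁆, E⁆, J⁆ = ⊥ :=
      le_bot_iff.1 ((commutator_mono (commutator_mono hWEle le_rfl) le_rfl).trans hbot.le)
    have hEJc : ⁅E, J⁆ ≤ centralizer ((⁅W, E⁆ : Subgroup G) : Set G) :=
      commutator_eq_bot_iff_le_centralizer.1 (commutator_commutator_eq_bot_of_rotate hr1 hr2)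
    have hEJE : ⁅E, J⁆ ≤ E := le_normalizer_iff_commutator_le_left.1 hJE
    have hEJ : ⁅E, J⁆ ≤ Q0 := fun x hx => hfaith x (hEJE hx) (by
      have hle : W ≤ centralizer ({x} : Set G) := hWsup.trans (sup_le
        (fun z hz => mem_centralizer_iff.2 fun y hy => by
          rw [Set.mem_singleton_iff.1 hy]; exact mem_centralizer_iff.1 hz.2 x (hEJE hx))
        (fun z hz => mem_centralizer_iff.2 fun y hy => by
          rw [Set.mem_singleton_iff.1 hy]; exact (mem_centralizer_iff.1 (hEJc hx) z hz).symm))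
      exact mem_centralizer_iff.2 fun w hw => (mem_centralizer_iff.1 (hle hw) x rfl).symm)
    set P := J ⊔ Q0
    have hBJ : B ≤ normalizer (J : Set G) := by
      refine inf_le_left.trans (FStarAction.le_normalizer_of_conj fun t ht j hj => ?_)
      have e : S.map (MulAut.conj t).toMonoidHom = S := by
        refine eq_of_le_of_card_ge ?_ (card_map_of_injective (MulAut.conj t).injective).ge
        rintro _ ⟨x, hx, rfl⟩
        exact mul_mem (mul_mem ht hx) (inv_mem ht)
      have h := thompsonSubgroupOf_conj (p := p) S t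
      rw [e] at h
      show (MulAut.conj t) j ∈ thompsonSubgroupOf p S
      rw [h]
      exact ⟨j, hj, rfl⟩
    have hBP : B ≤ normalizer (P : Set G) :=
      (le_inf hBJ (hBE.trans (normalizer_le_pCoreOf E))).trans (normalizer_inf_normalizer_le_normalizer_sup _ _)
    have hEQ0 : E ≤ normalizer (Q0 : Set G) := le_normalizer.trans (normalizer_le_pCoreOf E)
    have hEP : E ≤ normalizer (P : Set G) := by
      refine FStarAction.le_normalizer_of_conj fun e he x hx => ?_
      have hle : P ≤ P.comap (MulAut.conj e).toMonoidHom := by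
        refine sup_le (fun j hj => ?_) (fun a ha => mem_sup_right ((mem_normalizer_iff.1 (hEQ0 he) a).1 ha))
        show e * j * e⁻¹ ∈ P
        have : e * j * e⁻¹ = ⁅e, j⁆ * j := by simp [_root_.commutatorElement_def]
        rw [this]
        exact mul_mem (mem_sup_right (hEJ (commutator_mem_commutator he hj))) (mem_sup_left hj)
      exact hle hx
    have hBp : IsPGroup p ↥B := T.isPGroup'.to_le inf_le_left
    have hPp : IsPGroup p ↥P := by
      have h := IsPGroup.to_sup_of_normal_left' (H := Q0) (K := J) hQ0p (hBp.to_le hJB)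
        (hJE.trans (normalizer_le_pCoreOf E))
      rwa [sup_comm] at h
    obtain ⟨T', hT'⟩ := (IsPGroup.to_sup_of_normal_left' (H := P) (K := B) hPp hBp hBP).exists_le_sylow
    obtain ⟨g, rfl⟩ := MulAction.exists_smul_eq G T T'
    rw [Sylow.coe_subgroup_smul] at hT'
    replace hT' : P ⊔ B ≤ S.map (MulAut.conj g).toMonoidHom := hT'
    have hJP : J ≤ P := le_sup_left
    have hJ' := BlockNorm.thompson_eq_conj (p := p) (T := S) (g := g) (hJP.trans (le_sup_left.trans hT'))
    have hJPeq : thompsonSubgroupOf p P = J :=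
      (thompsonSubgroupOf_eq_of_le (le_sup_left.trans hT') (hJ'.le.trans hJP)).trans hJ'
    have hEJn : E ≤ normalizer (J : Set G) := by
      refine FStarAction.le_normalizer_of_conj fun e he j hj => ?_
      have h := thompsonSubgroupOf_conj (p := p) P e
      rw [show P.map (MulAut.conj e).toMonoidHom = P from by
        refine eq_of_le_of_card_ge ?_ (card_map_of_injective (MulAut.conj e).injective).ge
        rintro _ ⟨x, hx, rfl⟩
        exact (mem_normalizer_iff.1 (hEP he) x).1 hx, hJPeq] at h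
      show (MulAut.conj e) j ∈ J
      rw [h]
      exact ⟨j, hj, rfl⟩
    set Zc := omegaOne p (centerThompsonOf p S) with hZc
    have hEZ : E ≤ normalizer (Zc : Set G) := hEJn.trans (normalizer_le_omegaOneCenter (p := p) J)
    have hEc : E ≤ centralizer (Zc : Set G) := by
      conv_lhs => rw [← hE.2.1]
      refine commutator_le.2 fun e he b hb => ?_
      have hb' : b ∈ centralizer (Zc : Set G) := hb.2
      rw [show ⁅e, b⁆ = (e * b * e⁻¹) * b⁻¹ from _root_.commutatorElement_def e b]
      refine mul_mem (mem_centralizer_iff.2 fun z hz => ?_) (inv_mem hb')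
      have hz' : e⁻¹ * z * e ∈ Zc := by
        have := (mem_normalizer_iff.1 (inv_mem (hEZ he)) z).1 hz
        simpa using this
      calc z * (e * b * e⁻¹) = e * ((e⁻¹ * z * e) * b) * e⁻¹ := by group
        _ = e * (b * (e⁻¹ * z * e)) * e⁻¹ := by rw [mem_centralizer_iff.1 hb' _ hz']
        _ = _ := by group
    refine hE.2.2.2.1 (commutator_eq_bot_iff_le_centralizer.2 (hEc.trans (centralizer_le ?_)))
    show ((omegaOneCenter p S : Subgroup G) : Set G) ⊆ Zc
    refine (closure_le _).2 fun z hz => ?_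
    obtain ⟨⟨hzS, hzc⟩, hzp⟩ := hz
    obtain ⟨A, hA⟩ : ∃ A : Subgroup G, A ≤ S ∧ IsElementaryAbelian p A ∧
        ∀ C : Subgroup G, C ≤ S → IsElementaryAbelian p C → Nat.card C ≤ Nat.card A := by
      have hfin : {C : Subgroup G | C ≤ S ∧ IsElementaryAbelian p C}.Finite := Set.toFinite _
      obtain ⟨A, hA, hmax⟩ := hfin.exists_maximalFor (fun C : Subgroup G => Nat.card C) _ ⟨⊥, bot_le, elem_bot⟩
      exact ⟨A, hA.1, hA.2, fun C h1 h2 => by
        by_contra hlt
        exact hlt (hmax ⟨h1, h2⟩ (le_of_lt (not_le.1 hlt)))⟩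
    have hzA : z ∈ A := by
      have hC : IsElementaryAbelian p (A ⊔ zpowers z) := elem_sup hA.2.1 (elem_zpowers hzp)
        (le_centralizer_iff.1 ((zpowers_le).2 (centralizer_le hA.1 hzc)))
      have hle : A ⊔ zpowers z ≤ S := sup_le hA.1 (zpowers_le.2 hzS)
      have := eq_of_le_of_card_ge (le_sup_left : A ≤ A ⊔ zpowers z) (hA.2.2 _ hle hC)
      rw [this]
      exact mem_sup_right (mem_zpowers z)
    exact mem_omegaOne ⟨le_thompsonSubgroupOf hA.1 hA.2.1 hA.2.2 hzA,
      centralizer_le (thompsonSubgroupOf_le S) hzc⟩ hzp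

end Cfsg.Lib.BlockComm
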