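import Mathlib
import Cfsg.Prelude.Def_LocalStructure
import Cfsg.Agent.Lib.Solv.Cores
import Cfsg.Agent.Lib.Solv.PGroupBasic
import Cfsg.Agent.Lib.Solv.Coprime2
import Cfsg.Agent.Lib.PLocal.BlockCommutator
import Cfsg.Agent.Lib.PLocal.BasicProperty

/-!
A `p`-subgroup acting trivially on the Frattini factor of a normal `p`-subgroup lies in the core.
-/

set_option autoImplicit false
set_option linter.style.haveILetI false
set_option linter.unusedSectionVars false

namespace Cfsg.Lib.AbsorbCore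

open Subgroup Cfsg
open scoped Pointwise commutatorElement

variable {G : Type*} [Group G] [Finite G] {p : ℕ} [hp : Fact p.Prime]

/-- The elements of `L` centralizing `A` modulo `B`. -/
def modStab (L A B : Subgroup G) (hB : L ≤ normalizer (B : Set G)) : Subgroup G where
  carrier := {x | x ∈ L ∧ ∀ a ∈ A, ⁅x, a⁆ ∈ B}
  one_mem' := ⟨one_mem _, fun a _ => by rw [commutatorElement_one_left]; exact one_mem _⟩
  mul_mem' := fun {x y} hx hy => ⟨mul_mem hx.1 hy.1, fun a ha => by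
    rw [show ⁅x * y, a⁆ = (x * ⁅y, a⁆ * x⁻¹) * ⁅x, a⁆ by simp only [_root_.commutatorElement_def]; group]
    exact mul_mem ((mem_normalizer_iff.1 (hB hx.1) _).1 (hy.2 a ha)) (hx.2 a ha)⟩
  inv_mem' := fun {x} hx => ⟨inv_mem hx.1, fun a ha => by
    rw [show ⁅x⁻¹, a⁆ = x⁻¹ * ⁅x, a⁆⁻¹ * x⁻¹⁻¹ by simp only [_root_.commutatorElement_def]; group]
    exact (mem_normalizer_iff.1 (hB (inv_mem hx.1)) _).1 (inv_mem (hx.2 a ha))⟩

theorem normalizer_le_commutator (A : Subgroup G) :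
    normalizer (A : Set G) ≤ normalizer ((⁅A, A⁆ : Subgroup G) : Set G) :=
  FStarAction.le_normalizer_of_conj fun x hx c hc => by
    have hle : ⁅A, A⁆ ≤ (⁅A, A⁆ : Subgroup G).comap (MulAut.conj x).toMonoidHom := by
      refine commutator_le.2 fun a ha b hb => ?_
      show (MulAut.conj x) ⁅a, b⁆ ∈ ⁅A, A⁆
      rw [map_commutatorElement]
      exact commutator_mem_commutator ((mem_normalizer_iff.1 hx a).1 ha) ((mem_normalizer_iff.1 hx b).1 hb)
    exact hle hc

theorem modStab_normal {L A B : Subgroup G} (hA : L ≤ normalizer (A : Set G))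
    (hB : L ≤ normalizer (B : Set G)) {l x : G} (hl : l ∈ L) (hx : x ∈ modStab L A B hB) :
    l * x * l⁻¹ ∈ modStab L A B hB := by
  refine ⟨mul_mem (mul_mem hl hx.1) (inv_mem hl), fun a ha => ?_⟩
  have ha' : l⁻¹ * a * l ∈ A := by
    have := (mem_normalizer_iff.1 (hA (inv_mem hl)) a).1 ha
    simpa using this
  rw [show ⁅l * x * l⁻¹, a⁆ = l * ⁅x, l⁻¹ * a * l⁆ * l⁻¹ by simp only [_root_.commutatorElement_def]; group]
  exact (mem_normalizer_iff.1 (hB hl) _).1 (hx.2 _ ha')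

/-- Generic form of S2864. -/
theorem absorb {L A Y U : Subgroup G} (hAp : IsPGroup p ↥A) (hAL : A ≤ L) (hLA : L ≤ normalizer (A : Set G))
    (hYL : Y ≤ L) (hYA : ⁅Y, A⁆ ≤ ⁅A, A⁆) (hC : centralizer (A : Set G) ≤ normalizer (U : Set G))
    (hYU : Y ≤ U) (hU : IsPGroup p ↥U) : Y ≤ pCoreOf p L := by
  classical
  have hLAA : L ≤ normalizer ((⁅A, A⁆ : Subgroup G) : Set G) := hLA.trans (normalizer_le_commutator A)
  set C1 := L ⊓ centralizer (A : Set G)
  have hLC : L ≤ normalizer (C1 : Set G) := FStarAction.le_normalizer_of_conj fun l hl c hc =>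
    ⟨L.mul_mem (L.mul_mem hl hc.1) (L.inv_mem hl), mem_centralizer_iff.2 fun a ha => by
      have ha' : l⁻¹ * a * l ∈ A := by
        have := (mem_normalizer_iff.1 (hLA (inv_mem hl)) a).1 ha
        simpa using this
      calc a * (l * c * l⁻¹) = l * ((l⁻¹ * a * l) * c) * l⁻¹ := by group
        _ = l * (c * (l⁻¹ * a * l)) * l⁻¹ := by rw [mem_centralizer_iff.1 hc.2 _ ha']
        _ = _ := by group⟩
  set R := pCoreOf p C1
  have hLR : L ≤ normalizer (R : Set G) := hLC.trans (BlockComm.normalizer_le_pCoreOf C1)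
  set W := closure {w : G | ∃ l ∈ L, ∃ y ∈ Y, w = l * y * l⁻¹}
  have hWL : W ≤ L := (closure_le _).2 fun w ⟨l, hl, y, hy, e⟩ => e ▸ mul_mem (mul_mem hl (hYL hy)) (inv_mem hl)
  have hYW : Y ≤ W := fun y hy => subset_closure ⟨1, one_mem _, y, hy, by simp⟩
  have hLW : L ≤ normalizer (W : Set G) := FStarAction.le_normalizer_of_conj fun l hl w hw => by
    have hle : W ≤ W.comap (MulAut.conj l).toMonoidHom := (closure_le _).2 fun w ⟨k, hk, y, hy, e⟩ =>
      subset_closure ⟨l * k, mul_mem hl hk, y, hy, by subst e; show l * (k * y * k⁻¹) * l⁻¹ = _; group⟩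
    exact hle hw
  have hW1 : W ≤ modStab L A ⁅A, A⁆ hLAA := (closure_le _).2 fun w ⟨l, hl, y, hy, e⟩ => e ▸
    modStab_normal hLA hLAA hl ⟨hYL hy, fun a ha => hYA (commutator_mem_commutator hy ha)⟩
  have hW2 : W ≤ modStab L C1 R hLR := (closure_le _).2 fun w ⟨l, hl, y, hy, e⟩ => e ▸
    modStab_normal hLC hLR hl ⟨hYL hy, fun c hc => by
      have h1 : ⁅y, c⁆ ∈ U := by
        rw [show ⁅y, c⁆ = y * (c * y⁻¹ * c⁻¹) by simp only [_root_.commutatorElement_def]; group]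
        exact U.mul_mem (hYU hy) ((mem_normalizer_iff.1 (hC hc.2) _).1 (U.inv_mem (hYU hy)))
      have h2 : ⁅y, c⁆ ∈ C1 := by
        rw [show ⁅y, c⁆ = (y * c * y⁻¹) * c⁻¹ from _root_.commutatorElement_def y c]
        exact C1.mul_mem ((mem_normalizer_iff.1 (hLC (hYL hy)) c).1 hc) (C1.inv_mem hc)
      refine ⟨⟨⁅y, c⁆, h2⟩, Solv.le_pCore (N := (U ⊓ C1).subgroupOf C1) ⟨fun n hn g => ?_⟩
        (hU.to_le inf_le_left).comap_subtype ⟨h1, h2⟩, rfl⟩
      exact ⟨(mem_normalizer_iff.1 (hC g.2.2) n).1 hn.1, (g * n * g⁻¹).2⟩⟩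
  -- coprime elements of `W` centralize `A`
  have hcop : ∀ x ∈ W, (orderOf x).Coprime p → x ∈ C1 := by
    intro x hx ho
    refine ⟨hWL hx, ?_⟩
    have hle := Solv.centralizes_of_frattini (zpowers x) A (zpowers_le.2 (hLA (hWL hx))) ?_ ?_
    · exact hle (mem_zpowers x)
    · obtain ⟨n, hn⟩ := (hAp.to_subgroup (frattini ↥A)).exists_card_eq
      rw [Nat.card_zpowers, hn]
      exact ho.pow_right n
    · intro a ha k hk
      obtain ⟨b, hb, hb'⟩ : a * k * a⁻¹ * k⁻¹ ∈ (_root_.commutator ↥A).map A.subtype := by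
        rw [map_subtype_commutator]
        exact ((zpowers_le.2 (hW1 hx)) ha).2 k hk
      exact ⟨b, Solv.commutator_le_frattini hAp hb, hb'⟩
  -- `W` is a `p`-group
  set N0 := (W ⊓ C1).subgroupOf W
  haveI : N0.Normal := (normal_subgroupOf_iff_le_normalizer inf_le_left).2 <|
    FStarAction.le_normalizer_of_conj fun w hw c hc => ⟨W.mul_mem (W.mul_mem hw hc.1) (W.inv_mem hw),
      (mem_normalizer_iff.1 (hLC (hWL hw)) c).1 hc.2⟩
  obtain ⟨P⟩ : Nonempty (Sylow p ↥W) := inferInstance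
  have hR0 : (R ⊓ W).subgroupOf W ≤ (P : Subgroup ↥W) := by
    refine le_trans (Solv.le_pCore ?_ (((Solv.isPGroup_pCore p).map C1.subtype).to_le inf_le_left).comap_subtype)
      (Solv.pCore_le_sylow p P)
    exact (normal_subgroupOf_iff_le_normalizer inf_le_right).2 <|
      FStarAction.le_normalizer_of_conj fun w hw c hc => ⟨(mem_normalizer_iff.1 (hLR (hWL hw)) c).1 hc.1,
        W.mul_mem (W.mul_mem hw hc.2) (W.inv_mem hw)⟩
  have htop : (P : Subgroup ↥W) ⊔ N0 = ⊤ := by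
    rw [← index_eq_one]
    have h1 : ((P : Subgroup ↥W) ⊔ N0).index ∣ N0.index := index_dvd_of_le le_sup_right
    have h2 : ((P : Subgroup ↥W) ⊔ N0).index ∣ (P : Subgroup ↥W).index := index_dvd_of_le le_sup_left
    have hq : IsPGroup p (↥W ⧸ N0) := by
      intro z
      obtain ⟨z, rfl⟩ := QuotientGroup.mk'_surjective N0 z
      obtain ⟨k, hk⟩ := PReduced.pmod_of_coprime (p := p) (C := C1) (N := W) hcop z z.2
      exact ⟨k, (QuotientGroup.eq_one_iff _).2 (show ((z ^ p ^ k : ↥W) : G) ∈ W ⊓ C1 from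
        ⟨(z ^ p ^ k).2, by rw [coe_pow]; exact hk⟩)⟩
    obtain ⟨n, hn⟩ := hq.exists_card_eq
    rw [← index_eq_card] at hn
    rw [hn] at h1
    exact Nat.eq_one_of_dvd_coprimes
      (((hp.out.coprime_iff_not_dvd.2 P.not_dvd_index).pow_left n)) h1 h2
  haveI hPn : (P : Subgroup ↥W).Normal := by
    rw [← normalizer_eq_top_iff, eq_top_iff, ← htop]
    refine sup_le le_normalizer (FStarAction.le_normalizer_of_conj fun n hn x hx => ?_)
    have hc : ⁅n, x⁆ ∈ (R ⊓ W).subgroupOf W := by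
      refine ⟨?_, (⁅n, x⁆).2⟩
      show ((⁅n, x⁆ : ↥W) : G) ∈ R
      rw [← commutatorElement_inv, coe_inv]
      refine inv_mem ?_
      exact (hW2 x.2).2 (n : G) hn.2
    rw [show n * x * n⁻¹ = ⁅n, x⁆ * x by simp [_root_.commutatorElement_def]]
    exact mul_mem (hR0 hc) hx
  have hall : ∀ y : ↥W, (∃ k, y ^ p ^ k = 1) → y ∈ (P : Subgroup ↥W) := by
    rintro y ⟨k, hk⟩
    have hyp : IsPGroup p ↥(zpowers y) := by
      rintro ⟨z, j, rfl⟩
      exact ⟨k, Subtype.ext (by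
        show (y ^ j) ^ p ^ k = 1
        rw [← zpow_natCast, ← zpow_mul, mul_comm, zpow_mul, zpow_natCast, hk, one_zpow])⟩
    obtain ⟨Q, hQ⟩ := hyp.exists_le_sylow
    obtain ⟨g, rfl⟩ := MulAction.exists_smul_eq ↥W P Q
    have := hQ (mem_zpowers y)
    rw [Sylow.coe_subgroup_smul, Subgroup.mem_pointwise_smul_iff_inv_smul_mem] at this
    have h2 := hPn.conj_mem _ this g
    simpa [MulAut.smul_def, mul_assoc] using h2
  have hWp : IsPGroup p ↥W := by
    have hPtop : W ≤ (P : Subgroup ↥W).map W.subtype := (closure_le _).2 fun w hw => by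
      have hwW : w ∈ W := subset_closure hw
      obtain ⟨l, hl, y, hy, e⟩ := hw
      obtain ⟨k, hk⟩ := hU ⟨y, hYU hy⟩
      refine ⟨⟨w, hwW⟩, hall _ ⟨k, Subtype.ext ?_⟩, rfl⟩
      show w ^ p ^ k = 1
      rw [e, conj_pow, show y ^ p ^ k = 1 from congrArg Subtype.val hk, mul_one, mul_inv_cancel]
    exact (P.isPGroup'.map W.subtype).to_le hPtop
  exact fun y hy => ⟨⟨y, hYL hy⟩, Solv.le_pCore (N := W.subgroupOf L)
    ((normal_subgroupOf_iff_le_normalizer hWL).2 hLW) hWp.comap_subtype (hYW hy), rfl⟩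

/-- S2864. -/
theorem absorb_frakM (S : Sylow p G) {Q M I Y L A : Subgroup G} (hQp : IsPGroup p Q) (hQ1 : Q ≠ ⊥)
    (hQ : IsLarge Q) (hSM : (S : Subgroup G) ≤ M) (hM : IsInFrakM p M) (hI1 : I ≠ ⊥) (hIp : IsPGroup p ↥I)
    (hIM : I ≤ M ∧ M ≤ normalizer (I : Set G))
    (hY : Y ≤ pCoreOf p (M ⊔ centralizer (largestPReducedOf p M : Set G))) (hYL : Y ≤ L)
    (hAp : IsPGroup p ↥A) (hAL : A ≤ L ∧ L ≤ normalizer (A : Set G)) (hIA : I ≤ A)
    (hc : ⁅Y, A⁆ ≤ ⁅I, A⁆) : Y ≤ pCoreOf p L := by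
  set Md := M ⊔ centralizer (largestPReducedOf p M : Set G)
  have hne : pCore p ↥(normalizer (I : Set G)) ≠ ⊥ := by
    intro e
    have h := Solv.le_pCore (N := I.subgroupOf (normalizer (I : Set G))) (p := p)
      ((normal_subgroupOf_iff_le_normalizer le_normalizer).2 le_rfl) hIp.comap_subtype
    rw [e, le_bot_iff, subgroupOf_eq_bot] at h
    exact hI1 (h.eq_bot_of_le le_normalizer)
  have hN : normalizer (I : Set G) ∈ charPSubgroups p G :=
    BasicProperty.mem_charP_of (LargeSub.large_parabolic hQp hQ1 hQ).2.2 (T := S) (hSM.trans hIM.2) hne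
  obtain ⟨X, hNX, hX, hXmax⟩ := (Set.toFinite (charPSubgroups p G)).exists_le_maximal hN
  have hXm : X ∈ maxCharPSubgroups p G := ⟨hX, fun L' hL' hle => le_antisymm (hXmax hL' hle) hle⟩
  have hNM : normalizer (I : Set G) ≤ Md := hNX.trans (hM.2.2.1 X hXm (hIM.2.trans hNX)).le
  have hMU : Md ≤ normalizer (pCoreOf p Md : Set G) :=
    le_normalizer.trans (BlockComm.normalizer_le_pCoreOf Md)
  exact absorb hAp hAL.1 hAL.2 hYL (hc.trans (commutator_mono hIA le_rfl))
    ((centralizer_le hIA).trans ((centralizer_le_normalizer _).trans (hNM.trans hMU))) hY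
    ((Solv.isPGroup_pCore p).map _)

end Cfsg.Lib.AbsorbCore
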