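import Mathlib
import Cfsg.Prelude.Def_PLocal
import Cfsg.Agent.Lib.Solv.Coprime2
import Cfsg.Agent.Lib.Solv.Cores
import Cfsg.Agent.Lib.Transfer.Critical
import Cfsg.Agent.Lib.Transfer.PGroupFrattini

/-!
Elements stabilizing a chain, and small consequences for local analysis.
-/

set_option autoImplicit false

open scoped commutatorElement Pointwise

namespace Cfsg.Lib.PLocal.Chain

open Cfsg Subgroup

variable {G : Type*} [Group G] [Finite G]

/-- An element stabilizing a chain of `H` has a power of exponent `|H| ^ n` centralizing `H`. -/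
theorem pow_mem_centralizer_of_chain (H : Subgroup G) (W : ℕ → Subgroup G) (n : ℕ)
    (h0 : W 0 = ⊥) (hn : W n = H) (hmono : ∀ i < n, W i ≤ W (i + 1)) (y : G)
    (hy : ∀ i < n, ∀ x ∈ W (i + 1), x⁻¹ * (y * x * y⁻¹) ∈ W i) :
    y ^ (Nat.card H ^ n) ∈ centralizer (H : Set G) := by
  have hWH : ∀ i ≤ n, W i ≤ H := fun i hi => by
    rw [← hn]
    exact Nat.decreasingInduction (motive := fun j _ => W j ≤ W n)
      (fun j hj h => (hmono j hj).trans h) le_rfl hi
  -- powers of `y` stabilize the chain as well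
  have hpow : ∀ i < n, ∀ (k : ℕ), ∀ x ∈ W (i + 1), x⁻¹ * (y ^ k * x * (y ^ k)⁻¹) ∈ W i := by
    intro i hi k
    induction k with
    | zero => intro x _; simp
    | succ k ih =>
      intro x hx
      set t := x⁻¹ * (y ^ k * x * (y ^ k)⁻¹) with ht
      have htW : t ∈ W i := ih x hx
      have hyt : y * t * y⁻¹ ∈ W i := by
        rcases i with _ | j
        · rw [h0, mem_bot] at htW ⊢
          rw [htW]; group
        · have h1 := hy j (by omega) t htW
          have := (W (j + 1)).mul_mem htW (hmono j (by omega) h1)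
          simpa [mul_assoc] using this
      have h2 := (W i).mul_mem (hy i hi x hx) hyt
      have h3 : x⁻¹ * (y ^ (k + 1) * x * (y ^ (k + 1))⁻¹) =
          x⁻¹ * (y * x * y⁻¹) * (y * t * y⁻¹) := by
        rw [ht, pow_succ']; group
      rwa [h3]
  have key : ∀ i ≤ n, ∀ x ∈ W i, Commute (y ^ (Nat.card H ^ i)) x := by
    intro i
    induction i with
    | zero => intro _ x hx; rw [h0, mem_bot] at hx; rw [hx]; exact Commute.one_right _
    | succ i ih =>
      intro hi x hx
      set z := y ^ (Nat.card H ^ i) with hz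
      set t := x⁻¹ * (z * x * z⁻¹) with ht
      have htW : t ∈ W i := hpow i (by omega) _ x hx
      have hzt : Commute z t := ih (by omega) t htW
      have hm : ∀ m : ℕ, z ^ m * x * (z ^ m)⁻¹ = x * t ^ m := by
        intro m
        induction m with
        | zero => simp
        | succ m ihm =>
          calc z ^ (m + 1) * x * (z ^ (m + 1))⁻¹ = z * (z ^ m * x * (z ^ m)⁻¹) * z⁻¹ := by
                rw [pow_succ']; group
            _ = (z * x * z⁻¹) * (z * t ^ m * z⁻¹) := by rw [ihm]; group
            _ = _ := by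
                rw [(hzt.pow_right m).eq, mul_inv_cancel_right, pow_succ', ← mul_assoc x t, ht,
                  mul_inv_cancel_left]
      have ht1 : t ^ Nat.card H = 1 :=
        congrArg Subtype.val (pow_card_eq_one' (x := (⟨t, hWH i (by omega) htW⟩ : H)))
      have h1 := hm (Nat.card H)
      rw [ht1, mul_one] at h1
      rw [pow_succ, pow_mul, ← hz]
      exact mul_inv_eq_iff_eq_mul.1 h1
  refine mem_centralizer_iff.2 fun x hx => ?_
  exact (key n le_rfl x (hn ▸ hx)).eq.symm

variable {p : ℕ} [hp : Fact p.Prime]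

/-- In a `p`-group the chain-stabilizing element has a `p`-power centralizing it. -/
theorem pow_prime_mem_centralizer_of_chain (H : Subgroup G) (hH : IsPGroup p H)
    (W : ℕ → Subgroup G) (n : ℕ)
    (h0 : W 0 = ⊥) (hn : W n = H) (hmono : ∀ i < n, W i ≤ W (i + 1)) (y : G)
    (hy : ∀ i < n, ∀ x ∈ W (i + 1), x⁻¹ * (y * x * y⁻¹) ∈ W i) :
    ∃ k : ℕ, y ^ p ^ k ∈ centralizer (H : Set G) := by
  obtain ⟨a, ha⟩ := IsPGroup.iff_card.1 hH
  exact ⟨a * n, by rw [pow_mul p a n, ← ha]; exact pow_mem_centralizer_of_chain H W n h0 hn hmono y hy⟩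

theorem isPGroup_of_nilpotent_action (R : Subgroup G) (hR : IsPGroup p R)
    (hC : centralizer (R : Set G) ≤ R) (L : Subgroup G) (hL : L ≤ normalizer (R : Set G)) (n : ℕ)
    (hn : iterCommutator R L n = ⊥) : IsPGroup p L := by
  have hnorm : ∀ i, L ≤ normalizer ((iterCommutator R L i : Subgroup G) : Set G) := by
    intro i
    induction i with
    | zero => exact hL
    | succ i _ => exact Solv.le_normalizer_commutator_right _ _
  rintro ⟨y, hy⟩
  obtain ⟨k, hk⟩ := pow_prime_mem_centralizer_of_chain (p := p) R hR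
    (fun i => iterCommutator R L (n - i)) n (by simpa using hn) (by simp [iterCommutator])
    (fun i hi => by
      show iterCommutator R L (n - i) ≤ iterCommutator R L (n - (i + 1))
      rw [show n - i = n - (i + 1) + 1 by omega]
      exact Solv.commutator_le_of_normalizes (hnorm _))
    y (fun i hi x hx => by
      show x⁻¹ * (y * x * y⁻¹) ∈ iterCommutator R L (n - i)
      rw [show n - i = n - (i + 1) + 1 by omega]
      have := commutator_mem_commutator (Subgroup.inv_mem _ hx) hy (H₂ := L)
        (H₁ := iterCommutator R L (n - (i + 1)))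
      simpa [iterCommutator, commutatorElement_def, mul_assoc] using this)
  obtain ⟨l, hl⟩ := hR ⟨_, hC hk⟩
  refine ⟨k + l, Subtype.ext ?_⟩
  show y ^ p ^ (k + l) = 1
  rw [pow_add, pow_mul]
  exact congrArg Subtype.val hl

/-- A subgroup stabilizing a normal chain of a self-centralizing `O_p` lies in `O_p`. -/
theorem le_pCore_of_chain (hchar : centralizer (pCore p G : Set G) ≤ pCore p G) (L : Subgroup G)
    (n : ℕ) (A : Fin (n + 1) → Subgroup G) (h0 : A 0 = ⊥) (hn : A (Fin.last n) = pCore p G)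
    (hmono : Monotone A) (hnorm : ∀ i, (A i).Normal)
    (hcent : ∀ i : Fin n, ⁅A i.succ, L⁆ ≤ A i.castSucc) : L ≤ pCore p G := by
  let W : ℕ → Subgroup G := fun i => A ⟨min i n, by omega⟩
  let N : Subgroup G :=
    { carrier := {y | ∀ i : Fin n, ∀ x ∈ A i.succ, x⁻¹ * (y * x * y⁻¹) ∈ A i.castSucc}
      one_mem' := fun i x _ => by simp
      mul_mem' := by
        intro a b ha hb i x hx
        have h1 := (A i.castSucc).mul_mem (ha i x hx) ((hnorm _).conj_mem _ (hb i x hx) a)
        simpa [mul_assoc] using h1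
      inv_mem' := by
        intro a ha i x hx
        have h1 := (hnorm _).conj_mem _ ((A i.castSucc).inv_mem (ha i x hx)) a⁻¹
        simpa [mul_assoc] using h1 }
  have hNn : N.Normal := ⟨fun y hy g i x hx => by
    have h1 := (hnorm _).conj_mem _ (hy i _ ((hnorm _).conj_mem x hx g⁻¹)) g
    simpa [mul_assoc] using h1⟩
  have hpc : IsPGroup p ↥(pCore p G) := Solv.isPGroup_pCore p
  have hNp : IsPGroup p N := by
    rintro ⟨y, hy⟩
    obtain ⟨k, hk⟩ := pow_prime_mem_centralizer_of_chain (p := p) (pCore p G) hpc W n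
      (by simpa [W] using h0)
      (by simp only [W, min_self]; exact hn)
      (fun i hi => hmono (by simp only [Fin.mk_le_mk]; omega))
      y (fun i hi x hx => by
        have h1 := hy ⟨i, hi⟩ x (by
          simpa [W, Nat.min_eq_left (Nat.succ_le_of_lt hi)] using hx)
        simpa [W, Nat.min_eq_left hi.le] using h1)
    obtain ⟨l, hl⟩ := hpc ⟨_, hchar hk⟩
    refine ⟨k + l, Subtype.ext ?_⟩
    show y ^ p ^ (k + l) = 1
    rw [pow_add, pow_mul]
    exact congrArg Subtype.val hl
  refine (show L ≤ N from fun l hl i x hx => ?_).trans (Solv.le_pCore hNn hNp)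
  have := hcent i (commutator_mem_commutator ((A i.succ).inv_mem hx) hl)
  simpa [commutatorElement_def, mul_assoc] using this

/-- A subgroup normalized by `O_p(G)` inherits characteristic `p`. -/
theorem charP_of_normalized (hG : centralizer (pCore p G : Set G) ≤ pCore p G) (L : Subgroup G)
    (hL : pCore p G ≤ normalizer (L : Set G)) :
    centralizer (pCore p ↥L : Set ↥L) ≤ pCore p ↥L := by
  haveI : (pCore p G).Normal := sSup_normal _ fun _ h => h.1
  haveI : (pCore p ↥L).Normal := sSup_normal _ fun _ h => h.1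
  set U := pCore p G
  have hUp : IsPGroup p U := Solv.isPGroup_pCore p
  refine Solv.le_pCore inferInstance fun c => ?_
  obtain ⟨⟨y, hy⟩, rfl⟩ : ∃ c' : ↥(centralizer (pCore p ↥L : Set ↥L)), c' = c := ⟨c, rfl⟩
  have hUL : ∀ u : ↥L, (u : G) ∈ U → u ∈ pCore p ↥L := fun u hu =>
    Solv.le_pCore (N := U.subgroupOf L) inferInstance hUp.comap_subtype hu
  obtain ⟨k, hk⟩ := pow_prime_mem_centralizer_of_chain (p := p) U hUp
    (fun i => if i = 0 then ⊥ else if i = 1 then U ⊓ L else U) 2 (by simp) (by simp)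
    (fun i hi => by
      rcases (show i = 0 ∨ i = 1 by omega) with rfl | rfl
      · simp
      · simp)
    (y : G) (fun i hi x hx => by
      rcases (show i = 0 ∨ i = 1 by omega) with rfl | rfl
      · simp only [Nat.zero_add, one_ne_zero, if_false, if_true] at hx ⊢
        have h1 : (y : G) * x = x * y :=
          (congrArg Subtype.val (mem_centralizer_iff.1 hy ⟨x, hx.2⟩ (hUL _ hx.1))).symm
        rw [mem_bot, h1, mul_inv_cancel_right, inv_mul_cancel]
      · simp only [show (1 + 1 : ℕ) = 2 from rfl, show (2 : ℕ) ≠ 0 by omega,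
          show (2 : ℕ) ≠ 1 by omega, one_ne_zero, if_false, if_true] at hx ⊢
        refine ⟨U.mul_mem (U.inv_mem hx) ((inferInstance : U.Normal).conj_mem x hx _), ?_⟩
        have h1 := (mem_normalizer_iff.1 (hL (U.inv_mem hx)) _).1 y.2
        have h2 := L.mul_mem h1 (L.inv_mem y.2)
        simpa [mul_assoc] using h2)
  obtain ⟨l, hl⟩ := hUp ⟨_, hG hk⟩
  refine ⟨k + l, Subtype.ext (Subtype.ext ?_)⟩
  show (y : G) ^ p ^ (k + l) = 1
  rw [pow_add, pow_mul]
  exact congrArg Subtype.val hl

/-- Elements of order prime to `|H|` stabilizing a series centralize. -/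
theorem dvd_of_stabilizes (H A : Subgroup G) (n : ℕ) (c : Fin (n + 1) → Subgroup G)
    (hc0 : c 0 = H) (hcn : c (Fin.last n) = ⊥) (hanti : Antitone c)
    (htriv : ∀ i : Fin n, ⁅c i.castSucc, A⁆ ≤ c i.succ) (r : ℕ) (hr : r.Prime)
    (hdvd : r ∣ (A ⊓ centralizer (H : Set G)).relIndex A) : r ∣ Nat.card H := by
  haveI := Fact.mk hr
  by_contra hnd
  obtain ⟨P⟩ : Nonempty (Sylow r A) := inferInstance
  let W : ℕ → Subgroup G := fun i => c ⟨n - i, by omega⟩
  have hP : ∀ x ∈ (P : Subgroup A), (x : G) ∈ centralizer (H : Set G) := by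
    intro x hx
    have hk := pow_mem_centralizer_of_chain H W n
      ((show W 0 = c (Fin.last n) from congrArg c (Fin.ext (by simp))).trans hcn)
      (by simp only [W, Nat.sub_self]; exact hc0)
      (fun i hi => hanti (by simp only [Fin.mk_le_mk]; omega))
      (x : G) (fun i hi y hy => by
        have hi' : n - (i + 1) < n := by omega
        have h1 := htriv ⟨n - (i + 1), hi'⟩
          (commutator_mem_commutator ((c _).inv_mem (show y ∈ c ⟨n - (i + 1), by omega⟩ from hy))
            x.2)
        have he : (⟨n - (i + 1), hi'⟩ : Fin n).succ = ⟨n - i, by omega⟩ := Fin.ext (by simp; omega)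
        rw [he] at h1
        simpa [W, commutatorElement_def, mul_assoc] using h1)
    obtain ⟨a, ha⟩ := IsPGroup.iff_orderOf.1 P.isPGroup' ⟨x, hx⟩
    rw [Subgroup.orderOf_mk, ← Subgroup.orderOf_coe] at ha
    have hcop : (Nat.card H ^ n).Coprime (orderOf (x : G)) := by
      rw [ha]
      exact (((hr.coprime_iff_not_dvd).2 hnd).symm.pow_left n).pow_right a
    obtain ⟨m, hm⟩ := exists_pow_eq_self_of_coprime hcop
    rw [← hm]
    exact pow_mem hk m
  refine P.not_dvd_index (hdvd.trans ?_)
  rw [Subgroup.relIndex]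
  exact Subgroup.index_dvd_of_le fun x hx => ⟨x.2, hP x hx⟩

/-- Coprime action on a nilpotent group fixing a self-centralizing fixed point group. -/
theorem centralizes_of_fixed_selfCentralizing (H A : Subgroup G) (hH : Group.IsNilpotent H)
    (hA : A ≤ normalizer (H : Set G)) (hcop : (Nat.card A).Coprime (Nat.card H))
    (hC : H ⊓ centralizer ((H ⊓ centralizer (A : Set G) : Subgroup G) : Set G) ≤
      H ⊓ centralizer (A : Set G)) :
    A ≤ centralizer (H : Set G) := by
  set D := H ⊓ centralizer (A : Set G) with hD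
  by_cases hDH : H ≤ D
  · exact le_centralizer_iff.1 (hDH.trans inf_le_right)
  exfalso
  have hne : D.subgroupOf H ≠ ⊤ := fun h => hDH (subgroupOf_eq_top.1 h)
  obtain ⟨x, hxN, hxD⟩ := SetLike.exists_of_lt
    (@Group.normalizerCondition_of_isNilpotent _ _ hH _ (lt_top_iff_ne_top.2 hne))
  set N := H ⊓ normalizer (D : Set G) with hN
  have hxN' : (x : G) ∈ N := ⟨x.2, mem_normalizer_iff.2 fun d => by
    constructor
    · intro hd
      exact (mem_normalizer_iff.1 hxN ⟨d, hd.1⟩).1 hd
    · intro hd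
      have hdH : d ∈ H := by
        have := H.mul_mem (H.mul_mem (H.inv_mem x.2) hd.1) x.2
        simpa [mul_assoc] using this
      exact (mem_normalizer_iff.1 hxN ⟨d, hdH⟩).2 hd⟩
  have hAD : A ≤ normalizer (D : Set G) := fun a ha => Solv.fixed_inf_normalized (hA ha)
    (le_normalizer ha)
  have hAN : A ≤ normalizer (N : Set G) := fun a ha => by
    rw [← Solv.conj_smul_eq_self_iff, hN, smul_inf, Solv.conj_smul_eq_self_iff.2 (hA ha)]
    congr 1
    exact Solv.conj_smul_eq_self_iff.2 (le_normalizer (hAD ha))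
  have h1 : ⁅⁅D, A⁆, N⁆ = ⊥ := by
    rw [commutator_eq_bot_iff_le_centralizer.2 (inf_le_right : D ≤ centralizer (A : Set G)),
      commutator_bot_left]
  have h2 : ⁅⁅N, D⁆, A⁆ = ⊥ := commutator_eq_bot_iff_le_centralizer.2 ((show ⁅N, D⁆ ≤ D by
    rw [commutator_comm]
    exact Solv.commutator_le_of_normalizes inf_le_right).trans inf_le_right)
  have h3 : ⁅⁅A, N⁆, D⁆ = ⊥ := commutator_commutator_eq_bot_of_rotate h2 h1
  have h4 : ⁅N, A⁆ ≤ D := by
    refine le_trans (le_inf ((commutator_mono inf_le_left le_rfl).trans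
      (Solv.commutator_le_of_normalizes hA)) ?_) hC
    rw [commutator_comm]
    exact commutator_eq_bot_iff_le_centralizer.1 h3
  have hNs : Group.IsSolvable N := by
    have := Cfsg.Lib.Solv.isNilpotent_of_le (inf_le_left : N ≤ H) hH
    infer_instance
  have h5 := Solv.centralizes_of_commutator_commutator_eq_bot A N hAN
    (hcop.coprime_dvd_right (card_dvd_of_le inf_le_left)) (Or.inr hNs)
    (commutator_eq_bot_iff_le_centralizer.2 (h4.trans inf_le_right))
  exact hxD (show (x : G) ∈ D from ⟨x.2, commutator_eq_bot_iff_le_centralizer.1 h5 hxN'⟩)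

/-- A quadratically acting `p`-group centralizes a group with trivial `p`-core. -/
theorem centralizes_of_quadratic (K : Subgroup G) (hO : pCore p ↥K = ⊥) (Y : Subgroup G)
    (hY : IsPGroup p Y) (hYK : Y ≤ normalizer (K : Set G)) (hq : ⁅⁅K, Y⁆, Y⁆ = ⊥) :
    ⁅K, Y⁆ = ⊥ := by
  set N := ⁅K, Y⁆ with hN
  have hNK : N ≤ K := Solv.commutator_le_of_normalizes hYK
  have hKN : K ≤ normalizer (N : Set G) := Solv.le_normalizer_commutator_left K Y
  have hNY : N ≤ centralizer (Y : Set G) := commutator_eq_bot_iff_le_centralizer.1 hq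
  -- `N` is abelian
  have hab : ∀ a ∈ N, ∀ b ∈ N, Commute a b := by
    intro a ha
    have hconj : ∀ k ∈ K, ∀ y ∈ Y, Commute (k * y * k⁻¹ * y⁻¹) a := by
      intro k hk y hy
      have h1 : Commute y (k⁻¹ * a * k) := mem_centralizer_iff.1
        (hNY ((mem_normalizer_iff''.1 (hKN hk) a).1 ha)) y hy
      have h2 : Commute (k * y * k⁻¹) a := by
        have := h1.map (MulAut.conj k).toMonoidHom
        simpa [mul_assoc] using this
      exact h2.mul_left (show Commute y a from mem_centralizer_iff.1 (hNY ha) y hy).inv_left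
    intro b hb
    have : N ≤ centralizer ({a} : Set G) := commutator_le.2 fun k hk y hy =>
      mem_centralizer_singleton_iff.2 (hconj k hk y hy).eq
    exact (show Commute b a from mem_centralizer_singleton_iff.1 (this hb)).symm
  let Np : Subgroup G :=
    { carrier := {x | x ∈ N ∧ ∃ k : ℕ, x ^ p ^ k = 1}
      one_mem' := ⟨N.one_mem, 0, by simp⟩
      mul_mem' := by
        rintro a b ⟨ha, i, hi⟩ ⟨hb, j, hj⟩
        refine ⟨N.mul_mem ha hb, i + j, ?_⟩
        rw [(hab a ha b hb).mul_pow]
        have e1 : a ^ p ^ (i + j) = 1 := by rw [pow_add, pow_mul, hi, one_pow]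
        have e2 : b ^ p ^ (i + j) = 1 := by rw [pow_add, mul_comm, pow_mul, hj, one_pow]
        rw [e1, e2, one_mul]
      inv_mem' := by
        rintro a ⟨ha, i, hi⟩
        exact ⟨N.inv_mem ha, i, by rw [inv_pow, hi, inv_one]⟩ }
  have hNNp : N ≤ Np := commutator_le.2 fun k hk y hy => by
    refine ⟨commutator_mem_commutator hk hy, ?_⟩
    obtain ⟨i, hi⟩ := hY ⟨y, hy⟩
    refine ⟨i, ?_⟩
    have hyi : y ^ p ^ i = 1 := congrArg Subtype.val hi
    set w := k * y * k⁻¹ * y⁻¹ with hw
    have hwN : w ∈ N := commutator_mem_commutator hk hy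
    have hwy : Commute w y := (mem_centralizer_iff.1 (hNY hwN) y hy).symm
    show w ^ p ^ i = 1
    have h1 : (k * y * k⁻¹) ^ p ^ i = w ^ p ^ i * y ^ p ^ i := by
      rw [← hwy.mul_pow]
      congr 1
      rw [hw, inv_mul_cancel_right]
    rw [conj_pow, hyi, mul_one, mul_inv_cancel, mul_one] at h1
    exact h1.symm
  have hNn : (N.subgroupOf K).Normal := (normal_subgroupOf_iff_le_normalizer hNK).2 hKN
  have hNp : IsPGroup p ↥(N.subgroupOf K) := by
    rintro ⟨⟨x, hxK⟩, hx⟩
    obtain ⟨i, hi⟩ := (hNNp hx).2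
    exact ⟨i, Subtype.ext (Subtype.ext hi)⟩
  have h2 : N.subgroupOf K = ⊥ := le_bot_iff.1 (hO ▸ Solv.le_pCore hNn hNp)
  refine eq_bot_iff.2 fun x hx => ?_
  have h3 : (⟨x, hNK hx⟩ : K) ∈ N.subgroupOf K := hx
  rw [h2, mem_bot] at h3
  exact mem_bot.2 (congrArg Subtype.val h3)

universe u

/-- Odd `p`: fixing the elements of order `p` in the centralizer of an elementary subgroup. -/
theorem centralizes_of_fix_elementary {G : Type u} [Group G] [Finite G] (hp2 : p ≠ 2)
    (H E A : Subgroup G) (hH : IsPGroup p H) (hE : E ≤ H) (hEe : Cfsg.IsElementaryAbelian p E)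
    (hA : A ≤ normalizer (H : Set G)) (hcop : (Nat.card A).Coprime p)
    (hfix : ∀ x ∈ H ⊓ centralizer (E : Set G), orderOf x = p → A ≤ centralizer ({x} : Set G)) :
    A ≤ centralizer (H : Set G) := by
  have hfix' : ∀ x ∈ H ⊓ centralizer (E : Set G), x ^ p = 1 → ∀ a ∈ A, Commute a x := by
    intro x hx hxp a ha
    by_cases hx1 : x = 1
    · rw [hx1]; exact Commute.one_right a
    · exact mem_centralizer_singleton_iff.1 (hfix x hx (orderOf_eq_prime hxp hx1) ha)
  have hEA : E ≤ centralizer (A : Set G) := fun e he => mem_centralizer_iff.2 fun a ha =>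
    (hfix' e ⟨hE he, mem_centralizer_iff.2 fun d hd =>
      congrArg Subtype.val (hEe.1.is_comm.comm (⟨d, hd⟩ : E) ⟨e, he⟩)⟩ (hEe.2 e he) a ha).eq
  refine Solv.thompson_PxQ E A H (hH.to_le hE) hcop hH hEA (hE.trans le_normalizer) hA ?_
  intro x hx
  refine mem_centralizer_iff.2 fun a ha => ?_
  set C := H ⊓ centralizer (E : Set G) with hC
  have haC : a ∈ normalizer (C : Set G) := Solv.fixed_inf_normalized (hA ha)
    (Solv.normalizer_eq_of_centralizes ((le_centralizer_iff.1 hEA) ha))
  let f : ↥C ≃* ↥C :=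
    { toFun := fun c => ⟨a * c * a⁻¹, (mem_normalizer_iff.1 haC _).1 c.2⟩
      invFun := fun c => ⟨a⁻¹ * c * a, (mem_normalizer_iff''.1 haC _).1 c.2⟩
      left_inv := fun c => Subtype.ext (by simp [mul_assoc])
      right_inv := fun c => Subtype.ext (by simp [mul_assoc])
      map_mul' := fun c d => Subtype.ext (by simp [mul_assoc]) }
  have hiter : ∀ (m : ℕ) (c : ↥C), (f^[m] c : G) = a ^ m * c * (a ^ m)⁻¹ := by
    intro m c
    induction m with
    | zero => simp
    | succ m ih =>
      rw [Function.iterate_succ_apply']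
      show a * (f^[m] c : G) * a⁻¹ = _
      rw [ih, pow_succ']; group
  have h1 := Cfsg.Lib.Transfer.fixed_of_fix_omega hp2 _ ↥C rfl (hH.to_le inf_le_left) f (orderOf a)
    (hcop.coprime_dvd_left (Subgroup.orderOf_dvd_natCard _ ha))
    (fun c => Subtype.ext (by rw [hiter, pow_orderOf_eq_one]; simp))
    (fun c hc => Subtype.ext (by
      show a * c * a⁻¹ = c
      exact mul_inv_eq_iff_eq_mul.2 (hfix' c c.2 (congrArg Subtype.val hc) a ha).eq))
    ⟨x, hx⟩
  exact mul_inv_eq_iff_eq_mul.1 (congrArg Subtype.val h1)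

end Cfsg.Lib.PLocal.Chain
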