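import Mathlib
import Cfsg.Prelude.Def_LocalEven
import Cfsg.Agent.Lib.PLocal.Factorization
import Cfsg.Agent.Lib.PLocal.Offender
import Cfsg.Agent.Lib.Sig.Basic
import Cfsg.Agent.Lib.Solv.MinNormal
import Cfsg.Agent.Lib.Fusion.Submodel
import Cfsg.Agent.Lib.Transfer.Action

/-!
Factorization of solvable `S₄`-free groups with Sylow 2-subgroups of class at most two.
-/

set_option autoImplicit false
set_option maxHeartbeats 800000

namespace Cfsg.Lib.PLocal

open Cfsg
open scoped commutatorElement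

universe u

/-- In a solvable group with trivial 2-core an elementary abelian 2-group acting has an element
inverting an element of odd prime order centralized by a subgroup of index two. -/
theorem exists_inverted_of_pCore_eq_bot {H : Type u} [Group H] [Finite H] [Group.IsSolvable H]
    (hO : pCore 2 H = ⊥) (B : Subgroup H) (hB : IsElementaryAbelian 2 B) (hne : B ≠ ⊥) :
    ∃ (B0 : Subgroup H) (b x : H) (r : ℕ), B0 ≤ B ∧ B0.relIndex B ≤ 2 ∧ b ∈ B ∧
      (∃ k : H, x = k⁻¹ * (b * k * b)) ∧ b * x * b = x⁻¹ ∧ (∀ d ∈ B0, Commute x d) ∧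
      r.Prime ∧ r ≠ 2 ∧ r ∣ orderOf x := by
  haveI : Fact (Nat.Prime 2) := ⟨Nat.prime_two⟩
  set K := pPrimeCore 2 H with hK
  haveI := Transfer.pPrimeCore_normal (G := H) 2
  have hKodd : ¬ 2 ∣ Nat.card K := fun h => by
    have h1 := Nat.Coprime.coprime_dvd_left h (Transfer.coprime_card_pPrimeCore (G := H) 2)
    norm_num at h1
  have hFK : fittingSubgroup H ≤ K := by
    have := Transfer.fittingSubgroup_le_pCore_sup (G := H) 2
    rwa [hO, bot_sup_eq] at this
  have hBK : ¬ K ≤ Subgroup.centralizer (B : Set H) := by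
    intro h
    have h1 : B ≤ Subgroup.centralizer (fittingSubgroup H : Set H) :=
      (Subgroup.le_centralizer_iff.1 h).trans (Subgroup.centralizer_le hFK)
    have h2 : B ≤ K := h1.trans (Solv.centralizer_fitting_le.trans hFK)
    refine hne (eq_bot_iff.2 fun b hb => ?_)
    have h3 : orderOf b ∣ 2 := orderOf_dvd_of_pow_eq_one (hB.2 b hb)
    rcases (Nat.dvd_prime Nat.prime_two).1 h3 with h4 | h4
    · exact orderOf_eq_one_iff.1 h4
    · exact absurd (h4 ▸ Subgroup.orderOf_dvd_natCard K (h2 hb)) hKodd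
  have hgen := Sig.le_iSup_centralizer_index B K hB hKodd
    (by rw [Subgroup.normalizer_eq_top]; exact le_top) ⊥ bot_le
  rw [show Subgroup.centralizer ((⊥ : Subgroup H) : Set H) = ⊤ from eq_top_iff.2 fun g _ =>
    Subgroup.mem_centralizer_iff.2 fun t ht => by
      rw [Subgroup.coe_bot, Set.mem_singleton_iff] at ht; rw [ht, one_mul, mul_one], inf_top_eq] at hgen
  by_contra hcon
  refine hBK (hgen.trans (iSup_le ?_))
  rintro ⟨D, hDB, hD⟩ k ⟨hkK, hkD⟩
  rw [Subgroup.mem_centralizer_iff]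
  intro b hb
  by_contra hne'
  set x := k⁻¹ * (b * k * b) with hx
  have hb2 : b * b = 1 := by rw [← sq]; exact hB.2 b hb
  have hbi : b⁻¹ = b := inv_eq_of_mul_eq_one_right hb2
  have hxK : x ∈ K := by
    refine mul_mem (inv_mem hkK) ?_
    have := (inferInstance : K.Normal).conj_mem k hkK b
    rwa [hbi] at this
  have hxne : orderOf x ≠ 1 := fun h => by
    rw [orderOf_eq_one_iff, hx, inv_mul_eq_one] at h
    refine hne' ?_
    calc b * k = b * k * (b * b) := by rw [hb2, mul_one]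
      _ = k * b := by rw [← mul_assoc, ← h]
  obtain ⟨r, hr, hrx⟩ := Nat.exists_prime_and_dvd hxne
  refine hcon ⟨D, b, x, r, hDB, hD, hb, ⟨k, rfl⟩, ?_, ?_, hr, fun h2 => hKodd ?_, hrx⟩
  · rw [hx, mul_inv_rev, inv_inv, mul_inv_rev, mul_inv_rev, hbi]
    calc b * (k⁻¹ * (b * k * b)) * b = b * k⁻¹ * b * k * (b * b) := by group
      _ = b * (k⁻¹ * b) * k := by rw [hb2, mul_one]; group
  · intro d hd
    have hdk : Commute k d := (Subgroup.mem_centralizer_iff.1 hkD d hd).symm
    have hdb : Commute b d := elem_comm hB hb (hDB hd)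
    exact hdk.inv_left.mul_left ((hdb.mul_left hdk).mul_left hdb)
  · rw [← h2]; exact hrx.trans (Subgroup.orderOf_dvd_natCard K hxK)

variable {G : Type u} [Group G] [Finite G]

omit [Finite G] in
theorem conj_split {b : G} (hb2 : b * b = 1) (p q r : G) :
    b * (p * q * r) * b = (b * p * b) * (b * q * b) * (b * r * b) := by
  calc b * (p * q * r) * b = b * p * 1 * q * 1 * r * b := by group
    _ = b * p * (b * b) * q * (b * b) * r * b := by rw [hb2]
    _ = _ := by group

/-- A four-group with an acting symmetric group of degree three gives a section `S₄`. -/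
theorem involves_perm_four {w y b : G} (hw2 : w * w = 1) (hyw : Commute w (y * w * y⁻¹))
    (hne : ¬ Commute y w) (hprod : y * (y * w * y⁻¹) * y⁻¹ = w * (y * w * y⁻¹))
    (hb2 : b * b = 1) (hby : b * y * b = y⁻¹) (hbw : Commute b w) (hy : Odd (orderOf y))
    (hbnot : b ∉ Subgroup.zpowers y) (hy3 : Commute (y ^ 3) w) :
    Cfsg.Involves (Equiv.Perm (Fin 4)) G := by
  set w2 := y * w * y⁻¹ with hw2def
  set w3 := w * w2 with hw3
  have hw22 : w2 * w2 = 1 := by
    rw [hw2def, show y * w * y⁻¹ * (y * w * y⁻¹) = y * (w * w) * y⁻¹ by group, hw2, mul_one, mul_inv_cancel]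
  have hbi : b⁻¹ = b := inv_eq_of_mul_eq_one_right hb2
  have hy3' : y * w3 * y⁻¹ = w := by
    rw [← hprod, hw2def]
    calc y * (y * (y * w * y⁻¹) * y⁻¹) * y⁻¹ = y ^ 3 * w * (y ^ 3)⁻¹ := by
          rw [pow_succ, pow_two]; group
      _ = w := by rw [hy3.eq, mul_inv_cancel_right]
  have hwne : w ≠ 1 := fun h => hne (h ▸ Commute.one_right y)
  have hww2 : w ≠ w2 := fun h => hne (by
    show y * w = w * y
    calc y * w = w2 * y := by rw [hw2def]; group
      _ = w * y := by rw [← h])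
  have hw21 : w2 ≠ 1 := fun h => hwne (by
    have := congrArg (fun t => y⁻¹ * t * y) h
    simpa [hw2def, mul_assoc] using this)
  have hw31 : w3 ≠ 1 := fun h => hww2 (by
    calc w = w * (w2 * w2) := by rw [hw22, mul_one]
      _ = w3 * w2 := (mul_assoc w w2 w2).symm
      _ = w2 := by rw [h, one_mul])
  have hw3w : w3 ≠ w := fun h => hw21 (by rwa [hw3, mul_eq_left] at h)
  have hw3w2 : w3 ≠ w2 := fun h => hwne (by rwa [hw3, mul_eq_right] at h)
  have hbw2 : b * w2 * b = w3 := by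
    calc b * w2 * b = (b * y * b) * (b * w * b) * (b * y⁻¹ * b) := by rw [hw2def, conj_split hb2]
      _ = y⁻¹ * w * y := by
          have e : b * y⁻¹ * b = y := by
            have := congrArg (·⁻¹) hby
            simpa [mul_inv_rev, hbi, mul_assoc] using this
          rw [hby, e, hbw.eq, mul_assoc w b b, hb2, mul_one]
      _ = y⁻¹ * (y * w3 * y⁻¹) * y := by rw [hy3']
      _ = w3 := by group
  set W0 : Subgroup G :=
    { carrier := {t | t = 1 ∨ t = w ∨ t = w2 ∨ t = w3}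
      one_mem' := Or.inl rfl
      inv_mem' := by
        have e3 : w3⁻¹ = w3 := by
          rw [hw3, mul_inv_rev, inv_eq_of_mul_eq_one_right hw2, inv_eq_of_mul_eq_one_right hw22, hyw.eq]
        rintro t (rfl | rfl | rfl | rfl)
        · exact Or.inl inv_one
        · exact Or.inr (Or.inl (inv_eq_of_mul_eq_one_right hw2))
        · exact Or.inr (Or.inr (Or.inl (inv_eq_of_mul_eq_one_right hw22)))
        · exact Or.inr (Or.inr (Or.inr e3))
      mul_mem' := by
        have e1 : w * w3 = w2 := by rw [hw3, ← mul_assoc, hw2, one_mul]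
        have e2 : w3 * w = w2 := by rw [hw3, hyw.eq, mul_assoc, hw2, mul_one]
        have e3 : w2 * w3 = w := by rw [hw3, hyw.eq, ← mul_assoc, hw22, one_mul]
        have e4 : w3 * w2 = w := by rw [hw3, mul_assoc, hw22, mul_one]
        have e5 : w2 * w = w3 := hyw.eq.symm.trans hw3.symm
        have e6 : w3 * w3 = 1 := by
          calc w3 * w3 = w * (w2 * w3) := by rw [hw3]; group
            _ = 1 := by rw [e3, hw2]
        rintro s t (rfl | rfl | rfl | rfl) (rfl | rfl | rfl | rfl) <;>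
          simp [hw2, hw22, e1, e2, e3, e4, e5, e6, ← hw3] } with hW0
  have hW0mem : ∀ t, t ∈ W0 ↔ t = 1 ∨ t = w ∨ t = w2 ∨ t = w3 := fun t => Iff.rfl
  have hW0sq : ∀ t ∈ W0, t * t = 1 := by
    intro t ht
    rcases (hW0mem t).1 ht with rfl | rfl | rfl | rfl
    · exact one_mul 1
    · exact hw2
    · exact hw22
    · calc w * w2 * (w * w2) = w * (w2 * w) * w2 := by group
        _ = w * (w * w2) * w2 := by rw [hyw.eq]
        _ = (w * w) * (w2 * w2) := by group
        _ = 1 := by rw [hw2, hw22, one_mul]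
  have hW0comm : ∀ s ∈ W0, ∀ t ∈ W0, Commute s t := by
    intro s hs t ht
    show s * t = t * s
    calc s * t = (s * t)⁻¹ := (inv_eq_of_mul_eq_one_right (hW0sq _ (mul_mem hs ht))).symm
      _ = t * s := by
        rw [mul_inv_rev, inv_eq_of_mul_eq_one_right (hW0sq s hs), inv_eq_of_mul_eq_one_right (hW0sq t ht)]
  have hW0card : Nat.card W0 = 4 := by
    classical
    have e : (W0 : Set G) = (↑({1, w, w2, w3} : Finset G) : Set G) := by
      ext t; simp [hW0mem]
    show Nat.card (W0 : Set G) = 4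
    rw [e, Nat.card_coe_set_eq, Set.ncard_coe_finset, Finset.card_insert_of_notMem (by
      simp [Ne.symm hwne, Ne.symm hw21, Ne.symm hw31]), Finset.card_insert_of_notMem (by
      simp [hww2, Ne.symm hw3w]), Finset.card_insert_of_notMem (by simp [Ne.symm hw3w2]), Finset.card_singleton]
  set D := Subgroup.closure ({y, b} : Set G) with hD
  have hyD : y ∈ D := Subgroup.subset_closure (Or.inl rfl)
  have hbD : b ∈ D := Subgroup.subset_closure (Or.inr rfl)
  have hDnorm : D ≤ Subgroup.normalizer (W0 : Set G) := by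
    rw [hD, Subgroup.closure_le]
    have key : ∀ g : G, (∀ t ∈ W0, g * t * g⁻¹ ∈ W0) → g ∈ Subgroup.normalizer (W0 : Set G) :=
      fun g hg => Subgroup.mem_normalizer_fintype hg
    rintro g (rfl | rfl)
    · refine key _ fun t ht => ?_
      rcases (hW0mem t).1 ht with rfl | rfl | rfl | rfl
      · simp
      · exact (hW0mem _).2 (Or.inr (Or.inr (Or.inl hw2def.symm)))
      · exact (hW0mem _).2 (Or.inr (Or.inr (Or.inr hprod)))
      · exact (hW0mem _).2 (Or.inr (Or.inl hy3'))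
    · refine key _ fun t ht => ?_
      rw [hbi]
      rcases (hW0mem t).1 ht with rfl | rfl | rfl | rfl
      · simp [hb2]
      · exact (hW0mem _).2 (Or.inr (Or.inl (by rw [hbw.eq, mul_assoc, hb2, mul_one])))
      · exact (hW0mem _).2 (Or.inr (Or.inr (Or.inr hbw2)))
      · refine (hW0mem _).2 (Or.inr (Or.inr (Or.inl ?_)))
        calc g * w3 * g = g * (g * w2 * g) * g := by rw [hbw2]
          _ = (g * g) * w2 * (g * g) := by group
          _ = w2 := by rw [hb2, one_mul, mul_one]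
  have hflip : ∀ i : ℤ, b * y ^ i = y ^ (-i) * b := by
    intro i
    have h := conj_zpow (i := i) (a := b) (b := y)
    rw [hbi, hby, inv_zpow'] at h
    rw [h, mul_assoc, hb2, mul_one]
  have hDelem : ∀ g ∈ D, ∃ i : ℤ, g = y ^ i ∨ g = y ^ i * b := by
    intro g hg
    rw [hD] at hg
    induction hg using Subgroup.closure_induction with
    | mem g hg =>
      rcases hg with rfl | rfl
      · exact ⟨1, Or.inl (zpow_one _).symm⟩
      · exact ⟨0, Or.inr (by rw [zpow_zero, one_mul])⟩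
    | one => exact ⟨0, Or.inl (zpow_zero _).symm⟩
    | mul g h _ _ ihg ihh =>
      obtain ⟨i, rfl | rfl⟩ := ihg <;> obtain ⟨j, rfl | rfl⟩ := ihh
      · exact ⟨i + j, Or.inl (zpow_add y i j).symm⟩
      · exact ⟨i + j, Or.inr (by rw [← mul_assoc, ← zpow_add])⟩
      · exact ⟨i + -j, Or.inr (by rw [mul_assoc, hflip, ← mul_assoc, ← zpow_add])⟩
      · exact ⟨i + -j, Or.inl (by rw [mul_assoc, ← mul_assoc b, hflip, mul_assoc, hb2, mul_one, ← zpow_add])⟩
    | inv g _ ih =>
      obtain ⟨i, rfl | rfl⟩ := ih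
      · exact ⟨-i, Or.inl (zpow_neg y i).symm⟩
      · exact ⟨i, Or.inr (by rw [mul_inv_rev, hbi, ← zpow_neg, hflip, neg_neg])⟩
  have hy3z : ∀ i : ℤ, Commute (y ^ i) w → (3 : ℤ) ∣ i := by
    intro i hi
    by_contra hd
    refine hne ?_
    obtain ⟨a, c, hac⟩ : ∃ a c : ℤ, a * i + c * 3 = 1 := by
      have hcop : IsCoprime i (3 : ℤ) :=
        ((Int.prime_three.coprime_iff_not_dvd).2 hd).symm
      exact hcop
    have h := (hi.zpow_left a).mul_left ((hy3.zpow_left c))
    have e : (y ^ i) ^ a * (y ^ 3) ^ c = y := by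
      rw [← zpow_mul, ← zpow_natCast, ← zpow_mul, ← zpow_add, show i * a + ((3 : ℕ) : ℤ) * c = 1 by
        push_cast; linarith, zpow_one]
    rwa [e] at h
  have hdis : W0 ⊓ D = ⊥ := by
    refine eq_bot_iff.2 fun t ⟨htW, htD⟩ => ?_
    have ht2 : t * t = 1 := hW0sq t htW
    obtain ⟨i, rfl | rfl⟩ := hDelem t htD
    · have h1 : orderOf (y ^ i) ∣ 2 := orderOf_dvd_of_pow_eq_one (by rw [sq]; exact ht2)
      have h2 : orderOf (y ^ i) ∣ orderOf y := orderOf_dvd_of_mem_zpowers (Subgroup.zpow_mem_zpowers y i)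
      exact Subgroup.mem_bot.2 (orderOf_eq_one_iff.1 (Nat.eq_one_of_dvd_coprimes
        (Nat.coprime_two_left.2 hy) h1 h2))
    · exfalso
      -- `y ^ i * b` lies in the four-group, hence centralizes `w` and `w2`
      have hcent : ∀ s ∈ W0, Commute (y ^ i * b) s := fun s hs => hW0comm _ htW s hs
      have hc := hcent w ((hW0mem w).2 (Or.inr (Or.inl rfl)))
      have hyi : Commute (y ^ i) w := by
        have := hc.mul_left hbw
        rwa [mul_assoc, hb2, mul_one] at this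
      obtain ⟨k, rfl⟩ := hy3z i hyi
      have hw2c : Commute (y ^ ((3 : ℤ) * k)) w2 := by
        have hy3w2 : Commute (y ^ 3) w2 := by
          rw [hw2def]
          exact ((Commute.self_pow y 3).symm.mul_right hy3).mul_right (Commute.self_pow y 3).symm.inv_right
        rw [zpow_mul, show y ^ (3 : ℤ) = y ^ 3 from zpow_natCast y 3]
        exact hy3w2.zpow_left k
      have hc2 := hcent w2 ((hW0mem w2).2 (Or.inr (Or.inr (Or.inl rfl))))
      have hb' : Commute b w2 := by
        have := hw2c.inv_left.mul_left hc2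
        rwa [inv_mul_cancel_left] at this
      exact hw3w2 (by rw [← hbw2, hb'.eq, mul_assoc, hb2, mul_one])
  set H := W0 ⊔ D with hH
  have hW0H : W0 ≤ H := le_sup_left
  have hDH : D ≤ H := le_sup_right
  have hHn : (W0.subgroupOf H).Normal :=
    (Subgroup.normal_subgroupOf_iff_le_normalizer hW0H).2 (sup_le Subgroup.le_normalizer hDnorm)
  haveI := hHn
  set D' := D.subgroupOf H with hD'
  have hcomp : (W0.subgroupOf H).IsComplement' D' := by
    refine Subgroup.isComplement'_of_disjoint_and_mul_eq_univ ?_ ?_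
    · rw [disjoint_iff, eq_bot_iff]
      rintro ⟨t, ht⟩ ⟨h1, h2⟩
      exact Subgroup.mem_bot.2 (Subtype.ext (Subgroup.mem_bot.1 (hdis ▸ (⟨h1, h2⟩ : t ∈ W0 ⊓ D))))
    · refine Set.eq_univ_of_forall fun g => ?_
      have hg : g ∈ W0.subgroupOf H ⊔ D' := by
        rw [hD', ← Subgroup.subgroupOf_sup hW0H hDH, ← hH, Subgroup.subgroupOf_self]; trivial
      exact (Subgroup.mem_sup_of_normal_left.1 hg)
  have hidx : D'.index = 4 := by
    rw [hcomp.index_eq_card, Nat.card_congr (Subgroup.subgroupOfEquivOfLe hW0H).toEquiv, hW0card]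
  let f : H →* Equiv.Perm (H ⧸ D') := MulAction.toPermHom H (H ⧸ D')
  have hker : f.ker ≤ (Subgroup.zpowers (y ^ 3)).subgroupOf H := by
    intro h hh
    have hcore : h ∈ D'.normalCore := by rwa [Subgroup.normalCore_eq_ker]
    have hhD : (h : G) ∈ D := Subgroup.normalCore_le D' hcore
    have hcw : ∀ s ∈ W0, Commute (h : G) s := by
      intro s hs
      have h1 : (⟨s, hW0H hs⟩ : H) * h * (⟨s, hW0H hs⟩ : H)⁻¹ ∈ D' := Subgroup.normalCore_le D'
        ((inferInstance : D'.normalCore.Normal).conj_mem h hcore _)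
      have h1' : s * (h : G) * s⁻¹ ∈ D := h1
      have h2 : s * (h : G) * s⁻¹ * (h : G)⁻¹ ∈ D := mul_mem h1' (inv_mem hhD)
      have h3 : s * (h : G) * s⁻¹ * (h : G)⁻¹ ∈ W0 := by
        have := mul_mem hs ((Subgroup.mem_normalizer_iff.1 (hDnorm hhD) s⁻¹).1 (inv_mem hs))
        rwa [← mul_assoc, ← mul_assoc] at this
      have h34 : s * (h : G) * s⁻¹ * (h : G)⁻¹ ∈ W0 ⊓ D := ⟨h3, h2⟩
      rw [hdis] at h34
      have h4 := Subgroup.mem_bot.1 h34
      exact (mul_inv_eq_iff_eq_mul.1 (mul_inv_eq_one.1 h4)).symm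
    have hc := hcw w ((hW0mem w).2 (Or.inr (Or.inl rfl)))
    have hc2 := hcw w2 ((hW0mem w2).2 (Or.inr (Or.inr (Or.inl rfl))))
    rw [Subgroup.mem_subgroupOf]
    obtain ⟨i, hi | hi⟩ := hDelem _ hhD
    · rw [hi] at hc ⊢
      obtain ⟨k, rfl⟩ := hy3z i hc
      exact ⟨k, by show (y ^ 3) ^ k = _; rw [← zpow_natCast, ← zpow_mul]; norm_num⟩
    · exfalso
      rw [hi] at hc hc2
      have hyi : Commute (y ^ i) w := by
        have := hc.mul_left hbw
        rwa [mul_assoc, hb2, mul_one] at this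
      obtain ⟨k, rfl⟩ := hy3z i hyi
      have hw2c : Commute (y ^ ((3 : ℤ) * k)) w2 := by
        have hy3w2 : Commute (y ^ 3) w2 := by
          rw [hw2def]
          exact ((Commute.self_pow y 3).symm.mul_right hy3).mul_right (Commute.self_pow y 3).symm.inv_right
        rw [zpow_mul, show y ^ (3 : ℤ) = y ^ 3 from zpow_natCast y 3]
        exact hy3w2.zpow_left k
      have hb' : Commute b w2 := by
        have := hw2c.inv_left.mul_left hc2
        rwa [inv_mul_cancel_left] at this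
      exact hw3w2 (by rw [← hbw2, hb'.eq, mul_assoc, hb2, mul_one])
  -- orders
  have h3y : 3 ∣ orderOf y := by
    have h := hy3z (orderOf y) (by rw [zpow_natCast, pow_orderOf_eq_one]; exact Commute.one_left w)
    exact_mod_cast h
  have hDcard : 2 * orderOf y ≤ Nat.card D := by
    have hle : Subgroup.zpowers y ≤ D := Subgroup.zpowers_le.2 hyD
    have hd := Subgroup.card_dvd_of_le hle
    rw [Nat.card_zpowers] at hd
    obtain ⟨m, hm⟩ := hd
    rcases m with _ | _ | m
    · have := Nat.card_pos (α := D); omega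
    · exfalso
      exact hbnot ((Subgroup.eq_of_le_of_card_ge hle (by rw [Nat.card_zpowers, hm]; simp)).ge hbD)
    · rw [hm, mul_comm (orderOf y)]; exact Nat.mul_le_mul_right _ (by omega)
  have hHcard : Nat.card H = 4 * Nat.card D := by
    rw [← D'.card_mul_index, hidx, Nat.card_congr (Subgroup.subgroupOfEquivOfLe hDH).toEquiv, mul_comm]
  have hperm : Nat.card (Equiv.Perm (H ⧸ D')) = 24 := by
    rw [Nat.card_perm, ← Subgroup.index_eq_card, hidx]; rfl
  have hzH : Subgroup.zpowers (y ^ 3) ≤ H := (Subgroup.zpowers_le.2 (pow_mem hyD 3)).trans hDH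
  have hkc : Nat.card f.ker * 3 ≤ orderOf y := by
    have h1 := Nat.le_of_dvd Nat.card_pos (Subgroup.card_dvd_of_le hker)
    rw [Nat.card_congr (Subgroup.subgroupOfEquivOfLe hzH).toEquiv, Nat.card_zpowers,
      orderOf_pow_of_dvd (by norm_num) h3y] at h1
    have := Nat.div_mul_cancel h3y
    omega
  have hsurj : Function.Surjective f := by
    rw [← MonoidHom.range_eq_top]
    refine Subgroup.eq_top_of_le_card _ ?_
    rw [hperm]
    by_contra hlt
    push Not at hlt
    have h : Nat.card f.ker * Nat.card f.range = Nat.card H := by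
      rw [← Subgroup.index_ker, Subgroup.card_mul_index]
    have hpos := orderOf_pos y
    have h1 : Nat.card f.ker * Nat.card f.range ≤ Nat.card f.ker * 23 := Nat.mul_le_mul_left _ (by omega)
    omega
  obtain ⟨e⟩ : Nonempty (H ⧸ D' ≃ Fin 4) :=
    ⟨Finite.equivFinOfCardEq (by rw [← Subgroup.index_eq_card, hidx])⟩
  let g : H →* Equiv.Perm (Fin 4) := e.permCongrHom.toMonoidHom.comp f
  have hg : Function.Surjective g := e.permCongrHom.surjective.comp hsurj
  have hR : (g.ker.map H.subtype).subgroupOf H = g.ker :=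
    Subgroup.comap_map_eq_self_of_injective H.subtype_injective g.ker
  have hn' : ((g.ker.map H.subtype).subgroupOf H).Normal := by rw [hR]; exact g.normal_ker
  exact ⟨H, g.ker.map H.subtype, hn', ⟨(QuotientGroup.quotientMulEquivOfEq hR).trans
    (QuotientGroup.quotientKerEquivOfSurjective g hg)⟩⟩

/-- The Thompson subgroup centralizes a normal module generated by Sylow fixed points. -/
theorem maxElem_le_centralizer [Group.IsSolvable G] (hS4 : ¬ Cfsg.Involves (Equiv.Perm (Fin 4)) G)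
    (S : Sylow 2 G) (hcl : ∀ s ∈ (S : Subgroup G), ∀ t ∈ (S : Subgroup G), ∀ r ∈ (S : Subgroup G), Commute ⁅s, t⁆ r)
    (W : Subgroup G) [W.Normal] (hW : IsElementaryAbelian 2 W) (hWS : W ≤ (S : Subgroup G))
    (hO : pCore 2 (G ⧸ Subgroup.centralizer (W : Set G)) = ⊥)
    (A : Subgroup G) (hAS : A ≤ (S : Subgroup G)) (hA : IsElementaryAbelian 2 A)
    (hmax : ∀ B : Subgroup G, B ≤ (S : Subgroup G) → IsElementaryAbelian 2 B → Nat.card B ≤ Nat.card A) :
    A ≤ Subgroup.centralizer (W : Set G) := by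
  by_contra hne
  set C := Subgroup.centralizer (W : Set G) with hC
  set q := QuotientGroup.mk' C with hq
  have hqC : ∀ g, q g = 1 ↔ g ∈ C := fun g => QuotientGroup.eq_one_iff g
  have hBne : A.map q ≠ ⊥ := fun h => hne fun a ha =>
    (hqC a).1 (Subgroup.mem_bot.1 (h ▸ Subgroup.mem_map_of_mem q ha))
  obtain ⟨B0, bq, xq, r, hB0, hidx, hbq, ⟨kq, hkq⟩, hinv, hcomm, hr, hr2, hrx⟩ :=
    exists_inverted_of_pCore_eq_bot hO (A.map q) (elem_map hA q) hBne
  obtain ⟨b, hb, rfl⟩ := hbq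
  obtain ⟨k, rfl⟩ := QuotientGroup.mk'_surjective C kq
  have hb2 : b * b = 1 := by rw [← sq]; exact hA.2 b hb
  have hbi : b⁻¹ = b := inv_eq_of_mul_eq_one_right hb2
  haveI := Fact.mk hr
  have hrodd : Odd r := hr.odd_of_ne_two hr2
  -- the element `y`
  set z := k⁻¹ * (b * k * b) with hz
  have hzx : q z = xq := by rw [hkq, hz, map_mul, map_mul, map_mul, map_inv]
  have hbz : b * z * b = z⁻¹ := by
    rw [hz, mul_inv_rev, inv_inv, mul_inv_rev, mul_inv_rev, hbi]
    calc b * (k⁻¹ * (b * k * b)) * b = b * k⁻¹ * b * k * (b * b) := by group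
      _ = b * (k⁻¹ * b) * k := by rw [hb2, mul_one]; group
  obtain ⟨i, hi⟩ : ∃ i : ℕ, orderOf (xq ^ i) = r := by
    refine ⟨orderOf xq / r, ?_⟩
    rw [orderOf_pow_of_dvd (Nat.div_pos (Nat.le_of_dvd (orderOf_pos xq) hrx) hr.pos).ne'
      (Nat.div_dvd_of_dvd hrx), Nat.div_div_self hrx (orderOf_pos xq).ne']
  set z1 := z ^ i with hz1
  set y := z1 ^ (ordCompl[r] (orderOf z1)) with hy
  have hqz1 : q z1 = xq ^ i := by rw [hz1, map_pow, hzx]
  have hm : ¬ r ∣ ordCompl[r] (orderOf z1) := Nat.not_dvd_ordCompl hr (orderOf_pos z1).ne'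
  have hqy : orderOf (q y) = r := by
    rw [hy, map_pow, hqz1, Nat.Coprime.orderOf_pow, hi]
    rw [hi]; exact hr.coprime_iff_not_dvd.2 hm
  have hby : b * y * b = y⁻¹ := by
    have h : ∀ n : ℕ, b * z ^ n * b = (z ^ n)⁻¹ := fun n => by
      have h := conj_pow (i := n) (a := b) (b := z)
      rw [hbi, hbz, inv_pow] at h
      exact h.symm
    rw [hy, hz1, ← pow_mul]; exact h _
  have hyord : ∃ e : ℕ, orderOf y = r ^ e := by
    refine ⟨(orderOf z1).factorization r, ?_⟩
    rw [hy, orderOf_pow_of_dvd (Nat.ordCompl_pos r (orderOf_pos z1).ne').ne' (Nat.ordCompl_dvd _ _),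
      Nat.div_div_self (Nat.ordProj_dvd _ _) (orderOf_pos z1).ne']
  have hyr : y ^ r ∈ C := by rw [← hqC, map_pow, ← hqy, pow_orderOf_eq_one]
  have hyodd : Odd (orderOf y) := by
    obtain ⟨e, he⟩ := hyord
    rw [he]; exact hrodd.pow
  have hyP : IsPGroup r (Subgroup.zpowers y) := by
    obtain ⟨e, he⟩ := hyord
    exact IsPGroup.of_card (by rw [Nat.card_zpowers, he])
  -- fixed by a square
  have hhalf : ∀ t ∈ W, Commute (y ^ 2) t → Commute y t := by
    intro t _ ht
    obtain ⟨j, hj⟩ := hyodd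
    have e : (y ^ 2) ^ (j + 1) = y := by
      rw [← pow_mul, show 2 * (j + 1) = orderOf y + 1 by omega, pow_succ, pow_orderOf_eq_one, one_mul]
    have := ht.pow_left (j + 1)
    rwa [e] at this
  have hWconj : ∀ g : G, ∀ t ∈ W, g * t * g⁻¹ ∈ W := fun g t ht => (inferInstance : W.Normal).conj_mem t ht g
  have hCc : ∀ g ∈ C, ∀ t ∈ W, Commute g t := fun g hg t ht => (Subgroup.mem_centralizer_iff.1 hg t ht).symm
  -- the hyperplane
  set A0 := A ⊓ B0.comap q with hA0
  have hA0idx : A0.relIndex A ≤ 2 := by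
    rw [hA0, Subgroup.inf_relIndex_left, Subgroup.relIndex_comap]
    exact hidx
  have hyA0 : ∀ d ∈ A0, y * d * y⁻¹ * d⁻¹ ∈ C := by
    intro d hd
    have hc : Commute (q y) (q d) := by
      rw [hy, map_pow, hqz1, ← pow_mul]
      exact (hcomm (q d) hd.2).pow_left _
    rw [← hqC, map_mul, map_mul, map_mul, map_inv, map_inv, hc.eq, mul_inv_cancel_right, mul_inv_cancel]
  have hA0conj : ∀ d ∈ A0, ∀ t ∈ W, (y * d * y⁻¹) * t * (y * d * y⁻¹)⁻¹ = d * t * d⁻¹ := by
    intro d hd t ht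
    calc (y * d * y⁻¹) * t * (y * d * y⁻¹)⁻¹
        = (y * d * y⁻¹ * d⁻¹) * (d * t * d⁻¹) * (y * d * y⁻¹ * d⁻¹)⁻¹ := by group
      _ = d * t * d⁻¹ := by rw [(hCc _ (hyA0 d hd) _ (hWconj d t ht)).eq, mul_inv_cancel_right]
  set U := W ⊓ Subgroup.centralizer (A0 : Set G) with hU
  set F := W ⊓ Subgroup.centralizer (A : Set G) with hF
  set Fb := U ⊓ Subgroup.centralizer ({b} : Set G) with hFb
  have hUc : ∀ t ∈ U, ∀ d ∈ A0, Commute d t := fun t ht d hd => Subgroup.mem_centralizer_iff.1 ht.2 d hd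
  have hUy : ∀ t ∈ U, y * t * y⁻¹ ∈ U := by
    intro t ht
    refine ⟨hWconj y t ht.1, Subgroup.mem_centralizer_iff.2 fun d hd => ?_⟩
    have h := hA0conj d hd _ (hWconj y t ht.1)
    have e : (y * d * y⁻¹) * (y * t * y⁻¹) * (y * d * y⁻¹)⁻¹ = y * t * y⁻¹ := by
      calc (y * d * y⁻¹) * (y * t * y⁻¹) * (y * d * y⁻¹)⁻¹ = y * (d * t * d⁻¹) * y⁻¹ := by group
        _ = y * t * y⁻¹ := by rw [(hUc t ht d hd).eq, mul_inv_cancel_right]
    exact mul_inv_eq_iff_eq_mul.1 (h.symm.trans e)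
  -- `y` maps `W` into `U`
  have hWU : ∀ t ∈ W, y * t * y⁻¹ * t⁻¹ ∈ U := by
    intro t ht
    refine ⟨(show y * t * y⁻¹ * t⁻¹ ∈ W from mul_mem (hWconj y t ht) (inv_mem ht)),
      Subgroup.mem_centralizer_iff.2 fun d hd => ?_⟩
    set c := d * t * d⁻¹ * t⁻¹ with hc
    have hcW : c ∈ W := mul_mem (hWconj d t ht) (inv_mem ht)
    have hcb : ∀ s ∈ W, Commute b (d * s * d⁻¹ * s⁻¹) := fun s hs =>
      (hcl d (hAS hd.1) s (hWS hs) b (hAS hb)).symm
    have hyc : y * c * y⁻¹ = d * (y * t * y⁻¹) * d⁻¹ * (y * t * y⁻¹)⁻¹ := by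
      rw [← hA0conj d hd _ (hWconj y t ht), hc]; group
    have h1 : Commute b c := hcb t ht
    have h2 : Commute b (y * c * y⁻¹) := by rw [hyc]; exact hcb _ (hWconj y t ht)
    have h3 : y * c * y⁻¹ = y⁻¹ * c * y := by
      calc y * c * y⁻¹ = b * (y * c * y⁻¹) * b := by rw [h2.eq, mul_assoc (y * c * y⁻¹), hb2, mul_one]
        _ = (b * y * b) * (b * c * b) * (b * y * b)⁻¹ := by
          rw [conj_split hb2, mul_inv_rev, mul_inv_rev, hbi, mul_assoc b y⁻¹ b]
        _ = y⁻¹ * c * y := by rw [hby, h1.eq, mul_assoc c, hb2, mul_one, inv_inv]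
    have h4 : Commute (y ^ 2) c := by
      show y ^ 2 * c = c * y ^ 2
      calc y ^ 2 * c = y * (y * c * y⁻¹) * y := by rw [pow_two]; group
        _ = c * y ^ 2 := by rw [h3, pow_two]; group
    have h5 : y * c * y⁻¹ = c := by rw [(hhalf c hcW h4).eq, mul_inv_cancel_right]
    rw [h5, hc] at hyc
    have e : d * (y * t * y⁻¹) * d⁻¹ = d * t * d⁻¹ * t⁻¹ * (y * t * y⁻¹) := by
      rw [hyc, inv_mul_cancel_right]
    have e2 : d * (y * t * y⁻¹ * t⁻¹) * d⁻¹ = y * t * y⁻¹ * t⁻¹ := by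
      have hw := elem_comm hW (mul_mem (hWconj d t ht) (inv_mem ht)) (hWconj y t ht)
      calc d * (y * t * y⁻¹ * t⁻¹) * d⁻¹ = d * (y * t * y⁻¹) * d⁻¹ * (d * t * d⁻¹)⁻¹ := by group
        _ = (d * t * d⁻¹ * t⁻¹) * (y * t * y⁻¹) * (d * t * d⁻¹)⁻¹ := by rw [e]
        _ = y * t * y⁻¹ * t⁻¹ := by
          rw [hw, elem_comm hW (hWconj d t ht) (inv_mem ht)]; group
    exact mul_inv_eq_iff_eq_mul.1 e2
  -- `y` does not centralize `U`
  set T := U ⊓ Subgroup.centralizer ({y} : Set G) with hT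
  have hUT : ¬ U ≤ T := by
    intro hle
    have hyC : y ∈ C := by
      refine Subgroup.mem_centralizer_iff.2 fun t ht => ?_
      set v := y * t * y⁻¹ * t⁻¹ with hv
      have hvy : Commute y v := (Subgroup.mem_centralizer_singleton_iff.1 (hle (hWU t ht)).2).symm
      have hn : ∀ n : ℕ, y ^ n * t * (y ^ n)⁻¹ = v ^ n * t := by
        intro n
        induction n with
        | zero => simp
        | succ n ih =>
          calc y ^ (n + 1) * t * (y ^ (n + 1))⁻¹ = y * (y ^ n * t * (y ^ n)⁻¹) * y⁻¹ := by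
                rw [pow_succ']; group
            _ = y * v ^ n * y⁻¹ * (y * t * y⁻¹) := by rw [ih]; group
            _ = v ^ n * (y * t * y⁻¹) := by rw [(hvy.pow_right n).eq, mul_inv_cancel_right]
            _ = v ^ (n + 1) * t := by rw [pow_succ, hv]; group
      have h1 := hn r
      rw [(hCc _ hyr t ht).eq, mul_inv_cancel_right, right_eq_mul] at h1
      have h2 : v ^ 2 = 1 := hW.2 v (mul_mem (hWconj y t ht) (inv_mem ht))
      obtain ⟨j, hj⟩ := hrodd
      rw [hj, pow_succ, pow_mul, h2, one_pow, one_mul, hv, mul_inv_eq_one, mul_inv_eq_iff_eq_mul] at h1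
      exact h1.symm
    rw [← hqC, ← orderOf_eq_one_iff, hqy] at hyC
    exact hr.ne_one hyC
  -- counting
  have hUF : Nat.card U ≤ 2 * Nat.card F := by
    have hUA : U ≤ Subgroup.centralizer (A0 : Set G) := inf_le_right
    have he := elem_sup (elem_le hA inf_le_left) (elem_le hW inf_le_left)
      (Subgroup.le_centralizer_iff.1 hUA)
    have h1 := hmax _ (sup_le (inf_le_left.trans hAS) (inf_le_left.trans hWS)) he
    have h2 := card_sup_mul_card_inf (Subgroup.le_centralizer_iff.1 hUA)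
    have h3 : A0 ⊓ U ≤ F := fun t ht => ⟨ht.2.1, Subgroup.mem_centralizer_iff.2 fun a ha =>
      elem_comm hA ha ht.1.1⟩
    have h4 : Nat.card A ≤ 2 * Nat.card A0 := by
      have h := (A0.subgroupOf A).card_mul_index
      rw [Nat.card_congr (Subgroup.subgroupOfEquivOfLe inf_le_left).toEquiv] at h
      rw [← h, mul_comm 2]
      exact Nat.mul_le_mul_left _ hA0idx
    refine Nat.le_of_mul_le_mul_left ?_ (Nat.card_pos (α := A0))
    calc Nat.card A0 * Nat.card U = Nat.card ↥(A0 ⊔ U) * Nat.card ↥(A0 ⊓ U) := h2.symm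
      _ ≤ (2 * Nat.card A0) * Nat.card F := Nat.mul_le_mul (h1.trans h4) (Subgroup.card_le_of_le h3)
      _ = Nat.card A0 * (2 * Nat.card F) := by ring
  have hFFb : F ≤ Fb := fun t ht => ⟨⟨ht.1, Subgroup.centralizer_le (fun x hx => hx.1) ht.2⟩,
    Subgroup.mem_centralizer_singleton_iff.2 (Subgroup.mem_centralizer_iff.1 ht.2 b hb).symm⟩
  have hUFb : Nat.card U ≤ 2 * Nat.card Fb :=
    hUF.trans (Nat.mul_le_mul_left 2 (Subgroup.card_le_of_le hFFb))
  set Fb' := Fb.map (MulAut.conj y).toMonoidHom with hFb'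
  have hFbU : Fb ≤ U := inf_le_left
  have hFb'U : Fb' ≤ U := by
    rintro _ ⟨t, ht, rfl⟩; exact hUy t (hFbU ht)
  have hmeet : Fb ⊓ Fb' ≤ T := by
    rintro t ⟨ht, s, hs, hst⟩
    refine ⟨hFbU ht, Subgroup.mem_centralizer_singleton_iff.2 ((hhalf t (hFbU ht).1 ?_).eq).symm⟩
    have h1 : Commute b t := (Subgroup.mem_centralizer_singleton_iff.1 ht.2).symm
    have h2 : Commute (y * b * y⁻¹) t := by
      have hs' : Commute b s := (Subgroup.mem_centralizer_singleton_iff.1 hs.2).symm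
      rw [← hst]
      exact hs'.map (MulAut.conj y)
    have e : y * b * y⁻¹ * b = y ^ 2 := by
      calc y * b * y⁻¹ * b = y * (b * y * b)⁻¹⁻¹⁻¹ := by rw [inv_inv, mul_inv_rev, mul_inv_rev, hbi]; group
        _ = y ^ 2 := by rw [hby, inv_inv, inv_inv, pow_two]
    rw [← e]
    exact h2.mul_left h1
  have hU4 : Nat.card U ≤ 4 * Nat.card T := by
    have hc : Fb ≤ Subgroup.centralizer (Fb' : Set G) := fun s hs =>
      Subgroup.mem_centralizer_iff.2 fun t ht => elem_comm hW (hFb'U ht).1 (hFbU hs).1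
    have h2 := card_sup_mul_card_inf hc
    have h3 : Nat.card Fb' = Nat.card Fb := Subgroup.card_map_of_injective (MulAut.conj y).injective
    have h4 : Nat.card Fb * Nat.card Fb ≤ Nat.card U * Nat.card T := by
      calc Nat.card Fb * Nat.card Fb = Nat.card ↥(Fb ⊔ Fb') * Nat.card ↥(Fb ⊓ Fb') := by rw [h2, h3]
        _ ≤ _ := Nat.mul_le_mul (Subgroup.card_le_of_le (sup_le hFbU hFb'U)) (Subgroup.card_le_of_le hmeet)
    refine Nat.le_of_mul_le_mul_left ?_ (Nat.card_pos (α := U))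
    calc Nat.card U * Nat.card U ≤ (2 * Nat.card Fb) * (2 * Nat.card Fb) := Nat.mul_le_mul hUFb hUFb
      _ = 4 * (Nat.card Fb * Nat.card Fb) := by ring
      _ ≤ 4 * (Nat.card U * Nat.card T) := Nat.mul_le_mul_left 4 h4
      _ = Nat.card U * (4 * Nat.card T) := by ring
  -- `r = 3`
  have hTU : T ≤ U := inf_le_left
  haveI : Fact (Nat.Prime 2) := ⟨Nat.prime_two⟩
  obtain ⟨m, hm'⟩ := IsPGroup.iff_card.1 (elem_isPGroup (elem_le hW (inf_le_left : U ≤ W)))
  obtain ⟨n, hnm, hn⟩ := (Nat.dvd_prime_pow Nat.prime_two).1 (hm' ▸ Subgroup.card_dvd_of_le hTU)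
  have hlt : n < m := lt_of_le_of_ne hnm fun h => hUT
    (Subgroup.eq_of_le_of_card_ge hTU (by rw [hm', hn, h])).ge
  have hm2 : m ≤ n + 2 := by
    rw [hm', hn, show 4 * 2 ^ n = 2 ^ (n + 2) by ring] at hU4
    exact (Nat.pow_le_pow_iff_right (by norm_num)).1 hU4
  have hmod : Nat.card U ≡ Nat.card T [MOD r] := by
    have h := Transfer.card_modEq_card_inf_centralizer (p := r) U (Subgroup.zpowers y) hyP
      (Subgroup.zpowers_le.2 (Subgroup.mem_normalizer_fintype hUy))
    rwa [show Subgroup.centralizer ((Subgroup.zpowers y : Subgroup G) : Set G) =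
      Subgroup.centralizer ({y} : Set G) by
        rw [Subgroup.zpowers_eq_closure, Subgroup.centralizer_closure]] at h
  rw [hm', hn] at hmod
  have hm2' : m = n + 2 ∧ r = 3 := by
    have hcop : Nat.gcd r (2 ^ n) = 1 :=
      ((Nat.coprime_primes hr Nat.prime_two).2 hr2).pow_right n
    obtain ⟨j, rfl⟩ : ∃ j, m = n + (j + 1) := ⟨m - n - 1, by omega⟩
    rw [pow_add] at hmod
    have hmod' : 2 ^ n * 2 ^ (j + 1) ≡ 2 ^ n * 1 [MOD r] := by rwa [mul_one]
    have h := Nat.ModEq.cancel_left_of_coprime hcop hmod'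
    rcases j with _ | _ | j
    · exfalso
      exact hr.not_dvd_one ((Nat.modEq_iff_dvd' (by norm_num)).1 h.symm)
    · have h' : r ∣ 3 := (Nat.modEq_iff_dvd' (by norm_num)).1 h.symm
      exact ⟨by omega, (Nat.prime_dvd_prime_iff_eq hr Nat.prime_three).1 h'⟩
    · omega
  obtain ⟨hmn, rfl⟩ := hm2'
  obtain ⟨v, hvFb, hvT⟩ : ∃ v ∈ Fb, v ∉ T := by
    refine SetLike.not_le_iff_exists.1 fun hle => ?_
    have := hUFb.trans (Nat.mul_le_mul_left 2 (Subgroup.card_le_of_le hle))
    rw [hm', hn, hmn, show 2 ^ (n + 2) = 4 * 2 ^ n by ring] at this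
    have := Nat.pow_pos (n := n) (show 0 < 2 by norm_num)
    omega
  have hvW : v ∈ W := (hFbU hvFb).1
  set s1 := y * v * y⁻¹ with hs1
  set s2 := y⁻¹ * v * y with hs2
  set w := s1 * s2 with hw
  have hs1W : s1 ∈ W := hWconj y v hvW
  have hs2W : s2 ∈ W := by
    have := hWconj y⁻¹ v hvW
    rwa [inv_inv] at this
  have hwW : w ∈ W := mul_mem hs1W hs2W
  have hsq : ∀ t ∈ W, t * t = 1 := fun t ht => by rw [← sq]; exact hW.2 t ht
  have hbv : Commute b v := (Subgroup.mem_centralizer_singleton_iff.1 hvFb.2).symm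
  have hyi : b * y⁻¹ * b = y := by
    have := congrArg (·⁻¹) hby
    simpa [mul_inv_rev, hbi, mul_assoc] using this
  have hbv' : b * v * b = v := by rw [hbv.eq, mul_assoc, hb2, mul_one]
  have hins : ∀ p' q' r' : G, b * (p' * q' * r') * b = (b * p' * b) * (b * q' * b) * (b * r' * b) :=
    conj_split hb2
  have hbs1 : b * s1 * b = s2 := by rw [hs1, hins, hby, hyi, hbv', ← hs2]
  have hbs2 : b * s2 * b = s1 := by rw [hs2, hins, hby, hyi, hbv', ← hs1]
  have hbw : Commute b w := by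
    show b * w = w * b
    calc b * w = b * s1 * (b * b) * s2 * (b * b) := by rw [hb2, hw]; group
      _ = (b * s1 * b) * (b * s2 * b) * b := by group
      _ = s2 * s1 * b := by rw [hbs1, hbs2]
      _ = w * b := by rw [elem_comm hW hs2W hs1W]
  have hy3v : y ^ 3 * v * (y ^ 3)⁻¹ = v := by rw [(hCc _ hyr v hvW).eq, mul_inv_cancel_right]
  have hyy : y * s1 * y⁻¹ = s2 := by
    calc y * s1 * y⁻¹ = y⁻¹ * (y ^ 3 * v * (y ^ 3)⁻¹) * y := by rw [hs1, pow_succ, pow_two]; group
      _ = s2 := by rw [hy3v]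
  have hyw : y * w * y⁻¹ = s2 * v := by
    calc y * w * y⁻¹ = (y * s1 * y⁻¹) * (y * s2 * y⁻¹) := by rw [hw]; group
      _ = s2 * v := by rw [hyy, hs2]; group
  have hyyw : y * (y * w * y⁻¹) * y⁻¹ = w * (y * w * y⁻¹) := by
    rw [hyw]
    calc y * (s2 * v) * y⁻¹ = (y * s2 * y⁻¹) * (y * v * y⁻¹) := by group
      _ = v * s1 := by rw [← hs1, hs2]; group
      _ = s1 * (s2 * s2) * v := by rw [hsq s2 hs2W, mul_one, elem_comm hW hvW hs1W]
      _ = w * (s2 * v) := by rw [hw]; group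
  have hne' : ¬ Commute y w := by
    intro hc
    have e : w = 1 := by
      have h := hyyw
      rw [show y * w * y⁻¹ = w by rw [hc.eq, mul_inv_cancel_right],
        show y * w * y⁻¹ = w by rw [hc.eq, mul_inv_cancel_right]] at h
      rwa [hsq w hwW] at h
    refine hvT ⟨hFbU hvFb, Subgroup.mem_centralizer_singleton_iff.2 ((hhalf v hvW ?_).eq).symm⟩
    have e2 : s1 = s2 := by
      calc s1 = s1 * (s2 * s2) := by rw [hsq s2 hs2W, mul_one]
        _ = w * s2 := by rw [hw]; group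
        _ = s2 := by rw [e, one_mul]
    show y ^ 2 * v = v * y ^ 2
    calc y ^ 2 * v = y * s1 * y := by rw [hs1, pow_two]; group
      _ = v * y ^ 2 := by rw [e2, hs2, pow_two]; group
  refine hS4 (involves_perm_four (hsq w hwW) (elem_comm hW hwW (hWconj y w hwW)) hne' hyyw hb2 hby hbw
    hyodd ?_ (hCc _ hyr w hwW))
  intro hbz'
  obtain ⟨j, hj⟩ := Subgroup.mem_zpowers_iff.1 hbz'
  have h1 : Commute b y := hj ▸ (Commute.refl y).zpow_left j
  rw [h1.eq, mul_assoc, hb2, mul_one] at hby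
  have h2 : y ^ 2 = 1 := by rw [sq]; exact mul_eq_one_iff_eq_inv.2 hby
  obtain ⟨j', hj'⟩ := hyodd
  have h3 : y = 1 := by
    have := pow_orderOf_eq_one y
    rwa [hj', pow_succ, pow_mul, h2, one_pow, one_mul] at this
  rw [h3, map_one, orderOf_one] at hqy
  omega

/-- The factorization when `O(G) = 1`. -/
theorem thompson_normal_of_class_two [Group.IsSolvable G] (hS4 : ¬ Cfsg.Involves (Equiv.Perm (Fin 4)) G)
    (hO : pPrimeCore 2 G = ⊥) (S : Sylow 2 G)
    (hcl : ∀ s ∈ (S : Subgroup G), ∀ t ∈ (S : Subgroup G), ∀ r ∈ (S : Subgroup G), Commute ⁅s, t⁆ r) :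
    (thompsonSubgroupOf 2 (S : Subgroup G)).Normal := by
  haveI : Fact (Nat.Prime 2) := ⟨Nat.prime_two⟩
  haveI := Transfer.pCore_normal (G := G) 2
  set Q := pCore 2 G with hQ
  have hQS : Q ≤ (S : Subgroup G) := Transfer.pCore_le_sylow S
  have hCQ : Subgroup.centralizer (Q : Set G) ≤ Q := Solv.centralizer_pCore_le 2 hO
  set W := ⨆ T : Sylow 2 G, omegaZ 2 (T : Subgroup G) with hW
  haveI hWn : W.Normal := iSup_omegaZ_normal
  have hOT : ∀ T : Sylow 2 G, omegaZ 2 (T : Subgroup G) ≤ Q ⊓ Subgroup.centralizer (Q : Set G) := by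
    intro T x hx
    have h1 := omegaOne_le _ hx
    have h2 : x ∈ Subgroup.centralizer (Q : Set G) :=
      Subgroup.centralizer_le (Transfer.pCore_le_sylow T) h1.2
    exact ⟨hCQ h2, h2⟩
  have hWQ : W ≤ Q := iSup_le fun T => (hOT T).trans inf_le_left
  have hWc : W ≤ Subgroup.centralizer (Q : Set G) := iSup_le fun T => (hOT T).trans inf_le_right
  have hWel : IsElementaryAbelian 2 W := by
    refine elem_le (omegaOne_elem (H := Q ⊓ Subgroup.centralizer (Q : Set G)) fun x hx y hy =>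
      Subgroup.mem_centralizer_iff.1 hy.2 x hx.1) ?_
    refine iSup_le fun T => (Subgroup.closure_le _).2 fun x hx => mem_omegaOne (hOT T (mem_omegaOne hx.1 hx.2)) hx.2
  have hWgen : W ≤ ⨆ T : Sylow 2 G, W ⊓ Subgroup.centralizer ((T : Subgroup G) : Set G) :=
    iSup_le fun T => le_iSup_of_le T (le_inf (le_iSup (fun T : Sylow 2 G => omegaZ 2 (T : Subgroup G)) T)
      ((omegaOne_le _).trans inf_le_right))
  have hOq := pCore_quotient_eq_bot W hWgen
  set C := Subgroup.centralizer (W : Set G) with hC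
  -- the subgroup acting trivially on `Q / W`
  let N : Subgroup G :=
    { carrier := {g | g ∈ C ∧ ∀ t ∈ Q, g * t * g⁻¹ * t⁻¹ ∈ W}
      one_mem' := ⟨one_mem C, fun t _ => by simp⟩
      mul_mem' := by
        rintro g h ⟨hg, hg'⟩ ⟨hh, hh'⟩
        refine ⟨mul_mem hg hh, fun t ht => ?_⟩
        have e : g * h * t * (g * h)⁻¹ * t⁻¹ = (g * (h * t * h⁻¹ * t⁻¹) * g⁻¹) * (g * t * g⁻¹ * t⁻¹) := by group
        rw [e]
        exact mul_mem (hWn.conj_mem _ (hh' t ht) g) (hg' t ht)
      inv_mem' := by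
        rintro g ⟨hg, hg'⟩
        refine ⟨inv_mem hg, fun t ht => ?_⟩
        have e : g⁻¹ * t * g⁻¹⁻¹ * t⁻¹ = g⁻¹ * (g * t * g⁻¹ * t⁻¹)⁻¹ * g⁻¹⁻¹ := by group
        rw [e]
        exact hWn.conj_mem _ (inv_mem (hg' t ht)) g⁻¹ }
  have hNn : N.Normal := by
    constructor
    rintro n ⟨hn, hn'⟩ g
    refine ⟨(inferInstance : C.Normal).conj_mem n hn g, fun t ht => ?_⟩
    have e : g * n * g⁻¹ * t * (g * n * g⁻¹)⁻¹ * t⁻¹ =
        g * (n * (g⁻¹ * t * g⁻¹⁻¹) * n⁻¹ * (g⁻¹ * t * g⁻¹⁻¹)⁻¹) * g⁻¹ := by group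
    rw [e]
    exact hWn.conj_mem _ (hn' _ ((inferInstance : Q.Normal).conj_mem t ht g⁻¹)) g
  have hN2 : IsPGroup 2 N := by
    rintro ⟨g, hg, hg'⟩
    have hsq : g * g ∈ Q := by
      refine hCQ (Subgroup.mem_centralizer_iff.2 fun t ht => ?_)
      set c := g * t * g⁻¹ * t⁻¹ with hc
      have hgc : Commute g c := (Subgroup.mem_centralizer_iff.1 hg c (hg' t ht)).symm
      have h1 : g * g * t * (g * g)⁻¹ = c * c * t := by
        calc g * g * t * (g * g)⁻¹ = (g * c * g⁻¹) * (g * t * g⁻¹) := by rw [hc]; group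
          _ = c * (c * t) := by rw [hgc.eq, mul_inv_cancel_right, hc]; group
          _ = c * c * t := (mul_assoc c c t).symm
      rw [← sq c, hWel.2 c (hg' t ht), one_mul] at h1
      exact (mul_inv_eq_iff_eq_mul.1 h1).symm
    obtain ⟨k, hk⟩ := Transfer.pCore_isPGroup (G := G) 2 ⟨g * g, hsq⟩
    refine ⟨k + 1, Subtype.ext ?_⟩
    show g ^ 2 ^ (k + 1) = 1
    rw [pow_succ', pow_mul, sq]
    exact congrArg Subtype.val hk
  have hNQ : N ≤ Q := Transfer.le_pCore hNn hN2
  have hJ : thompsonSubgroupOf 2 (S : Subgroup G) ≤ Q := by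
    rw [thompsonSubgroupOf_eq_iSup]
    refine iSup₂_le fun A hA a ha => hNQ ⟨?_, fun t ht => ?_⟩
    · exact maxElem_le_centralizer hS4 S hcl W hWel (hWQ.trans hQS) hOq A hA.1 hA.2.1 hA.2.2 ha
    · have haS := hA.1 ha
      have htS := hQS ht
      set c := a * t * a⁻¹ * t⁻¹ with hc
      have hcS : c ∈ (S : Subgroup G) := mul_mem (mul_mem (mul_mem haS htS) (inv_mem haS)) (inv_mem htS)
      have hcen : ∀ s ∈ (S : Subgroup G), Commute c s := fun s hs => hcl a haS t htS s hs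
      refine le_iSup (fun T : Sylow 2 G => omegaZ 2 (T : Subgroup G)) S (mem_omegaOne
        ⟨hcS, Subgroup.mem_centralizer_iff.2 fun s hs => (hcen s hs).eq.symm⟩ ?_)
      have ha2 : a * a = 1 := by rw [← sq]; exact hA.2.1.2 a ha
      have hai : a⁻¹ = a := inv_eq_of_mul_eq_one_right ha2
      calc c ^ 2 = c * (a * t * a⁻¹ * t⁻¹) := by rw [sq]
        _ = a * c * (t * a⁻¹ * t⁻¹) := by rw [← mul_assoc, ← mul_assoc, ← mul_assoc, (hcen a haS).eq]; group
        _ = (a * a) * t * (a⁻¹ * t⁻¹ * t * a⁻¹) * t⁻¹ := by rw [hc]; group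
        _ = 1 := by rw [ha2, hai, one_mul, mul_assoc a t⁻¹ t, inv_mul_cancel, mul_one, ha2, mul_one, mul_inv_cancel]
  rw [← thompsonSubgroupOf_eq_of_le hQS hJ]
  refine ⟨fun x hx g => ?_⟩
  have h := thompsonSubgroupOf_conj (p := 2) Q g
  have hQg : Q.map (MulAut.conj g).toMonoidHom = Q := by
    ext t
    constructor
    · rintro ⟨s, hs, rfl⟩; exact (inferInstance : Q.Normal).conj_mem s hs g
    · intro ht
      exact ⟨g⁻¹ * t * g, by simpa using (inferInstance : Q.Normal).conj_mem t ht g⁻¹, by simp [mul_assoc]⟩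
  rw [hQg] at h
  rw [h]
  exact ⟨x, hx, rfl⟩

/-- Solvable `S₄`-free groups with Sylow 2-subgroups of class at most two. -/
theorem class_two_factorization [Group.IsSolvable G] (hS4 : ¬ Cfsg.Involves (Equiv.Perm (Fin 4)) G)
    (S : Sylow 2 G)
    (hcl : ∀ s ∈ (S : Subgroup G), ∀ t ∈ (S : Subgroup G), ∀ r ∈ (S : Subgroup G), Commute ⁅s, t⁆ r) :
    Subgroup.normalizer ((thompsonSubgroupOf 2 (S : Subgroup G)) : Set G) ⊔ pPrimeCore 2 G = ⊤ := by
  haveI : Fact (Nat.Prime 2) := ⟨Nat.prime_two⟩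
  haveI := Transfer.pPrimeCore_normal (G := G) 2
  set O := pPrimeCore 2 G with hOdef
  set q := QuotientGroup.mk' O with hq
  have hqs : Function.Surjective q := QuotientGroup.mk'_surjective O
  have hd : O ⊓ (S : Subgroup G) = ⊥ := by
    obtain ⟨n, hn⟩ := IsPGroup.iff_card.1 S.isPGroup'
    exact Subgroup.inf_eq_bot_of_coprime (by
      rw [hn]; exact (Transfer.coprime_card_pPrimeCore (G := G) 2).pow_right n)
  have hS' := S.mapSurjective hqs
  have hcl' : ∀ s ∈ ((S.mapSurjective hqs : Sylow 2 (G ⧸ O)) : Subgroup (G ⧸ O)),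
      ∀ t ∈ ((S.mapSurjective hqs : Sylow 2 (G ⧸ O)) : Subgroup (G ⧸ O)),
      ∀ r ∈ ((S.mapSurjective hqs : Sylow 2 (G ⧸ O)) : Subgroup (G ⧸ O)), Commute ⁅s, t⁆ r := by
    rintro _ ⟨s, hs, rfl⟩ _ ⟨t, ht, rfl⟩ _ ⟨r, hr, rfl⟩
    rw [← map_commutatorElement]
    exact (hcl s hs t ht r hr).map q
  have hN := thompson_normal_of_class_two (G := G ⧸ O)
    (fun h => hS4 (Fusion.involves_of_surjective q hqs h)) (Solv.pPrimeCore_quotient_eq_bot 2)
    (S.mapSurjective hqs) hcl'
  rw [Sylow.coe_mapSurjective, thompsonSubgroupOf_map_mk O (S : Subgroup G) hd] at hN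
  rw [eq_top_iff]
  intro g _
  obtain ⟨o, ho, hog⟩ := exists_mul_mem_normalizer O (thompsonSubgroupOf 2 (S : Subgroup G))
    (Transfer.coprime_card_pPrimeCore 2) (S.isPGroup'.to_le (thompsonSubgroupOf_le _)) (g := g)
    (map_conj_le_sup fun x hx => by
      rw [map_mul, map_mul, map_inv]
      exact hN.conj_mem _ (Subgroup.mem_map_of_mem q hx) (q g))
  have h : o⁻¹ * (o * g) ∈ Subgroup.normalizer ((thompsonSubgroupOf 2 (S : Subgroup G)) : Set G) ⊔ O :=
    mul_mem (Subgroup.mem_sup_right (inv_mem ho)) (Subgroup.mem_sup_left hog)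
  rwa [inv_mul_cancel_left] at h

end Cfsg.Lib.PLocal
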