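import Mathlib
import Cfsg.Prelude.Def_ConjugacyFunctors
import Cfsg.Agent.Lib.Transfer.Alperin

/-!
From normalizers to the whole group: a relation closed under composition that holds on the normalizers of
the good subgroups holds for all conjugations inside a Sylow subgroup.
-/

set_option autoImplicit false
set_option linter.unusedSectionVars false

namespace Cfsg.Lib.PLocal.Climb

open Cfsg

variable {G : Type*} [Group G] {p : ℕ}

local notation "conjR" => Cfsg.Lib.Transfer.conjR

/-- The conjugate `m⁻¹ V m`. -/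
abbrev cj (m : G) (V : Subgroup G) : Subgroup G := V.map (MulAut.conj m⁻¹).toMonoidHom

/-- `N_S(V)`. -/
abbrev sN (S V : Subgroup G) : Subgroup G := S ⊓ Subgroup.normalizer (V : Set G)

/-- A relation recording realised conjugations inside `S`. -/
structure IsReal (S : Set G) (R : Set G → G → Prop) : Prop where
  one : ∀ {B : Set G}, B ⊆ S → R B 1
  mul : ∀ {B : Set G} {x y : G}, B ⊆ S → conjR x B ⊆ S → R B x → R (conjR x B) y → R B (x * y)
  mono : ∀ {B B' : Set G} {x : G}, B ⊆ B' → R B' x → R B x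
  inv : ∀ {B : Set G} {x : G}, B ⊆ S → conjR x B ⊆ S → R B x → R (conjR x B) x⁻¹

/-- Everything larger than `n` is realised. -/
def Big (S : Set G) (R : Set G → G → Prop) (n : ℕ) : Prop :=
  ∀ B : Set G, B ⊆ S → n < Nat.card B → ∀ g : G, conjR g B ⊆ S → R B g

theorem conjR_inv_cancel (x : G) (B : Set G) : conjR x⁻¹ (conjR x B) = B := by
  rw [← Transfer.conjR_mul, mul_inv_cancel, Transfer.conjR_one]

theorem conjR_sN_le [Finite G] {S V : Subgroup G} {m : G}
    (hm : conjR m (sN S V : Set G) ⊆ (S : Set G)) :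
    conjR m (sN S V : Set G) ⊆ (sN S (cj m V) : Set G) := by
  intro a ha
  refine ⟨hm ha, ?_⟩
  rw [Transfer.mem_conjR] at ha
  exact Transfer.mem_normalizer_map_conj_inv.2 ha.2

theorem card_sN_le [Finite G] {S V : Subgroup G} {m : G}
    (hm : conjR m (sN S V : Set G) ⊆ (S : Set G)) :
    Nat.card (sN S V) ≤ Nat.card (sN S (cj m V)) := by
  rw [← Transfer.card_map_conj m⁻¹ (sN S V)]
  refine Nat.card_mono (Set.toFinite _) ?_
  rw [Transfer.coe_map_conj_inv]
  exact conjR_sN_le hm

/-- Transport of a conjugation by a realised move. -/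
theorem IsReal.transport {S U : Set G} {R : Set G → G → Prop} (hR : IsReal S R) (hUS : U ⊆ S) {m : G}
    (hm : conjR m U ⊆ S) (hUm : R U m) {B : Set G} (hB : B ⊆ U) {x : G} (hxB : conjR x B ⊆ U)
    (h : R (conjR m B) (m⁻¹ * x * m)) : R B x := by
  have e : conjR (m⁻¹ * x * m) (conjR m B) = conjR m (conjR x B) := by
    rw [← Transfer.conjR_mul, ← Transfer.conjR_mul]
    congr 1
    group
  have h1 : R (conjR (m⁻¹ * x * m) (conjR m B)) m⁻¹ := by
    rw [e]
    exact hR.inv (hxB.trans hUS) ((Transfer.conjR_mono m hxB).trans hm) (hR.mono hxB hUm)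
  have h2 := hR.mul ((Transfer.conjR_mono m hB).trans hm)
    (by rw [e]; exact (Transfer.conjR_mono m hxB).trans hm) h h1
  have h3 := hR.mul (hB.trans hUS) ((Transfer.conjR_mono m hB).trans hm) (hR.mono hB hUm) h2
  rwa [show m * (m⁻¹ * x * m * m⁻¹) = x by group] at h3

variable [Finite G] [Fact p.Prime] (S : Sylow p G) {R : Set G → G → Prop} {Good : Subgroup G → Prop}

/-- All conjugations in `S` are realised when they are inside normalizers of good subgroups. -/
theorem global (hR : IsReal (S : Set G) R)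
    (hmove : ∀ V : Subgroup G, V ≤ (S : Subgroup G) →
      ∃ m : G, conjR m (sN (S : Subgroup G) V : Set G) ⊆ (S : Set G) ∧ Good (cj m V))
    (hS : ∀ y ∈ Subgroup.normalizer ((S : Subgroup G) : Set G), R (S : Set G) y)
    (hbot : ∀ B : Set G, B ⊆ {1} → ∀ y : G, R B y)
    (huse : ∀ n, Big (S : Set G) R n → ∀ T : Subgroup G, Good T → T ≤ (S : Subgroup G) → T ≠ ⊥ →
      n ≤ Nat.card T → n < Nat.card (sN (S : Subgroup G) T) →
      ∀ y ∈ Subgroup.normalizer (T : Set G), R (T : Set G) y)
    {B : Set G} {g : G} (hB : B ⊆ (S : Set G)) (hg : conjR g B ⊆ (S : Set G)) : R B g := by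
  suffices key : ∀ k n, Nat.card (S : Subgroup G) - n = k → ∀ (B : Set G) (g : G),
      Transfer.FusionChain S B g → B ⊆ (S : Set G) → n ≤ Nat.card B → R B g from
    key _ _ rfl B g (Transfer.alperin S hB hg) hB le_rfl
  intro k
  induction k using Nat.strong_induction_on with
  | _ k ih =>
  intro n hn B g hc
  induction hc with
  | nil B => exact fun hB _ => hR.one hB
  | @cons B g Q x ht hx hp hBR hc' ih' =>
    intro hB hcard
    set T := (S : Subgroup G) ⊓ (Q : Subgroup G) with hT
    have hxT : conjR x B ⊆ (T : Set G) :=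
      (Transfer.conjR_mono x hBR).trans (Transfer.conjR_subgroup_of_mem_normalizer hx).le
    have hxS : conjR x B ⊆ (S : Set G) := fun a ha => (hxT ha).1
    have hcard' : n ≤ Nat.card ↥(conjR x B) := hcard.trans (le_of_eq (Eq.symm
      (Nat.card_image_of_injective (fun a b hab => mul_left_cancel (mul_right_cancel hab)) _)))
    refine hR.mul hB hxS ?_ (ih' hxS hcard')
    by_cases hT1 : T = ⊥
    · exact hbot B (hBR.trans (by rw [hT1, Subgroup.coe_bot])) x
    by_cases hTS : T = (S : Subgroup G)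
    · refine hR.mono ?_ (hS x (hTS ▸ hx))
      exact hB
    have hTlt : T < (S : Subgroup G) := lt_of_le_of_ne inf_le_left hTS
    have hlt := Transfer.lt_inf_normalizer (R := S) hTlt
    have hBT : Nat.card B ≤ Nat.card T := Nat.card_mono (Set.toFinite _) hBR
    have hTU : Nat.card T < Nat.card (sN (S : Subgroup G) T) :=
      lt_of_le_of_ne (Subgroup.card_le_of_le hlt.le) fun e =>
        hlt.ne (Subgroup.eq_of_le_of_card_ge hlt.le e.ge)
    have hbig : Big (S : Set G) R n := fun B1 hB1 hn1 g1 hg1 => by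
      have h1 : Nat.card B1 ≤ Nat.card (S : Subgroup G) := Nat.card_mono (Set.toFinite _) hB1
      exact ih _ (by omega) (n + 1) rfl B1 g1 (Transfer.alperin S hB1 hg1) hB1 hn1
    obtain ⟨m, hm, hgood⟩ := hmove T hTlt.le
    have hTU' : (T : Set G) ⊆ (sN (S : Subgroup G) T : Set G) := fun a ha => hlt.le ha
    have hUm : R (sN (S : Subgroup G) T : Set G) m :=
      hbig _ inf_le_left (show n < Nat.card (sN (S : Subgroup G) T) by omega) m hm
    refine hR.transport (U := (sN (S : Subgroup G) T : Set G)) (fun a ha => ha.1) hm hUm (hBR.trans hTU')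
      (hxT.trans hTU') ?_
    refine hR.mono ?_ (huse n hbig (cj m T) hgood ?_ ?_ ?_ ?_ (m⁻¹ * x * m) ?_)
    · rw [Transfer.coe_map_conj_inv]; exact Transfer.conjR_mono m hBR
    · rw [← SetLike.coe_subset_coe, Transfer.coe_map_conj_inv]
      exact (Transfer.conjR_mono m hTU').trans hm
    · exact fun h => hT1 ((Subgroup.map_eq_bot_iff_of_injective _ (MulAut.conj m⁻¹).injective).1 h)
    · rw [Transfer.card_map_conj]
      omega
    · have := card_sN_le hm
      omega
    · exact Transfer.mem_normalizer_map_conj_inv.2 (by simpa [mul_assoc] using hx)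

/-- The conjugations inside the normalizer of `T`. -/
def LocAt (S : Subgroup G) (R : Set G → G → Prop) (T : Subgroup G) : Prop :=
  ∀ B : Set G, B ⊆ (sN S T : Set G) → ∀ y ∈ Subgroup.normalizer (T : Set G), conjR y B ⊆ (S : Set G) → R B y

theorem functor_normalizer_le {W : Subgroup G → Subgroup G} (hW : IsConjugacyFunctor p W) {P : Subgroup G}
    (hP : IsPGroup p P) : Subgroup.normalizer (P : Set G) ≤ Subgroup.normalizer (W P : Set G) := by
  intro g hg
  have h1 : P.map (MulAut.conj g).toMonoidHom = P := by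
    ext y
    constructor
    · rintro ⟨u, hu, rfl⟩
      exact (Subgroup.mem_normalizer_iff.1 hg u).1 hu
    · intro hy
      exact ⟨g⁻¹ * y * g, (Subgroup.mem_normalizer_iff''.1 hg y).1 hy, by simp [mul_assoc]⟩
  have h2 := (hW P hP).2.2 g
  rw [h1] at h2
  rw [Subgroup.mem_normalizer_iff]
  refine fun y => ⟨fun hy => h2 ▸ ⟨y, hy, rfl⟩, fun hy => ?_⟩
  rw [h2] at hy
  obtain ⟨u, hu, hu'⟩ := hy
  simp only [MulEquiv.coe_toMonoidHom, MulAut.conj_apply, mul_left_inj, mul_right_inj] at hu'
  exact hu' ▸ hu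

/-- Climbing from normalizers of good subgroups to normalizers of the values of the functors at `S`. -/
theorem climb (hR : IsReal (S : Set G) R) (𝓦 : Set (Subgroup G → Subgroup G))
    (h𝓦 : ∀ W ∈ 𝓦, IsConjugacyFunctor p W)
    (hmove : ∀ T : Subgroup G, Good T → T ≤ (S : Subgroup G) → T ≠ ⊥ → ∀ W ∈ 𝓦,
      ∃ m : G, conjR m (sN (S : Subgroup G) (W (sN (S : Subgroup G) T)) : Set G) ⊆ (S : Set G) ∧
        Good (cj m (W (sN (S : Subgroup G) T))))
    (hM : ∀ W ∈ 𝓦, ∀ x ∈ Subgroup.normalizer (W (S : Subgroup G) : Set G), ∀ B : Set G,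
      B ⊆ (S : Set G) → conjR x B ⊆ (S : Set G) → R B x)
    (hlocal : ∀ T : Subgroup G, Good T → T ≤ (S : Subgroup G) → T ≠ ⊥ →
      (∀ W ∈ 𝓦, ∀ x ∈ Subgroup.normalizer (T : Set G) ⊓
          Subgroup.normalizer (W (sN (S : Subgroup G) T) : Set G), ∀ B : Set G,
        B ⊆ (sN (S : Subgroup G) T : Set G) → conjR x B ⊆ (sN (S : Subgroup G) T : Set G) → R B x) →
      LocAt (S : Subgroup G) R T)
    {n : ℕ} (hbig : Big (S : Set G) R n) :
    ∀ T : Subgroup G, Good T → T ≤ (S : Subgroup G) → T ≠ ⊥ → n < Nat.card (sN (S : Subgroup G) T) →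
      LocAt (S : Subgroup G) R T := by
  intro T
  induction hk : Nat.card (S : Subgroup G) - Nat.card (sN (S : Subgroup G) T)
    using Nat.strong_induction_on generalizing T with
  | _ k ih =>
  subst hk
  intro hgood hTS hT1 hn
  refine hlocal T hgood hTS hT1 fun W hW x hx B hB hxB => ?_
  set P := sN (S : Subgroup G) T with hP
  by_cases hPS : P = (S : Subgroup G)
  · rw [hPS] at hx hB hxB
    exact hM W hW x hx.2 B hB hxB
  have hPp : IsPGroup p P := S.isPGroup'.to_le inf_le_left
  obtain ⟨hWle, hWne, -⟩ := h𝓦 W hW P hPp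
  set V := W P with hV
  set U := sN (S : Subgroup G) V with hU
  have hlt := Transfer.lt_inf_normalizer (R := S) (D := P) (lt_of_le_of_ne inf_le_left hPS)
  have hPU : (S : Subgroup G) ⊓ Subgroup.normalizer (P : Set G) ≤ U :=
    inf_le_inf le_rfl (functor_normalizer_le (h𝓦 W hW) hPp)
  have hcard : Nat.card P < Nat.card U :=
    lt_of_lt_of_le (lt_of_le_of_ne (Subgroup.card_le_of_le hlt.le) fun e =>
      hlt.ne (Subgroup.eq_of_le_of_card_ge hlt.le e.ge)) (Subgroup.card_le_of_le hPU)
  have hPU' : (P : Set G) ⊆ (U : Set G) := fun a ha => hPU (hlt.le ha)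
  obtain ⟨m, hm, hgood'⟩ := hmove T hgood hTS hT1 W hW
  have hUm : R (U : Set G) m := hbig _ inf_le_left (show n < Nat.card U by omega) m hm
  refine hR.transport (U := (U : Set G)) (fun a ha => ha.1) hm hUm (hB.trans hPU') (hxB.trans hPU') ?_
  have hle : Nat.card U ≤ Nat.card (sN (S : Subgroup G) (cj m V)) := card_sN_le hm
  have hUS : Nat.card (sN (S : Subgroup G) (cj m V)) ≤ Nat.card (S : Subgroup G) :=
    Subgroup.card_le_of_le inf_le_left
  refine ih _ (by omega) (cj m V) rfl hgood' ?_ ?_ (by omega) _ ?_ _ ?_ ?_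
  · rw [← SetLike.coe_subset_coe, Transfer.coe_map_conj_inv]
    exact (Transfer.conjR_mono m ((SetLike.coe_subset_coe.2 hWle).trans hPU')).trans hm
  · intro h
    refine hWne (fun hP1 => hT1 ?_) ((Subgroup.map_eq_bot_iff_of_injective _ (MulAut.conj m⁻¹).injective).1 h)
    exact le_bot_iff.1 (hP1 ▸ le_inf hTS Subgroup.le_normalizer)
  · exact (Transfer.conjR_mono m (hB.trans hPU')).trans (conjR_sN_le hm)
  · exact Transfer.mem_normalizer_map_conj_inv.2 (by simpa [mul_assoc] using hx.2)
  · rw [← Transfer.conjR_mul, show m * (m⁻¹ * x * m) = x * m by group, Transfer.conjR_mul]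
    exact (Transfer.conjR_mono m (hxB.trans hPU')).trans hm

end Cfsg.Lib.PLocal.Climb
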