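import Mathlib
import Cfsg.Prelude.Def_ConjugacyFunctors
import Cfsg.Agent.Lib.PLocal.Climb

/-!
Local-to-global control by families of conjugacy functors: fusion, transfer and conjugation families.
-/

set_option autoImplicit false
set_option linter.unusedSectionVars false
set_option linter.style.haveILetI false

namespace Cfsg.Lib.PLocal.Climb

open Cfsg
open scoped commutatorElement

variable {G : Type*} [Group G] {p : ℕ}

local notation "conjR" => Cfsg.Lib.Transfer.conjR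

theorem conjR_congr {g g' : G} {B : Set G} (h : ∀ b ∈ B, g⁻¹ * b * g = g'⁻¹ * b * g') :
    conjR g B = conjR g' B := Set.image_congr h

theorem image_left (c : G) (A : Set G) : (fun a => c * a * c⁻¹) '' A = conjR c⁻¹ A :=
  Set.image_congr fun a _ => by simp

/-! ### Fusion by steps -/

/-- Conjugation by a product of steps from `M`, staying inside `S`. -/
inductive Steps (S M : Set G) : Set G → G → Prop
  | nil (B : Set G) : Steps S M B 1
  | cons {B : Set G} {x y : G} (hx : x ∈ M) (hB : conjR x B ⊆ S) (h : Steps S M (conjR x B) y) :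
      Steps S M B (x * y)

variable {S M : Set G}

theorem Steps.trans {B : Set G} {x y : G} (h : Steps S M B x) (h' : Steps S M (conjR x B) y) :
    Steps S M B (x * y) := by
  induction h with
  | nil B => rw [Transfer.conjR_one] at h'; rwa [one_mul]
  | cons hx hB _ ih =>
    rw [Transfer.conjR_mul] at h'
    rw [mul_assoc]
    exact .cons hx hB (ih h')

theorem Steps.mono {B B' : Set G} {x : G} (hBB : B ⊆ B') (h : Steps S M B' x) : Steps S M B x := by
  induction h generalizing B with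
  | nil B' => exact .nil B
  | cons hx hB _ ih =>
    exact .cons hx ((Transfer.conjR_mono _ hBB).trans hB) (ih (Transfer.conjR_mono _ hBB))

theorem Steps.image_subset {B : Set G} {x : G} (h : Steps S M B x) (hB : B ⊆ S) : conjR x B ⊆ S := by
  induction h with
  | nil B => rwa [Transfer.conjR_one]
  | cons hx hB' _ ih => rw [Transfer.conjR_mul]; exact ih hB'

theorem Steps.inv (hM : ∀ x ∈ M, x⁻¹ ∈ M) {B : Set G} {x : G} (h : Steps S M B x) (hB : B ⊆ S) :
    Steps S M (conjR x B) x⁻¹ := by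
  induction h with
  | nil B => rw [Transfer.conjR_one, inv_one]; exact .nil B
  | @cons B x y hx hB' _ ih =>
    rw [Transfer.conjR_mul, mul_inv_rev]
    refine (ih hB').trans ?_
    rw [conjR_inv_cancel]
    simpa using Steps.cons (B := conjR x B) (hM x hx) (by rw [conjR_inv_cancel]; exact hB) (.nil _)

theorem Steps.mem_subgroup {H : Subgroup G} (hM : M ⊆ (H : Set G)) {B : Set G} {x : G} (h : Steps S M B x) :
    x ∈ H := by
  induction h with
  | nil B => exact one_mem H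
  | cons hx _ _ ih => exact H.mul_mem (hM hx) ih

/-- Realised by steps, up to agreement. -/
def Fus (S M : Set G) (B : Set G) (g : G) : Prop :=
  ∃ g', Steps S M B g' ∧ ∀ b ∈ B, g⁻¹ * b * g = g'⁻¹ * b * g'

theorem Fus.congr {B : Set G} {g g' : G} (h : Fus S M B g) (e : ∀ b ∈ B, g'⁻¹ * b * g' = g⁻¹ * b * g) :
    Fus S M B g' := by
  obtain ⟨x, hx, hxe⟩ := h
  exact ⟨x, hx, fun b hb => (e b hb).trans (hxe b hb)⟩

theorem Fus.of_mem {B : Set G} {x : G} (hx : x ∈ M) (hB : conjR x B ⊆ S) : Fus S M B x :=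
  ⟨x * 1, .cons hx hB (.nil _), fun b _ => by rw [mul_one]⟩

theorem isReal_fus (hM : ∀ x ∈ M, x⁻¹ ∈ M) : IsReal S (Fus S M) where
  one := fun _ => ⟨1, .nil _, fun _ _ => rfl⟩
  mul := by
    intro B x y _ _ h1 h2
    obtain ⟨x', hx', hxe⟩ := h1
    obtain ⟨y', hy', hye⟩ := h2
    rw [conjR_congr hxe] at hy'
    refine ⟨x' * y', hx'.trans hy', fun b hb => ?_⟩
    calc (x * y)⁻¹ * b * (x * y) = y⁻¹ * (x⁻¹ * b * x) * y := by group
      _ = y'⁻¹ * (x⁻¹ * b * x) * y' := hye _ ⟨b, hb, rfl⟩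
      _ = y'⁻¹ * (x'⁻¹ * b * x') * y' := by rw [hxe b hb]
      _ = _ := by group
  mono := fun hBB ⟨x', hx', hxe⟩ => ⟨x', hx'.mono hBB, fun b hb => hxe b (hBB hb)⟩
  inv := by
    intro B x hB _ h
    obtain ⟨x', hx', hxe⟩ := h
    refine ⟨x'⁻¹, conjR_congr hxe ▸ hx'.inv hM hB, ?_⟩
    rintro _ ⟨b, hb, rfl⟩
    calc x⁻¹⁻¹ * (x⁻¹ * b * x) * x⁻¹ = b := by group
      _ = x'⁻¹⁻¹ * (x'⁻¹ * b * x') * x'⁻¹ := by group
      _ = x'⁻¹⁻¹ * (x⁻¹ * b * x) * x'⁻¹ := by rw [hxe b hb]

theorem fus_bot {B : Set G} (hB : B ⊆ {1}) (y : G) : Fus S M B y :=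
  ⟨1, .nil _, fun b hb => by rw [Set.mem_singleton_iff.1 (hB hb)]; group⟩

/-! ### Transfer -/

/-- Conjugation changes the elements by members of `F`. -/
def Diff (F : Subgroup G) (B : Set G) (g : G) : Prop := ∀ b ∈ B, b⁻¹ * (g⁻¹ * b * g) ∈ F

theorem isReal_diff (S : Set G) (F : Subgroup G) : IsReal S (Diff F) where
  one := fun _ b _ => by simp
  mul := by
    intro B x y _ _ h1 h2 b hb
    rw [show b⁻¹ * ((x * y)⁻¹ * b * (x * y)) =
      (b⁻¹ * (x⁻¹ * b * x)) * ((x⁻¹ * b * x)⁻¹ * (y⁻¹ * (x⁻¹ * b * x) * y)) by group]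
    exact F.mul_mem (h1 b hb) (h2 _ ⟨b, hb, rfl⟩)
  mono := fun hBB h b hb => h b (hBB hb)
  inv := by
    rintro B x _ _ h _ ⟨b, hb, rfl⟩
    rw [show (x⁻¹ * b * x)⁻¹ * (x⁻¹⁻¹ * (x⁻¹ * b * x) * x⁻¹) = (b⁻¹ * (x⁻¹ * b * x))⁻¹ by group]
    exact F.inv_mem (h b hb)

theorem diff_bot {F : Subgroup G} {B : Set G} (hB : B ⊆ {1}) (y : G) : Diff F B y := fun b hb => by
  rw [Set.mem_singleton_iff.1 (hB hb)]; simp

/-! ### Exact factorizations -/

/-- An exact factorization through normalizers of members of `𝓕`. -/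
inductive Fam (𝓕 : Set (Subgroup G)) : Set G → G → Prop
  | nil (B : Set G) : Fam 𝓕 B 1
  | cons {B : Set G} {x y : G} (T : Subgroup G) (hT : T ∈ 𝓕) (hB : B ⊆ (T : Set G))
      (hx : x ∈ Subgroup.normalizer (T : Set G)) (h : Fam 𝓕 (conjR x B) y) : Fam 𝓕 B (x * y)

variable {𝓕 : Set (Subgroup G)}

theorem Fam.trans {B : Set G} {x y : G} (h : Fam 𝓕 B x) (h' : Fam 𝓕 (conjR x B) y) : Fam 𝓕 B (x * y) := by
  induction h with
  | nil B => rw [Transfer.conjR_one] at h'; rwa [one_mul]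
  | cons T hT hB hx _ ih =>
    rw [Transfer.conjR_mul] at h'
    rw [mul_assoc]
    exact .cons T hT hB hx (ih h')

theorem Fam.mono {B B' : Set G} {x : G} (hBB : B ⊆ B') (h : Fam 𝓕 B' x) : Fam 𝓕 B x := by
  induction h generalizing B with
  | nil B' => exact .nil B
  | cons T hT hB hx _ ih => exact .cons T hT (hBB.trans hB) hx (ih (Transfer.conjR_mono _ hBB))

theorem Fam.inv {B : Set G} {x : G} (h : Fam 𝓕 B x) : Fam 𝓕 (conjR x B) x⁻¹ := by
  induction h with
  | nil B => rw [Transfer.conjR_one, inv_one]; exact .nil B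
  | @cons B x y T hT hB hx _ ih =>
    rw [Transfer.conjR_mul, mul_inv_rev]
    refine ih.trans ?_
    rw [conjR_inv_cancel]
    simpa using Fam.cons (B := conjR x B) T hT
      ((Transfer.conjR_mono x hB).trans (Transfer.conjR_subgroup_of_mem_normalizer hx).le)
      (Subgroup.inv_mem _ hx) (.nil _)

theorem isReal_fam (S : Set G) : IsReal S (Fam 𝓕) where
  one := fun _ => .nil _
  mul := fun _ _ h1 h2 => h1.trans h2
  mono := fun hBB h => h.mono hBB
  inv := fun _ _ h => h.inv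

theorem Fam.exists_factor {B : Set G} {g : G} (h : Fam 𝓕 B g) :
    ∃ (n : ℕ) (T : Fin n → Subgroup G) (x : Fin n → G), (List.ofFn x).prod = g ∧
      (∀ i, T i ∈ 𝓕) ∧ (∀ i, x i ∈ Subgroup.normalizer ((T i : Subgroup G) : Set G)) ∧
      (∀ h : 0 < n, B ⊆ T ⟨0, h⟩) ∧
      ∀ (i : Fin n) (h : i.val + 1 < n),
        (fun a => (((List.ofFn x).take (i.val + 1)).prod)⁻¹ * a * ((List.ofFn x).take (i.val + 1)).prod) '' B ⊆
          T ⟨i.val + 1, h⟩ := by
  induction h with
  | nil B => exact ⟨0, Fin.elim0, Fin.elim0, rfl, fun i => i.elim0, fun i => i.elim0,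
      fun h => absurd h (Nat.lt_irrefl 0), fun i => i.elim0⟩
  | @cons B x y T hT hB hx _ ih =>
    obtain ⟨n, Ts, xs, hprod, hTs, hxs, h0, hstep⟩ := ih
    refine ⟨n + 1, Fin.cons T Ts, Fin.cons x xs, ?_, ?_, ?_, fun _ => hB, ?_⟩
    · rw [List.ofFn_succ]; simp [hprod]
    · exact Fin.cases hT hTs
    · exact Fin.cases hx hxs
    intro i hi
    have e : ((List.ofFn (Fin.cons x xs)).take (i.val + 1)).prod = x * ((List.ofFn xs).take i.val).prod := by
      rw [List.ofFn_succ, List.take_succ_cons, List.prod_cons]; simp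
    rw [e]
    show conjR (x * _) B ⊆ _
    rw [Transfer.conjR_mul]
    obtain ⟨i, hin⟩ := i
    have hin' : i < n := by
      have : i + 1 < n + 1 := hi
      omega
    show _ ⊆ ((Fin.cons T Ts : Fin (n + 1) → Subgroup G) (⟨i, hin'⟩ : Fin n).succ : Set G)
    rw [Fin.cons_succ]
    rcases i with _ | j
    · simp only [List.take_zero, List.prod_nil, Transfer.conjR_one]
      exact h0 hin'
    · exact hstep ⟨j, by omega⟩ hin'

/-! ### Moving subgroups -/

variable [Finite G] [Fact p.Prime]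

/-- `N_S(T)` has index prime to `p` in `N(T)`. -/
def Fully (p : ℕ) (S T : Subgroup G) : Prop :=
  ¬ p ∣ (sN S T).relIndex (Subgroup.normalizer (T : Set G))

theorem isPGroup_sN (S : Sylow p G) (T : Subgroup G) : IsPGroup p (sN (S : Subgroup G) T) :=
  S.isPGroup'.to_le inf_le_left

/-- Conjugation inside `H` of a `p`-subgroup into a Sylow subgroup of `H`. -/
theorem exists_conjR_subset {H P Q : Subgroup G} (hQH : Q ≤ H) (hQ : IsPGroup p Q) (hPH : P ≤ H)
    (hP : IsPGroup p P) (hidx : ¬ p ∣ P.relIndex H) : ∃ h ∈ H, conjR h (Q : Set G) ⊆ (P : Set G) := by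
  let PH : Sylow p H := (hP.comap_of_injective H.subtype H.subtype_injective).toSylow hidx
  obtain ⟨Q1, hQ1⟩ := (hQ.comap_of_injective H.subtype H.subtype_injective).exists_le_sylow
  obtain ⟨k, hk⟩ := MulAction.exists_smul_eq H PH Q1
  refine ⟨k, k.2, ?_⟩
  rintro _ ⟨a, ha, rfl⟩
  have h1 : (⟨a, hQH ha⟩ : H) ∈ (Q1 : Subgroup H) := hQ1 ha
  rw [← hk, ← inv_inv k, Transfer.mem_inv_smul_sylow] at h1
  have h2 : (k⁻¹ * ⟨a, hQH ha⟩ * k⁻¹⁻¹ : H) ∈ (PH : Subgroup H) := h1
  simpa [PH, Subgroup.mem_subgroupOf] using h2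

theorem normalizer_cj (m : G) (V : Subgroup G) :
    Subgroup.normalizer ((cj m V : Subgroup G) : Set G) = cj m (Subgroup.normalizer (V : Set G)) := by
  ext x
  rw [Transfer.mem_normalizer_map_conj_inv, ← SetLike.mem_coe (p := Subgroup.map _ _),
    Transfer.coe_map_conj_inv, Transfer.mem_conjR, SetLike.mem_coe]

theorem cj_one (V : Subgroup G) : cj (1 : G) V = V := by
  ext x; simp [Subgroup.mem_map]

theorem cj_mul (a b : G) (V : Subgroup G) : cj (a * b) V = cj b (cj a V) := by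
  rw [← SetLike.coe_set_eq, Transfer.coe_map_conj_inv, Transfer.coe_map_conj_inv, Transfer.coe_map_conj_inv,
    Transfer.conjR_mul]

theorem cj_eq_of_mem {h : G} {V : Subgroup G} (hh : h ∈ Subgroup.normalizer (V : Set G)) : cj h V = V := by
  rw [← SetLike.coe_set_eq, Transfer.coe_map_conj_inv, Transfer.conjR_subgroup_of_mem_normalizer hh]

/-- A conjugate with `N_S` a Sylow subgroup of its normalizer absorbs `N_S(V)`. -/
theorem move_of (S : Sylow p G) {V U : Subgroup G} {g : G} (hg : cj g V = U)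
    (hU : Fully p (S : Subgroup G) U) :
    ∃ m : G, conjR m (sN (S : Subgroup G) V : Set G) ⊆ (S : Set G) ∧ cj m V = U := by
  have hle : cj g (sN (S : Subgroup G) V) ≤ Subgroup.normalizer (U : Set G) := by
    rw [← SetLike.coe_subset_coe, Transfer.coe_map_conj_inv, ← hg]
    intro a ha
    rw [Transfer.mem_conjR] at ha
    exact Transfer.mem_normalizer_map_conj_inv.2 ha.2
  obtain ⟨h, hh, hsub⟩ := exists_conjR_subset hle ((isPGroup_sN S V).map _) inf_le_right (isPGroup_sN S U) hU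
  refine ⟨g * h, ?_, ?_⟩
  · rw [Transfer.conjR_mul, ← Transfer.coe_map_conj_inv g]
    exact hsub.trans fun a ha => ha.1
  · rw [cj_mul, hg, cj_eq_of_mem hh]

theorem exists_fully (S : Sylow p G) (V : Subgroup G) :
    ∃ g : G, Fully p (S : Subgroup G) (cj g V) := by
  obtain ⟨T⟩ := (inferInstance : Nonempty (Sylow p (Subgroup.normalizer (V : Set G))))
  obtain ⟨R, hR⟩ := (T.isPGroup'.map (Subgroup.normalizer (V : Set G)).subtype).exists_le_sylow
  obtain ⟨g, hg⟩ := MulAction.exists_smul_eq G S R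
  refine ⟨g, fun hd => ?_⟩
  set N' := Subgroup.normalizer ((cj g V : Subgroup G) : Set G)
  have hN : N' = (Subgroup.normalizer (V : Set G)).map (MulAut.conj g⁻¹).toMonoidHom := normalizer_cj g V
  have hle : ((T : Subgroup _).map (Subgroup.normalizer (V : Set G)).subtype).map (MulAut.conj g⁻¹).toMonoidHom ≤
      sN (S : Subgroup G) (cj g V) := by
    refine le_inf ?_ ((Subgroup.map_mono (Subgroup.map_subtype_le _)).trans hN.ge)
    rw [← SetLike.coe_subset_coe, Transfer.coe_map_conj_inv]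
    intro a ha
    rw [Transfer.mem_conjR] at ha
    have h1 : g * a * g⁻¹ ∈ (R : Subgroup G) := hR ha
    rw [← hg] at h1
    have h2 := Transfer.mem_inv_smul_sylow (g := g⁻¹) (P := S) (x := g * a * g⁻¹)
    rw [inv_inv] at h2
    have h3 := h2.1 h1
    simp only [mul_assoc, inv_mul_cancel_left, inv_mul_cancel, mul_one] at h3
    exact h3
  have h1 := hd.trans (Subgroup.relIndex_dvd_of_le_left N' hle)
  rw [hN, Subgroup.relIndex_map_map_of_injective _ _ (MulAut.conj g⁻¹).injective] at h1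
  rw [Subgroup.relIndex, Subgroup.subgroupOf, Subgroup.comap_map_eq_self_of_injective
    (Subgroup.normalizer (V : Set G)).subtype_injective] at h1
  exact T.not_dvd_index h1

theorem move_fully (S : Sylow p G) (V : Subgroup G) :
    ∃ m : G, conjR m (sN (S : Subgroup G) V : Set G) ⊆ (S : Set G) ∧ Fully p (S : Subgroup G) (cj m V) := by
  obtain ⟨g, hg⟩ := exists_fully S V
  obtain ⟨m, hm, he⟩ := move_of S rfl hg
  exact ⟨m, hm, he ▸ hg⟩

theorem fully_self (S : Sylow p G) : Fully p (S : Subgroup G) (S : Subgroup G) := by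
  rw [Fully, sN, inf_eq_left.2 Subgroup.le_normalizer]
  exact fun hd => S.not_dvd_index (hd.trans (Subgroup.relIndex_dvd_index_of_le Subgroup.le_normalizer))

theorem cj_le_of_move {S V : Subgroup G} {m : G} (hV : V ≤ S) (hm : conjR m (sN S V : Set G) ⊆ (S : Set G)) :
    cj m V ≤ S := by
  rw [← SetLike.coe_subset_coe, Transfer.coe_map_conj_inv]
  exact (Transfer.conjR_mono m (show (V : Set G) ⊆ (sN S V : Set G) from
    fun a ha => ⟨hV ha, Subgroup.le_normalizer ha⟩)).trans hm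

theorem cj_sylow_of_move (S : Sylow p G) {m : G}
    (hm : conjR m (sN (S : Subgroup G) (S : Subgroup G) : Set G) ⊆ (S : Set G)) :
    cj m (S : Subgroup G) = (S : Subgroup G) :=
  Subgroup.eq_of_le_of_card_ge (cj_le_of_move le_rfl hm) (Transfer.card_map_conj m⁻¹ _).ge

/-- `N_S` of the image is the image when `N_S(V)` is Sylow in the normalizer. -/
theorem sN_cj (S : Sylow p G) {T : Subgroup G} (hT : Fully p (S : Subgroup G) T) {m : G}
    (hm : conjR m (sN (S : Subgroup G) T : Set G) ⊆ (S : Set G)) :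
    sN (S : Subgroup G) (cj m T) = cj m (sN (S : Subgroup G) T) := by
  have hle : cj m (sN (S : Subgroup G) T) ≤ sN (S : Subgroup G) (cj m T) := by
    rw [← SetLike.coe_subset_coe, Transfer.coe_map_conj_inv]; exact conjR_sN_le hm
  have hle' : cj m⁻¹ (sN (S : Subgroup G) (cj m T)) ≤ Subgroup.normalizer (T : Set G) := by
    rw [← SetLike.coe_subset_coe, Transfer.coe_map_conj_inv]
    intro a ha
    rw [Transfer.mem_conjR, inv_inv] at ha
    simpa [mul_assoc] using Transfer.mem_normalizer_map_conj_inv.1 ha.2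
  obtain ⟨h, -, hsub⟩ := exists_conjR_subset hle' ((isPGroup_sN S (cj m T)).map _) inf_le_right (isPGroup_sN S T) hT
  refine (Subgroup.eq_of_le_of_card_ge hle ?_).symm
  rw [Transfer.card_map_conj, ← Transfer.card_map_conj m⁻¹⁻¹ (sN (S : Subgroup G) (cj m T)),
    ← Transfer.card_map_conj h⁻¹]
  refine Nat.card_mono (Set.toFinite _) ?_
  rw [Transfer.coe_map_conj_inv]
  exact hsub

/-- The value of a functor at a conjugate. -/
theorem functor_cj {W : Subgroup G → Subgroup G} (hW : IsConjugacyFunctor p W) {P : Subgroup G}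
    (hP : IsPGroup p P) (m : G) : W (cj m P) = cj m (W P) := (hW P hP).2.2 m⁻¹

/-! ### Focal subgroups -/

theorem inf_commutator_le {H P F : Subgroup G} (hPH : P ≤ H) (hP : IsPGroup p P) (hidx : ¬ p ∣ P.relIndex H)
    (h : ∀ b ∈ P, ∀ y ∈ H, y⁻¹ * b * y ∈ P → b⁻¹ * (y⁻¹ * b * y) ∈ F) : P ⊓ ⁅H, H⁆ ≤ F := by
  intro a ha
  obtain ⟨haP, haC⟩ := Subgroup.mem_inf.1 ha
  rw [← Subgroup.map_subtype_commutator] at haC
  obtain ⟨u, hu, rfl⟩ := haC
  let PH : Sylow p H := (hP.comap_of_injective H.subtype H.subtype_injective).toSylow hidx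
  have h1 : u ∈ (PH : Subgroup H).focalSubgroup := by
    rw [← Subgroup.commutator_inf_eq_focalSubgroup PH]
    exact ⟨hu, haP⟩
  suffices h2 : (PH : Subgroup H).focalSubgroup ≤ F.comap H.subtype from h2 h1
  rw [Subgroup.focalSubgroup_def, Subgroup.closure_le]
  rintro _ ⟨hg, x, hx, v, rfl⟩
  have hx' : (x : G) ∈ P := hx
  have hg' : ((⁅x, v⁆ : H) : G) ∈ P := hg
  simp only [commutatorElement_def, Subgroup.coe_mul, Subgroup.coe_inv] at hg'
  show ((⁅x, v⁆ : H) : G) ∈ F
  simp only [commutatorElement_def, Subgroup.coe_mul, Subgroup.coe_inv]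
  have h3 := h (x : G)⁻¹ (P.inv_mem hx') (v : G)⁻¹ (H.inv_mem v.2) (by
    have h4 := P.mul_mem (P.inv_mem hx') hg'
    simpa [mul_assoc] using h4)
  simpa [mul_assoc] using h3

/-! ### The families -/

section Family

variable (S : Sylow p G) {R : Set G → G → Prop}

/-- The hypothesis and the conclusion of the climbing in one statement. -/
theorem all_of_locals {Good : Subgroup G → Prop} (hR : IsReal (S : Set G) R)
    (𝓦 : Set (Subgroup G → Subgroup G)) (h𝓦 : ∀ W ∈ 𝓦, IsConjugacyFunctor p W)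
    (hmove : ∀ V : Subgroup G, V ≤ (S : Subgroup G) →
      ∃ m : G, conjR m (sN (S : Subgroup G) V : Set G) ⊆ (S : Set G) ∧ Good (cj m V))
    (hbot : ∀ B : Set G, B ⊆ {1} → ∀ y : G, R B y)
    (hM : ∀ W ∈ 𝓦, ∀ x ∈ Subgroup.normalizer (W (S : Subgroup G) : Set G), ∀ B : Set G,
      B ⊆ (S : Set G) → conjR x B ⊆ (S : Set G) → R B x)
    (hlocal : ∀ T : Subgroup G, Good T → T ≤ (S : Subgroup G) → T ≠ ⊥ →
      (∀ W ∈ 𝓦, ∀ x ∈ Subgroup.normalizer (T : Set G) ⊓
          Subgroup.normalizer (W (sN (S : Subgroup G) T) : Set G), ∀ B : Set G,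
        B ⊆ (sN (S : Subgroup G) T : Set G) → conjR x B ⊆ (sN (S : Subgroup G) T : Set G) → R B x) →
      LocAt (S : Subgroup G) R T)
    {B : Set G} {g : G} (hB : B ⊆ (S : Set G)) (hg : conjR g B ⊆ (S : Set G)) : R B g := by
  refine Climb.global S hR hmove ?_ hbot (fun n hbig T hgood hTS hT1 _ hn y hy => ?_) hB hg
  · intro y hy
    by_cases hS1 : (S : Subgroup G) = ⊥
    · exact hbot _ (fun a ha => by
        have h : a ∈ (S : Subgroup G) := ha
        rw [hS1] at h
        exact h) y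
    obtain ⟨m, hm, hgood⟩ := hmove (S : Subgroup G) le_rfl
    rw [cj_sylow_of_move S hm] at hgood
    have hPS : sN (S : Subgroup G) (S : Subgroup G) = (S : Subgroup G) := inf_eq_left.2 Subgroup.le_normalizer
    refine hlocal _ hgood le_rfl hS1 (fun W hW x hx B hB hxB => ?_) (S : Set G) (by rw [hPS]; exact subset_rfl) y hy
      (Transfer.conjR_subgroup_of_mem_normalizer hy).le
    rw [hPS] at hx hB hxB
    exact hM W hW x hx.2 B hB hxB
  · refine climb S hR 𝓦 h𝓦 (fun T _ _ _ W hW => hmove _ ?_) hM hlocal hbig T hgood hTS hT1 hn (T : Set G)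
      (fun a ha => ⟨hTS ha, Subgroup.le_normalizer ha⟩) y hy ?_
    · exact ((h𝓦 W hW) _ (isPGroup_sN S T)).1.trans inf_le_left
    · exact (Transfer.conjR_subgroup_of_mem_normalizer hy).le.trans hTS

/-- A family control hypothesis at some Sylow subgroup of `H`, used at the Sylow subgroup `P`. -/
theorem real_of_family {𝓦 : Set (Subgroup G → Subgroup G)} (h𝓦 : ∀ W ∈ 𝓦, IsConjugacyFunctor p W)
    (hR : IsReal (S : Set G) R) {H P : Subgroup G} (hPS : P ≤ (S : Subgroup G)) (hPH : P ≤ H)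
    (hidx : ¬ p ∣ P.relIndex H) (hloc : FamilyControlsStrongFusionIn p 𝓦 H)
    (hcongr : ∀ {B : Set G} {g g' : G}, R B g → (∀ b ∈ B, g'⁻¹ * b * g' = g⁻¹ * b * g) → R B g')
    (hstep : ∀ W ∈ 𝓦, ∀ x ∈ H ⊓ Subgroup.normalizer (W P : Set G), ∀ B : Set G,
      B ⊆ (P : Set G) → conjR x B ⊆ (P : Set G) → R B x)
    {B : Set G} {y : G} (hy : y ∈ H) (hB : B ⊆ (P : Set G)) (hyB : conjR y B ⊆ (P : Set G)) : R B y := by
  obtain ⟨T, hTH, hTp, hTidx, hT⟩ := hloc
  have hPp : IsPGroup p P := S.isPGroup'.to_le hPS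
  obtain ⟨h, hh, hsub⟩ := exists_conjR_subset hPH hPp hTH hTp hTidx
  obtain ⟨h', -, hsub'⟩ := exists_conjR_subset hTH hTp hPH hPp hidx
  have hT' : cj h P = T := by
    refine Subgroup.eq_of_le_of_card_ge ?_ ?_
    · rw [← SetLike.coe_subset_coe, Transfer.coe_map_conj_inv]; exact hsub
    · rw [Transfer.card_map_conj, ← Transfer.card_map_conj h'⁻¹ T]
      refine Nat.card_mono (Set.toFinite _) ?_
      rw [Transfer.coe_map_conj_inv]; exact hsub'
  obtain ⟨n, c, hc0, hcstep, hcim, hclast⟩ := hT (conjR h B) (h⁻¹ * y⁻¹ * h)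
    (H.mul_mem (H.mul_mem (H.inv_mem hh) (H.inv_mem hy)) hh) ((Transfer.conjR_mono h hB).trans hsub) (by
      rw [image_left, ← Transfer.conjR_mul, show h * (h⁻¹ * y⁻¹ * h)⁻¹ = y * h by group, Transfer.conjR_mul]
      exact (Transfer.conjR_mono h hyB).trans hsub)
  have himg : ∀ i, conjR (h * (c i)⁻¹ * h⁻¹) B ⊆ (P : Set G) := by
    intro i a ha
    have h1 := hcim i
    rw [image_left, ← Transfer.conjR_mul] at h1
    rw [Transfer.mem_conjR] at ha
    have h2 : h⁻¹ * a * h ∈ T := h1 (Transfer.mem_conjR.2 (by simpa [mul_assoc] using ha))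
    rw [← hT'] at h2
    obtain ⟨u, hu, hu'⟩ := h2
    simp only [MulEquiv.coe_toMonoidHom, MulAut.conj_apply, inv_inv, mul_left_inj, mul_right_inj] at hu'
    exact hu' ▸ hu
  have key : ∀ i, R B (h * (c i)⁻¹ * h⁻¹) := by
    intro i
    induction i using Fin.induction with
    | zero =>
      simp only [hc0, inv_one, mul_one, mul_inv_cancel]
      exact hR.one (hB.trans hPS)
    | succ i ih =>
      obtain ⟨W, hW, hcW⟩ := hcstep i
      set x := h * (c i.succ * (c i.castSucc)⁻¹)⁻¹ * h⁻¹ with hx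
      have e : h * (c i.succ)⁻¹ * h⁻¹ = (h * (c i.castSucc)⁻¹ * h⁻¹) * x := by rw [hx]; group
      rw [e]
      refine hR.mul (hB.trans hPS) ((himg _).trans hPS) ih (hstep W hW x ⟨?_, ?_⟩ _ (himg _) ?_)
      · exact H.mul_mem (H.mul_mem hh (H.inv_mem hcW.1)) (H.inv_mem hh)
      · have h2 : c i.succ * (c i.castSucc)⁻¹ ∈ Subgroup.normalizer (W T : Set G) := hcW.2
        rw [← hT', functor_cj (h𝓦 W hW) hPp, Transfer.mem_normalizer_map_conj_inv] at h2
        have h3 := (Subgroup.normalizer (W P : Set G)).inv_mem h2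
        simpa [hx, mul_assoc] using h3
      · rw [← Transfer.conjR_mul, ← e]; exact himg _
  refine hcongr (key (Fin.last n)) fun b hb => ?_
  have h1 := hclast (h⁻¹ * b * h) ⟨b, hb, rfl⟩
  calc y⁻¹ * b * y = h * (h⁻¹ * y⁻¹ * h * (h⁻¹ * b * h) * (h⁻¹ * y⁻¹ * h)⁻¹) * h⁻¹ := by group
    _ = h * (c (Fin.last n) * (h⁻¹ * b * h) * (c (Fin.last n))⁻¹) * h⁻¹ := by rw [h1]
    _ = _ := by group

/-- A transfer hypothesis at some Sylow subgroup of `H`, moved to `P`. -/
theorem transfer_at {ι : Type*} {H P T : Subgroup G} (hPH : P ≤ H) (hPp : IsPGroup p P) (hidx : ¬ p ∣ P.relIndex H)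
    (hTH : T ≤ H) (hTp : IsPGroup p T) (hTidx : ¬ p ∣ T.relIndex H) (K : ι → Subgroup G → Subgroup G)
    (hK : ∀ i (h : G), h ∈ H → K i (cj h P) = cj h (K i P))
    (hT : T ⊓ ⁅H, H⁆ ≤ ⨆ i, T ⊓ ⁅K i T, K i T⁆) : P ⊓ ⁅H, H⁆ ≤ ⨆ i, P ⊓ ⁅K i P, K i P⁆ := by
  obtain ⟨h, hh, hsub⟩ := exists_conjR_subset hPH hPp hTH hTp hTidx
  obtain ⟨h', -, hsub'⟩ := exists_conjR_subset hTH hTp hPH hPp hidx
  have hT' : cj h P = T := by
    refine Subgroup.eq_of_le_of_card_ge ?_ ?_
    · rw [← SetLike.coe_subset_coe, Transfer.coe_map_conj_inv]; exact hsub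
    · rw [Transfer.card_map_conj, ← Transfer.card_map_conj h'⁻¹ T]
      refine Nat.card_mono (Set.toFinite _) ?_
      rw [Transfer.coe_map_conj_inv]; exact hsub'
  set f := (MulAut.conj h⁻¹).toMonoidHom
  have hf : Function.Injective f := (MulAut.conj h⁻¹).injective
  have hH : cj h H = H := cj_eq_of_mem (Subgroup.le_normalizer hh)
  rw [← Subgroup.map_le_map_iff_of_injective hf, Subgroup.map_inf _ _ _ hf, Subgroup.map_commutator, Subgroup.map_iSup]
  show cj h P ⊓ ⁅cj h H, cj h H⁆ ≤ _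
  rw [hH, hT']
  refine hT.trans (le_of_eq (iSup_congr fun i => ?_))
  rw [Subgroup.map_inf _ _ _ hf, Subgroup.map_commutator]
  show _ = cj h P ⊓ ⁅cj h (K i P), cj h (K i P)⁆
  rw [← hK i h hh, hT']

theorem cj_inf_normalizer {H X : Subgroup G} {h : G} (hh : h ∈ H) :
    H ⊓ Subgroup.normalizer (cj h X : Set G) = cj h (H ⊓ Subgroup.normalizer (X : Set G)) := by
  ext x
  rw [Subgroup.mem_inf, Transfer.mem_normalizer_map_conj_inv, ← SetLike.mem_coe (p := cj h _),
    Transfer.coe_map_conj_inv, Transfer.mem_conjR, SetLike.mem_coe, Subgroup.mem_inf]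
  refine and_congr_left' ⟨fun hx => H.mul_mem (H.mul_mem hh hx) (H.inv_mem hh), fun hx => ?_⟩
  simpa [mul_assoc] using H.mul_mem (H.mul_mem (H.inv_mem hh) hx) hh

/-- Local transfer statements give the transfer part of `LocAt`. -/
theorem diff_of_transfer {ι : Type*} {F T : Subgroup G} (hT : Fully p (S : Subgroup G) T)
    (K : ι → Subgroup G) (hKle : ∀ i, sN (S : Subgroup G) T ≤ K i ∧ K i ≤ Subgroup.normalizer (T : Set G))
    (hloc : sN (S : Subgroup G) T ⊓ ⁅Subgroup.normalizer (T : Set G), Subgroup.normalizer (T : Set G)⁆ ≤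
      ⨆ i, sN (S : Subgroup G) T ⊓ ⁅K i, K i⁆)
    (hstep : ∀ i, ∀ x ∈ K i, ∀ B : Set G, B ⊆ (sN (S : Subgroup G) T : Set G) →
      conjR x B ⊆ (sN (S : Subgroup G) T : Set G) → Diff F B x) :
    LocAt (S : Subgroup G) (Diff F) T := by
  intro B hB y hy hyB b hb
  have hle : (⨆ i, sN (S : Subgroup G) T ⊓ ⁅K i, K i⁆) ≤ F := iSup_le fun i =>
    inf_commutator_le (hKle i).1 (isPGroup_sN S T)
      (fun hd => hT (hd.trans (Dvd.intro _ (Subgroup.relIndex_mul_relIndex _ _ _ (hKle i).1 (hKle i).2))))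
      fun b hb x hx hbx => hstep i x hx {b} (Set.singleton_subset_iff.2 hb)
        (by rintro _ ⟨_, rfl, rfl⟩; exact hbx) b rfl
  have hbP := hB hb
  have hN := Subgroup.normalizer (T : Set G)
  refine hle (hloc (Subgroup.mem_inf.2 ⟨?_, ?_⟩))
  · refine (sN (S : Subgroup G) T).mul_mem ((sN (S : Subgroup G) T).inv_mem hbP) ⟨hyB ⟨b, hb, rfl⟩, ?_⟩
    exact Subgroup.mul_mem _ (Subgroup.mul_mem _ (Subgroup.inv_mem _ hy) hbP.2) hy
  · rw [show b⁻¹ * (y⁻¹ * b * y) = ⁅b⁻¹, y⁻¹⁆ by simp [commutatorElement_def, mul_assoc]]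
    exact Subgroup.commutator_mem_commutator (Subgroup.inv_mem _ hbP.2) (Subgroup.inv_mem _ hy)

/-- Local-to-global control of strong fusion by a family. -/
theorem family_fusion_of_locals {Good : Subgroup G → Prop} {𝓦 : Set (Subgroup G → Subgroup G)}
    (h𝓦 : ∀ W ∈ 𝓦, IsConjugacyFunctor p W)
    (hmove : ∀ V : Subgroup G, V ≤ (S : Subgroup G) →
      ∃ m : G, conjR m (sN (S : Subgroup G) V : Set G) ⊆ (S : Set G) ∧ Good (cj m V))
    (hfully : ∀ T, Good T → Fully p (S : Subgroup G) T)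
    (hloc : ∀ T : Subgroup G, Good T → T ≤ (S : Subgroup G) → T ≠ ⊥ →
      FamilyControlsStrongFusionIn p 𝓦 (Subgroup.normalizer (T : Set G)))
    {B : Set G} {g : G} (hB : B ⊆ (S : Set G)) (hg : conjR g B ⊆ (S : Set G)) :
    Fus (S : Set G) {x | ∃ W ∈ 𝓦, x ∈ Subgroup.normalizer (W (S : Subgroup G) : Set G)} B g := by
  have hR := isReal_fus (S := (S : Set G))
    (M := {x | ∃ W ∈ 𝓦, x ∈ Subgroup.normalizer (W (S : Subgroup G) : Set G)})
    (fun x ⟨W, hW, hx⟩ => ⟨W, hW, Subgroup.inv_mem _ hx⟩)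
  refine all_of_locals S hR 𝓦 h𝓦 hmove (fun B hB y => fus_bot hB y)
    (fun W hW x hx B _ hxB => Fus.of_mem ⟨W, hW, hx⟩ hxB) ?_ hB hg
  intro T hgood hTS hT1 hstep B hB y hy hyB
  refine real_of_family S h𝓦 hR inf_le_left inf_le_right (hfully T hgood) (hloc T hgood hTS hT1)
    (fun h e => h.congr e) hstep hy hB ?_
  rintro _ ⟨b, hb, rfl⟩
  exact ⟨hyB ⟨b, hb, rfl⟩, Subgroup.mul_mem _ (Subgroup.mul_mem _ (Subgroup.inv_mem _ hy) (hB hb).2) hy⟩

theorem Fus.exists_chain {𝓦 : Set (Subgroup G → Subgroup G)} {B : Set G} {g : G}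
    (h : Fus (S : Set G) {x | ∃ W ∈ 𝓦, x ∈ Subgroup.normalizer (W (S : Subgroup G) : Set G)} B g)
    (hB : B ⊆ (S : Set G)) :
    ∃ (n : ℕ) (c : Fin (n + 1) → G), c 0 = 1 ∧
      (∀ i : Fin n, ∃ W ∈ 𝓦,
        c i.succ * (c i.castSucc)⁻¹ ∈ (⊤ : Subgroup G) ⊓ Subgroup.normalizer ((W (S : Subgroup G) : Subgroup G) : Set G)) ∧
      (∀ i : Fin (n + 1), (fun a => c i * a * (c i)⁻¹) '' B ⊆ (S : Set G)) ∧
      ∀ a ∈ B, c (Fin.last n) * a * (c (Fin.last n))⁻¹ = g⁻¹ * a * g := by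
  obtain ⟨g', hs, he⟩ := h
  suffices key : ∀ {B : Set G} {x : G},
      Steps (S : Set G) {x | ∃ W ∈ 𝓦, x ∈ Subgroup.normalizer (W (S : Subgroup G) : Set G)} B x → B ⊆ (S : Set G) →
      ∃ (n : ℕ) (c : Fin (n + 1) → G), c 0 = 1 ∧
      (∀ i : Fin n, ∃ W ∈ 𝓦,
        c i.succ * (c i.castSucc)⁻¹ ∈ (⊤ : Subgroup G) ⊓ Subgroup.normalizer ((W (S : Subgroup G) : Subgroup G) : Set G)) ∧
      (∀ i : Fin (n + 1), (fun a => c i * a * (c i)⁻¹) '' B ⊆ (S : Set G)) ∧
      ∀ a ∈ B, c (Fin.last n) * a * (c (Fin.last n))⁻¹ = x⁻¹ * a * x by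
    obtain ⟨n, c, h0, h1, h2, h3⟩ := key hs hB
    exact ⟨n, c, h0, h1, h2, fun a ha => (h3 a ha).trans (he a ha).symm⟩
  intro B x hs
  induction hs with
  | nil B =>
    exact fun hB => ⟨0, fun _ => 1, rfl, fun i => i.elim0, fun i => by simpa using hB, fun a _ => by simp⟩
  | @cons B x y hx hxB _ ih =>
    intro hB
    obtain ⟨n, c, h0, h1, h2, h3⟩ := ih hxB
    refine ⟨n + 1, Fin.cons 1 (fun i => c i * x⁻¹), rfl, ?_, ?_, ?_⟩
    · intro i
      refine Fin.cases ?_ ?_ i
      · obtain ⟨W, hW, hxW⟩ := hx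
        refine ⟨W, hW, ?_⟩
        rw [Fin.cons_succ, h0, Fin.castSucc_zero, Fin.cons_zero]
        exact ⟨Subgroup.mem_top _, by simpa using hxW⟩
      intro i
      obtain ⟨W, hW, hi⟩ := h1 i
      refine ⟨W, hW, ?_⟩
      rw [Fin.cons_succ, ← Fin.succ_castSucc, Fin.cons_succ]
      simpa [mul_assoc] using hi
    · intro i
      refine Fin.cases ?_ ?_ i
      · simpa using hB
      intro i
      rw [Fin.cons_succ]
      refine (Set.image_subset_iff.2 fun a ha => ?_)
      have := h2 i ⟨x⁻¹ * a * x, ⟨a, ha, rfl⟩, rfl⟩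
      simpa [mul_assoc] using this
    · intro a ha
      rw [← Fin.succ_last, Fin.cons_succ]
      have := h3 (x⁻¹ * a * x) ⟨a, ha, rfl⟩
      simpa [mul_assoc] using this

theorem family_controls_of_fus {𝓦 : Set (Subgroup G → Subgroup G)}
    (h : ∀ {B : Set G} {g : G}, B ⊆ (S : Set G) → conjR g B ⊆ (S : Set G) →
      Fus (S : Set G) {x | ∃ W ∈ 𝓦, x ∈ Subgroup.normalizer (W (S : Subgroup G) : Set G)} B g) :
    FamilyControlsStrongFusionIn p 𝓦 ⊤ := by
  refine ⟨(S : Subgroup G), le_top, S.isPGroup', by rw [Subgroup.relIndex_top_right]; exact S.not_dvd_index,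
    fun A g _ hA hgA => ?_⟩
  rw [image_left] at hgA
  obtain ⟨n, c, h0, h1, h2, h3⟩ := (h hA hgA).exists_chain S hA
  exact ⟨n, c, h0, h1, h2, fun a ha => (h3 a ha).trans (by simp)⟩

/-- Local-to-global control of transfer by a family. -/
theorem family_transfer_of_locals {ι : Type*} {Good : Subgroup G → Prop} (W : ι → Subgroup G → Subgroup G)
    (hW : ∀ i, IsConjugacyFunctor p (W i))
    (hmove : ∀ V : Subgroup G, V ≤ (S : Subgroup G) →
      ∃ m : G, conjR m (sN (S : Subgroup G) V : Set G) ⊆ (S : Set G) ∧ Good (cj m V))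
    (hfully : ∀ T, Good T → Fully p (S : Subgroup G) T)
    (hloc : ∀ T : Subgroup G, Good T → T ≤ (S : Subgroup G) → T ≠ ⊥ → ∃ Q : Subgroup G,
      Q ≤ Subgroup.normalizer (T : Set G) ∧ IsPGroup p Q ∧ ¬ p ∣ Q.relIndex (Subgroup.normalizer (T : Set G)) ∧
      Q ⊓ ⁅Subgroup.normalizer (T : Set G), Subgroup.normalizer (T : Set G)⁆ ≤ ⨆ i,
        Q ⊓ ⁅Subgroup.normalizer (T : Set G) ⊓ Subgroup.normalizer (W i Q : Set G),
          Subgroup.normalizer (T : Set G) ⊓ Subgroup.normalizer (W i Q : Set G)⁆) :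
    (S : Subgroup G) ⊓ commutator G = ⨆ i, (S : Subgroup G) ⊓
      ⁅Subgroup.normalizer (W i (S : Subgroup G) : Set G), Subgroup.normalizer (W i (S : Subgroup G) : Set G)⁆ := by
  set F := ⨆ i, (S : Subgroup G) ⊓
      ⁅Subgroup.normalizer (W i (S : Subgroup G) : Set G), Subgroup.normalizer (W i (S : Subgroup G) : Set G)⁆ with hF
  refine le_antisymm ?_ (iSup_le fun i => inf_le_inf le_rfl (Subgroup.commutator_mono le_top le_top))
  have hSW : ∀ i, (S : Subgroup G) ≤ Subgroup.normalizer (W i (S : Subgroup G) : Set G) := fun i =>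
    Subgroup.le_normalizer.trans (functor_normalizer_le (hW i) S.isPGroup')
  have hall : ∀ {B : Set G} {g : G}, B ⊆ (S : Set G) → conjR g B ⊆ (S : Set G) → Diff F B g := by
    intro B g hB hg
    refine all_of_locals S (Good := Good) (isReal_diff _ F) (Set.range W)
      (by rintro _ ⟨i, rfl⟩; exact hW i) hmove (fun B hB y => diff_bot hB y) ?_ ?_ hB hg
    · rintro _ ⟨i, rfl⟩ x hx B hB hxB b hb
      refine le_iSup (fun i => (S : Subgroup G) ⊓ ⁅Subgroup.normalizer (W i (S : Subgroup G) : Set G),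
        Subgroup.normalizer (W i (S : Subgroup G) : Set G)⁆) i ⟨?_, ?_⟩
      · exact (S : Subgroup G).mul_mem ((S : Subgroup G).inv_mem (hB hb)) (hxB ⟨b, hb, rfl⟩)
      · rw [show b⁻¹ * (x⁻¹ * b * x) = ⁅b⁻¹, x⁻¹⁆ by simp [commutatorElement_def, mul_assoc]]
        exact Subgroup.commutator_mem_commutator (Subgroup.inv_mem _ (hSW i (hB hb))) (Subgroup.inv_mem _ hx)
    · intro T hgood hTS hT1 hstep
      obtain ⟨Q, hQN, hQp, hQidx, hQ⟩ := hloc T hgood hTS hT1
      refine diff_of_transfer S (hfully T hgood)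
        (fun i => Subgroup.normalizer (T : Set G) ⊓ Subgroup.normalizer (W i (sN (S : Subgroup G) T) : Set G))
        (fun i => ⟨le_inf inf_le_right (Subgroup.le_normalizer.trans
          (functor_normalizer_le (hW i) (isPGroup_sN S T))), inf_le_left⟩) ?_
        (fun i x hx B hB hxB => hstep (W i) ⟨i, rfl⟩ x hx B hB hxB)
      exact transfer_at inf_le_right (isPGroup_sN S T) (hfully T hgood) hQN hQp hQidx
        (fun i X => Subgroup.normalizer (T : Set G) ⊓ Subgroup.normalizer (W i X : Set G))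
        (fun i h hh => by rw [functor_cj (hW i) (isPGroup_sN S T), cj_inf_normalizer hh]) hQ
  rw [show commutator G = ⁅(⊤ : Subgroup G), ⊤⁆ from rfl]
  exact inf_commutator_le le_top S.isPGroup' (by rw [Subgroup.relIndex_top_right]; exact S.not_dvd_index)
    fun b hb y _ hby => hall (B := {b}) (Set.singleton_subset_iff.2 hb) (by rintro _ ⟨_, rfl, rfl⟩; exact hby) b rfl

end Family

/-! ### Well-placed subgroups -/

theorem tower_shift (W : Subgroup G → Subgroup G) (S T : Subgroup G) (i : ℕ) :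
    functorTower W S T (i + 1) = functorTower W S (W (sN S T)) i := by
  induction i with
  | zero => rfl
  | succ i ih =>
    show W (S ⊓ Subgroup.normalizer (functorTower W S T (i + 1) : Set G)) = _
    rw [ih]
    rfl

theorem isWellPlaced_succ {W : Subgroup G → Subgroup G} {S T : Subgroup G} (hT : T ≤ S) (hfull : Fully p S T)
    (h : IsWellPlaced p W S (W (sN S T))) : IsWellPlaced p W S T := by
  refine ⟨hT, fun i => ?_⟩
  rcases i with _ | j
  · exact hfull
  · rw [tower_shift]; exact h.2 j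

theorem wellPlaced_top (S : Sylow p G) {W : Subgroup G → Subgroup G} (hW : IsConjugacyFunctor p W) :
    IsWellPlaced p W (S : Subgroup G) (W (S : Subgroup G)) := by
  have hN : sN (S : Subgroup G) (W (S : Subgroup G)) = (S : Subgroup G) :=
    inf_eq_left.2 (Subgroup.le_normalizer.trans (functor_normalizer_le hW S.isPGroup'))
  have hfull : Fully p (S : Subgroup G) (W (S : Subgroup G)) := by
    rw [Fully, hN]
    exact fun hd => S.not_dvd_index (hd.trans (Subgroup.relIndex_dvd_index_of_le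
      (Subgroup.le_normalizer.trans (functor_normalizer_le hW S.isPGroup'))))
  refine ⟨(hW _ S.isPGroup').1, fun i => ?_⟩
  have ht : functorTower W (S : Subgroup G) (W (S : Subgroup G)) i = W (S : Subgroup G) := by
    induction i with
    | zero => rfl
    | succ i ih =>
      show W ((S : Subgroup G) ⊓ Subgroup.normalizer (functorTower W (S : Subgroup G) (W (S : Subgroup G)) i : Set G)) = _
      rw [ih]
      exact congrArg W hN
  rw [ht]
  exact hfull

theorem move_wellPlaced (S : Sylow p G) {W : Subgroup G → Subgroup G} (hW : IsConjugacyFunctor p W) :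
    ∀ V : Subgroup G, V ≤ (S : Subgroup G) →
      ∃ m : G, conjR m (sN (S : Subgroup G) V : Set G) ⊆ (S : Set G) ∧
        IsWellPlaced p W (S : Subgroup G) (cj m V) := by
  intro V
  induction hk : Nat.card (S : Subgroup G) - Nat.card (sN (S : Subgroup G) V)
    using Nat.strong_induction_on generalizing V with
  | _ k ih =>
  subst hk
  intro hV
  obtain ⟨m1, hm1, hfull⟩ := move_fully S V
  have hle := card_sN_le hm1
  set V1 := cj m1 V with hV1
  have hV1S : V1 ≤ (S : Subgroup G) := cj_le_of_move hV hm1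
  set P1 := sN (S : Subgroup G) V1 with hP1
  have hP1p : IsPGroup p P1 := isPGroup_sN S V1
  by_cases hPS : P1 = (S : Subgroup G)
  · refine ⟨m1, hm1, isWellPlaced_succ hV1S hfull ?_⟩
    rw [← hP1, hPS]
    exact wellPlaced_top S hW
  set V2 := W P1 with hV2
  have hlt := Transfer.lt_inf_normalizer (R := S) (D := P1) (lt_of_le_of_ne inf_le_left hPS)
  have hPU : P1 ≤ sN (S : Subgroup G) V2 :=
    hlt.le.trans (inf_le_inf le_rfl (functor_normalizer_le hW hP1p))
  have hcard : Nat.card P1 < Nat.card (sN (S : Subgroup G) V2) :=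
    lt_of_lt_of_le (lt_of_le_of_ne (Subgroup.card_le_of_le hlt.le) fun e =>
      hlt.ne (Subgroup.eq_of_le_of_card_ge hlt.le e.ge))
      (Subgroup.card_le_of_le (inf_le_inf le_rfl (functor_normalizer_le hW hP1p)))
  have hUS : Nat.card (sN (S : Subgroup G) V2) ≤ Nat.card (S : Subgroup G) := Subgroup.card_le_of_le inf_le_left
  have hle' : Nat.card (sN (S : Subgroup G) V) ≤ Nat.card P1 := hle
  obtain ⟨m2, hm2, hwp⟩ := ih _ (by omega) V2 rfl ((hW P1 hP1p).1.trans inf_le_left)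
  have hm2P : conjR m2 (P1 : Set G) ⊆ (S : Set G) :=
    (Transfer.conjR_mono m2 (SetLike.coe_subset_coe.2 hPU)).trans hm2
  refine ⟨m1 * m2, ?_, ?_⟩
  · rw [Transfer.conjR_mul]
    exact (Transfer.conjR_mono m2 (conjR_sN_le hm1)).trans hm2P
  · rw [cj_mul, ← hV1]
    have hfull' : sN (S : Subgroup G) (cj m2 V1) = cj m2 P1 := sN_cj S hfull hm2P
    refine isWellPlaced_succ (cj_le_of_move hV1S hm2P) ?_ ?_
    · rw [Fully, hfull']
      rw [normalizer_cj, Subgroup.relIndex_map_map_of_injective _ _ (MulAut.conj m2⁻¹).injective]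
      exact hfull
    · rw [hfull', functor_cj hW hP1p]
      exact hwp

theorem wellPlaced_fully {W : Subgroup G → Subgroup G} {S T : Subgroup G} (h : IsWellPlaced p W S T) :
    Fully p S T := h.2 0

end Cfsg.Lib.PLocal.Climb
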