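import Mathlib
import Cfsg.Prelude.Def_Local
import Cfsg.Agent.Lib.Transfer.Basic

/-!
# A `2`-group extended by a dihedral group acting without fixed points
-/

set_option autoImplicit false

namespace Cfsg.Lib.DihTop

open Cfsg Subgroup

/-- S2873. -/
theorem dihedral_top {G : Type*} [Group G] [Finite G] {r : ℕ} [hr' : Fact r.Prime] (hr : r ≠ 2)
    [hN : (Cfsg.pCore 2 G).Normal] (hquot : Nonempty (G ⧸ Cfsg.pCore 2 G ≃* DihedralGroup r))
    (R : Sylow r G) (hC : Cfsg.pCore 2 G ⊓ centralizer ((R : Subgroup G) : Set G) = ⊥) :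
    Nonempty (↥(normalizer ((R : Subgroup G) : Set G)) ≃* DihedralGroup r) ∧
      ∀ a : G, a ∈ normalizer ((R : Subgroup G) : Set G) → orderOf a = 2 →
        (∀ b : G, orderOf b = 2 → b ∉ Cfsg.pCore 2 G → ∃ g : G, g * a * g⁻¹ = b) ∧
        Nat.card ↥(Cfsg.pCore 2 G ⊓ centralizer ({a} : Set G)) ^ 2 = Nat.card ↥(Cfsg.pCore 2 G) := by
  classical
  obtain ⟨e⟩ := hquot
  set Q := Cfsg.pCore 2 G with hQdef
  haveI : Fact (Nat.Prime 2) := ⟨Nat.prime_two⟩
  haveI : NeZero r := ⟨hr'.out.ne_zero⟩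
  set N := normalizer ((R : Subgroup G) : Set G)
  set φ : G →* DihedralGroup r := e.toMonoidHom.comp (QuotientGroup.mk' Q) with hφdef
  have hφs : Function.Surjective φ := e.surjective.comp (QuotientGroup.mk'_surjective _)
  have hker : ∀ g, φ g = 1 ↔ g ∈ Q := fun g => by
    rw [hφdef, MonoidHom.comp_apply]
    show e _ = 1 ↔ _
    rw [map_eq_one_iff e e.injective]
    exact QuotientGroup.eq_one_iff g
  obtain ⟨k, hk⟩ := IsPGroup.iff_card.1 (Cfsg.Lib.Transfer.pCore_isPGroup (G := G) 2)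
  have hcop2 : Nat.Coprime r 2 := (Nat.coprime_primes hr'.out Nat.prime_two).2 hr
  have hcard : Nat.card G = 2 * r * 2 ^ k := by
    rw [card_eq_card_quotient_mul_card_subgroup Q, Nat.card_congr e.toEquiv, DihedralGroup.nat_card, hk]
  have hRr : Nat.card ↥(R : Subgroup G) = r := by
    rw [R.card_eq_multiplicity, hcard, show 2 * r * 2 ^ k = r * 2 ^ (k + 1) by ring,
      Nat.factorization_mul hr'.out.ne_zero (by positivity), Nat.Prime.factorization_pow Nat.prime_two]
    simp [hr'.out.factorization_self, Finsupp.single_apply, Ne.symm hr]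
  -- `Q ∩ R = 1` and `N(R) ∩ Q = 1`
  have hQR : Q ⊓ (R : Subgroup G) = ⊥ := by
    refine inf_eq_bot_of_coprime ?_
    rw [hk, hRr]
    exact (hcop2.pow_right k).symm
  have hNQ : ∀ x ∈ N, x ∈ Q → x = 1 := by
    intro x hxN hxQ
    rw [← mem_bot, ← hC]
    refine ⟨hxQ, mem_centralizer_iff.2 fun y hy => ?_⟩
    have h1 : x * y * x⁻¹ * y⁻¹ ∈ Q ⊓ (R : Subgroup G) := by
      refine ⟨?_, (R : Subgroup G).mul_mem ((mem_normalizer_iff.1 hxN y).1 hy) ((R : Subgroup G).inv_mem hy)⟩
      rw [show x * y * x⁻¹ * y⁻¹ = x * (y * x⁻¹ * y⁻¹) by group]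
      exact Q.mul_mem hxQ (hN.conj_mem _ (Q.inv_mem hxQ) y)
    rw [hQR, mem_bot, mul_inv_eq_one, mul_inv_eq_iff_eq_mul] at h1
    exact h1.symm
  -- `G = Q N(R)`
  have hfrat : ∀ g : G, ∃ x ∈ Q, ∃ n ∈ N, g = x * n := by
    intro g
    set M := Q ⊔ (R : Subgroup G)
    have hMimg : M.map φ = zpowers (DihedralGroup.r 1) := by
      rw [Subgroup.map_sup, (Subgroup.map_eq_bot_iff Q).2 (fun x hx => (hker x).2 hx), bot_sup_eq]
      refine eq_of_le_of_card_ge ?_ ?_
      · rintro _ ⟨y, hy, rfl⟩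
        have hd : orderOf (φ y) ∣ r :=
          (orderOf_map_dvd φ y).trans (hRr ▸ Subgroup.orderOf_dvd_natCard _ hy)
        cases hc : φ y with
        | r i => exact mem_zpowers_iff.2 ⟨i.val, by rw [zpow_natCast, DihedralGroup.r_one_pow, ZMod.natCast_zmod_val]⟩
        | sr i =>
          rw [hc, DihedralGroup.orderOf_sr, Nat.prime_dvd_prime_iff_eq Nat.prime_two hr'.out] at hd
          exact absurd hd.symm hr
      · have hinj : Function.Injective (φ.comp (R : Subgroup G).subtype) := by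
          refine (injective_iff_map_eq_one _).2 fun y hy => Subtype.ext (mem_bot.1 (hQR ▸ ?_ : (y : G) ∈ (⊥ : Subgroup G)))
          exact ⟨(hker _).1 hy, y.2⟩
        rw [Nat.card_zpowers, DihedralGroup.orderOf_r_one]
        refine hRr.symm.le.trans ?_
        exact Nat.card_le_card_of_injective (fun y : ↥(R : Subgroup G) => (⟨φ y, mem_map_of_mem φ y.2⟩ : ↥((R : Subgroup G).map φ)))
          fun y z h => hinj (congrArg Subtype.val h)
    haveI : (zpowers (DihedralGroup.r 1 : DihedralGroup r)).Normal := by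
      refine normal_of_index_eq_two ?_
      have h1 := (zpowers (DihedralGroup.r 1 : DihedralGroup r)).card_mul_index
      rw [Nat.card_zpowers, DihedralGroup.orderOf_r_one, DihedralGroup.nat_card, mul_comm 2 r] at h1
      exact Nat.eq_of_mul_eq_mul_left hr'.out.pos h1
    have hMeq : M = (zpowers (DihedralGroup.r 1)).comap φ := by
      rw [← hMimg, comap_map_eq, sup_eq_left.2]
      exact fun x hx => mem_sup_left ((hker x).1 hx)
    haveI : M.Normal := hMeq ▸ Normal.comap inferInstance φ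
    have h := Sylow.normalizer_sup_eq_top' R (le_sup_right : (R : Subgroup G) ≤ M)
    have hg : g ∈ Q ⊔ N := by
      have h2 : N ⊔ M = ⊤ := h
      rw [← sup_assoc, sup_comm N Q, sup_assoc, sup_eq_left.2 (le_normalizer : (R : Subgroup G) ≤ N)] at h2
      rw [h2]; exact mem_top g
    obtain ⟨x, hx, n, hn, hxn⟩ := mem_sup_of_normal_left.1 hg
    exact ⟨x, hx, n, hn, hxn.symm⟩
  refine ⟨⟨MulEquiv.ofBijective (φ.comp N.subtype) ⟨?_, fun d => ?_⟩⟩, fun a haN ha2 => ?_⟩
  · exact (injective_iff_map_eq_one _).2 fun y hy => Subtype.ext (hNQ y y.2 ((hker _).1 hy))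
  · obtain ⟨g, rfl⟩ := hφs d
    obtain ⟨x, hx, n, hn, rfl⟩ := hfrat g
    exact ⟨⟨n, hn⟩, by simp [(hker x).2 hx]⟩
  have haa : a * a = 1 := by rw [← pow_two, ← ha2, pow_orderOf_eq_one]
  have hainv : a⁻¹ = a := inv_eq_of_mul_eq_one_right haa
  have haQ : a ∉ Q := fun h => by
    rw [hNQ a haN h, orderOf_one] at ha2
    omega
  have hrefl : ∀ b : G, orderOf b = 2 → b ∉ Q → ∃ i, φ b = DihedralGroup.sr i := by
    intro b hb hbQ
    cases hc : φ b with
    | r i =>
      exfalso
      have h1 : (DihedralGroup.r i : DihedralGroup r) * DihedralGroup.r i = 1 := by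
        rw [← hc, ← map_mul, ← pow_two, ← hb, pow_orderOf_eq_one, map_one]
      rw [DihedralGroup.r_mul_r, DihedralGroup.one_def, DihedralGroup.r.injEq, ← two_mul] at h1
      have h2 : (2 : ZMod r) ≠ 0 := fun h0 => hr (by
        have : ((2 : ℕ) : ZMod r) = 0 := by exact_mod_cast h0
        exact (Nat.prime_dvd_prime_iff_eq hr'.out Nat.prime_two).1 ((ZMod.natCast_eq_zero_iff _ _).1 this))
      have h3 : i = 0 := (mul_eq_zero.1 h1).resolve_left h2
      exact hbQ ((hker b).1 (by rw [hc, h3, DihedralGroup.r_zero]))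
    | sr i => exact ⟨i, rfl⟩
  obtain ⟨i₀, hi₀⟩ := hrefl a ha2 haQ
  -- a second involution of `N(R)`
  obtain ⟨g₁, hg₁⟩ := hφs (DihedralGroup.r 1)
  obtain ⟨x₁, hx₁, n₁, hn₁, rfl⟩ := hfrat g₁
  rw [map_mul, (hker x₁).2 hx₁, one_mul] at hg₁
  set a' := n₁ * a * n₁⁻¹ with ha'
  have ha'N : a' ∈ N := N.mul_mem (N.mul_mem hn₁ haN) (N.inv_mem hn₁)
  have ha'a' : a' * a' = 1 := by
    calc a' * a' = n₁ * (a * a) * n₁⁻¹ := by rw [ha']; group
      _ = 1 := by rw [haa, mul_one, mul_inv_cancel]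
  have hi₁ : φ a' = DihedralGroup.sr (i₀ - 2) := by
    rw [ha', map_mul, map_mul, map_inv, hg₁, hi₀, DihedralGroup.inv_r, DihedralGroup.r_mul_sr, DihedralGroup.sr_mul_r]
    congr 1
    ring
  -- every involution of the coset `aQ` is conjugate to `a` under `C_Q(a')`
  have key : ∀ b : G, b * b = 1 → φ b = φ a → ∃ x ∈ Q ⊓ centralizer ({a'} : Set G), x * a * x⁻¹ = b := by
    intro b hbb hb
    have hbinv : b⁻¹ = b := inv_eq_of_mul_eq_one_right hbb
    set y := b * a'
    have hy : φ y = DihedralGroup.r (-2) := by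
      rw [map_mul, hb, hi₀, hi₁, DihedralGroup.sr_mul_sr]
      congr 1
      ring
    obtain ⟨m, hm⟩ : ∃ m, y ^ (r * 2 ^ m) = 1 := by
      refine ⟨k, ?_⟩
      have h1 : y ^ r ∈ Q := (hker _).1 (by
        rw [map_pow, hy, DihedralGroup.r_pow]
        simp)
      rw [pow_mul, ← orderOf_dvd_iff_pow_eq_one, ← hk]
      exact Subgroup.orderOf_dvd_natCard _ h1
    set s := y ^ 2 ^ m with hs
    have hsr : s ^ r = 1 := by rw [hs, ← pow_mul, mul_comm, hm]
    have hsQ : s ∉ Q := fun h => by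
      have h1 := (hker s).2 h
      rw [hs, map_pow, hy, DihedralGroup.r_pow, DihedralGroup.one_def, DihedralGroup.r.injEq] at h1
      push_cast at h1
      have h2 : ((2 ^ (m + 1) : ℕ) : ZMod r) = 0 := by push_cast; linear_combination -h1
      rw [ZMod.natCast_eq_zero_iff] at h2
      exact hr ((Nat.prime_dvd_prime_iff_eq hr'.out Nat.prime_two).1 (hr'.out.dvd_of_dvd_pow h2))
    have hso : orderOf s = r := orderOf_eq_prime hsr fun h => hsQ (h ▸ Q.one_mem)
    -- `⟨s⟩` is conjugate to `R` by an element of `Q`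
    obtain ⟨T, hT⟩ : ∃ T : Sylow r G, (T : Subgroup G) = zpowers s := by
      obtain ⟨T, hT⟩ := (IsPGroup.of_card (n := 1) (by rw [Nat.card_zpowers, hso, pow_one]) :
        IsPGroup r (zpowers s)).exists_le_sylow
      refine ⟨T, (eq_of_le_of_card_ge hT ?_).symm⟩
      rw [Nat.card_zpowers, hso, T.card_eq_multiplicity, ← R.card_eq_multiplicity, hRr]
    obtain ⟨g, hg⟩ := MulAction.exists_smul_eq G R T
    obtain ⟨x, hx, n, hn, rfl⟩ := hfrat g
    have hxs : ((x • R : Sylow r G) : Subgroup G) = zpowers s := by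
      rw [← hT, ← hg, mul_smul, Sylow.smul_eq_iff_mem_normalizer.2 hn]
    have hmem : ∀ c : G, c * c = 1 → c * y * c⁻¹ = y⁻¹ → x⁻¹ * c * x ∈ N := by
      intro c hcc hcy
      have hcs : c * s * c⁻¹ = s⁻¹ := by rw [hs, ← conj_pow, hcy, inv_pow]
      have hcn : c • (x • R : Sylow r G) = x • R := by
        refine Sylow.smul_eq_iff_mem_normalizer.2 ?_
        show c ∈ normalizer (((x • R : Sylow r G) : Subgroup G) : Set G)
        rw [hxs]
        refine mem_normalizer_fintype ?_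
        rintro _ ⟨i, rfl⟩
        show c * s ^ i * c⁻¹ ∈ zpowers s
        rw [← conj_zpow, hcs, inv_zpow]
        exact inv_mem (zpow_mem (mem_zpowers s) i)
      refine Sylow.smul_eq_iff_mem_normalizer.1 ?_
      rw [mul_smul, mul_smul, hcn, inv_smul_smul]
    have hb' := hmem b hbb (by
      calc b * y * b⁻¹ = (b * b) * a' * b⁻¹ := by simp [y, mul_assoc]
        _ = a' * b⁻¹ := by rw [hbb, one_mul]
        _ = y⁻¹ := by rw [mul_inv_rev, inv_eq_of_mul_eq_one_right ha'a'])
    have ha'' := hmem a' ha'a' (by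
      calc a' * y * a'⁻¹ = a' * b := by simp [y, mul_assoc]
        _ = y⁻¹ := by rw [mul_inv_rev, inv_eq_of_mul_eq_one_right ha'a', hbinv])
    have huniq : ∀ c d : G, c ∈ N → d ∈ N → φ c = φ d → c = d := by
      intro c d hc hd h
      refine inv_mul_eq_one.1 (hNQ _ (N.mul_mem (N.inv_mem hc) hd) ((hker _).1 ?_))
      rw [map_mul, map_inv, h, inv_mul_cancel]
    have hφx : φ x = 1 := (hker x).2 hx
    have e1 := huniq _ a hb' haN (by simp [hφx, hb])
    have e2 := huniq _ a' ha'' ha'N (by simp [hφx])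
    refine ⟨x, ⟨hx, mem_centralizer_iff.2 ?_⟩, ?_⟩
    · intro w hw
      rw [Set.mem_singleton_iff.1 hw]
      calc a' * x = x * (x⁻¹ * a' * x) := by group
        _ = x * a' := by rw [e2]
    · rw [← e1]; group
  refine ⟨fun b hb hbQ => ?_, ?_⟩
  · obtain ⟨i, hi⟩ := hrefl b hb hbQ
    -- move `b` into the coset of `a`
    obtain ⟨j, hj⟩ : ∃ j : ZMod r, i₀ = i + 2 * j := by
      have h2 : IsUnit (2 : ZMod r) := by
        have := (ZMod.unitOfCoprime 2 hcop2.symm).isUnit
        simpa using this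
      obtain ⟨u, hu⟩ := h2
      exact ⟨↑u⁻¹ * (i₀ - i), by rw [← mul_assoc, ← hu, Units.mul_inv, one_mul]; ring⟩
    obtain ⟨g, hg⟩ := hφs (DihedralGroup.r j)
    have hφ : φ (g⁻¹ * b * g) = φ a := by
      rw [map_mul, map_mul, map_inv, hg, hi, hi₀, DihedralGroup.inv_r, DihedralGroup.r_mul_sr, DihedralGroup.sr_mul_r, hj]
      congr 1
      ring
    have hbb : b * b = 1 := by rw [← pow_two, ← hb, pow_orderOf_eq_one]
    obtain ⟨x, -, hx⟩ := key (g⁻¹ * b * g) (by
      calc g⁻¹ * b * g * (g⁻¹ * b * g) = g⁻¹ * (b * b) * g := by group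
        _ = 1 := by rw [hbb, mul_one, inv_mul_cancel]) hφ
    exact ⟨g * x, by rw [show g * x * a * (g * x)⁻¹ = g * (x * a * x⁻¹) * g⁻¹ by group, hx]; group⟩
  -- the order of `C_Q(a)`
  set C := Q ⊓ centralizer ({a} : Set G)
  set C' := Q ⊓ centralizer ({a'} : Set G)
  have hCC' : Nat.card C' = Nat.card C := by
    have : C' = C.map (MulAut.conj n₁).toMonoidHom := by
      ext z
      rw [mem_map_equiv, MulAut.conj_symm_apply]
      constructor
      · rintro ⟨h1, h2⟩
        refine ⟨by simpa using hN.conj_mem z h1 n₁⁻¹, mem_centralizer_iff.2 ?_⟩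
        intro w hw
        rw [Set.mem_singleton_iff.1 hw]
        calc a * (n₁⁻¹ * z * n₁) = n₁⁻¹ * (a' * z) * n₁ := by rw [ha']; group
          _ = n₁⁻¹ * (z * a') * n₁ := by rw [mem_centralizer_iff.1 h2 a' rfl]
          _ = n₁⁻¹ * z * n₁ * a := by rw [ha']; group
      · rintro ⟨h1, h2⟩
        refine ⟨by simpa [mul_assoc] using hN.conj_mem _ h1 n₁, mem_centralizer_iff.2 ?_⟩
        intro w hw
        rw [Set.mem_singleton_iff.1 hw]
        calc a' * z = n₁ * (a * (n₁⁻¹ * z * n₁)) * n₁⁻¹ := by rw [ha']; group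
          _ = n₁ * (n₁⁻¹ * z * n₁ * a) * n₁⁻¹ := by rw [mem_centralizer_iff.1 h2 a rfl]
          _ = z * a' := by rw [ha']; group
    rw [this, card_map_of_injective (MulAut.conj n₁).injective]
  have hsurj : ∀ q : Q, ∃ x : C', ∃ c : C, (x : G) * c = q := by
    rintro ⟨q, hq⟩
    obtain ⟨x, hx, hxe⟩ := key (q * a * q⁻¹) (by
      calc q * a * q⁻¹ * (q * a * q⁻¹) = q * (a * a) * q⁻¹ := by group
        _ = 1 := by rw [haa, mul_one, mul_inv_cancel]) (by simp [(hker q).2 hq])
    refine ⟨⟨x, hx⟩, ⟨x⁻¹ * q, Q.mul_mem (Q.inv_mem hx.1) hq, mem_centralizer_iff.2 ?_⟩, mul_inv_cancel_left x q⟩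
    intro w hw
    rw [Set.mem_singleton_iff.1 hw]
    calc a * (x⁻¹ * q) = x⁻¹ * (x * a * x⁻¹) * q := by group
      _ = x⁻¹ * q * a := by rw [hxe]; group
  have hinj : Function.Injective fun z : C' × C => (⟨(z.1 : G) * z.2, Q.mul_mem z.1.2.1 z.2.2.1⟩ : Q) := by
    rintro ⟨x, c⟩ ⟨x', c'⟩ h
    have h1 : (x : G) * c = (x' : G) * c' := congrArg Subtype.val h
    have hz : (x' : G)⁻¹ * x = (c' : G) * (c : G)⁻¹ := by
      rw [inv_mul_eq_iff_eq_mul, ← mul_assoc, ← h1, mul_inv_cancel_right]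
    set z := (x' : G)⁻¹ * x
    have hz' : z ∈ C' := C'.mul_mem (C'.inv_mem x'.2) x.2
    have hzC : z ∈ C := hz ▸ C.mul_mem c'.2 (C.inv_mem c.2)
    have hz1 : z = 1 := by
      rw [← mem_bot, ← hC]
      refine ⟨hz'.1, ?_⟩
      -- `R` is generated by `a a'`
      have hRy : (R : Subgroup G) ≤ centralizer ({z} : Set G) := by
        have hyN : a * a' ∈ N := N.mul_mem haN ha'N
        have hy : φ (a * a') = DihedralGroup.r (-2) := by
          rw [map_mul, hi₀, hi₁, DihedralGroup.sr_mul_sr]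
          congr 1
          ring
        have hyc : a * a' ∈ centralizer ({z} : Set G) := by
          refine mul_mem (mem_centralizer_iff.2 ?_) (mem_centralizer_iff.2 ?_)
          · intro w hw; rw [Set.mem_singleton_iff.1 hw]; exact (mem_centralizer_iff.1 hzC.2 a rfl).symm
          · intro w hw; rw [Set.mem_singleton_iff.1 hw]; exact (mem_centralizer_iff.1 hz'.2 a' rfl).symm
        have hyr : (a * a') ^ r = 1 := by
          refine hNQ _ (pow_mem hyN r) ((hker _).1 ?_)
          rw [map_pow, hy, DihedralGroup.r_pow]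
          simp
        have hy1 : a * a' ≠ 1 := fun h => by
          rw [h, map_one, DihedralGroup.one_def, DihedralGroup.r.injEq] at hy
          have h2 : ((2 : ℕ) : ZMod r) = 0 := by push_cast; linear_combination hy
          rw [ZMod.natCast_eq_zero_iff] at h2
          exact hr ((Nat.prime_dvd_prime_iff_eq hr'.out Nat.prime_two).1 h2)
        have hyo : orderOf (a * a') = r := orderOf_eq_prime hyr hy1
        have hle : zpowers (a * a') ≤ (R : Subgroup G) := by
          have hp : IsPGroup r (zpowers (a * a')) :=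
            IsPGroup.of_card (n := 1) (by rw [Nat.card_zpowers, hyo, pow_one])
          have := hp.inf_normalizer_sylow R
          exact ((le_inf le_rfl (zpowers_le.2 hyN)).trans this.le).trans inf_le_right
        rw [← eq_of_le_of_card_ge hle (by rw [hRr, Nat.card_zpowers, hyo])]
        exact zpowers_le.2 hyc
      exact mem_centralizer_iff.2 fun w hw => (mem_centralizer_iff.1 (hRy hw) z rfl).symm
    have hx : x = x' := Subtype.ext (inv_mul_eq_one.1 hz1).symm
    subst hx
    exact Prod.ext rfl (Subtype.ext (mul_left_cancel h1))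
  have hbij : Function.Bijective fun z : C' × C => (⟨(z.1 : G) * z.2, Q.mul_mem z.1.2.1 z.2.2.1⟩ : Q) :=
    ⟨hinj, fun q => by
      obtain ⟨x, c, h⟩ := hsurj q
      exact ⟨(x, c), Subtype.ext h⟩⟩
  rw [← Nat.card_eq_of_bijective _ hbij, Nat.card_prod, hCC', pow_two]

end Cfsg.Lib.DihTop
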