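import Mathlib
import Cfsg.Prelude.Def_Transfer
import Cfsg.Agent.Lib.Transfer.PGroupFrattini

/-!
Extraspecial `2`-groups of plus type with an automorphism of order five centralizing only the centre.
-/

set_option autoImplicit false
set_option linter.style.haveILetI false

namespace Cfsg.Lib.ExtraspecialFive

open Subgroup
open scoped commutatorElement

variable {E : Type*} [Group E] [Finite E]

theorem comm_mem (hE : Cfsg.IsExtraspecial 2 E) (a b : E) : ⁅a, b⁆ ∈ center E :=
  hE.1.2.2 ▸ commutator_mem_commutator (mem_top a) (mem_top b)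

theorem sq_mem (hE : Cfsg.IsExtraspecial 2 E) (a : E) : a * a ∈ center E := by
  haveI : Fact (Nat.Prime 2) := ⟨Nat.prime_two⟩
  rw [← hE.1.2.1, ← pow_two]
  exact Cfsg.Lib.Transfer.pow_mem_frattini hE.1.1 a

/-- `g ↦ [g, x]`. -/
def commHom (hE : Cfsg.IsExtraspecial 2 E) (x : E) : E →* ↥(center E) :=
  MonoidHom.mk' (fun g => ⟨⁅g, x⁆, comm_mem hE g x⟩) fun a b => Subtype.ext (by
    show ⁅a * b, x⁆ = ⁅a, x⁆ * ⁅b, x⁆
    calc ⁅a * b, x⁆ = a * ⁅b, x⁆ * a⁻¹ * ⁅a, x⁆ := by simp only [commutatorElement_def]; group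
      _ = ⁅b, x⁆ * ⁅a, x⁆ := by rw [mem_center_iff.1 (comm_mem hE b x) a, mul_inv_cancel_right]
      _ = ⁅a, x⁆ * ⁅b, x⁆ := (mem_center_iff.1 (comm_mem hE b x) _).symm)

theorem mem_commHom_ker (hE : Cfsg.IsExtraspecial 2 E) {x g : E} :
    g ∈ (commHom hE x).ker ↔ g * x = x * g := by
  rw [MonoidHom.mem_ker, ← commutatorElement_eq_one_iff_mul_comm]
  exact ⟨fun e => congrArg Subtype.val e, fun e => Subtype.ext e⟩

theorem centralizer_mul_card_le (hE : Cfsg.IsExtraspecial 2 E) (K : Subgroup E) (hK : center E ≤ K) :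
    Nat.card ↥(centralizer (K : Set E)) * Nat.card K ≤ 2 * Nat.card E := by
  induction h : Nat.card E - Nat.card K using Nat.strong_induction_on generalizing K with
  | _ d ih =>
    subst h
    by_cases hKt : K = ⊤
    · subst hKt
      rw [coe_top, centralizer_univ, hE.2, card_top]
    · obtain ⟨x, hx⟩ : ∃ x, x ∉ K := by
        by_contra hall; push Not at hall; exact hKt (eq_top_iff.2 fun x _ => hall x)
      haveI : K.Normal := ⟨fun a ha g => by
        have : g * a * g⁻¹ = ⁅g, a⁆ * a := by rw [commutatorElement_def]; group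
        rw [this]
        exact K.mul_mem (hK (comm_mem hE g a)) ha⟩
      let K' : Subgroup E := (zpowers (QuotientGroup.mk' K x)).comap (QuotientGroup.mk' K)
      have hxK' : x ∈ K' := mem_zpowers _
      have hKK' : K ≤ K' := fun y hy => by
        show QuotientGroup.mk' K y ∈ zpowers _
        rw [show QuotientGroup.mk' K y = 1 from (QuotientGroup.eq_one_iff y).2 hy]
        exact one_mem _
      have hcK' : Nat.card K' = 2 * Nat.card K := by
        have h1 := card_mul_index (K.subgroupOf K')
        rw [Nat.card_congr (subgroupOfEquivOfLe hKK').toEquiv] at h1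
        have h2 : (K.subgroupOf K').index = 2 := by
          show K.relIndex K' = 2
          have h3 : K = (⊥ : Subgroup (E ⧸ K)).comap (QuotientGroup.mk' K) := by
            rw [MonoidHom.comap_bot, QuotientGroup.ker_mk']
          conv_lhs => rw [h3]
          rw [relIndex_comap, map_comap_eq_self_of_surjective (QuotientGroup.mk'_surjective K),
            relIndex_bot_left, Nat.card_zpowers]
          refine orderOf_eq_prime ?_ fun h => hx ((QuotientGroup.eq_one_iff x).1 h)
          rw [← map_pow, pow_two]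
          exact (QuotientGroup.eq_one_iff _).2 (hK (sq_mem hE x))
        rw [h2] at h1
        omega
      have hle : Nat.card ↥(centralizer (K : Set E)) ≤ 2 * Nat.card ↥(centralizer (K' : Set E)) := by
        set C := centralizer (K : Set E)
        let f : C →* ↥(center E) := (commHom hE x).comp C.subtype
        have h1 := card_mul_index f.ker
        have h2 : f.ker.index ≤ 2 := by
          rw [index_ker]
          exact (Nat.card_le_card_of_injective _ Subtype.val_injective).trans hE.2.le
        have h3 : Nat.card f.ker ≤ Nat.card ↥(centralizer (K' : Set E)) := by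
          refine Nat.card_le_card_of_injective (fun c => ⟨(c.1 : E), ?_⟩) fun a b e => ?_
          · have hcx : (c.1 : E) * x = x * (c.1 : E) := (mem_commHom_ker hE).1 c.2
            rw [mem_centralizer_iff]
            intro y hy
            obtain ⟨i, hi⟩ := hy
            have hk : (x ^ i)⁻¹ * y ∈ K := (QuotientGroup.eq_one_iff _).1 (by
              show QuotientGroup.mk' K _ = 1
              rw [map_mul, map_inv, map_zpow]
              exact inv_mul_eq_one.2 hi)
            have h4 : Commute ((x ^ i)⁻¹ * y) (c.1 : E) := mem_centralizer_iff.1 c.1.2 _ hk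
            have h5 : Commute (x ^ i) (c.1 : E) := Commute.zpow_left hcx.symm i
            have h6 := h5.mul_left h4
            rwa [mul_inv_cancel_left] at h6
          · have h7 : (a.1 : E) = (b.1 : E) := congrArg (fun z : ↥(centralizer (K' : Set E)) => (z : E)) e
            exact Subtype.ext (Subtype.ext h7)
        rw [← h1, mul_comm 2]
        exact Nat.mul_le_mul h3 h2
      have hlt : Nat.card K' ≤ Nat.card E := Nat.le_of_dvd Nat.card_pos K'.card_subgroup_dvd_card
      have hKpos : 0 < Nat.card K := Nat.card_pos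
      have := ih _ (by omega) K' (hK.trans hKK') rfl
      calc Nat.card ↥(centralizer (K : Set E)) * Nat.card K
          ≤ 2 * Nat.card ↥(centralizer (K' : Set E)) * Nat.card K := Nat.mul_le_mul_right _ hle
        _ = Nat.card ↥(centralizer (K' : Set E)) * Nat.card K' := by rw [hcK']; ring
        _ ≤ 2 * Nat.card E := this

theorem four_dvd (m : ℕ) (hE : Cfsg.IsExtraspecial 2 E) (hcard : Nat.card E = 2 ^ (2 * m + 1))
    (hplus : ∃ A : Subgroup E, Cfsg.IsElementaryAbelian 2 A ∧ Nat.card A = 2 ^ (m + 1))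
    (ω : E ≃* E) (hω : orderOf ω = 5) (hfix : ∀ x : E, ω x = x ↔ x ∈ Subgroup.center E) : 4 ∣ m := by
  classical
  haveI : Fintype E := Fintype.ofFinite E
  obtain ⟨A, ⟨hAc, hA2⟩, hAcard⟩ := hplus
  haveI := hAc
  have hAcomm : ∀ a ∈ A, ∀ b ∈ A, a * b = b * a := fun a ha b hb =>
    congrArg Subtype.val (mul_comm' (⟨a, ha⟩ : A) ⟨b, hb⟩)
  have hZA : center E ≤ A := by
    by_contra hn
    have hle : A ⊔ center E ≤ centralizer ((A ⊔ center E : Subgroup E) : Set E) := by
      rw [le_centralizer_iff, sup_le_iff]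
      refine ⟨?_, center_le_centralizer _⟩
      rw [le_centralizer_iff, sup_le_iff]
      exact ⟨fun a ha => mem_centralizer_iff.2 fun b hb => hAcomm b hb a ha, center_le_centralizer _⟩
    have h1 := centralizer_mul_card_le hE (A ⊔ center E) le_sup_right
    have h2 : Nat.card A < Nat.card ↥(A ⊔ center E) := by
      by_contra h
      exact hn (le_trans le_sup_right (eq_of_le_of_card_ge le_sup_left (not_lt.1 h)).ge)
    have h3 : Nat.card ↥(A ⊔ center E) ≤ Nat.card ↥(centralizer ((A ⊔ center E : Subgroup E) : Set E)) :=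
      Nat.card_le_card_of_injective _ (inclusion_injective hle)
    have h4 : Nat.card A * Nat.card A < 2 * Nat.card E :=
      lt_of_lt_of_le (Nat.mul_lt_mul'' h2 h2) ((Nat.mul_le_mul_right _ h3).trans h1)
    rw [hAcard, hcard, ← pow_add, ← pow_succ'] at h4
    have := (Nat.pow_lt_pow_iff_right (by norm_num : 1 < 2)).1 h4
    omega
  have hCA : centralizer (A : Set E) = A := by
    refine (eq_of_le_of_card_ge (fun a ha => mem_centralizer_iff.2 fun b hb => hAcomm b hb a ha) ?_).symm
    have h1 := centralizer_mul_card_le hE A hZA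
    rw [hAcard, hcard] at h1
    rw [hAcard]
    refine Nat.le_of_mul_le_mul_right (h1.trans (le_of_eq ?_)) (by positivity : 0 < 2 ^ (m + 1))
    ring
  have hhalf : ∀ x : E, x ∉ A →
      2 * ((Finset.univ : Finset E).filter fun a => a ∈ A ∧ (x * a) * (x * a) = 1).card = Nat.card A := by
    intro x hx
    let f : A →* ↥(center E) := (commHom hE x⁻¹).comp A.subtype
    have hsurj : Function.Surjective f := by
      obtain ⟨a, ha, hne⟩ : ∃ a ∈ A, a * x⁻¹ ≠ x⁻¹ * a := by
        by_contra hall
        push Not at hall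
        refine hx (hCA.le ?_)
        rw [← inv_mem_iff, mem_centralizer_iff]
        exact hall
      intro z
      haveI : Finite ↥(center E) := inferInstance
      obtain ⟨u, v, huv, huniv⟩ := Nat.card_eq_two_iff.1 hE.2
      have hfa : f ⟨a, ha⟩ ≠ 1 := fun h => hne ((mem_commHom_ker hE).1 h)
      by_cases hz : z = 1
      · exact ⟨1, by rw [map_one, hz]⟩
      · refine ⟨⟨a, ha⟩, ?_⟩
        have hmem : ∀ w, w = u ∨ w = v := fun w => by
          have := Set.eq_univ_iff_forall.1 huniv w
          simpa using this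
        rcases hmem z with h | h <;> rcases hmem (f ⟨a, ha⟩) with h' | h' <;> rcases hmem 1 with h'' | h'' <;>
          simp_all
    obtain ⟨a₀, ha₀⟩ := hsurj ⟨(x * x)⁻¹, inv_mem (sq_mem hE x)⟩
    have hset : Nat.card f.ker =
        ((Finset.univ : Finset E).filter fun a => a ∈ A ∧ (x * a) * (x * a) = 1).card := by
      rw [← Fintype.card_subtype, ← Nat.card_eq_fintype_card]
      have key : ∀ a : A, (x * (a : E)) * (x * a) = 1 ↔ f a = ⟨(x * x)⁻¹, inv_mem (sq_mem hE x)⟩ := by
        intro a
        have e1 : (x * (a : E)) * (x * a) = (x * x) * ⁅(a : E), x⁻¹⁆⁻¹ := by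
          have h1 : ⁅(a : E), x⁻¹⁆⁻¹ = x⁻¹ * a * x * (a : E)⁻¹ := by simp only [commutatorElement_def]; group
          have h2 : (a : E)⁻¹ = a := inv_eq_of_mul_eq_one_right (by rw [← pow_two]; exact hA2 a a.2)
          rw [h1, h2]
          group
        have hz2 : ⁅(a : E), x⁻¹⁆⁻¹ = ⁅(a : E), x⁻¹⁆ := by
          refine inv_eq_of_mul_eq_one_right ?_
          have := congrArg Subtype.val (pow_card_eq_one' (x := (f a)))
          rw [hE.2, pow_two] at this
          exact this
        rw [e1, hz2, mul_eq_one_iff_inv_eq]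
        exact ⟨fun h => Subtype.ext h.symm, fun h => (congrArg Subtype.val h).symm⟩
      refine Nat.card_congr
        { toFun := fun k => ⟨((a₀ * k.1 : A) : E), (a₀ * k.1).2, (key _).2 (by
            rw [map_mul, ha₀, MonoidHom.mem_ker.1 k.2, mul_one])⟩
          invFun := fun a => ⟨a₀⁻¹ * ⟨a.1, a.2.1⟩, MonoidHom.mem_ker.2 (by
            rw [map_mul, map_inv, ha₀, (key ⟨a.1, a.2.1⟩).1 a.2.2, inv_mul_cancel])⟩
          left_inv := fun k => Subtype.ext (show a₀⁻¹ * (a₀ * k.1) = k.1 from inv_mul_cancel_left _ _)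
          right_inv := fun a => Subtype.ext (by simp) }
    have h1 := card_mul_index f.ker
    rw [index_ker, MonoidHom.range_eq_top.2 hsurj, card_top, hE.2, hset] at h1
    omega
  set T := (Finset.univ : Finset E).filter fun x => x ∉ A ∧ x * x = 1
  have hAf : ((Finset.univ : Finset E).filter fun x => x ∈ A).card = Nat.card A := by
    rw [Nat.card_eq_fintype_card, ← Fintype.card_subtype]
  have hsplit : ((Finset.univ : Finset E).filter fun x => x ∈ A).card +
      ((Finset.univ : Finset E).filter fun x => x ∉ A).card = Nat.card E := by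
    rw [Finset.card_filter_add_card_filter_not, Finset.card_univ, Nat.card_eq_fintype_card]
  have hT : 2 * (Nat.card A * T.card) = ((Finset.univ : Finset E).filter fun x => x ∉ A).card * Nat.card A := by
    rw [← hAf, ← smul_eq_mul (b := T.card)]
    rw [← Finset.sum_const, Finset.mul_sum]
    trans ∑ x ∈ (Finset.univ : Finset E).filter (fun x => x ∉ A),
        2 * ((Finset.univ : Finset E).filter fun a => a ∈ A ∧ (x * a) * (x * a) = 1).card
    · rw [← Finset.mul_sum, ← Finset.mul_sum]
      congr 1
      simp only [T, Finset.card_filter, Finset.sum_filter]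
      trans ∑ a, ∑ i, if a ∈ A ∧ i ∉ A ∧ i * i = 1 then 1 else 0
      · exact Finset.sum_congr rfl fun a _ => by by_cases ha : a ∈ A <;> simp [ha]
      trans ∑ a, ∑ i, if a ∈ A ∧ i ∉ A ∧ i * a * (i * a) = 1 then 1 else 0
      swap
      · rw [Finset.sum_comm]
        exact Finset.sum_congr rfl fun a _ => by by_cases ha : a ∈ A <;> simp [ha]
      refine Finset.sum_congr rfl fun a _ => ?_
      by_cases ha : a ∈ A
      · simp only [ha, true_and, if_true]
        refine (Fintype.sum_equiv (Equiv.mulRight a) _ _ fun x => ?_).symm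
        simp only [Equiv.coe_mulRight, A.mul_mem_cancel_right ha]
      · simp [ha]
    · rw [Finset.sum_congr rfl fun x hx => hhalf x (Finset.mem_filter.1 hx).2, Finset.sum_const, smul_eq_mul, hAf]
  have hT' : 2 * T.card + Nat.card A = Nat.card E := by
    have : 2 * T.card = ((Finset.univ : Finset E).filter fun x => x ∉ A).card := by
      refine Nat.eq_of_mul_eq_mul_right (Nat.card_pos : 0 < Nat.card A) ?_
      rw [← hT]; ring
    omega
  haveI : Fact (Nat.Prime 5) := ⟨by norm_num⟩
  have hZp : IsPGroup 5 ↥(zpowers ω) := IsPGroup.of_card (n := 1) (by rw [Nat.card_zpowers, hω, pow_one])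
  let act : MulAction ↥(zpowers ω) E :=
    { smul := fun g x => (g : E ≃* E) x
      one_smul := fun _ => rfl
      mul_smul := fun _ _ _ => rfl }
  letI := act
  have hfp : MulAction.fixedPoints ↥(zpowers ω) E = (center E : Set E) := by
    ext x
    refine ⟨fun h => (hfix x).1 (h ⟨ω, mem_zpowers ω⟩), fun hx => ?_⟩
    rintro ⟨g, i, rfl⟩
    show (ω ^ i) x = x
    have hω' : ω ∈ MulAction.stabilizer (E ≃* E) x := (hfix x).2 hx
    exact (zpow_mem hω' i : ω ^ i ∈ MulAction.stabilizer (E ≃* E) x)
  have hmod1 : Nat.card E ≡ 2 [MOD 5] := by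
    have := hZp.card_modEq_card_fixedPoints E
    rwa [hfp, show Nat.card ↥(center E : Set E) = 2 from hE.2] at this
  let I : SubMulAction ↥(zpowers ω) E :=
    { carrier := {x | x ∉ center E ∧ x * x = 1}
      smul_mem' := fun g x hx => by
        refine ⟨fun h => hx.1 ?_, ?_⟩
        · have h2 := (hfp.symm ▸ h : (g • x) ∈ MulAction.fixedPoints ↥(zpowers ω) E) g⁻¹
          rw [inv_smul_smul] at h2
          rw [h2]; exact h
        · show (g : E ≃* E) x * (g : E ≃* E) x = 1
          rw [← map_mul, hx.2, map_one] }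
  have hmod2 : Nat.card I ≡ 0 [MOD 5] := by
    have := hZp.card_modEq_card_fixedPoints ↥I
    have he : IsEmpty (MulAction.fixedPoints ↥(zpowers ω) ↥I) := ⟨fun ⟨x, hx⟩ => x.2.1 (hfp.le (fun g =>
      congrArg Subtype.val (hx g)))⟩
    rwa [Nat.card_of_isEmpty (α := MulAction.fixedPoints ↥(zpowers ω) ↥I)] at this
  have hI : Nat.card I + 2 = T.card + Nat.card A := by
    have h1 : Nat.card I = ((Finset.univ : Finset E).filter fun x => x ∉ center E ∧ x * x = 1).card := by
      rw [← Fintype.card_subtype, ← Nat.card_eq_fintype_card]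
      rfl
    have h2 : ((Finset.univ : Finset E).filter fun x => x ∈ center E).card = 2 := by
      rw [← Fintype.card_subtype, ← Nat.card_eq_fintype_card]; exact hE.2
    rw [h1, ← h2, ← hAf, ← Finset.card_union_of_disjoint, ← Finset.card_union_of_disjoint]
    · congr 1
      ext x
      simp only [T, Finset.mem_union, Finset.mem_filter, Finset.mem_univ, true_and]
      have hA2' : x ∈ A → x * x = 1 := fun h => by rw [← pow_two]; exact hA2 x h
      by_cases hxA : x ∈ A
      · by_cases hxZ : x ∈ center E <;> simp [hxA, hxZ, hA2']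
      · have hxZ : x ∉ center E := fun h => hxA (hZA h)
        simp [hxA, hxZ]
    all_goals exact Finset.disjoint_filter.2 fun x _ h h' => h.1 h'
  rw [hcard] at hmod1 hT'
  rw [hAcard] at hT' hI
  rw [Nat.ModEq] at hmod1 hmod2
  obtain ⟨q, r, hr, rfl⟩ : ∃ q r, r < 4 ∧ m = 4 * q + r := ⟨m / 4, m % 4, Nat.mod_lt _ (by norm_num), (Nat.div_add_mod m 4).symm⟩
  have h16 : ∀ k, (16 ^ k) % 5 = 1 := fun k => by rw [Nat.pow_mod]; norm_num
  have e1 : 2 ^ (4 * q + r + 1) = 16 ^ q * 2 ^ (r + 1) := by
    rw [show (16 : ℕ) = 2 ^ 4 by norm_num, ← pow_mul, ← pow_add]; ring_nf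
  have e2 : 2 ^ (2 * (4 * q + r) + 1) = 16 ^ (2 * q) * 2 ^ (2 * r + 1) := by
    rw [show (16 : ℕ) = 2 ^ 4 by norm_num, ← pow_mul, ← pow_add]; ring_nf
  rw [e1] at hI hT'
  rw [e2] at hmod1 hT'
  have ha := h16 q
  have hb := h16 (2 * q)
  have hq : (16 ^ q * 2 ^ (r + 1)) % 5 = 2 ^ (r + 1) % 5 := by rw [Nat.mul_mod, ha]; simp
  have hq2 : (16 ^ (2 * q) * 2 ^ (2 * r + 1)) % 5 = 2 ^ (2 * r + 1) % 5 := by rw [Nat.mul_mod, hb]; simp
  generalize 16 ^ q * 2 ^ (r + 1) = X at *
  generalize 16 ^ (2 * q) * 2 ^ (2 * r + 1) = Y at *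
  interval_cases r <;> norm_num at hq hq2 <;> omega

end Cfsg.Lib.ExtraspecialFive
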