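import Mathlib
import Cfsg.Agent.Lib.PLocal.ElementaryAbelian
import Cfsg.Agent.Lib.Sig.Basic
import Cfsg.Agent.Lib.Classical.SLGroup

/-!
Best offenders in linear groups with self-centralizing `p'`-core: counting and transvection pairs.
-/

set_option autoImplicit false
set_option linter.unusedSectionVars false
set_option linter.style.haveILetI false
set_option linter.unusedSimpArgs false

open scoped commutatorElement

namespace Cfsg.Lib.PLocal.FF

open Subgroup

variable {p : ℕ} [hp : Fact p.Prime] {M : Type*} [AddCommGroup M] [Module (ZMod p) M] [Finite M]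
variable {Γ : Type*} [Group Γ] [Finite Γ] {ρ : Γ →* Module.End (ZMod p) M}

/-- Fixed points of a subgroup. -/
def fix (ρ : Γ →* Module.End (ZMod p) M) (A : Subgroup Γ) : Submodule (ZMod p) M :=
  ⨅ a : A, LinearMap.ker (ρ a - 1)

theorem mem_fix {A : Subgroup Γ} {v : M} : v ∈ fix ρ A ↔ ∀ a ∈ A, ρ a v = v := by
  simp [fix, Submodule.mem_iInf, sub_eq_zero]

theorem fix_anti {A B : Subgroup Γ} (h : B ≤ A) : fix ρ A ≤ fix ρ B := fun _ hv =>
  mem_fix.2 fun b hb => mem_fix.1 hv b (h hb)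

/-- Best offenders on the module. -/
def Off (ρ : Γ →* Module.End (ZMod p) M) (A : Subgroup Γ) : Prop :=
  (∀ B : Subgroup Γ, B ≤ A → Nat.card B * Nat.card (fix ρ B) ≤ Nat.card A * Nat.card (fix ρ A)) ∧
    Cfsg.IsElementaryAbelian p A

/-- Faithful action with a self-centralizing normal `p'`-subgroup. -/
structure Hyp (ρ : Γ →* Module.End (ZMod p) M) (K : Subgroup Γ) : Prop where
  inj : Function.Injective ρ
  normal : K.Normal
  prime_to : ¬ p ∣ Nat.card K
  self_centralizing : centralizer (K : Set Γ) ≤ K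

variable {K : Subgroup Γ}

theorem apply_inv_cancel (k : Γ) (v : M) : ρ k⁻¹ (ρ k v) = v := by
  rw [← Module.End.mul_apply, ← map_mul, inv_mul_cancel, map_one, Module.End.one_apply]

theorem apply_cancel_inv (k : Γ) (v : M) : ρ k (ρ k⁻¹ v) = v := by
  rw [← Module.End.mul_apply, ← map_mul, mul_inv_cancel, map_one, Module.End.one_apply]

theorem apply_mul (g h : Γ) (v : M) : ρ (g * h) v = ρ g (ρ h v) := by
  rw [map_mul, Module.End.mul_apply]

/-- The `P × Q` lemma for modules. -/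
theorem eq_one_of_fix (hρ : Function.Injective ρ) {B : Subgroup Γ} (hB : IsPGroup p B) {k : Γ}
    (hk : ¬ p ∣ orderOf k) (hkB : ∀ b ∈ B, Commute k b) (hfix : ∀ v ∈ fix ρ B, ρ k v = v) : k = 1 := by
  classical
  set m := orderOf k
  have hm : (m : ZMod p) ≠ 0 := fun e => hk ((ZMod.natCast_eq_zero_iff m p).1 e)
  let π : Module.End (ZMod p) M := (m : ZMod p)⁻¹ • ∑ i ∈ Finset.range m, ρ (k ^ i)
  have hπB : ∀ b ∈ B, ∀ v, π (ρ b v) = ρ b (π v) := fun b hb v => by
    simp only [π, LinearMap.smul_apply, LinearMap.sum_apply, map_smul, map_sum]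
    refine congrArg _ (Finset.sum_congr rfl fun i _ => ?_)
    rw [← apply_mul, ((hkB b hb).pow_left i).eq, apply_mul]
  have hπk : ∀ v, ρ k (π v) = π v := fun v => by
    simp only [π, LinearMap.smul_apply, LinearMap.sum_apply, map_smul, map_sum]
    refine congrArg _ ?_
    simp only [← apply_mul, ← pow_succ']
    have h1 := Finset.sum_range_succ (fun i => ρ (k ^ i) v) m
    have h2 := Finset.sum_range_succ' (fun i => ρ (k ^ i) v) m
    rw [h1, pow_orderOf_eq_one, pow_zero, add_left_inj] at h2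
    exact h2.symm
  have hfixed : ∀ v, ρ k v = v → π v = v := fun v hv => by
    have hi : ∀ i : ℕ, ρ (k ^ i) v = v := fun i => by
      induction i with
      | zero => rw [pow_zero, map_one, Module.End.one_apply]
      | succ i ih => rw [pow_succ, apply_mul, hv, ih]
    simp only [π, LinearMap.smul_apply, LinearMap.sum_apply, hi, Finset.sum_const, Finset.card_range]
    rw [← Nat.cast_smul_eq_nsmul (ZMod p), smul_smul, inv_mul_cancel₀ hm, one_smul]
  have hker : LinearMap.ker π = ⊥ := by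
    by_contra hne
    haveI : Nontrivial (LinearMap.ker π) := Submodule.nontrivial_iff_ne_bot.2 hne
    letI : MulAction B (LinearMap.ker π) :=
      { smul := fun b v => ⟨ρ b v, by rw [LinearMap.mem_ker, hπB b b.2, LinearMap.mem_ker.1 v.2, map_zero]⟩
        one_smul := fun v => Subtype.ext (by show ρ ((1 : B) : Γ) v = v; rw [OneMemClass.coe_one, map_one]; rfl)
        mul_smul := fun a b v => Subtype.ext (apply_mul (ρ := ρ) (a : Γ) b (v : M)) }
    have hd : p ∣ Nat.card (LinearMap.ker π) := by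
      rw [Module.natCard_eq_pow_finrank (K := ZMod p), Nat.card_zmod]
      exact dvd_pow_self p (Module.finrank_pos (R := ZMod p)).ne'
    obtain ⟨w, hw, hne'⟩ := hB.exists_fixed_point_of_prime_dvd_card_of_fixed_point _ hd
      (a := (0 : LinearMap.ker π)) (fun b => Subtype.ext (map_zero (ρ b)))
    have hw' : (w : M) ∈ fix ρ B := mem_fix.2 fun b hb => congrArg Subtype.val (hw ⟨b, hb⟩)
    have := hfixed _ (hfix _ hw')
    rw [LinearMap.mem_ker.1 w.2] at this
    exact hne' (Subtype.ext this)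
  have hsurj : Function.Surjective π := Finite.surjective_of_injective (LinearMap.ker_eq_bot.1 hker)
  refine hρ ?_
  rw [map_one]
  refine LinearMap.ext fun v => ?_
  obtain ⟨v, rfl⟩ := hsurj v
  exact hπk v

theorem Hyp.orderOf_not_dvd (h : Hyp ρ K) {k : Γ} (hk : k ∈ K) : ¬ p ∣ orderOf k := fun hd =>
  h.prime_to (hd.trans (by rw [← Subgroup.orderOf_mk k hk]; exact orderOf_dvd_natCard _))

theorem Hyp.inter_bot (h : Hyp ρ K) {A : Subgroup Γ} (hA : IsPGroup p A) {x : Γ} (hx : x ∈ A) (hxK : x ∈ K) : x = 1 := by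
  by_contra hne
  obtain ⟨n, hn⟩ := IsPGroup.iff_orderOf.1 hA ⟨x, hx⟩
  rw [Subgroup.orderOf_mk] at hn
  refine h.orderOf_not_dvd hxK ?_
  rw [hn]
  refine dvd_pow_self p ?_
  rintro rfl
  rw [pow_zero, orderOf_eq_one_iff] at hn
  exact hne hn

theorem card_eq_relIndex_mul {A B : Subgroup Γ} (h : B ≤ A) : Nat.card A = B.relIndex A * Nat.card B := by
  rw [mul_comm, ← Subgroup.relIndex_bot_left, ← Subgroup.relIndex_bot_left,
    Subgroup.relIndex_mul_relIndex _ _ _ bot_le h]

/-- A hyperplane whose centralizer in the core is not centralized. -/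
def Good (K A B : Subgroup Γ) : Prop :=
  B ≤ A ∧ B.relIndex A = p ∧ ¬ K ⊓ centralizer (B : Set Γ) ≤ centralizer (A : Set Γ)

theorem good_inter (h : Hyp ρ K) {A : Subgroup Γ} (hA : Cfsg.IsElementaryAbelian p A) {c : Γ} (hc : c ∈ A)
    (hall : ∀ B, Good (p := p) K A B → c ∈ B) : c = 1 := by
  haveI := h.normal
  have hle : K ≤ centralizer ({c} : Set Γ) := by
    have h1 := Cfsg.Lib.Sig.le_iSup_centralizer_index A K hA h.prime_to (le_normalizer_of_normal) ⊥ bot_le
    rw [inf_eq_left.2 (show K ≤ centralizer ((⊥ : Subgroup Γ) : Set Γ) from fun k _ => mem_centralizer_iff.2 fun y hy => by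
      rw [SetLike.mem_coe, mem_bot] at hy; rw [hy, one_mul, mul_one])] at h1
    refine h1.trans (iSup_le fun ⟨B, hBA, hBi⟩ => ?_)
    obtain ⟨n, hn⟩ := IsPGroup.iff_card.1 (elem_isPGroup hA)
    obtain ⟨j, -, hj⟩ := (Nat.dvd_prime_pow hp.out).1 (hn ▸ Subgroup.relIndex_dvd_card B A : B.relIndex A ∣ p ^ n)
    rintro x ⟨hxK, hxB⟩
    rw [mem_centralizer_singleton_iff]
    by_cases hg : K ⊓ centralizer (B : Set Γ) ≤ centralizer (A : Set Γ)
    · exact (mem_centralizer_iff.1 (hg ⟨hxK, hxB⟩) c hc).symm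
    · have hj1 : B.relIndex A = p := by
        rcases j with _ | _ | j
        · exfalso
          rw [pow_zero, Subgroup.relIndex_eq_one] at hj
          exact hg (inf_le_right.trans (centralizer_le hj))
        · rw [hj, pow_one]
        · exfalso
          have h2 : p ^ 1 < p ^ (j + 1 + 1) := Nat.pow_lt_pow_right hp.out.one_lt (by omega)
          rw [pow_one, ← hj] at h2
          exact absurd hBi (Nat.not_le.2 h2)
      exact (mem_centralizer_iff.1 hxB c (hall B ⟨hBA, hj1, hg⟩)).symm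
  have h2 : c ∈ centralizer (K : Set Γ) := mem_centralizer_iff.2 fun k hk => mem_centralizer_singleton_iff.1 (hle hk)
  exact h.inter_bot (elem_isPGroup hA) hc (h.self_centralizing h2)

theorem exists_good (h : Hyp ρ K) {A : Subgroup Γ} (hA : Cfsg.IsElementaryAbelian p A) (hA1 : A ≠ ⊥) :
    ∃ B, Good (p := p) K A B := by
  by_contra hc
  push Not at hc
  exact hA1 ((Subgroup.eq_bot_iff_forall A).2 fun c hcA => good_inter h hA hcA fun B hB => absurd hB (hc B))

theorem good_fix (h : Hyp ρ K) {A B : Subgroup Γ} (hA : Cfsg.IsElementaryAbelian p A) (hB : Good (p := p) K A B) :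
    p * Nat.card (fix ρ A) ≤ Nat.card (fix ρ B) := by
  haveI := h.normal
  obtain ⟨hBA, -, hg⟩ := hB
  have hlt : fix ρ A < fix ρ B := by
    refine lt_of_le_of_ne (fix_anti hBA) fun e => hg ?_
    rintro k ⟨hkK, hkB⟩
    rw [mem_centralizer_iff]
    intro a ha
    have hcb : ∀ b ∈ B, Commute k b := fun b hb => (mem_centralizer_iff.1 hkB b hb).symm
    have hab : ∀ b ∈ B, Commute a b := fun b hb => elem_comm hA ha (hBA hb)
    have h1 : ⁅k, a⁆ = 1 := by
      refine eq_one_of_fix h.inj (elem_isPGroup (elem_le hA hBA)) (h.orderOf_not_dvd ?_) (fun b hb => ?_) fun v hv => ?_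
      · rw [commutatorElement_def, mul_assoc k, mul_assoc k]
        exact K.mul_mem hkK (h.normal.conj_mem _ (K.inv_mem hkK) a)
      · rw [commutatorElement_def]
        exact (((hcb b hb).mul_left (hab b hb)).mul_left (hcb b hb).inv_left).mul_left (hab b hb).inv_left
      · have hv' : ∀ w ∈ fix ρ B, ρ a w = w := fun w hw => mem_fix.1 (e.ge hw) a ha
        have hk' : ∀ k', (∀ b ∈ B, Commute k' b) → ∀ w ∈ fix ρ B, ρ k' w ∈ fix ρ B := fun k' hk' w hw =>
          mem_fix.2 fun b hb => by rw [← apply_mul, ← (hk' b hb).eq, apply_mul, mem_fix.1 hw b hb]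
        have hai : ρ a⁻¹ v = v := by conv_lhs => rw [← hv' v hv, apply_inv_cancel]
        rw [commutatorElement_def, apply_mul, apply_mul, apply_mul, hai,
          hv' _ (hk' _ (fun b hb => (hcb b hb).inv_left) v hv), apply_cancel_inv]
    exact (commutatorElement_eq_one_iff_mul_comm.1 h1).symm
  rw [Module.natCard_eq_pow_finrank (K := ZMod p), Module.natCard_eq_pow_finrank (K := ZMod p) (V := fix ρ B),
    Nat.card_zmod, ← pow_succ']
  exact Nat.pow_le_pow_right hp.out.pos (Submodule.finrank_lt_finrank_of_lt hlt)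

theorem card_fix_le (h : Hyp ρ K) (A : Subgroup Γ) (hA : Cfsg.IsElementaryAbelian p A) :
    Nat.card A * Nat.card (fix ρ A) ≤ Nat.card M := by
  induction A using (wellFounded_lt (α := Subgroup Γ)).induction with
  | _ A ih =>
    by_cases hA1 : A = ⊥
    · subst hA1
      rw [Subgroup.card_bot, one_mul]
      exact Nat.card_le_card_of_injective _ Subtype.val_injective
    obtain ⟨B, hB⟩ := exists_good h hA hA1
    have hlt : B < A := lt_of_le_of_ne hB.1 fun e => by
      have := hB.2.1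
      rw [e, Subgroup.relIndex_self] at this
      exact hp.out.one_lt.ne this
    refine le_trans ?_ (ih B hlt (elem_le hA hB.1))
    rw [card_eq_relIndex_mul hB.1, hB.2.1]
    calc p * Nat.card B * Nat.card (fix ρ A) = Nat.card B * (p * Nat.card (fix ρ A)) := by ring
      _ ≤ _ := Nat.mul_le_mul_left _ (good_fix h hA hB)

theorem fix_bot : fix ρ (⊥ : Subgroup Γ) = ⊤ := by
  rw [eq_top_iff]
  intro v _
  rw [mem_fix]
  intro a ha
  rw [mem_bot.1 ha, map_one, Module.End.one_apply]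

theorem Off.card_eq (h : Hyp ρ K) {A : Subgroup Γ} (hA : Off ρ A) :
    Nat.card A * Nat.card (fix ρ A) = Nat.card M := by
  refine le_antisymm (card_fix_le h A hA.2) ?_
  have h1 := hA.1 ⊥ bot_le
  rwa [Subgroup.card_bot, one_mul, fix_bot, Nat.card_congr (Submodule.topEquiv (R := ZMod p) (M := M)).toEquiv] at h1

theorem off_of_card_eq (h : Hyp ρ K) {A : Subgroup Γ} (hA : Cfsg.IsElementaryAbelian p A)
    (he : Nat.card A * Nat.card (fix ρ A) = Nat.card M) : Off ρ A :=
  ⟨fun B hB => he ▸ card_fix_le h B (elem_le hA hB), hA⟩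

theorem Good.off (h : Hyp ρ K) {A B : Subgroup Γ} (hA : Off ρ A) (hB : Good (p := p) K A B) : Off ρ B := by
  refine off_of_card_eq h (elem_le hA.2 hB.1) (le_antisymm (card_fix_le h B (elem_le hA.2 hB.1)) ?_)
  rw [← hA.card_eq h, card_eq_relIndex_mul hB.1, hB.2.1]
  calc p * Nat.card B * Nat.card (fix ρ A) = Nat.card B * (p * Nat.card (fix ρ A)) := by ring
    _ ≤ _ := Nat.mul_le_mul_left _ (good_fix h hA.2 hB)

theorem card_prime_of_minimal (h : Hyp ρ K) {A : Subgroup Γ} (hA : Off ρ A) (hA1 : A ≠ ⊥)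
    (hmin : ∀ B, B ≤ A → Off ρ B → B ≠ ⊥ → B = A) : Nat.card A = p := by
  obtain ⟨B, hB⟩ := exists_good h hA.2 hA1
  have hB1 : B = ⊥ := by
    by_contra hne
    have := hmin B hB.1 (hB.off h hA) hne
    have h2 := hB.2.1
    rw [this, Subgroup.relIndex_self] at h2
    exact hp.out.one_lt.ne h2
  rw [← Subgroup.relIndex_bot_left, ← hB1, hB.2.1]

theorem eq_iSup_prime (h : Hyp ρ K) (A : Subgroup Γ) (hA : Off ρ A) :
    A ≤ sSup {B | B ≤ A ∧ Off ρ B ∧ Nat.card B = p} := by
  induction A using (wellFounded_lt (α := Subgroup Γ)).induction with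
  | _ A ih =>
    by_cases hA1 : A = ⊥
    · rw [hA1]; exact bot_le
    by_cases hAp : Nat.card A = p
    · exact le_sSup ⟨le_rfl, hA, hAp⟩
    have hstep : ∀ B, Good (p := p) K A B → B ≤ sSup {D | D ≤ A ∧ Off ρ D ∧ Nat.card D = p} := fun B hB => by
      refine (ih B (lt_of_le_of_ne hB.1 fun e => ?_) (hB.off h hA)).trans (sSup_le_sSup fun D hD => ⟨hD.1.trans hB.1, hD.2⟩)
      have h2 := hB.2.1
      rw [e, Subgroup.relIndex_self] at h2
      exact hp.out.one_lt.ne h2
    obtain ⟨B, hB⟩ := exists_good h hA.2 hA1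
    obtain ⟨B', hB', hne⟩ : ∃ B', Good (p := p) K A B' ∧ ¬ B' ≤ B := by
      by_contra hc
      push Not at hc
      have hB1 : B = ⊥ := (Subgroup.eq_bot_iff_forall B).2 fun c hcB => good_inter h hA.2 (hB.1 hcB) fun B' hB' => by
        have heq : B' = B := Subgroup.eq_of_le_of_card_ge (hc B' hB') (by
          have e1 := card_eq_relIndex_mul hB.1
          rw [hB.2.1, card_eq_relIndex_mul hB'.1, hB'.2.1] at e1
          exact (Nat.eq_of_mul_eq_mul_left hp.out.pos e1).ge)
        rw [heq]; exact hcB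
      exact hAp (by rw [← Subgroup.relIndex_bot_left, ← hB1, hB.2.1])
    refine le_trans ?_ (sup_le (hstep B hB) (hstep B' hB'))
    rw [← Subgroup.relIndex_eq_one]
    have h3 := Subgroup.relIndex_mul_relIndex B (B ⊔ B') A le_sup_left (sup_le hB.1 hB'.1)
    rw [hB.2.1] at h3
    refine ((Nat.dvd_prime hp.out).1 (Dvd.intro_left _ h3)).resolve_right fun e => hne ?_
    rw [e] at h3
    have h4 : B.relIndex (B ⊔ B') = 1 := by
      have := hp.out.pos
      exact Nat.eq_of_mul_eq_mul_right this (by rw [h3, one_mul])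
    rw [Subgroup.relIndex_eq_one] at h4
    exact le_sup_right.trans h4

/-- A minimal generating family of subgroups of prime order in an abelian group is independent. -/
theorem exists_indep {A : Subgroup Γ} (S : Set (Subgroup Γ)) (hS : ∀ B ∈ S, (Nat.card B).Prime) (hAS : sSup S = A) :
    ∃ (k : ℕ) (B : Fin k → Subgroup Γ), (∀ i, B i ∈ S) ∧ iSupIndep B ∧ ⨆ i, B i = A := by
  classical
  have hne : {T : Set (Subgroup Γ) | T ⊆ S ∧ sSup T = A}.Nonempty := ⟨S, subset_rfl, hAS⟩
  obtain ⟨T, ⟨hTS, hTA⟩, hmin⟩ := (Set.toFinite {T : Set (Subgroup Γ) | T ⊆ S ∧ sSup T = A}).exists_minimal hne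
  let e := Finite.equivFin T
  refine ⟨Nat.card T, fun i => (e.symm i : Subgroup Γ), fun i => hTS (e.symm i).2, fun i => ?_, ?_⟩
  · set D := (e.symm i : Subgroup Γ)
    set R := ⨆ (j) (_ : j ≠ i), ((e.symm j : T) : Subgroup Γ)
    rw [disjoint_iff]
    rcases (Nat.dvd_prime (hS D (hTS (e.symm i).2))).1 (Subgroup.card_dvd_of_le (inf_le_left (a := D) (b := R))) with h1 | h1
    · exact Subgroup.card_eq_one.1 h1
    exfalso
    have hDR : D ≤ R := by
      rw [← Subgroup.eq_of_le_of_card_ge (inf_le_left (a := D) (b := R)) (by rw [h1])]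
      exact inf_le_right
    have hT' : sSup (T \ {D}) = A := by
      refine le_antisymm ((sSup_le_sSup Set.sdiff_subset).trans hTA.le) (hTA.ge.trans (sSup_le fun X hX => ?_))
      by_cases hXD : X = D
      · rw [hXD]
        refine hDR.trans (iSup₂_le fun j hj => le_sSup ⟨(e.symm j).2, fun hh => hj ?_⟩)
        exact e.symm.injective (Subtype.ext hh)
      · exact le_sSup ⟨hX, hXD⟩
    have h2 := hmin ⟨Set.sdiff_subset.trans hTS, hT'⟩ Set.sdiff_subset
    exact (h2 (e.symm i).2).2 rfl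
  · rw [← hTA, sSup_eq_iSup']
    exact e.symm.iSup_comp (g := fun x : T => (x : Subgroup Γ))

/-- `a` acts as a transvection with centre `u` and axis `ker φ`. -/
structure Tv (ρ : Γ →* Module.End (ZMod p) M) (a : Γ) (u : M) (φ : M →ₗ[ZMod p] ZMod p) : Prop where
  center_ne : u ≠ 0
  axis_ne : φ ≠ 0
  app : ∀ v, ρ a v = v + φ v • u
  center_mem : φ u = 0

theorem Tv.app_inv {a : Γ} {u : M} {φ : M →ₗ[ZMod p] ZMod p} (h : Tv ρ a u φ) (v : M) :
    ρ a⁻¹ v = v - φ v • u := by
  have h1 : ρ a (v - φ v • u) = v := by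
    rw [h.app, map_sub, map_smul, h.center_mem, smul_zero, sub_zero, sub_add_cancel]
  conv_lhs => rw [← h1, apply_inv_cancel]

theorem Tv.app_pow {a : Γ} {u : M} {φ : M →ₗ[ZMod p] ZMod p} (h : Tv ρ a u φ) (i : ℕ) (v : M) :
    ρ (a ^ i) v = v + ((i : ZMod p) * φ v) • u := by
  induction i generalizing v with
  | zero => simp
  | succ i ih =>
    rw [pow_succ, apply_mul, h.app, ih, map_add, map_smul, h.center_mem, smul_zero, add_zero, Nat.cast_add,
      Nat.cast_one, add_assoc, ← add_smul]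
    congr 2; ring

theorem Tv.conj {a : Γ} {u : M} {φ : M →ₗ[ZMod p] ZMod p} (h : Tv ρ a u φ) (k : Γ) :
    Tv ρ (k * a * k⁻¹) (ρ k u) (φ.comp (ρ k⁻¹)) := by
  refine ⟨fun e => h.center_ne ?_, fun e => h.axis_ne ?_, fun v => ?_, ?_⟩
  · rw [← apply_inv_cancel (ρ := ρ) k u, e, map_zero]
  · refine LinearMap.ext fun v => ?_
    have := LinearMap.congr_fun e (ρ k v)
    rwa [LinearMap.comp_apply, apply_inv_cancel] at this
  · rw [apply_mul, apply_mul, h.app, map_add, map_smul, apply_cancel_inv, LinearMap.comp_apply]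
  · rw [LinearMap.comp_apply, apply_inv_cancel, h.center_mem]

theorem eq_of_orth (hρ : Function.Injective ρ) {a b : Γ} {u w : M} {φ ψ : M →ₗ[ZMod p] ZMod p}
    (ha : Tv ρ a u φ) (hb : Tv ρ b w ψ) (hodd : ¬ p ∣ orderOf (a⁻¹ * b)) (h0 : ψ u = 0) : a = b := by
  set X : Module.End (ZMod p) M := ρ (a⁻¹ * b) - 1
  have happ : ∀ v, X v = ψ v • w - (φ v + ψ v * φ w) • u := fun v => by
    rw [LinearMap.sub_apply, Module.End.one_apply, apply_mul, hb.app, ha.app_inv, map_add, map_smul, smul_eq_mul]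
    abel
  have hXu : X u = 0 := by rw [happ, h0, ha.center_mem]; simp
  have hXw : X (X w) = 0 := by
    rw [happ w, hb.center_mem]; simp [map_smul, hXu]
  have h3 : X ^ 3 = 0 := LinearMap.ext fun v => by
    rw [show (3 : ℕ) = 1 + 1 + 1 from rfl, pow_succ, pow_succ, pow_one, Module.End.mul_apply, Module.End.mul_apply,
      happ v]
    simp only [map_sub, map_smul, hXu, hXw, smul_zero, sub_zero, map_zero, LinearMap.zero_apply]
  have hp2 : 3 ≤ p ^ 2 := by
    have := Nat.pow_le_pow_left hp.out.two_le 2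
    omega
  rcases subsingleton_or_nontrivial M with hM | hM
  · exact absurd (Subsingleton.elim u 0) ha.center_ne
  haveI : CharP (Module.End (ZMod p) M) p :=
    charP_of_injective_algebraMap (algebraMap (ZMod p) (Module.End (ZMod p) M)).injective p
  have h1 : (a⁻¹ * b) ^ p ^ 2 = 1 := by
    apply hρ
    rw [map_one, map_pow, show ρ (a⁻¹ * b) = X + 1 from (sub_add_cancel _ _).symm,
      add_pow_char_pow_of_commute p 2 (Commute.one_right X), one_pow]
    obtain ⟨j, hj⟩ := Nat.exists_eq_add_of_le hp2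
    rw [hj, pow_add, h3, zero_mul, zero_add]
  obtain ⟨j, -, hj⟩ := (Nat.dvd_prime_pow hp.out).1 (orderOf_dvd_of_pow_eq_one h1)
  rcases j with _ | j
  · rw [pow_zero, orderOf_eq_one_iff, inv_mul_eq_one] at hj
    exact hj
  · exact absurd (hj ▸ dvd_pow_self p j.succ_ne_zero) hodd

theorem pairing_ne (hρ : Function.Injective ρ) {a b : Γ} {u w : M} {φ ψ : M →ₗ[ZMod p] ZMod p}
    (ha : Tv ρ a u φ) (hb : Tv ρ b w ψ) (hodd : ¬ p ∣ orderOf (a⁻¹ * b)) (hne : a ≠ b) : φ w ≠ 0 ∧ ψ u ≠ 0 := by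
  refine ⟨fun e => hne (eq_of_orth hρ hb ha ?_ e).symm, fun e => hne (eq_of_orth hρ ha hb hodd e)⟩
  rwa [show b⁻¹ * a = (a⁻¹ * b)⁻¹ by group, orderOf_inv]

theorem exists_tv (h : Hyp ρ K) {A : Subgroup Γ} (hA : Off ρ A) (hcard : Nat.card A = p) {a : Γ} (ha : a ∈ A)
    (ha1 : a ≠ 1) : ∃ u φ, Tv ρ a u φ := by
  set N : Module.End (ZMod p) M := ρ a - 1
  have hgen : zpowers a = A := Subgroup.eq_of_le_of_card_ge (zpowers_le.2 ha) (by
    rw [hcard, Nat.card_zpowers]
    have h1 : orderOf a ∣ p := orderOf_dvd_of_pow_eq_one (hA.2.2 a ha)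
    rw [((Nat.dvd_prime hp.out).1 h1).resolve_left (fun e => ha1 (orderOf_eq_one_iff.1 e))])
  have hker : LinearMap.ker N = fix ρ A := by
    refine le_antisymm (fun v hv => mem_fix.2 fun x hx => ?_) (fun v hv => by
      rw [LinearMap.mem_ker, LinearMap.sub_apply, mem_fix.1 hv a ha, Module.End.one_apply, sub_self])
    rw [LinearMap.mem_ker, LinearMap.sub_apply, Module.End.one_apply, sub_eq_zero] at hv
    rw [← hgen] at hx
    have hx' : x ∈ Submonoid.powers a := mem_powers_iff_mem_zpowers.2 hx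
    obtain ⟨i, rfl⟩ := hx'
    induction i with
    | zero => simp
    | succ i ih =>
      show ρ (a ^ (i + 1)) v = v
      rw [pow_succ, apply_mul, hv]
      exact ih (by rw [← mem_powers_iff_mem_zpowers]; exact ⟨i, rfl⟩)
  have hrank : Module.finrank (ZMod p) (LinearMap.range N) = 1 := by
    have h1 := hA.card_eq h
    rw [hcard, ← hker, Module.natCard_eq_pow_finrank (K := ZMod p),
      Module.natCard_eq_pow_finrank (K := ZMod p) (V := M), Nat.card_zmod, ← pow_succ'] at h1
    have h2 := Nat.pow_right_injective hp.out.two_le h1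
    have h3 := LinearMap.finrank_range_add_finrank_ker N
    omega
  obtain ⟨u, hu, hspan⟩ : ∃ u : M, u ≠ 0 ∧ LinearMap.range N = Submodule.span (ZMod p) {u} := by
    obtain ⟨⟨u, hu⟩, hu0, hall⟩ := finrank_eq_one_iff'.1 hrank
    refine ⟨u, fun e => hu0 (Subtype.ext e), le_antisymm (fun x hx => ?_) (Submodule.span_le.2 (by simpa using hu))⟩
    obtain ⟨c, hc⟩ := hall ⟨x, hx⟩
    exact Submodule.mem_span_singleton.2 ⟨c, congrArg Subtype.val hc⟩
  let φ : M →ₗ[ZMod p] ZMod p :=
    (LinearEquiv.toSpanNonzeroSingleton (ZMod p) M u hu).symm.toLinearMap ∘ₗ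
      (N.codRestrict (Submodule.span (ZMod p) {u}) fun v => hspan ▸ LinearMap.mem_range_self N v)
  have hN : ∀ v, φ v • u = N v := fun v =>
    congrArg Subtype.val ((LinearEquiv.toSpanNonzeroSingleton (ZMod p) M u hu).apply_symm_apply
      (N.codRestrict (Submodule.span (ZMod p) {u}) (fun v => hspan ▸ LinearMap.mem_range_self N v) v))
  refine ⟨u, φ, hu, fun e => ?_, fun v => by rw [hN, LinearMap.sub_apply, Module.End.one_apply, add_sub_cancel], ?_⟩
  · obtain ⟨v, hv⟩ : u ∈ LinearMap.range N := hspan ▸ Submodule.mem_span_singleton_self u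
    exact hu (by rw [← hv, ← hN v, e]; simp)
  · rcases subsingleton_or_nontrivial M with hM | hM
    · exact absurd (Subsingleton.elim u 0) hu
    haveI : CharP (Module.End (ZMod p) M) p :=
      charP_of_injective_algebraMap (algebraMap (ZMod p) (Module.End (ZMod p) M)).injective p
    have hNp : N ^ p = 0 := by
      rw [sub_pow_char_of_commute p (Commute.one_right _), ← map_pow, hA.2.2 a ha, map_one, one_pow, sub_self]
    have hiter : ∀ i : ℕ, (N ^ i) u = (φ u) ^ i • u := fun i => by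
      induction i with
      | zero => simp
      | succ i ih => rw [pow_succ', Module.End.mul_apply, ih, map_smul, ← hN u, smul_smul, pow_succ]
    have h1 := hiter p
    rw [hNp, LinearMap.zero_apply, eq_comm, smul_eq_zero] at h1
    exact pow_eq_zero_iff hp.out.ne_zero |>.1 (h1.resolve_right hu)

/-- The conjugates of `a` under `K`. -/
def Cl (K : Subgroup Γ) (a : Γ) : Set Γ := {x | ∃ k ∈ K, k * a * k⁻¹ = x}

theorem cl_div (hK : K.Normal) {a x y : Γ} (hx : x ∈ Cl K a) (hy : y ∈ Cl K a) : x⁻¹ * y ∈ K := by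
  have key : ∀ z ∈ Cl K a, a⁻¹ * z ∈ K := by
    rintro _ ⟨k, hk, rfl⟩
    rw [show a⁻¹ * (k * a * k⁻¹) = a⁻¹ * k * a⁻¹⁻¹ * k⁻¹ by group]
    exact K.mul_mem (hK.conj_mem _ hk _) (K.inv_mem hk)
  rw [show x⁻¹ * y = (a⁻¹ * x)⁻¹ * (a⁻¹ * y) by group]
  exact K.mul_mem (K.inv_mem (key x hx)) (key y hy)

theorem cl_conj (hK : K.Normal) {a x : Γ} (hx : x ∈ Cl K a) (i : ℕ) : a ^ i * x * (a ^ i)⁻¹ ∈ Cl K a := by
  obtain ⟨k, hk, rfl⟩ := hx
  refine ⟨a ^ i * k * (a ^ i)⁻¹, hK.conj_mem _ hk _, ?_⟩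
  have h1 : (a ^ i)⁻¹ * a * a ^ i = a := by rw [mul_assoc, ← pow_succ', pow_succ, inv_mul_cancel_left]
  calc a ^ i * k * (a ^ i)⁻¹ * a * (a ^ i * k * (a ^ i)⁻¹)⁻¹ = a ^ i * k * ((a ^ i)⁻¹ * a * a ^ i) * k⁻¹ * (a ^ i)⁻¹ := by group
    _ = _ := by rw [h1]; group

/-- The `K`-class of a transvection lies on one line of transvection groups. -/
theorem class_eq (h : Hyp ρ K) {a b : Γ} {u w : M} {φ ψ : M →ₗ[ZMod p] ZMod p} (ha : Tv ρ a u φ) (hb : Tv ρ b w ψ)
    (hbC : b ∈ Cl K a) (hne : b ≠ a) {c : Γ} (hc : c ∈ Cl K a) : c = a ∨ ∃ i : ℕ, c = a ^ i * b * (a ^ i)⁻¹ := by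
  by_cases hca : c = a
  · exact Or.inl hca
  have haC : a ∈ Cl K a := ⟨1, K.one_mem, by group⟩
  have hodd : ∀ {x y}, x ∈ Cl K a → y ∈ Cl K a → ¬ p ∣ orderOf (x⁻¹ * y) := fun hx hy =>
    h.orderOf_not_dvd (cl_div h.normal hx hy)
  obtain ⟨k, hk, rfl⟩ := id hc
  have hC := ha.conj k
  set χ := φ.comp (ρ k⁻¹)
  obtain ⟨hd, -⟩ := pairing_ne h.inj ha hb (hodd haC hbC) (Ne.symm hne)
  obtain ⟨-, hχu⟩ := pairing_ne h.inj ha hC (hodd haC hc) (Ne.symm hca)
  set s : ZMod p := - χ w / (φ w * χ u)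
  refine Or.inr ⟨s.val, ?_⟩
  have hB := hb.conj (a ^ s.val)
  refine (eq_of_orth h.inj hB hC (hodd (cl_conj h.normal hbC _) hc) ?_).symm
  rw [ha.app_pow, map_add, map_smul, ZMod.natCast_zmod_val, smul_eq_mul, mul_assoc,
    div_mul_cancel₀ _ (mul_ne_zero hd hχu), add_neg_cancel]

theorem cl_subset (h : Hyp ρ K) {a b : Γ} {u w : M} {φ ψ : M →ₗ[ZMod p] ZMod p} (ha : Tv ρ a u φ) (hb : Tv ρ b w ψ)
    (hbC : b ∈ Cl K a) (hne : b ≠ a) : Cl K a ⊆ closure ({a, b} : Set Γ) := fun c hc => by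
  have h1 : a ∈ closure ({a, b} : Set Γ) := subset_closure (by simp)
  have h2 : b ∈ closure ({a, b} : Set Γ) := subset_closure (by simp)
  rcases class_eq h ha hb hbC hne hc with rfl | ⟨i, rfl⟩
  · exact h1
  · exact mul_mem (mul_mem (pow_mem h1 i) h2) (inv_mem (pow_mem h1 i))

theorem commutator_sup_eq (h : Hyp ρ K) {a b : Γ} {u w : M} {φ ψ : M →ₗ[ZMod p] ZMod p} (ha : Tv ρ a u φ)
    (hb : Tv ρ b w ψ) (hbC : b ∈ Cl K a) (hne : b ≠ a) : ⁅K, zpowers a⁆ ⊔ zpowers a = closure ({a, b} : Set Γ) := by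
  have h1 : a ∈ closure ({a, b} : Set Γ) := subset_closure (by simp)
  refine le_antisymm (sup_le (commutator_le.2 fun k hk x hx => ?_) (zpowers_le.2 h1)) ((closure_le _).2 ?_)
  · obtain ⟨i, rfl⟩ := mem_zpowers_iff.1 hx
    rw [show ⁅k, a ^ i⁆ = (k * a * k⁻¹) ^ i * (a ^ i)⁻¹ by rw [conj_zpow, commutatorElement_def]]
    exact mul_mem (zpow_mem (cl_subset h ha hb hbC hne ⟨k, hk, rfl⟩) i) (inv_mem (zpow_mem h1 i))
  · rintro x (rfl | rfl)
    · exact mem_sup_right (mem_zpowers x)
    · obtain ⟨k, hk, rfl⟩ := hbC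
      rw [show k * a * k⁻¹ = ⁅k, a⁆ * a by rw [commutatorElement_def, inv_mul_cancel_right]]
      exact mul_mem (mem_sup_left (commutator_mem_commutator hk (mem_zpowers a))) (mem_sup_right (mem_zpowers a))

section pair

variable {a b : Γ} {u w : M} {φ ψ : M →ₗ[ZMod p] ZMod p}

/-- Coordinates on the plane of two transvections. -/
noncomputable def proj (φ ψ : M →ₗ[ZMod p] ZMod p) (u w : M) : M →ₗ[ZMod p] (Fin 2 → ZMod p) :=
  LinearMap.pi ![(ψ u)⁻¹ • ψ, (φ w)⁻¹ • φ]

/-- The plane map. -/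
def plane (u w : M) : (Fin 2 → ZMod p) →ₗ[ZMod p] M :=
  (LinearMap.proj (R := ZMod p) (φ := fun _ : Fin 2 => ZMod p) 0).smulRight u +
    (LinearMap.proj (R := ZMod p) (φ := fun _ : Fin 2 => ZMod p) 1).smulRight w

theorem plane_apply (x : Fin 2 → ZMod p) : plane u w x = x 0 • u + x 1 • w := rfl

theorem proj_plane (ha : Tv ρ a u φ) (hb : Tv ρ b w ψ) (hd : φ w ≠ 0) (he : ψ u ≠ 0) (x : Fin 2 → ZMod p) :
    proj φ ψ u w (plane u w x) = x := by
  funext i
  fin_cases i <;> simp [proj, plane_apply, ha.center_mem, hb.center_mem] <;> field_simp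

theorem proj_zero_iff (hd : φ w ≠ 0) (he : ψ u ≠ 0) {v : M} : proj φ ψ u w v = 0 ↔ φ v = 0 ∧ ψ v = 0 := by
  constructor
  · intro h
    exact ⟨by simpa [proj, hd] using congrFun h 1, by simpa [proj, he] using congrFun h 0⟩
  · rintro ⟨h1, h2⟩
    funext i
    fin_cases i <;> simp [proj, h1, h2]

theorem decomp (ha : Tv ρ a u φ) (hb : Tv ρ b w ψ) (hd : φ w ≠ 0) (he : ψ u ≠ 0) (v : M) :
    φ (v - plane u w (proj φ ψ u w v)) = 0 ∧ ψ (v - plane u w (proj φ ψ u w v)) = 0 := by
  rw [← proj_zero_iff hd he, map_sub, proj_plane ha hb hd he, sub_self]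

theorem act_closure (ha : Tv ρ a u φ) (hb : Tv ρ b w ψ) {g : Γ} (hg : g ∈ closure ({a, b} : Set Γ)) :
    (∀ v : M, φ v = 0 → ψ v = 0 → ρ g v = v) ∧ ∀ x : Fin 2 → ZMod p, ρ g (plane u w x) ∈ LinearMap.range (plane (p := p) u w) := by
  have hu : u ∈ LinearMap.range (plane (p := p) u w) := ⟨![1, 0], by simp [plane_apply]⟩
  have hw : w ∈ LinearMap.range (plane (p := p) u w) := ⟨![0, 1], by simp [plane_apply]⟩
  induction hg using Subgroup.closure_induction'' with
  | one => exact ⟨fun v _ _ => by simp, fun x => by simp⟩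
  | mem y hy =>
    rcases hy with rfl | rfl
    · exact ⟨fun v h1 _ => by rw [ha.app, h1, zero_smul, add_zero], fun x => by
        rw [ha.app]; exact Submodule.add_mem _ (LinearMap.mem_range_self _ x) (Submodule.smul_mem _ _ hu)⟩
    · exact ⟨fun v _ h2 => by rw [hb.app, h2, zero_smul, add_zero], fun x => by
        rw [hb.app]; exact Submodule.add_mem _ (LinearMap.mem_range_self _ x) (Submodule.smul_mem _ _ hw)⟩
  | inv_mem y hy =>
    rcases hy with rfl | rfl
    · exact ⟨fun v h1 _ => by rw [ha.app_inv, h1, zero_smul, sub_zero], fun x => by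
        rw [ha.app_inv]; exact Submodule.sub_mem _ (LinearMap.mem_range_self _ x) (Submodule.smul_mem _ _ hu)⟩
    · exact ⟨fun v _ h2 => by rw [hb.app_inv, h2, zero_smul, sub_zero], fun x => by
        rw [hb.app_inv]; exact Submodule.sub_mem _ (LinearMap.mem_range_self _ x) (Submodule.smul_mem _ _ hw)⟩
  | mul y z _ _ iy iz =>
    refine ⟨fun v h1 h2 => by rw [apply_mul, iz.1 v h1 h2, iy.1 v h1 h2], fun x => ?_⟩
    obtain ⟨x', hx'⟩ := iz.2 x
    rw [apply_mul, ← hx']
    exact iy.2 x'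

theorem exists_slTwo_iso (hρ : Function.Injective ρ) (ha : Tv ρ a u φ) (hb : Tv ρ b w ψ) (hd : φ w ≠ 0)
    (he : ψ u ≠ 0) :
    ∃ f : ↥(closure ({a, b} : Set Γ)) ≃* Matrix.SpecialLinearGroup (Fin 2) (ZMod p),
      f ⟨a, subset_closure (by simp)⟩ = Matrix.SpecialLinearGroup.transvection (i := (0 : Fin 2)) (j := 1) (by decide) (φ w) := by
  set L := closure ({a, b} : Set Γ)
  let mat : ↥L → Matrix (Fin 2) (Fin 2) (ZMod p) := fun g =>
    LinearMap.toMatrix' ((proj φ ψ u w) ∘ₗ (ρ (g : Γ)) ∘ₗ (plane u w))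
  have hpl : ∀ (g : ↥L) x, plane u w (proj φ ψ u w (ρ (g : Γ) (plane u w x))) = ρ (g : Γ) (plane u w x) := fun g x => by
    obtain ⟨y, hy⟩ := (act_closure ha hb g.2).2 x
    rw [← hy, proj_plane ha hb hd he]
  have hmul : ∀ g g', mat (g * g') = mat g * mat g' := fun g g' => by
    simp only [mat, ← LinearMap.toMatrix'_comp]
    congr 1
    refine LinearMap.ext fun x => ?_
    simp only [LinearMap.comp_apply]
    rw [hpl g' x, Subgroup.coe_mul, apply_mul]
  have hone : mat 1 = 1 := by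
    simp only [mat, ← LinearMap.toMatrix'_id]
    congr 1
    refine LinearMap.ext fun x => ?_
    simp [proj_plane ha hb hd he]
  let A : ↥L := ⟨a, subset_closure (by simp)⟩
  let B : ↥L := ⟨b, subset_closure (by simp)⟩
  have hmA : mat A = 1 + Matrix.single 0 1 (φ w) := by
    ext i j
    fin_cases i <;> fin_cases j <;>
      simp [mat, A, LinearMap.toMatrix'_apply, plane_apply, ha.app, proj, ha.center_mem, hb.center_mem, Matrix.one_apply] <;>
      field_simp
  have hmB : mat B = 1 + Matrix.single 1 0 (ψ u) := by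
    ext i j
    fin_cases i <;> fin_cases j <;>
      simp [mat, B, LinearMap.toMatrix'_apply, plane_apply, hb.app, proj, ha.center_mem, hb.center_mem, Matrix.one_apply] <;>
      field_simp
  let m : ↥L →* Matrix (Fin 2) (Fin 2) (ZMod p) := { toFun := mat, map_one' := hone, map_mul' := hmul }
  have hdet : ∀ g : ↥L, (m g).det = 1 := by
    rintro ⟨g, hg⟩
    induction hg using Subgroup.closure_induction with
    | mem y hy =>
      rcases hy with rfl | rfl
      · show (mat A).det = 1; rw [hmA]; simp [Matrix.det_fin_two]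
      · show (mat B).det = 1; rw [hmB]; simp [Matrix.det_fin_two]
    | one => show (m 1).det = 1; rw [map_one, Matrix.det_one]
    | mul y z hy hz iy iz => show (m (⟨y, hy⟩ * ⟨z, hz⟩)).det = 1; rw [map_mul, Matrix.det_mul, iy, iz, mul_one]
    | inv y hy iy =>
      have h1 : (m ⟨y, hy⟩⁻¹).det * (m ⟨y, hy⟩).det = 1 := by
        rw [← Matrix.det_mul, ← map_mul, inv_mul_cancel, map_one, Matrix.det_one]
      rw [iy, mul_one] at h1
      exact h1
  let f : ↥L →* Matrix.SpecialLinearGroup (Fin 2) (ZMod p) :=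
    { toFun := fun g => ⟨m g, hdet g⟩
      map_one' := Subtype.ext (map_one m)
      map_mul' := fun g g' => Subtype.ext (map_mul m g g') }
  have hinj : Function.Injective f := by
    rw [injective_iff_map_eq_one]
    intro g hg
    have h1 : mat g = 1 := congrArg Subtype.val hg
    have h2 : (proj φ ψ u w) ∘ₗ (ρ (g : Γ)) ∘ₗ (plane u w) = LinearMap.id := by
      apply LinearMap.toMatrix'.injective
      rw [LinearMap.toMatrix'_id]; exact h1
    refine Subtype.ext (hρ ?_)
    rw [OneMemClass.coe_one, map_one]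
    refine LinearMap.ext fun v => ?_
    obtain ⟨z1, z2⟩ := decomp ha hb hd he v
    have hz := (act_closure ha hb g.2).1 _ z1 z2
    have hx : ρ (g : Γ) (plane u w (proj φ ψ u w v)) = plane u w (proj φ ψ u w v) := by
      rw [← hpl g]; exact congrArg (plane u w) (LinearMap.congr_fun h2 _)
    rw [map_sub, hx, sub_left_inj] at hz
    rw [hz]; rfl
  have hfA : f A = Matrix.SpecialLinearGroup.transvection (i := (0 : Fin 2)) (j := 1) (by decide) (φ w) :=
    Subtype.ext (by show mat A = _; rw [hmA]; rfl)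
  have hfB : f B = Matrix.SpecialLinearGroup.transvection (i := (1 : Fin 2)) (j := 0) (by decide) (ψ u) :=
    Subtype.ext (by show mat B = _; rw [hmB]; rfl)
  have hpow : ∀ {i j : Fin 2} (hij : i ≠ j) (c : ZMod p) (n : ℕ),
      (Matrix.SpecialLinearGroup.transvection hij c) ^ n = Matrix.SpecialLinearGroup.transvection hij ((n : ZMod p) * c) := by
    intro i j hij c n
    refine Subtype.ext ?_
    induction n with
    | zero => simp [Matrix.SpecialLinearGroup.transvection_coe]
    | succ n ih =>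
      rw [pow_succ, Matrix.SpecialLinearGroup.coe_mul, ih, Matrix.SpecialLinearGroup.transvection_coe, Matrix.SpecialLinearGroup.transvection_coe,
        Matrix.SpecialLinearGroup.transvection_coe]
      simp [mul_add, add_mul, hij, hij.symm, ← Matrix.single_add]
      rw [add_assoc, ← Matrix.single_add]
  have hsurj : Function.Surjective f := by
    rw [← MonoidHom.range_eq_top]
    refine Cfsg.Lib.Classical.SLGroup.eq_top_of_transvection _ fun i j hij c => ?_
    fin_cases i <;> fin_cases j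
    · exact absurd rfl hij
    · refine ⟨A ^ (c / φ w).val, ?_⟩
      rw [map_pow, hfA, hpow, ZMod.natCast_zmod_val, div_mul_cancel₀ _ hd]
    · refine ⟨B ^ (c / ψ u).val, ?_⟩
      rw [map_pow, hfB, hpow, ZMod.natCast_zmod_val, div_mul_cancel₀ _ he]
    · exact absurd rfl hij
  exact ⟨MulEquiv.ofBijective f ⟨hinj, hsurj⟩, hfA⟩

end pair

end Cfsg.Lib.PLocal.FF
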