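import Mathlib
import Cfsg.Agent.Lib.PLocal.FFStructure

/-!
The `SL(2, p)` factors attached to minimal best offenders.
-/

set_option autoImplicit false
set_option linter.unusedSectionVars false
set_option linter.style.haveILetI false
set_option linter.unusedSimpArgs false

open scoped commutatorElement

namespace Cfsg.Lib.PLocal.FF

open Subgroup

theorem sl_two_three_facts : ∃ X Y : Matrix.SpecialLinearGroup (Fin 2) (ZMod 3),
    X ^ 4 = 1 ∧ Y ^ 4 = 1 ∧ X * Y ≠ Y * X ∧ X ^ 2 ≠ 1 :=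
  ⟨⟨!![0, -1; 1, 0], by decide +kernel⟩, ⟨!![1, 1; 1, -1], by decide +kernel⟩,
    by decide +kernel, by decide +kernel, by decide +kernel, by decide +kernel⟩

theorem card_sl_two_two : Nat.card (Matrix.SpecialLinearGroup (Fin 2) (ZMod 2)) = 6 := by
  rw [Nat.card_eq_fintype_card]; decide +kernel

theorem card_sl_two_three : Nat.card (Matrix.SpecialLinearGroup (Fin 2) (ZMod 3)) = 24 := by
  rw [Nat.card_eq_fintype_card]; decide +kernel

variable {p : ℕ} [hp : Fact p.Prime] {M : Type*} [AddCommGroup M] [Module (ZMod p) M] [Finite M]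
variable {Γ : Type*} [Group Γ] [Finite Γ] {ρ : Γ →* Module.End (ZMod p) M} {K : Subgroup Γ}

/-- The commutator module. -/
def bracket (ρ : Γ →* Module.End (ZMod p) M) (A : Subgroup Γ) : Submodule (ZMod p) M :=
  ⨆ g : A, LinearMap.range (ρ g - 1)

theorem sub_mem_bracket {A : Subgroup Γ} {g : Γ} (hg : g ∈ A) (v : M) : ρ g v - v ∈ bracket ρ A :=
  Submodule.mem_iSup_of_mem (⟨g, hg⟩ : A) ⟨v, rfl⟩

theorem bracket_le {A : Subgroup Γ} {U : Submodule (ZMod p) M} (h : ∀ g ∈ A, ∀ v, ρ g v - v ∈ U) :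
    bracket ρ A ≤ U :=
  iSup_le fun g => by rintro _ ⟨v, rfl⟩; exact h g g.2 v

theorem bracket_conj {A : Subgroup Γ} (s : Γ) {x : M} (hx : x ∈ bracket ρ A) :
    ρ s x ∈ bracket ρ (A.map (MulAut.conj s).toMonoidHom) := by
  have h : bracket ρ A ≤ (bracket ρ (A.map (MulAut.conj s).toMonoidHom)).comap (ρ s) := by
    refine bracket_le fun g hg v => ?_
    rw [Submodule.mem_comap, map_sub]
    have h1 : ρ (s * g * s⁻¹) (ρ s v) = ρ s (ρ g v) := by rw [apply_mul, apply_mul, apply_inv_cancel]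
    rw [← h1]
    exact sub_mem_bracket (A := A.map (MulAut.conj s).toMonoidHom) ⟨g, hg, rfl⟩ _
  exact h hx

theorem bracket_invariant {A : Subgroup Γ} {s : Γ} (hs : s ∈ normalizer (A : Set Γ)) {x : M}
    (hx : x ∈ bracket ρ A) : ρ s x ∈ bracket ρ A := by
  have h := bracket_conj s hx
  have e : A.map (MulAut.conj s).toMonoidHom = A := Subgroup.mem_normalizer_iff_map_conj_eq.1 hs
  rwa [e] at h

theorem elem_conj {A : Subgroup Γ} (hA : Cfsg.IsElementaryAbelian p A) (s : Γ) :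
    Cfsg.IsElementaryAbelian p (A.map (MulAut.conj s).toMonoidHom) :=
  elem_map hA _

theorem card_fix_conj (A : Subgroup Γ) (s : Γ) :
    Nat.card (fix ρ (A.map (MulAut.conj s).toMonoidHom)) = Nat.card (fix ρ A) := by
  have hmem : ∀ v, v ∈ fix ρ A ↔ ρ s v ∈ fix ρ (A.map (MulAut.conj s).toMonoidHom) := fun v => by
    rw [mem_fix, mem_fix]
    constructor
    · rintro h _ ⟨a, ha, rfl⟩
      show ρ (s * a * s⁻¹) (ρ s v) = ρ s v
      rw [apply_mul, apply_mul, apply_inv_cancel, h a ha]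
    · intro h a ha
      have h1 : ρ (s * a * s⁻¹) (ρ s v) = ρ s v := h _ ⟨a, ha, rfl⟩
      rw [apply_mul, apply_mul, apply_inv_cancel] at h1
      simpa [apply_inv_cancel] using congrArg (ρ s⁻¹) h1
  refine Nat.card_congr (Equiv.ofBijective (fun v : fix ρ A => (⟨ρ s v, (hmem v).1 v.2⟩ :
    fix ρ (A.map (MulAut.conj s).toMonoidHom))) ⟨fun v v' e => ?_, fun w => ?_⟩).symm
  · have h1 : ρ s (v : M) = ρ s (v' : M) := congrArg Subtype.val e
    exact Subtype.ext (by simpa [apply_inv_cancel] using congrArg (ρ s⁻¹) h1)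
  · exact ⟨⟨ρ s⁻¹ w, (hmem _).2 (by rw [apply_cancel_inv]; exact w.2)⟩, Subtype.ext (apply_cancel_inv s (w : M))⟩

theorem Off.conj (h : Hyp ρ K) {A : Subgroup Γ} (hA : Off ρ A) (s : Γ) :
    Off ρ (A.map (MulAut.conj s).toMonoidHom) := by
  refine off_of_card_eq h (elem_conj hA.2 s) ?_
  rw [card_fix_conj, Subgroup.card_map_of_injective (f := (MulAut.conj s).toMonoidHom) (MulAut.conj s).injective]
  exact hA.card_eq h

/-- The subgroup `[K, A] A`. -/
def blk (K A : Subgroup Γ) : Subgroup Γ := ⁅K, A⁆ ⊔ A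

/-- Data of a pair of transvections generating a block. -/
structure Pair (ρ : Γ →* Module.End (ZMod p) M) (K A : Subgroup Γ) (a b : Γ) (u w : M)
    (φ ψ : M →ₗ[ZMod p] ZMod p) : Prop where
  gen : zpowers a = A
  ha : Tv ρ a u φ
  hb : Tv ρ b w ψ
  mem : b ∈ Cl K a
  ne : b ≠ a
  hd : φ w ≠ 0
  he : ψ u ≠ 0
  blk_eq : blk K A = closure ({a, b} : Set Γ)

theorem exists_gen {A : Subgroup Γ} (hcard : Nat.card A = p) : ∃ a ∈ A, a ≠ 1 ∧ zpowers a = A := by
  obtain ⟨⟨a, ha⟩, ha1'⟩ := (Subgroup.ne_bot_iff_exists_ne_one (H := A)).1 (fun e => by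
    rw [e, Subgroup.card_bot] at hcard; exact hp.out.one_lt.ne hcard)
  have ha1 : a ≠ 1 := fun e => ha1' (Subtype.ext e)
  refine ⟨a, ha, ha1, Subgroup.eq_of_le_of_card_ge (zpowers_le.2 ha) ?_⟩
  rw [hcard, Nat.card_zpowers]
  have h1 : orderOf a ∣ Nat.card A := by rw [← Subgroup.orderOf_mk a ha]; exact orderOf_dvd_natCard _
  rw [hcard] at h1
  exact (((Nat.dvd_prime hp.out).1 h1).resolve_left fun e => ha1 (orderOf_eq_one_iff.1 e)).ge

theorem pair_of_conj (h : Hyp ρ K) {A : Subgroup Γ} (hA : Off ρ A) (hcard : Nat.card A = p) {a k : Γ}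
    (ha : a ∈ A) (ha1 : a ≠ 1) (hgen : zpowers a = A) (hk : k ∈ K) (hne : k * a * k⁻¹ ≠ a) :
    ∃ u w φ ψ, Pair ρ K A a (k * a * k⁻¹) u w φ ψ := by
  obtain ⟨u, φ, hT⟩ := exists_tv h hA hcard ha ha1
  have hB := hT.conj k
  have hbC : k * a * k⁻¹ ∈ Cl K a := ⟨k, hk, rfl⟩
  obtain ⟨hd, he⟩ := pairing_ne h.inj hT hB
    (h.orderOf_not_dvd (cl_div h.normal (⟨1, K.one_mem, by group⟩ : a ∈ Cl K a) hbC)) (Ne.symm hne)
  refine ⟨u, _, φ, _, hgen, hT, hB, hbC, hne, hd, he, ?_⟩
  rw [blk, ← hgen]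
  exact commutator_sup_eq h hT hB hbC hne

theorem exists_pair (h : Hyp ρ K) {A : Subgroup Γ} (hA : Off ρ A) (hcard : Nat.card A = p) :
    ∃ a b u w φ ψ, Pair ρ K A a b u w φ ψ := by
  obtain ⟨a, ha, ha1, hgen⟩ := exists_gen hcard
  obtain ⟨k, hk, hne⟩ : ∃ k ∈ K, k * a * k⁻¹ ≠ a := by
    by_contra hc
    push Not at hc
    exact ha1 (h.inter_bot (elem_isPGroup hA.2) ha (h.self_centralizing
      (mem_centralizer_iff.2 fun k hk => mul_inv_eq_iff_eq_mul.1 (hc k hk))))
  obtain ⟨u, w, φ, ψ, hP⟩ := pair_of_conj h hA hcard ha ha1 hgen hk hne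
  exact ⟨a, _, u, w, φ, ψ, hP⟩

theorem le_normalizer_blk (h : Hyp ρ K) (A : Subgroup Γ) : K ≤ normalizer ((blk K A : Subgroup Γ) : Set Γ) := by
  haveI := h.normal
  intro k hk
  refine mem_normalizer_fintype fun x hx => ?_
  have h1 : (blk K A).map (MulAut.conj k).toMonoidHom ≤ blk K A := by
    rw [blk, Subgroup.map_sup]
    refine sup_le ?_ ?_
    · rw [show (⁅K, A⁆ : Subgroup Γ).map (MulAut.conj k).toMonoidHom = ⁅K, A⁆ from
        Subgroup.mem_normalizer_iff_map_conj_eq.1 (le_normalizer_commutator_left' hk)]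
      exact le_sup_left
    · rintro _ ⟨a, ha, rfl⟩
      show k * a * k⁻¹ ∈ _
      rw [show k * a * k⁻¹ = ⁅k, a⁆ * a by rw [commutatorElement_def, inv_mul_cancel_right]]
      exact mul_mem (mem_sup_left (commutator_mem_commutator hk ha)) (mem_sup_right ha)
  exact h1 ⟨x, hx, rfl⟩
where
  le_normalizer_commutator_left' {k : Γ} (hk : k ∈ K) : k ∈ normalizer ((⁅K, A⁆ : Subgroup Γ) : Set Γ) := by
    refine mem_normalizer_fintype fun x hx => ?_
    have h2 : ⁅K, A⁆ ≤ (⁅K, A⁆ : Subgroup Γ).comap (MulAut.conj k).toMonoidHom := by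
      rw [commutator_le]
      intro y hy a ha
      show k * ⁅y, a⁆ * k⁻¹ ∈ ⁅K, A⁆
      rw [show k * ⁅y, a⁆ * k⁻¹ = ⁅k * y, a⁆ * ⁅k, a⁆⁻¹ by simp only [commutatorElement_def]; group]
      exact mul_mem (commutator_mem_commutator (mul_mem hk hy) ha) (inv_mem (commutator_mem_commutator hk ha))
    exact h2 hx

variable {A : Subgroup Γ} {a b : Γ} {u w : M} {φ ψ : M →ₗ[ZMod p] ZMod p}

theorem Pair.mem_a (hP : Pair ρ K A a b u w φ ψ) : a ∈ blk K A := hP.blk_eq ▸ subset_closure (by simp)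

theorem Pair.mem_b (hP : Pair ρ K A a b u w φ ψ) : b ∈ blk K A := hP.blk_eq ▸ subset_closure (by simp)

theorem Pair.a_ne_one (hP : Pair ρ K A a b u w φ ψ) : a ≠ 1 := by
  intro e
  have h1 := hP.ha.app w
  rw [e, map_one, Module.End.one_apply, left_eq_add, smul_eq_zero] at h1
  exact h1.elim hP.hd hP.ha.center_ne

theorem Pair.bracket_eq (hP : Pair ρ K A a b u w φ ψ) :
    bracket ρ (blk K A) = LinearMap.range (plane (p := p) u w) := by
  refine le_antisymm (bracket_le fun g hg v => ?_) ?_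
  · rw [hP.blk_eq] at hg
    obtain ⟨z1, z2⟩ := decomp hP.ha hP.hb hP.hd hP.he v
    have hz := (act_closure hP.ha hP.hb hg).1 _ z1 z2
    rw [map_sub, sub_eq_iff_eq_add] at hz
    rw [hz, sub_add_eq_add_sub, sub_add_cancel_left' ]
    exact Submodule.sub_mem _ ((act_closure hP.ha hP.hb hg).2 _) (LinearMap.mem_range_self _ _)
  · rintro _ ⟨x, rfl⟩
    rw [plane_apply]
    refine Submodule.add_mem _ (Submodule.smul_mem _ _ ?_) (Submodule.smul_mem _ _ ?_)
    · have h1 := sub_mem_bracket (ρ := ρ) hP.mem_a w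
      rw [hP.ha.app, add_sub_cancel_left] at h1
      simpa [smul_smul, hP.hd] using Submodule.smul_mem _ (φ w)⁻¹ h1
    · have h1 := sub_mem_bracket (ρ := ρ) hP.mem_b u
      rw [hP.hb.app, add_sub_cancel_left] at h1
      simpa [smul_smul, hP.he] using Submodule.smul_mem _ (ψ u)⁻¹ h1
where
  sub_add_cancel_left' {α : Type _} [AddCommGroup α] {x y v : α} : v + x - y - v = x - y := by abel

theorem Pair.mem_fix_blk (hP : Pair ρ K A a b u w φ ψ) {v : M} : v ∈ fix ρ (blk K A) ↔ φ v = 0 ∧ ψ v = 0 := by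
  rw [mem_fix]
  constructor
  · intro h
    have h1 := h a hP.mem_a
    have h2 := h b hP.mem_b
    rw [hP.ha.app, add_eq_left, smul_eq_zero] at h1
    rw [hP.hb.app, add_eq_left, smul_eq_zero] at h2
    exact ⟨h1.resolve_right hP.ha.center_ne, h2.resolve_right hP.hb.center_ne⟩
  · intro h g hg
    exact (act_closure hP.ha hP.hb (hP.blk_eq ▸ hg)).1 v h.1 h.2

theorem isCompl_blk (h : Hyp ρ K) (hA : Off ρ A) (hcard : Nat.card A = p) :
    IsCompl (bracket ρ (blk K A)) (fix ρ (blk K A)) := by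
  obtain ⟨a, b, u, w, φ, ψ, hP⟩ := exists_pair h hA hcard
  refine ⟨disjoint_iff.2 ?_, codisjoint_iff.2 ?_⟩
  · rw [eq_bot_iff]
    rintro v ⟨h1, h2⟩
    rw [SetLike.mem_coe, hP.bracket_eq] at h1
    obtain ⟨x, rfl⟩ := h1
    rw [SetLike.mem_coe, hP.mem_fix_blk, ← proj_zero_iff hP.hd hP.he, proj_plane hP.ha hP.hb hP.hd hP.he] at h2
    rw [h2]; simp
  · rw [eq_top_iff]
    intro v _
    rw [Submodule.mem_sup, hP.bracket_eq]
    exact ⟨_, LinearMap.mem_range_self _ (proj φ ψ u w v), _, hP.mem_fix_blk.2 (decomp hP.ha hP.hb hP.hd hP.he v),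
      add_sub_cancel _ _⟩

theorem card_bracket_blk (h : Hyp ρ K) (hA : Off ρ A) (hcard : Nat.card A = p) :
    Nat.card (bracket ρ (blk K A)) = p ^ 2 := by
  obtain ⟨a, b, u, w, φ, ψ, hP⟩ := exists_pair h hA hcard
  have hinj : Function.Injective (plane (p := p) u w) :=
    Function.LeftInverse.injective (g := proj φ ψ u w) (proj_plane hP.ha hP.hb hP.hd hP.he)
  rw [hP.bracket_eq, ← Nat.card_congr (LinearEquiv.ofInjective _ hinj).toEquiv, Nat.card_fun, Nat.card_zmod]
  simp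

theorem slTwo_blk (h : Hyp ρ K) (hA : Off ρ A) (hcard : Nat.card A = p) :
    Nonempty (↥(blk K A) ≃* Matrix.SpecialLinearGroup (Fin 2) (ZMod p)) := by
  obtain ⟨a, b, u, w, φ, ψ, hP⟩ := exists_pair h hA hcard
  obtain ⟨f, -⟩ := exists_slTwo_iso h.inj hP.ha hP.hb hP.hd hP.he
  exact ⟨(MulEquiv.subgroupCongr hP.blk_eq).trans f⟩

theorem commutator_mem_core (h : Hyp ρ K) (hP : Pair ρ K A a b u w φ ψ) {x y : Γ} (hx : x ∈ blk K A) (hy : y ∈ blk K A) :
    ⁅x, y⁆ ∈ K := by
  haveI := h.normal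
  have hle : blk K A ≤ (zpowers (QuotientGroup.mk' K a)).comap (QuotientGroup.mk' K) := by
    rw [hP.blk_eq, closure_le]
    rintro z (rfl | rfl)
    · exact mem_zpowers _
    · show QuotientGroup.mk' K z ∈ zpowers (QuotientGroup.mk' K a)
      have : QuotientGroup.mk' K a = QuotientGroup.mk' K z :=
        QuotientGroup.eq.2 (cl_div h.normal (⟨1, K.one_mem, by group⟩ : a ∈ Cl K a) hP.mem)
      rw [← this]; exact mem_zpowers _
  obtain ⟨i, hi⟩ := mem_zpowers_iff.1 (hle hx)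
  obtain ⟨j, hj⟩ := mem_zpowers_iff.1 (hle hy)
  rw [← QuotientGroup.eq_one_iff]
  show QuotientGroup.mk' K ⁅x, y⁆ = 1
  rw [map_commutatorElement, commutatorElement_eq_one_iff_mul_comm, ← hi, ← hj, ← zpow_add, ← zpow_add, add_comm]

theorem prime_two_or_three (h : Hyp ρ K) (hA : Off ρ A) (hcard : Nat.card A = p) : p = 2 ∨ p = 3 := by
  by_contra hc
  push Not at hc
  obtain ⟨a, b, u, w, φ, ψ, hP⟩ := exists_pair h hA hcard
  obtain ⟨f, hf⟩ := exists_slTwo_iso h.inj hP.ha hP.hb hP.hd hP.he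
  have h2 : (2 : ZMod p) ≠ 0 := fun e => hc.1 (by
    have h3 : ((2 : ℕ) : ZMod p) = 0 := e
    exact (Nat.prime_dvd_prime_iff_eq hp.out Nat.prime_two).1 ((ZMod.natCast_eq_zero_iff 2 p).1 h3))
  have h3 : (3 : ZMod p) ≠ 0 := fun e => hc.2 (by
    have h3 : ((3 : ℕ) : ZMod p) = 0 := e
    exact (Nat.prime_dvd_prime_iff_eq hp.out Nat.prime_three).1 ((ZMod.natCast_eq_zero_iff 3 p).1 h3))
  let t := Matrix.SpecialLinearGroup.diag2n (show (0 : Fin 2) ≠ 1 by decide) (2 : ZMod p) h2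
  have hcm := Cfsg.Lib.Classical.SLGroup.comm_diag_transvection (show (0 : Fin 2) ≠ 1 by decide) (2 : ZMod p) h2 (φ w)
  rw [← hf, ← f.apply_symm_apply (Matrix.SpecialLinearGroup.diag2n (show (0 : Fin 2) ≠ 1 by decide) (2 : ZMod p) h2),
    ← map_commutatorElement] at hcm
  set g := ⁅f.symm _, (⟨a, subset_closure (by simp)⟩ : ↥(closure ({a, b} : Set Γ)))⁆ with hg
  have hgK : (g : Γ) ∈ K := by
    rw [hg]
    simp only [commutatorElement_def, Subgroup.coe_mul, InvMemClass.coe_inv]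
    exact commutator_mem_core h hP (by rw [hP.blk_eq]; exact Subtype.prop _) hP.mem_a
  have hgp : (g : Γ) ^ p = 1 := by
    have : g ^ p = 1 := by
      apply f.injective
      rw [map_pow, map_one, hcm]
      refine Subtype.ext ?_
      have key : ∀ n : ℕ, (1 + Matrix.single (0 : Fin 2) (1 : Fin 2) (φ w * ((2 : ZMod p) ^ 2 - 1))) ^ n =
          1 + Matrix.single (0 : Fin 2) (1 : Fin 2) ((n : ZMod p) * (φ w * ((2 : ZMod p) ^ 2 - 1))) := fun n => by
        induction n with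
        | zero => simp
        | succ n ih =>
          rw [pow_succ, ih]
          simp [mul_add, add_mul, ← Matrix.single_add]
          rw [add_assoc, ← Matrix.single_add]
      rw [Matrix.SpecialLinearGroup.coe_pow, Matrix.SpecialLinearGroup.transvection_coe, key]
      simp
    exact congrArg Subtype.val this
  have hg1 : g = 1 := by
    refine Subtype.ext ?_
    by_contra hne
    exact h.orderOf_not_dvd hgK (by rw [orderOf_eq_prime hgp hne])
  rw [hg1, map_one] at hcm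
  have h4 := congrArg (fun T : Matrix.SpecialLinearGroup (Fin 2) (ZMod p) => T.1 0 1) hcm
  simp [Matrix.SpecialLinearGroup.transvection_coe] at h4
  rcases h4 with h4 | h4
  · exact hP.hd h4
  · exact h3 (by linear_combination h4)

theorem card_inter (h : Hyp ρ K) (hA : Off ρ A) (hcard : Nat.card A = p) :
    Nat.card ↥(blk K A ⊓ K) * p = Nat.card ↥(blk K A) := by
  haveI := h.normal
  obtain ⟨a, b, u, w, φ, ψ, hP⟩ := exists_pair h hA hcard
  set q := QuotientGroup.mk' K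
  have hrange : (blk K A).map q = A.map q := by
    refine le_antisymm ?_ (map_mono le_sup_right)
    rw [hP.blk_eq, MonoidHom.map_closure, closure_le]
    rintro _ ⟨z, (rfl | rfl), rfl⟩
    · exact ⟨_, hP.gen ▸ mem_zpowers _, rfl⟩
    · refine ⟨a, hP.gen ▸ mem_zpowers _, ?_⟩
      exact QuotientGroup.eq.2 (cl_div h.normal (⟨1, K.one_mem, by group⟩ : a ∈ Cl K a) hP.mem)
  have hinjA : Nat.card ↥(A.map q) = p := by
    rw [← hcard]
    refine (Nat.card_congr (Equiv.ofBijective (fun x : A => (⟨q x, x, x.2, rfl⟩ : ↥(A.map q))) ⟨fun x y e => ?_, ?_⟩)).symm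
    · have h1 : (x : Γ)⁻¹ * y ∈ K := QuotientGroup.eq.1 (congrArg Subtype.val e)
      exact Subtype.ext (inv_mul_eq_one.1 (h.inter_bot (elem_isPGroup hA.2) (A.mul_mem (A.inv_mem x.2) y.2) h1))
    · rintro ⟨_, x, hx, rfl⟩; exact ⟨⟨x, hx⟩, rfl⟩
  have h1 := Subgroup.card_eq_card_quotient_mul_card_subgroup (q.subgroupMap (blk K A)).ker
  rw [Nat.card_congr (QuotientGroup.quotientKerEquivOfSurjective _ (q.subgroupMap_surjective (blk K A))).toEquiv,
    Nat.card_congr (MulEquiv.subgroupCongr hrange).toEquiv, hinjA] at h1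
  rw [h1, mul_comm]
  congr 1
  refine Nat.card_congr (Equiv.ofBijective (fun x : (q.subgroupMap (blk K A)).ker =>
    (⟨((x : ↥(blk K A)) : Γ), (x : ↥(blk K A)).2, (QuotientGroup.eq_one_iff _).1 (congrArg Subtype.val x.2)⟩ : ↥(blk K A ⊓ K)))
    ⟨fun x y e => Subtype.ext (Subtype.ext (congrArg (fun z : ↥(blk K A ⊓ K) => (z : Γ)) e)), ?_⟩).symm
  rintro ⟨z, hz1, hz2⟩
  exact ⟨⟨⟨z, hz1⟩, Subtype.ext ((QuotientGroup.eq_one_iff _).2 hz2)⟩, rfl⟩

theorem inter_two (h : Hyp ρ K) (hA : Off ρ A) (hcard : Nat.card A = p) (hp2 : p = 2) :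
    Nat.card ↥(blk K A ⊓ K) = 3 := by
  obtain ⟨e⟩ := slTwo_blk h hA hcard
  have h1 := card_inter h hA hcard
  rw [Nat.card_congr e.toEquiv] at h1
  subst hp2
  have h2 := card_sl_two_two
  omega

theorem inter_three (h : Hyp ρ K) (hA : Off ρ A) (hcard : Nat.card A = p) (hp3 : p = 3) :
    Nat.card ↥(blk K A ⊓ K) = 8 ∧
      ∃ x ∈ blk K A ⊓ K, ∃ y ∈ blk K A ⊓ K, x * y ≠ y * x ∧ x ^ 2 ≠ 1 := by
  obtain ⟨e⟩ := slTwo_blk h hA hcard
  obtain ⟨a, b, u, w, φ, ψ, hP⟩ := exists_pair h hA hcard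
  have h1 := card_inter h hA hcard
  rw [Nat.card_congr e.toEquiv] at h1
  subst hp3
  haveI := h.normal
  have h2 := card_sl_two_three
  refine ⟨by omega, ?_⟩
  obtain ⟨X, Y, hX4, hY4, hXY, hX2⟩ := sl_two_three_facts
  have hmem : ∀ Z : Matrix.SpecialLinearGroup (Fin 2) (ZMod 3), Z ^ 4 = 1 → ((e.symm Z : ↥(blk K A)) : Γ) ∈ blk K A ⊓ K := by
    intro Z hZ
    refine ⟨(e.symm Z).2, ?_⟩
    set z := ((e.symm Z : ↥(blk K A)) : Γ)
    have hz4 : z ^ 4 = 1 := congrArg Subtype.val (show (e.symm Z) ^ 4 = 1 by rw [← map_pow, hZ, map_one])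
    have hle : blk K A ≤ (zpowers (QuotientGroup.mk' K a)).comap (QuotientGroup.mk' K) := by
      rw [hP.blk_eq, closure_le]
      rintro y (rfl | rfl)
      · exact mem_zpowers _
      · show QuotientGroup.mk' K y ∈ zpowers (QuotientGroup.mk' K a)
        rw [show QuotientGroup.mk' K y = QuotientGroup.mk' K a from
          (QuotientGroup.eq.2 (cl_div h.normal (⟨1, K.one_mem, by group⟩ : a ∈ Cl K a) hP.mem)).symm]
        exact mem_zpowers _
    have hz3 : (QuotientGroup.mk' K z) ^ 3 = 1 := by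
      obtain ⟨i, hi⟩ := mem_zpowers_iff.1 (hle (e.symm Z).2)
      rw [← hi, ← zpow_natCast, ← zpow_mul, mul_comm, zpow_mul, zpow_natCast, ← map_pow,
        hA.2.2 a (hP.gen ▸ mem_zpowers _), map_one, one_zpow]
    show z ∈ K
    rw [← QuotientGroup.eq_one_iff]
    show QuotientGroup.mk' K z = 1
    rw [show QuotientGroup.mk' K z = (QuotientGroup.mk' K z) ^ 4 * ((QuotientGroup.mk' K z) ^ 3)⁻¹ by group,
      hz3, ← map_pow, hz4, map_one, inv_one, mul_one]
  refine ⟨_, hmem X hX4, _, hmem Y hY4, fun hc => ?_, fun hc => ?_⟩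
  · have h3 : e.symm X * e.symm Y = e.symm Y * e.symm X := Subtype.ext hc
    rw [← map_mul, ← map_mul] at h3
    exact hXY (e.symm.injective h3)
  · have h3 : e.symm X ^ 2 = 1 := Subtype.ext hc
    rw [← map_pow, ← map_one e.symm] at h3
    exact hX2 (e.symm.injective h3)

theorem core_le_inter (h : Hyp ρ K) (A : Subgroup Γ) : ⁅K, A⁆ ≤ blk K A ⊓ K := by
  haveI := h.normal
  exact le_inf le_sup_left (commutator_le_left K A)

theorem core_eq (h : Hyp ρ K) (hA : Off ρ A) : ⁅K, A⁆ = blk K A ⊓ K := by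
  refine le_antisymm (core_le_inter h A) fun x hx => ?_
  obtain ⟨hxb, hxK⟩ := hx
  have hn : A ≤ normalizer ((⁅K, A⁆ : Subgroup Γ) : Set Γ) := by
    intro s hs
    refine mem_normalizer_fintype fun y hy => ?_
    have h2 : ⁅K, A⁆ ≤ (⁅K, A⁆ : Subgroup Γ).comap (MulAut.conj s).toMonoidHom := by
      rw [commutator_le]
      intro k hk c hc
      show s * ⁅k, c⁆ * s⁻¹ ∈ ⁅K, A⁆
      rw [show s * ⁅k, c⁆ * s⁻¹ = ⁅s * k * s⁻¹, s * c * s⁻¹⁆ by simp only [commutatorElement_def]; group]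
      exact commutator_mem_commutator (h.normal.conj_mem _ hk _) (mul_mem (mul_mem hs hc) (inv_mem hs))
    exact h2 hy
  change x ∈ ((⁅K, A⁆ ⊔ A : Subgroup Γ) : Set Γ) at hxb
  rw [Subgroup.coe_mul_of_right_le_normalizer_left _ _ hn] at hxb
  obtain ⟨y, hy, c, hc, rfl⟩ := hxb
  have hcK : c ∈ K := (K.mul_mem_cancel_left ((core_le_inter h A hy).2)).1 hxK
  simp only [h.inter_bot (elem_isPGroup hA.2) hc hcK, mul_one]
  exact hy

/-- The core of a block fixes no line of its plane. -/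
theorem no_invariant_line (h : Hyp ρ K) (hA : Off ρ A) (hcard : Nat.card A = p) {x : M}
    (hxW : x ∈ bracket ρ (blk K A)) (hx : x ≠ 0) (hinv : ∀ g ∈ blk K A ⊓ K, ρ g x ∈ (ZMod p) ∙ x) : False := by
  obtain ⟨a, b, u, w, φ, ψ, hP⟩ := exists_pair h hA hcard
  have hexp : ∀ g ∈ blk K A ⊓ K, g ^ (p - 1) = 1 := by
    intro g hg
    obtain ⟨t, ht⟩ := Submodule.mem_span_singleton.1 (hinv g hg)
    have ht0 : t ≠ 0 := fun e => hx (by rw [← apply_inv_cancel (ρ := ρ) g x, ← ht, e, zero_smul, map_zero])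
    set W := bracket ρ (blk K A)
    -- a complement of the line in the plane
    have hfr : Module.finrank (ZMod p) W = 2 := by
      have h1 := card_bracket_blk h hA hcard
      rw [Module.natCard_eq_pow_finrank (K := ZMod p), Nat.card_zmod] at h1
      exact Nat.pow_right_injective hp.out.two_le h1
    obtain ⟨y, hyW, hy⟩ : ∃ y ∈ W, y ∉ (ZMod p) ∙ x := by
      by_contra hc
      push Not at hc
      have h2 := Submodule.finrank_mono (show W ≤ (ZMod p) ∙ x from hc)
      rw [hfr, finrank_span_singleton hx] at h2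
      omega
    have hWeq : W = Submodule.span (ZMod p) {x, y} := by
      refine (Submodule.eq_of_le_of_finrank_le (Submodule.span_le.2 (by rintro z (rfl | rfl) <;> assumption)) ?_).symm
      rw [hfr]
      have hli : LinearIndependent (ZMod p) ![x, y] := by
        rw [LinearIndependent.pair_iff' hx]
        exact fun c hc => hy (Submodule.mem_span_singleton.2 ⟨c, hc⟩)
      have h3 := finrank_span_eq_card hli
      rw [show Set.range ![x, y] = {x, y} by simp [Set.pair_comm]] at h3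
      rw [h3]; simp
    have hgN : g ∈ normalizer ((blk K A : Subgroup Γ) : Set Γ) := le_normalizer hg.1
    obtain ⟨r, s, hrs⟩ := Submodule.mem_span_pair.1 (show ρ g y ∈ Submodule.span (ZMod p) {x, y} by rw [← hWeq]; exact bracket_invariant hgN hyW)
    have hs0 : s ≠ 0 := by
      intro e
      rw [e, zero_smul, add_zero] at hrs
      apply hy
      refine Submodule.mem_span_singleton.2 ⟨r / t, ?_⟩
      rw [← apply_inv_cancel (ρ := ρ) g y, ← hrs, map_smul, show ρ g⁻¹ x = t⁻¹ • x by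
        rw [eq_inv_smul_iff₀ ht0, ← map_smul, ht, apply_inv_cancel], smul_smul, div_eq_mul_inv]
    have hpw : ∀ n : ℕ, ρ (g ^ n) x = t ^ n • x ∧ ∃ r' : ZMod p, ρ (g ^ n) y = r' • x + s ^ n • y := fun n => by
      induction n with
      | zero => exact ⟨by simp, 0, by simp⟩
      | succ n ih =>
        obtain ⟨h1, r', h2⟩ := ih
        refine ⟨by rw [pow_succ', apply_mul, h1, map_smul, ← ht, smul_smul, pow_succ], r' * t + s ^ n * r, ?_⟩
        rw [pow_succ', apply_mul, h2, map_add, map_smul, map_smul, ← ht, ← hrs, smul_add, smul_smul, smul_smul,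
          smul_smul, add_smul, pow_succ]
        abel
    obtain ⟨hX, r', hY⟩ := hpw (p - 1)
    rw [ZMod.pow_card_sub_one_eq_one ht0, one_smul] at hX
    rw [ZMod.pow_card_sub_one_eq_one hs0, one_smul] at hY
    set g' := g ^ (p - 1)
    have hYn : ∀ n : ℕ, ρ (g' ^ n) x = x ∧ ρ (g' ^ n) y = ((n : ZMod p) * r') • x + y := fun n => by
      induction n with
      | zero => simp
      | succ n ih =>
        refine ⟨by rw [pow_succ', apply_mul, ih.1, hX], ?_⟩
        rw [pow_succ', apply_mul, ih.2, map_add, map_smul, hX, hY, Nat.cast_succ, add_mul, one_mul, add_smul]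
        abel
    have hp1 : g' ^ p = 1 := by
      refine h.inj (LinearMap.ext fun v => ?_)
      rw [map_one, Module.End.one_apply]
      obtain ⟨w', hw', z, hz, rfl⟩ := Submodule.mem_sup.1
        ((isCompl_blk h hA hcard).sup_eq_top ▸ Submodule.mem_top : v ∈ bracket ρ (blk K A) ⊔ fix ρ (blk K A))
      rw [map_add, mem_fix.1 hz _ (pow_mem (pow_mem hg.1 _) _)]
      congr 1
      obtain ⟨c, d, rfl⟩ := Submodule.mem_span_pair.1 (show w' ∈ Submodule.span (ZMod p) {x, y} by rw [← hWeq]; exact hw')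
      rw [map_add, map_smul, map_smul, (hYn p).1, (hYn p).2, ZMod.natCast_self, zero_mul, zero_smul, zero_add]
    by_contra hne
    exact h.orderOf_not_dvd (pow_mem hg.2 _) (by rw [orderOf_eq_prime hp1 hne])
  rcases prime_two_or_three h hA hcard with rfl | rfl
  · have h1 := inter_two h hA hcard rfl
    have : blk K A ⊓ K = ⊥ := (Subgroup.eq_bot_iff_forall _).2 fun g hg => by simpa using hexp g hg
    rw [this, Subgroup.card_bot] at h1
    omega
  · obtain ⟨-, x', hx', -, -, -, hne⟩ := inter_three h hA hcard rfl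
    exact hne (hexp x' hx')

theorem card_bracket_prime (h : Hyp ρ K) {A : Subgroup Γ} (hA : Off ρ A) (hcard : Nat.card A = p) :
    Nat.card (bracket ρ A) = p := by
  obtain ⟨a, ha, ha1, hgen⟩ := exists_gen hcard
  obtain ⟨u, φ, hT⟩ := exists_tv h hA hcard ha ha1
  have heq : bracket ρ A = (ZMod p) ∙ u := by
    refine le_antisymm (bracket_le fun g hg v => ?_) (Submodule.span_le.2 ?_)
    · rw [← hgen, ← mem_powers_iff_mem_zpowers] at hg
      obtain ⟨i, rfl⟩ := hg
      show ρ (a ^ i) v - v ∈ _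
      rw [hT.app_pow, add_sub_cancel_left]
      exact Submodule.smul_mem _ _ (Submodule.mem_span_singleton_self u)
    · rw [Set.singleton_subset_iff]
      obtain ⟨v, hv⟩ : ∃ v, φ v ≠ 0 := by
        by_contra hc
        push Not at hc
        exact hT.axis_ne (LinearMap.ext hc)
      have h1 := sub_mem_bracket (ρ := ρ) ha v
      rw [hT.app, add_sub_cancel_left] at h1
      simpa [smul_smul, hv] using Submodule.smul_mem _ (φ v)⁻¹ h1
  rw [heq, Module.natCard_eq_pow_finrank (K := ZMod p), Nat.card_zmod, finrank_span_singleton hT.center_ne, pow_one]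

end Cfsg.Lib.PLocal.FF
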