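import Mathlib
import Cfsg.Agent.Lib.PLocal.ClassTwoFactor
import Cfsg.Agent.Lib.PStable.StableQuotient
import Cfsg.Agent.Lib.PLocal.Constraint
import Cfsg.Agent.Lib.PLocal.S4Section

/-!
A quadratic failure of factorization yields a section `S₄`; the factorization for constrained
`S₄`-free groups with Sylow 2-subgroups of class at most two.
-/

set_option autoImplicit false
set_option linter.style.haveILetI false

namespace Cfsg.Lib.PLocal

open Cfsg
open scoped commutatorElement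

universe u

variable {G : Type u} [Group G] [Finite G]

/-- The fixed points of `A` on the section `Y / X`. -/
def layerFix (W X Y A : Subgroup G) (hW : IsElementaryAbelian 2 W) (hYW : Y ≤ W)
    (hA : ∀ a ∈ A, ∀ y ∈ Y, a * y * a⁻¹ ∈ Y) : Subgroup G where
  carrier := {y | y ∈ Y ∧ ∀ a ∈ A, a * y * a⁻¹ * y⁻¹ ∈ X}
  one_mem' := ⟨one_mem Y, fun a _ => by simp⟩
  mul_mem' := by
    rintro y z ⟨hy, hy'⟩ ⟨hz, hz'⟩
    refine ⟨mul_mem hy hz, fun a ha => ?_⟩
    have e : a * (y * z) * a⁻¹ * (y * z)⁻¹ = (a * y * a⁻¹ * y⁻¹) * (a * z * a⁻¹ * z⁻¹) := by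
      calc a * (y * z) * a⁻¹ * (y * z)⁻¹
          = (a * y * a⁻¹) * ((a * z * a⁻¹ * z⁻¹) * y⁻¹) := by group
        _ = (a * y * a⁻¹) * (y⁻¹ * (a * z * a⁻¹ * z⁻¹)) := by
          rw [elem_comm hW (mul_mem (hYW (hA a ha z hz)) (inv_mem (hYW hz))) (inv_mem (hYW hy))]
        _ = _ := by group
    rw [e]
    exact mul_mem (hy' a ha) (hz' a ha)
  inv_mem' := by
    rintro y ⟨hy, hy'⟩
    refine ⟨inv_mem hy, fun a ha => ?_⟩
    have e : a * y⁻¹ * a⁻¹ * y⁻¹⁻¹ = (a * y * a⁻¹ * y⁻¹)⁻¹ := by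
      calc a * y⁻¹ * a⁻¹ * y⁻¹⁻¹ = (a * y * a⁻¹)⁻¹ * y := by group
        _ = y * (a * y * a⁻¹)⁻¹ := elem_comm hW (inv_mem (hYW (hA a ha y hy))) (hYW hy)
        _ = _ := by group
    rw [e]
    exact inv_mem (hy' a ha)

/-- The elements of `A` acting trivially on the section `Y / X`. -/
def layerKer (X Y A : Subgroup G) (hX : ∀ a ∈ A, ∀ x ∈ X, a * x * a⁻¹ ∈ X) : Subgroup G where
  carrier := {a | a ∈ A ∧ ∀ y ∈ Y, a * y * a⁻¹ * y⁻¹ ∈ X}
  one_mem' := ⟨one_mem A, fun y _ => by simp⟩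
  mul_mem' := by
    rintro a b ⟨ha, ha'⟩ ⟨hb, hb'⟩
    refine ⟨mul_mem ha hb, fun y hy => ?_⟩
    have e : a * b * y * (a * b)⁻¹ * y⁻¹ =
        (a * (b * y * b⁻¹ * y⁻¹) * a⁻¹) * (a * y * a⁻¹ * y⁻¹) := by group
    rw [e]
    exact mul_mem (hX a ha _ (hb' y hy)) (ha' y hy)
  inv_mem' := by
    rintro a ⟨ha, ha'⟩
    refine ⟨inv_mem ha, fun y hy => ?_⟩
    have e : a⁻¹ * y * a⁻¹⁻¹ * y⁻¹ = a⁻¹ * (a * y * a⁻¹ * y⁻¹)⁻¹ * a⁻¹⁻¹ := by group
    rw [e]
    exact hX _ (inv_mem ha) _ (inv_mem (ha' y hy))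

/-- A quadratic semiregular layer of small codimension gives a section `S₄`. -/
theorem involves_s4_of_layer (W : Subgroup G) (hW : IsElementaryAbelian 2 W) (X Y A : Subgroup G)
    (g : G) (hA2 : ∀ a ∈ A, a * a = 1) (hXY : X ≤ Y) (hYW : Y ≤ W)
    (hAX : ∀ a ∈ A, ∀ x ∈ X, a * x * a⁻¹ ∈ X) (hAY : ∀ a ∈ A, ∀ y ∈ Y, a * y * a⁻¹ ∈ Y)
    (hgX : g ∈ Subgroup.normalizer (X : Set G)) (hgY : g ∈ Subgroup.normalizer (Y : Set G))
    (hquad : ∀ a ∈ A, ∀ b ∈ A, ∀ y ∈ Y,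
      b * (a * y * a⁻¹ * y⁻¹) * b⁻¹ * (a * y * a⁻¹ * y⁻¹)⁻¹ ∈ X)
    (hirr : ∀ Z : Subgroup G, X ≤ Z → Z ≤ Y → (∀ a ∈ A, ∀ z ∈ Z, a * z * a⁻¹ ∈ Z) →
      (∀ a ∈ A, ∀ z ∈ Z, g * a * g⁻¹ * z * (g * a * g⁻¹)⁻¹ ∈ Z) → Z = X ∨ Z = Y)
    (hne : ∃ a ∈ A, ∃ y ∈ Y, a * y * a⁻¹ * y⁻¹ ∉ X)
    (hcod : Nat.card Y * Nat.card (layerKer X Y A hAX) ≤
      Nat.card A * Nat.card (layerFix W X Y A hW hYW hAY))
    (hsemi : ∀ b ∈ A, ∀ w ∈ Y,
      (∀ a ∈ A, g * a * g⁻¹ * w * (g * a * g⁻¹)⁻¹ * w⁻¹ ∈ X) →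
      (∃ a ∈ A, a * w * a⁻¹ * w⁻¹ ∉ X) → b * w * b⁻¹ * w⁻¹ ∈ X →
      ∀ y ∈ Y, b * y * b⁻¹ * y⁻¹ ∈ X) :
    Cfsg.Involves (Equiv.Perm (Fin 4)) G := by
  classical
  set U1 := layerFix W X Y A hW hYW hAY with hU1
  have hU1Y : U1 ≤ Y := fun y hy => hy.1
  have hXW := hXY.trans hYW
  have hXU1 : X ≤ U1 := fun x hx => ⟨hXY hx, fun a ha => mul_mem (hAX a ha x hx) (inv_mem hx)⟩
  set U2 := U1.map (MulAut.conj g).toMonoidHom with hU2
  have hgYc : ∀ y ∈ Y, g * y * g⁻¹ ∈ Y := fun y hy => (Subgroup.mem_normalizer_iff.1 hgY y).1 hy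
  have hgYi : ∀ y ∈ Y, g⁻¹ * y * g ∈ Y := fun y hy => by
    simpa using (Subgroup.mem_normalizer_iff.1 (inv_mem hgY) y).1 hy
  have hgXc : ∀ y ∈ X, g * y * g⁻¹ ∈ X := fun y hy => (Subgroup.mem_normalizer_iff.1 hgX y).1 hy
  have hgXi : ∀ y ∈ X, g⁻¹ * y * g ∈ X := fun y hy => by
    simpa using (Subgroup.mem_normalizer_iff.1 (inv_mem hgX) y).1 hy
  have hU2mem : ∀ y, y ∈ U2 → y ∈ Y ∧ ∀ a ∈ A, g * a * g⁻¹ * y * (g * a * g⁻¹)⁻¹ * y⁻¹ ∈ X := by
    rintro _ ⟨u, hu, rfl⟩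
    refine ⟨hgYc u hu.1, fun a ha => ?_⟩
    have := hgXc _ (hu.2 a ha)
    simpa [mul_assoc] using this
  have hU2mem' : ∀ y ∈ Y, (∀ a ∈ A, g * a * g⁻¹ * y * (g * a * g⁻¹)⁻¹ * y⁻¹ ∈ X) → y ∈ U2 := by
    intro y hy h
    refine ⟨g⁻¹ * y * g, ⟨hgYi y hy, fun a ha => ?_⟩, by simp [mul_assoc]⟩
    have := hgXi _ (h a ha)
    simpa [mul_assoc] using this
  have hU2Y : U2 ≤ Y := fun y hy => (hU2mem y hy).1
  have hXU2 : X ≤ U2 := fun x hx => hU2mem' x (hXY hx) fun a ha => mul_mem (by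
    have := hgXc _ (hAX a ha _ (hgXi x hx))
    simpa [mul_assoc] using this) (inv_mem hx)
  have hq2 : ∀ c ∈ A, ∀ y ∈ Y, g * c * g⁻¹ * y * (g * c * g⁻¹)⁻¹ * y⁻¹ ∈ U2 := fun c hc y hy =>
    ⟨c * (g⁻¹ * y * g) * c⁻¹ * (g⁻¹ * y * g)⁻¹,
      ⟨mul_mem (hAY c hc _ (hgYi y hy)) (inv_mem (hgYi y hy)),
        fun b hb => hquad c hc b hb _ (hgYi y hy)⟩, by simp [mul_assoc]⟩
  obtain ⟨a0, ha0, y0, hy0, hay0⟩ := hne
  -- the intersection
  have hI : U1 ⊓ U2 = X := by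
    rcases hirr (U1 ⊓ U2) (le_inf hXU1 hXU2) (inf_le_left.trans hU1Y)
      (fun a ha z hz => by
        have h := mul_mem ((le_inf hXU1 hXU2) (hz.1.2 a ha)) hz
        rwa [inv_mul_cancel_right] at h)
      (fun a ha z hz => by
        have h := mul_mem ((le_inf hXU1 hXU2) ((hU2mem z hz.2).2 a ha)) hz
        rwa [inv_mul_cancel_right] at h) with h | h
    · exact h
    · exfalso
      exact hay0 ((h.ge.trans inf_le_left hy0).2 a0 ha0)
  -- the join
  have hJ : U1 ⊔ U2 = Y := by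
    rcases hirr (U1 ⊔ U2) (hXU1.trans le_sup_left) (sup_le hU1Y hU2Y)
      (fun a ha z hz => by
        have hzY : z ∈ Y := (sup_le hU1Y hU2Y) hz
        have h1 : a * z * a⁻¹ * z⁻¹ ∈ U1 :=
          ⟨mul_mem (hAY a ha z hzY) (inv_mem hzY), fun b hb => hquad a ha b hb z hzY⟩
        have h := mul_mem (Subgroup.mem_sup_left (T := U2) h1) hz
        rwa [inv_mul_cancel_right] at h)
      (fun a ha z hz => by
        have hzY : z ∈ Y := (sup_le hU1Y hU2Y) hz
        have h := mul_mem (Subgroup.mem_sup_right (S := U1) (hq2 a ha z hzY)) hz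
        rwa [inv_mul_cancel_right] at h) with h | h
    · exfalso
      exact hay0 (h.le (Subgroup.mem_sup_left
        ⟨mul_mem (hAY a0 ha0 y0 hy0) (inv_mem hy0), fun b hb => hquad a0 ha0 b hb y0 hy0⟩))
    · exact h
  have hcard : Nat.card Y * Nat.card X = Nat.card U1 * Nat.card U1 := by
    have h := card_sup_mul_card_inf (A := U1) (B := U2) fun u hu =>
      Subgroup.mem_centralizer_iff.2 fun v hv => elem_comm hW (hYW (hU2Y hv)) (hYW (hU1Y hu))
    rwa [hI, hJ, show Nat.card U2 = Nat.card U1 from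
      Subgroup.card_map_of_injective (MulAut.conj g).injective] at h
  -- the map attached to a point of the second fixed space
  set CA := layerKer X Y A hAX with hCA
  have honto : ∀ w ∈ U2, w ∉ X → ∀ v ∈ U1, ∃ a ∈ A, (a * w * a⁻¹ * w⁻¹)⁻¹ * v ∈ X := by
    intro w hw hwX v hv
    have hwY := hU2Y hw
    have hcm : ∀ a ∈ A, a * w * a⁻¹ * w⁻¹ ∈ U1 := fun a ha =>
      ⟨mul_mem (hAY a ha w hwY) (inv_mem hwY), fun b hb => hquad a ha b hb w hwY⟩
    haveI : (X.subgroupOf U1).Normal := ⟨fun x hx u => by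
      show (u : G) * (x : G) * (u : G)⁻¹ ∈ X
      rw [elem_comm hW (x := (u : G)) (y := (x : G)) (hYW (hU1Y u.2)) (hXW hx), mul_inv_cancel_right]
      exact hx⟩
    let θ : A →* U1 ⧸ X.subgroupOf U1 :=
      MonoidHom.mk' (fun a => QuotientGroup.mk (⟨_, hcm a a.2⟩ : U1)) fun a b => by
        show _ = QuotientGroup.mk ((⟨_, hcm a a.2⟩ : U1) * ⟨_, hcm b b.2⟩)
        refine QuotientGroup.eq.2 ?_
        show ((a : G) * b * w * ((a : G) * b)⁻¹ * w⁻¹)⁻¹ *
          (((a : G) * w * (a : G)⁻¹ * w⁻¹) * ((b : G) * w * (b : G)⁻¹ * w⁻¹)) ∈ X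
        set p' := (a : G) * w * (a : G)⁻¹ * w⁻¹
        set q' := (b : G) * w * (b : G)⁻¹ * w⁻¹ with hq'
        have hp : p' ∈ W := hYW (hU1Y (hcm a a.2))
        have hqW : q' ∈ W := hYW (hU1Y (hcm b b.2))
        have hz : (a : G) * q' * (a : G)⁻¹ ∈ W := hYW (hAY a a.2 _ (hU1Y (hcm b b.2)))
        have e : ((a : G) * b * w * ((a : G) * b)⁻¹ * w⁻¹)⁻¹ * (p' * q') =
            ((a : G) * q' * (a : G)⁻¹ * q'⁻¹)⁻¹ := by
          calc ((a : G) * b * w * ((a : G) * b)⁻¹ * w⁻¹)⁻¹ * (p' * q')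
              = p'⁻¹ * (((a : G) * q' * (a : G)⁻¹)⁻¹ * p') * q' := by
                simp only [p', hq']; group
            _ = p'⁻¹ * (p' * ((a : G) * q' * (a : G)⁻¹)⁻¹) * q' := by
                rw [elem_comm hW (inv_mem hz) hp]
            _ = ((a : G) * q' * (a : G)⁻¹)⁻¹ * q' := by group
            _ = q' * ((a : G) * q' * (a : G)⁻¹)⁻¹ := elem_comm hW (inv_mem hz) hqW
            _ = _ := by group
        rw [e]
        exact inv_mem (hquad b b.2 a a.2 w hwY)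
    have hθ : ∀ a : A, θ a = 1 ↔ (a : G) * w * (a : G)⁻¹ * w⁻¹ ∈ X := fun a =>
      QuotientGroup.eq_one_iff _
    have hker : θ.ker ≤ CA.subgroupOf A := by
      intro b hb
      rw [MonoidHom.mem_ker, hθ] at hb
      refine ⟨b.2, hsemi b b.2 w hwY (hU2mem w hw).2 ?_ hb⟩
      by_contra hcon
      push_neg at hcon
      exact hwX (hI.le ⟨⟨hwY, hcon⟩, hw⟩)
    have hk : Nat.card θ.ker ≤ Nat.card CA :=
      (Subgroup.card_le_of_le hker).trans
        (Nat.card_congr (Subgroup.subgroupOfEquivOfLe (show CA ≤ A from fun x hx => hx.1)).toEquiv).le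
    have h1 : Nat.card θ.ker * Nat.card θ.range = Nat.card A := by
      rw [← Subgroup.index_ker, Subgroup.card_mul_index]
    have h2 : Nat.card (U1 ⧸ X.subgroupOf U1) * Nat.card X = Nat.card U1 := by
      rw [← Nat.card_congr (Subgroup.subgroupOfEquivOfLe hXU1).toEquiv,
        ← Subgroup.card_eq_card_quotient_mul_card_subgroup]
    have hsurj : θ.range = ⊤ := by
      refine Subgroup.eq_top_of_le_card _ ?_
      refine Nat.le_of_mul_le_mul_right ?_ (Nat.card_pos (α := X))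
      refine Nat.le_of_mul_le_mul_right ?_ (Nat.card_pos (α := U1))
      refine Nat.le_of_mul_le_mul_right ?_ (Nat.card_pos (α := CA))
      rw [h2]
      calc Nat.card U1 * Nat.card U1 * Nat.card CA = Nat.card Y * Nat.card CA * Nat.card X := by
            rw [← hcard]; ring
        _ ≤ Nat.card A * Nat.card U1 * Nat.card X := Nat.mul_le_mul_right _ hcod
        _ = Nat.card θ.ker * Nat.card θ.range * Nat.card U1 * Nat.card X := by rw [h1]
        _ ≤ Nat.card CA * Nat.card θ.range * Nat.card U1 * Nat.card X :=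
          Nat.mul_le_mul_right _ (Nat.mul_le_mul_right _ (Nat.mul_le_mul_right _ hk))
        _ = _ := by ring
    obtain ⟨a, ha⟩ := hsurj.ge (Subgroup.mem_top (QuotientGroup.mk (⟨v, hv⟩ : U1)))
    have ha' : QuotientGroup.mk (s := X.subgroupOf U1) (⟨_, hcm a a.2⟩ : U1) =
        QuotientGroup.mk (⟨v, hv⟩ : U1) := ha
    have ha'' := QuotientGroup.eq.1 ha'
    exact ⟨a, a.2, ha''⟩
  -- the points
  obtain ⟨w, hw, hwX⟩ : ∃ w ∈ U2, w ∉ X := by
    by_contra h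
    push_neg at h
    have hY1 : Y ≤ U1 := hJ.ge.trans (sup_le le_rfl ((show U2 ≤ X from h).trans hXU1))
    exact hay0 ((hY1 hy0).2 a0 ha0)
  obtain ⟨v, hv, hvX⟩ : ∃ v ∈ U1, v ∉ X := by
    refine ⟨g⁻¹ * w * g, ⟨hgYi w (hU2Y hw), fun a ha => ?_⟩, fun h => hwX ?_⟩
    · have := hgXi _ ((hU2mem w hw).2 a ha)
      simpa [mul_assoc] using this
    · have := hgXc _ h
      simpa [mul_assoc] using this
  obtain ⟨a, ha, haw⟩ := honto w hw hwX v hv
  obtain ⟨c0, hc0, hcv⟩ : ∃ c0 ∈ A,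
      (g * c0 * g⁻¹ * v * (g * c0 * g⁻¹)⁻¹ * v⁻¹)⁻¹ * w ∈ X := by
    obtain ⟨b, hb, hbv⟩ : ∃ b ∈ A,
        (b * (g⁻¹ * v * g) * b⁻¹ * (g⁻¹ * v * g)⁻¹)⁻¹ * (g⁻¹ * w * g) ∈ X := by
      by_cases hv2 : g⁻¹ * v * g ∈ U2 ∧ g⁻¹ * v * g ∉ X
      · exact honto _ hv2.1 hv2.2 _ ⟨hgYi w (hU2Y hw), fun a' ha' => by
          have := hgXi _ ((hU2mem w hw).2 a' ha')
          simpa [mul_assoc] using this⟩
      · -- move the first point into the second fixed space
        have hvY : g⁻¹ * v * g ∈ Y := hgYi v hv.1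
        obtain ⟨u1, hu1, u2, hu2, he⟩ : ∃ u1 ∈ U1, ∃ u2 ∈ U2, u1 * u2 = g⁻¹ * v * g := by
          have h : g⁻¹ * v * g ∈ (↑(U1 ⊔ U2) : Set G) := hJ.ge hvY
          rw [Subgroup.coe_mul_of_left_le_normalizer_right U1 U2 (fun u hu =>
            mem_normalizer_of_conj_le fun t ht => by
              rw [elem_comm hW (hYW (hU1Y hu)) (hYW (hU2Y ht)), mul_inv_cancel_right]
              exact ht)] at h
          exact h
        have hu2X : u2 ∉ X := by
          intro h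
          have h1 : g⁻¹ * v * g ∈ U1 := he ▸ mul_mem hu1 (hXU1 h)
          have h2 : v ∈ U2 := ⟨_, h1, by simp [mul_assoc]⟩
          exact hvX (hI.le ⟨hv, h2⟩)
        obtain ⟨b, hb, hbu⟩ := honto u2 hu2 hu2X (g⁻¹ * w * g) ⟨hgYi w (hU2Y hw), fun a' ha' => by
          have := hgXi _ ((hU2mem w hw).2 a' ha')
          simpa [mul_assoc] using this⟩
        refine ⟨b, hb, ?_⟩
        have h1 := hu1.2 b hb
        rw [← he]
        have e : b * (u1 * u2) * b⁻¹ * (u1 * u2)⁻¹ =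
            (b * u1 * b⁻¹ * u1⁻¹) * (b * u2 * b⁻¹ * u2⁻¹) := by
          calc b * (u1 * u2) * b⁻¹ * (u1 * u2)⁻¹
              = (b * u1 * b⁻¹) * ((b * u2 * b⁻¹ * u2⁻¹) * u1⁻¹) := by group
            _ = (b * u1 * b⁻¹) * (u1⁻¹ * (b * u2 * b⁻¹ * u2⁻¹)) := by
              rw [elem_comm hW (mul_mem (hYW (hAY b hb u2 (hU2Y hu2))) (inv_mem (hYW (hU2Y hu2))))
                (inv_mem (hYW (hU1Y hu1)))]
            _ = _ := by group
        rw [e, mul_inv_rev, mul_assoc, elem_comm hW (inv_mem (hXW h1))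
          (hYW (hgYi w (hU2Y hw))), ← mul_assoc]
        exact mul_mem hbu (inv_mem h1)
    refine ⟨b, hb, ?_⟩
    have := hgXc _ hbv
    simpa [mul_assoc] using this
  set c := g * c0 * g⁻¹ with hc
  -- the quotient by `X`
  set M := Subgroup.normalizer (X : Set G) with hM
  have haM : a ∈ M := mem_normalizer_of_conj_le (hAX a ha)
  have hcM : c ∈ M := mul_mem (mul_mem hgX (mem_normalizer_of_conj_le (hAX c0 hc0))) (inv_mem hgX)
  have hYM : Y ≤ M := fun y hy => mem_normalizer_of_conj_le fun x hx => by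
    rw [elem_comm hW (hYW hy) (hXW hx), mul_inv_cancel_right]; exact hx
  haveI : (X.subgroupOf M).Normal := ⟨fun x hx m => (Subgroup.mem_normalizer_iff.1 m.2 x).1 hx⟩
  set q := QuotientGroup.mk' (X.subgroupOf M) with hq
  have hq1 : ∀ m : M, q m = 1 ↔ (m : G) ∈ X := fun m => QuotientGroup.eq_one_iff m
  have hqe : ∀ m m' : M, (m : G)⁻¹ * (m' : G) ∈ X → q m = q m' := fun m m' h => QuotientGroup.eq.2 h
  set V' := q ⟨v, hYM hv.1⟩ with hV'
  set W' := q ⟨w, hYM (hU2Y hw)⟩ with hW'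
  set ā := q ⟨a, haM⟩ with hā
  set c' := q ⟨c, hcM⟩ with hc'
  have hWsq : ∀ t ∈ W, t * t = 1 := fun t ht => by rw [← sq]; exact hW.2 t ht
  have hV2 : V' * V' = 1 := by
    rw [hV', ← map_mul, hq1]
    show v * v ∈ X
    rw [hWsq v (hYW hv.1)]; exact one_mem X
  have hW2 : W' * W' = 1 := by
    rw [hW', ← map_mul, hq1]
    show w * w ∈ X
    rw [hWsq w (hYW (hU2Y hw))]; exact one_mem X
  have hVW : V' * W' = W' * V' := by
    rw [hV', hW', ← map_mul, ← map_mul]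
    exact congrArg q (Subtype.ext (elem_comm hW (hYW hv.1) (hYW (hU2Y hw))))
  have hā2 : ā * ā = 1 := by
    rw [hā, ← map_mul, hq1]
    show a * a ∈ X
    rw [hA2 a ha]; exact one_mem X
  have hc2 : c' * c' = 1 := by
    rw [hc', ← map_mul, hq1]
    show c * c ∈ X
    rw [show c * c = g * (c0 * c0) * g⁻¹ by rw [hc]; group, hA2 c0 hc0, mul_one, mul_inv_cancel]
    exact one_mem X
  have haV : ā * V' * ā⁻¹ = V' := by
    rw [hā, hV', ← map_inv, ← map_mul, ← map_mul]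
    refine (hqe _ _ ?_).symm
    show v⁻¹ * (a * v * a⁻¹) ∈ X
    rw [elem_comm hW (inv_mem (hYW hv.1)) (hYW (hAY a ha v hv.1))]
    exact hv.2 a ha
  have hcW : c' * W' * c'⁻¹ = W' := by
    rw [hc', hW', ← map_inv, ← map_mul, ← map_mul]
    refine (hqe _ _ ?_).symm
    show w⁻¹ * (c * w * c⁻¹) ∈ X
    have h := (hU2mem w hw).2 c0 hc0
    rw [elem_comm hW (inv_mem (hYW (hU2Y hw))) (by
      have := mul_mem (hXW h) (hYW (hU2Y hw))
      rwa [inv_mul_cancel_right] at this)]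
    exact h
  have haW : ā * W' * ā⁻¹ = V' * W' := by
    rw [hā, hV', hW', ← map_inv, ← map_mul, ← map_mul, ← map_mul]
    refine hqe _ _ ?_
    show (a * w * a⁻¹)⁻¹ * (v * w) ∈ X
    rw [elem_comm hW (hYW hv.1) (hYW (hU2Y hw))]
    have e : (a * w * a⁻¹)⁻¹ * (w * v) = (a * w * a⁻¹ * w⁻¹)⁻¹ * v := by
      calc (a * w * a⁻¹)⁻¹ * (w * v) = ((a * w * a⁻¹)⁻¹ * w) * v := by group
        _ = (w * (a * w * a⁻¹)⁻¹) * v := by
          rw [elem_comm hW (inv_mem (hYW (hAY a ha w (hU2Y hw)))) (hYW (hU2Y hw))]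
        _ = _ := by group
    rw [e]
    exact haw
  have hcV : c' * V' * c'⁻¹ = V' * W' := by
    rw [hc', hV', hW', ← map_inv, ← map_mul, ← map_mul, ← map_mul]
    refine hqe _ _ ?_
    show (c * v * c⁻¹)⁻¹ * (v * w) ∈ X
    have hcvW : c * v * c⁻¹ ∈ W := by
      have := mul_mem (hYW (hU2Y (hq2 c0 hc0 v hv.1))) (hYW hv.1)
      rwa [inv_mul_cancel_right] at this
    have e : (c * v * c⁻¹)⁻¹ * (v * w) = (c * v * c⁻¹ * v⁻¹)⁻¹ * w := by
      calc (c * v * c⁻¹)⁻¹ * (v * w) = ((c * v * c⁻¹)⁻¹ * v) * w := by group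
        _ = (v * (c * v * c⁻¹)⁻¹) * w := by rw [elem_comm hW (inv_mem hcvW) (hYW hv.1)]
        _ = _ := by group
    rw [e]
    exact hcv
  have hV1 : V' ≠ 1 := fun h => hvX ((hq1 _).1 h)
  have hW1 : W' ≠ 1 := fun h => hwX ((hq1 _).1 h)
  have hne' : V' ≠ W' := fun h => hvX (hI.le ⟨hv, by
    have h0 := (QuotientGroup.eq (s := X.subgroupOf M) (a := ⟨v, hYM hv.1⟩) (b := ⟨w, hYM (hU2Y hw)⟩)).1 h
    have h1 : v⁻¹ * w ∈ X := h0
    have h2 := mul_mem hw (inv_mem (hXU2 h1))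
    simpa using h2⟩)
  have hP1 : V' * W' ≠ 1 := fun h => hne' (by
    calc V' = V' * (W' * W') := by rw [hW2, mul_one]
      _ = W' := by rw [← mul_assoc, h, one_mul])
  have hPV : V' * W' ≠ V' := fun h => hW1 (by rwa [mul_eq_left] at h)
  have hPW : V' * W' ≠ W' := fun h => hV1 (by rwa [mul_eq_right] at h)
  let P : Subgroup (↥M ⧸ X.subgroupOf M) :=
    { carrier := {t | t = 1 ∨ t = V' ∨ t = W' ∨ t = V' * W'}
      one_mem' := Or.inl rfl
      inv_mem' := by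
        rintro t (rfl | rfl | rfl | rfl)
        · exact Or.inl inv_one
        · exact Or.inr (Or.inl (inv_eq_of_mul_eq_one_right hV2))
        · exact Or.inr (Or.inr (Or.inl (inv_eq_of_mul_eq_one_right hW2)))
        · exact Or.inr (Or.inr (Or.inr (by
            rw [mul_inv_rev, inv_eq_of_mul_eq_one_right hV2, inv_eq_of_mul_eq_one_right hW2, hVW])))
      mul_mem' := by
        have e1 : V' * (V' * W') = W' := by rw [← mul_assoc, hV2, one_mul]
        have e2 : V' * W' * V' = W' := by rw [hVW, mul_assoc, hV2, mul_one]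
        have e3 : W' * (V' * W') = V' := by rw [hVW, ← mul_assoc, hW2, one_mul]
        have e4 : V' * W' * W' = V' := by rw [mul_assoc, hW2, mul_one]
        have e5 : V' * W' * (V' * W') = 1 := by rw [← mul_assoc, e2, hW2]
        rintro s t (rfl | rfl | rfl | rfl) (rfl | rfl | rfl | rfl) <;>
          simp [hV2, hW2, e1, e2, e3, e4, e5, ← hVW] }
  have hPcard : Nat.card P = 4 := by
    have e : (P : Set (↥M ⧸ X.subgroupOf M)) =
        (↑({1, V', W', V' * W'} : Finset (↥M ⧸ X.subgroupOf M)) : Set (↥M ⧸ X.subgroupOf M)) := by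
      ext t
      simp [P]
    show Nat.card (P : Set (↥M ⧸ X.subgroupOf M)) = 4
    rw [e, Nat.card_coe_set_eq, Set.ncard_coe_finset,
      Finset.card_insert_of_notMem (by simp [Ne.symm hV1, Ne.symm hW1, Ne.symm hP1]),
      Finset.card_insert_of_notMem (by simp [hne', Ne.symm hPV]),
      Finset.card_insert_of_notMem (by simp [Ne.symm hPW]), Finset.card_singleton]
  have hmulconj : ∀ m x y : ↥M ⧸ X.subgroupOf M, m * (x * y) * m⁻¹ = (m * x * m⁻¹) * (m * y * m⁻¹) :=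
    fun m x y => by group
  have haVW : ā * (V' * W') * ā⁻¹ = W' := by rw [hmulconj, haV, haW, ← mul_assoc, hV2, one_mul]
  have hcVW : c' * (V' * W') * c'⁻¹ = V' := by
    rw [hmulconj, hcV, hcW, mul_assoc, hW2, mul_one]
  have haN : ā ∈ Subgroup.normalizer (P : Set (↥M ⧸ X.subgroupOf M)) :=
    mem_normalizer_of_conj_le fun t ht => by
      rcases ht with rfl | rfl | rfl | rfl
      · exact Or.inl (by simp)
      · exact Or.inr (Or.inl haV)
      · exact Or.inr (Or.inr (Or.inr haW))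
      · exact Or.inr (Or.inr (Or.inl haVW))
  have hcN : c' ∈ Subgroup.normalizer (P : Set (↥M ⧸ X.subgroupOf M)) :=
    mem_normalizer_of_conj_le fun t ht => by
      rcases ht with rfl | rfl | rfl | rfl
      · exact Or.inl (by simp)
      · exact Or.inr (Or.inr (Or.inr hcV))
      · exact Or.inr (Or.inr (Or.inl hcW))
      · exact Or.inr (Or.inl hcVW)
  set r := ā * c' with hr
  have hconj2 : ∀ t, r * t * r⁻¹ = ā * (c' * t * c'⁻¹) * ā⁻¹ := fun t => by rw [hr]; group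
  have hrV : r * V' * r⁻¹ = W' := by rw [hconj2, hcV, haVW]
  have hrW : r * W' * r⁻¹ = V' * W' := by rw [hconj2, hcW, haW]
  have hrVW : r * (V' * W') * r⁻¹ = V' := by rw [hconj2, hcVW, haV]
  have hr3 : ∀ t, r ^ 3 * t * (r ^ 3)⁻¹ = r * (r * (r * t * r⁻¹) * r⁻¹) * r⁻¹ := fun t => by
    rw [pow_succ, pow_two]; group
  have hinv : Cfsg.Involves (Equiv.Perm (Fin 4)) (↥M ⧸ X.subgroupOf M) := by
    refine involves_s4_of_four P hPcard ā r (n := 3) (by decide) haN (mul_mem haN hcN) ?_ ?_ ?_ ?_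
    · rw [sq, hā2]; exact one_mem _
    · intro h
      refine hPW ?_
      rw [← haW, ← Subgroup.mem_centralizer_iff.1 h W' (Or.inr (Or.inr (Or.inl rfl))),
        mul_inv_cancel_right]
    · refine Subgroup.mem_centralizer_iff.2 fun t ht => ?_
      have key : r ^ 3 * t * (r ^ 3)⁻¹ = t := by
        rw [hr3]
        rcases ht with rfl | rfl | rfl | rfl
        · simp
        · rw [hrV, hrW, hrVW]
        · rw [hrW, hrVW, hrV]
        · rw [hrVW, hrV, hrW]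
      exact (mul_inv_eq_iff_eq_mul.1 key).symm
    · intro t ht hfix
      rcases ht with rfl | rfl | rfl | rfl
      · rfl
      · exact absurd (hrV.symm.trans hfix) (Ne.symm hne')
      · exact absurd (hrW.symm.trans hfix) hPW
      · exact absurd (hrVW.symm.trans hfix) (Ne.symm hPV)
  exact Cfsg.Lib.PStable.involves_of_subgroup M (Fusion.involves_of_surjective q
    (QuotientGroup.mk'_surjective _) hinv)

/-- Either some layer has small codimension, or the part of `A` acting as a `2`-group is large. -/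
theorem layer_or_stable (W L A : Subgroup G) (hW : IsElementaryAbelian 2 W)
    (hLW : ∀ l ∈ L, ∀ w ∈ W, l * w * l⁻¹ ∈ W) (hAL : A ≤ L) :
    ∀ (n : ℕ) (Y : Subgroup G), Y ≤ W → Nat.card Y ≤ n → L ≤ Subgroup.normalizer (Y : Set G) →
      (∃ (X Y' : Subgroup G) (hAX : ∀ a ∈ A, ∀ x ∈ X, a * x * a⁻¹ ∈ X) (hY'W : Y' ≤ W)
          (hAY : ∀ a ∈ A, ∀ y ∈ Y', a * y * a⁻¹ ∈ Y'),
        X ≤ Y' ∧ Y' ≤ Y ∧ L ≤ Subgroup.normalizer (X : Set G) ∧
        L ≤ Subgroup.normalizer (Y' : Set G) ∧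
        (∀ Z : Subgroup G, X ≤ Z → Z ≤ Y' → L ≤ Subgroup.normalizer (Z : Set G) → Z = X ∨ Z = Y') ∧
        (∃ a ∈ A, ∃ y ∈ Y', a * y * a⁻¹ * y⁻¹ ∉ X) ∧
        Nat.card Y' * Nat.card (layerKer X Y' A hAX) ≤
          Nat.card A * Nat.card (layerFix W X Y' A hW hY'W hAY)) ∨
      ∃ N : Subgroup G, N ≤ L ∧ L ≤ Subgroup.normalizer (N : Set G) ∧
        (∀ m ∈ N, ∃ i : ℕ, ∀ y ∈ Y, m ^ 2 ^ i * y = y * m ^ 2 ^ i) ∧
        Nat.card A * Nat.card ↥(Y ⊓ Subgroup.centralizer (A : Set G)) ≤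
          Nat.card ↥(A ⊓ N) * Nat.card Y ∧
        (A ≤ N ∨ Nat.card A * Nat.card ↥(Y ⊓ Subgroup.centralizer (A : Set G)) <
          Nat.card ↥(A ⊓ N) * Nat.card Y) := by
  classical
  haveI : Fact (Nat.Prime 2) := ⟨Nat.prime_two⟩
  intro n
  induction n with
  | zero => intro Y _ h; exact absurd h (Nat.card_pos (α := Y)).not_ge
  | succ n ih =>
  intro Y hYW hn hLY
  by_cases hY1 : Y = ⊥
  · right
    refine ⟨L, le_rfl, Subgroup.le_normalizer, fun m _ => ⟨0, fun y hy => ?_⟩, ?_, Or.inl hAL⟩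
    · rw [hY1, Subgroup.mem_bot] at hy
      simp [hy]
    · rw [inf_eq_left.2 hAL]
      exact Nat.mul_le_mul_left _ (Subgroup.card_le_of_le inf_le_left)
  obtain ⟨X, ⟨⟨hXY, hXne⟩, hLX⟩, hXmax⟩ : ∃ X, Maximal (fun X : Subgroup G =>
      (X ≤ Y ∧ X ≠ Y) ∧ L ≤ Subgroup.normalizer (X : Set G)) X :=
    (Set.toFinite {X : Subgroup G | (X ≤ Y ∧ X ≠ Y) ∧
      L ≤ Subgroup.normalizer (X : Set G)}).exists_maximal ⟨⊥, ⟨bot_le, Ne.symm hY1⟩,
        fun l _ => mem_normalizer_of_conj_le fun x hx => by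
          rw [Subgroup.mem_bot] at hx ⊢; simp [hx]⟩
  have hirr : ∀ Z : Subgroup G, X ≤ Z → Z ≤ Y → L ≤ Subgroup.normalizer (Z : Set G) → Z = X ∨ Z = Y := by
    intro Z h1 h2 h3
    by_cases h : Z = Y
    · exact Or.inr h
    · exact Or.inl (le_antisymm (hXmax ⟨⟨h2, h⟩, h3⟩ h1) h1)
  have hXc : ∀ l ∈ L, ∀ x ∈ X, l * x * l⁻¹ ∈ X := fun l hl x hx =>
    (Subgroup.mem_normalizer_iff.1 (hLX hl) x).1 hx
  have hYc : ∀ l ∈ L, ∀ x ∈ Y, l * x * l⁻¹ ∈ Y := fun l hl x hx =>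
    (Subgroup.mem_normalizer_iff.1 (hLY hl) x).1 hx
  have hAX : ∀ a ∈ A, ∀ x ∈ X, a * x * a⁻¹ ∈ X := fun a ha => hXc a (hAL ha)
  have hAY : ∀ a ∈ A, ∀ x ∈ Y, a * x * a⁻¹ ∈ Y := fun a ha => hYc a (hAL ha)
  have hlt : Nat.card X ≤ n := by
    have h1 := Subgroup.card_le_of_le hXY
    have h2 : Nat.card X ≠ Nat.card Y := fun h => hXne (Subgroup.eq_of_le_of_card_ge hXY h.ge)
    omega
  rcases ih X (hXY.trans hYW) hlt hLX with ⟨X', Y', h1, h2, h3, h4, h5, h6, h7, h8, h9, h10⟩ |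
      ⟨N', hN'L, hLN', hN'p, hle, hlt'⟩
  · exact Or.inl ⟨X', Y', h1, h2, h3, h4, h5.trans hXY, h6, h7, h8, h9, h10⟩
  set CA := layerKer X Y A hAX with hCA
  set U1 := layerFix W X Y A hW hYW hAY with hU1
  set UY := Y ⊓ Subgroup.centralizer (A : Set G) with hUY
  set UX := X ⊓ Subgroup.centralizer (A : Set G) with hUX
  let K := layerKer X Y L hXc
  set N := N' ⊓ K with hN
  have hAN : A ⊓ N = (A ⊓ N') ⊓ CA := by
    ext a
    constructor
    · rintro ⟨ha, ha1, -, ha2⟩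
      exact ⟨⟨ha, ha1⟩, ha, ha2⟩
    · rintro ⟨⟨ha, ha1⟩, -, ha2⟩
      exact ⟨ha, ha1, hAL ha, ha2⟩
  have hcomm : ∀ {P Q : Subgroup G}, P ≤ W → Q ≤ W → P ≤ Subgroup.centralizer (Q : Set G) :=
    fun hP hQ u hu => Subgroup.mem_centralizer_iff.2 fun v hv => elem_comm hW (hQ hv) (hP hu)
  have hmod : Nat.card UY * Nat.card X ≤ Nat.card U1 * Nat.card UX := by
    rw [← card_sup_mul_card_inf (hcomm (inf_le_left.trans hYW) (hXY.trans hYW) : UY ≤ _)]
    refine Nat.mul_le_mul (Subgroup.card_le_of_le (sup_le (fun u hu => ⟨hu.1, fun a ha => ?_⟩)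
      fun x hx => ⟨hXY hx, fun a ha => mul_mem (hAX a ha x hx) (inv_mem hx)⟩))
      (Subgroup.card_le_of_le fun u hu => ⟨hu.2, hu.1.2⟩)
    rw [Subgroup.mem_centralizer_iff.1 hu.2 a ha, mul_inv_cancel_right, mul_inv_cancel]
    exact one_mem X
  have hinf : Nat.card ↥(A ⊓ N') * Nat.card CA ≤ Nat.card A * Nat.card ↥(A ⊓ N) := by
    by_cases hA2 : ∀ a ∈ A, ∀ b ∈ A, a * b = b * a
    · rw [hAN, ← card_sup_mul_card_inf (fun u hu => Subgroup.mem_centralizer_iff.2 fun v hv =>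
        hA2 v hv.1 u hu.1 : A ⊓ N' ≤ Subgroup.centralizer (CA : Set G))]
      exact Nat.mul_le_mul_right _ (Subgroup.card_le_of_le (sup_le inf_le_left fun a ha => ha.1))
    · rw [hAN]
      have h := Subgroup.relIndex_inf_le (H := A ⊓ N') (K := CA) (L := A)
      have e1 : ∀ P : Subgroup G, P ≤ A → Nat.card P * P.relIndex A = Nat.card A := fun P hP => by
        rw [← Nat.card_congr (Subgroup.subgroupOfEquivOfLe hP).toEquiv]
        exact Subgroup.card_mul_index _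
      have hc : CA ≤ A := fun a ha => ha.1
      have hpos : 0 < (A ⊓ N').relIndex A * CA.relIndex A := by
        refine Nat.mul_pos (Nat.pos_of_ne_zero fun h0 => ?_) (Nat.pos_of_ne_zero fun h0 => ?_)
        · have := e1 _ (inf_le_left : A ⊓ N' ≤ A)
          rw [h0, mul_zero] at this
          exact Nat.card_pos.ne this
        · have := e1 _ hc
          rw [h0, mul_zero] at this
          exact Nat.card_pos.ne this
      refine Nat.le_of_mul_le_mul_right ?_ hpos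
      calc Nat.card ↥(A ⊓ N') * Nat.card CA * ((A ⊓ N').relIndex A * CA.relIndex A)
          = (Nat.card ↥(A ⊓ N') * (A ⊓ N').relIndex A) * (Nat.card CA * CA.relIndex A) := by ring
        _ = Nat.card A * (Nat.card ↥(A ⊓ N' ⊓ CA) * (A ⊓ N' ⊓ CA).relIndex A) := by
          rw [e1 _ inf_le_left, e1 _ hc, e1 _ (inf_le_right.trans hc)]
        _ ≤ _ := by
          rw [mul_assoc]
          exact Nat.mul_le_mul_left _ (Nat.mul_le_mul_left _ h)
  by_cases hlayer : (∃ a ∈ A, ∃ y ∈ Y, a * y * a⁻¹ * y⁻¹ ∉ X) ∧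
      Nat.card Y * Nat.card CA ≤ Nat.card A * Nat.card U1
  · exact Or.inl ⟨X, Y, hAX, hYW, hAY, hXY, le_rfl, hLX, hLY, hirr, hlayer.1, hlayer.2⟩
  right
  refine ⟨N, inf_le_left.trans hN'L, fun l hl => mem_normalizer_of_conj_le fun m hm => ?_,
    fun m hm => ?_, ?_⟩
  · refine ⟨(Subgroup.mem_normalizer_iff.1 (hLN' hl) m).1 hm.1,
      mul_mem (mul_mem hl hm.2.1) (inv_mem hl), fun y hy => ?_⟩
    have hy' : l⁻¹ * y * l ∈ Y := by
      have := hYc l⁻¹ (inv_mem hl) y hy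
      rwa [inv_inv] at this
    have := hXc l hl _ (hm.2.2 _ hy')
    simpa [mul_assoc] using this
  · obtain ⟨i, hi⟩ := hN'p m hm.1
    obtain ⟨j, hj⟩ := Cfsg.Lib.PStable.exists_pow_commute (p := 2) (V := Y) (P₀ := X)
      (elem_isPGroup (elem_le hW (hXY.trans hYW))) (m ^ 2 ^ i) hi (fun y hy => by
        have hmK : m ^ 2 ^ i ∈ K := pow_mem hm.2 _
        have h := hmK.2 y hy
        rwa [elem_comm hW (x := y⁻¹) (inv_mem (hYW hy)) (hLW _ hmK.1 y (hYW hy))])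
    exact ⟨i + j, fun y hy => by rw [pow_add, pow_mul]; exact hj y hy⟩
  by_cases hne : ∃ a ∈ A, ∃ y ∈ Y, a * y * a⁻¹ * y⁻¹ ∉ X
  · have hlt2 : Nat.card A * Nat.card U1 < Nat.card Y * Nat.card CA := by
      by_contra h
      exact hlayer ⟨hne, Nat.le_of_not_lt h⟩
    have hstrict : Nat.card A * Nat.card UY < Nat.card ↥(A ⊓ N) * Nat.card Y := by
      refine Nat.lt_of_mul_lt_mul_right (a := Nat.card A * Nat.card X) ?_
      calc Nat.card A * Nat.card UY * (Nat.card A * Nat.card X)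
          = Nat.card A * Nat.card A * (Nat.card UY * Nat.card X) := by ring
        _ ≤ Nat.card A * Nat.card A * (Nat.card U1 * Nat.card UX) := Nat.mul_le_mul_left _ hmod
        _ = (Nat.card A * Nat.card U1) * (Nat.card A * Nat.card UX) := by ring
        _ < (Nat.card Y * Nat.card CA) * (Nat.card A * Nat.card UX) :=
          Nat.mul_lt_mul_of_pos_right hlt2 (Nat.mul_pos Nat.card_pos Nat.card_pos)
        _ ≤ (Nat.card Y * Nat.card CA) * (Nat.card ↥(A ⊓ N') * Nat.card X) := Nat.mul_le_mul_left _ hle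
        _ = Nat.card Y * Nat.card X * (Nat.card ↥(A ⊓ N') * Nat.card CA) := by ring
        _ ≤ Nat.card Y * Nat.card X * (Nat.card A * Nat.card ↥(A ⊓ N)) := Nat.mul_le_mul_left _ hinf
        _ = _ := by ring
    exact ⟨hstrict.le, Or.inr hstrict⟩
  · push_neg at hne
    have hsame : A ⊓ N = A ⊓ N' := by
      rw [hAN]
      exact inf_eq_left.2 fun a ha => ⟨ha.1, hne a ha.1⟩
    have hm2 : Nat.card UY * Nat.card X ≤ Nat.card Y * Nat.card UX :=
      hmod.trans (Nat.mul_le_mul_right _ (Subgroup.card_le_of_le fun u hu => hu.1))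
    refine ⟨Nat.le_of_mul_le_mul_right (a := Nat.card A * Nat.card UY) ?_ (Nat.card_pos (α := X)), ?_⟩
    · rw [hsame]
      calc Nat.card A * Nat.card UY * Nat.card X = Nat.card A * (Nat.card UY * Nat.card X) := by ring
        _ ≤ Nat.card A * (Nat.card Y * Nat.card UX) := Nat.mul_le_mul_left _ hm2
        _ = Nat.card Y * (Nat.card A * Nat.card UX) := by ring
        _ ≤ Nat.card Y * (Nat.card ↥(A ⊓ N') * Nat.card X) := Nat.mul_le_mul_left _ hle
        _ = _ := by ring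
    · rcases hlt' with h | h
      · exact Or.inl fun a ha => ⟨h ha, hAL ha, hne a ha⟩
      · right
        refine Nat.lt_of_mul_lt_mul_right (a := Nat.card X) ?_
        rw [hsame]
        calc Nat.card A * Nat.card UY * Nat.card X = Nat.card A * (Nat.card UY * Nat.card X) := by ring
          _ ≤ Nat.card A * (Nat.card Y * Nat.card UX) := Nat.mul_le_mul_left _ hm2
          _ = Nat.card Y * (Nat.card A * Nat.card UX) := by ring
          _ < Nat.card Y * (Nat.card ↥(A ⊓ N') * Nat.card X) :=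
            Nat.mul_lt_mul_of_pos_left h Nat.card_pos
          _ = _ := by ring

/-- A largest elementary abelian subgroup centralizes a normal module generated in the Sylow
centre, for Sylow 2-subgroups of class at most two and no section `S₄`. -/
theorem maxElem_le_centralizer_free (hS4 : ¬ Cfsg.Involves (Equiv.Perm (Fin 4)) G)
    (S : Sylow 2 G) (hcl : ∀ s ∈ (S : Subgroup G), ∀ t ∈ (S : Subgroup G), ∀ r ∈ (S : Subgroup G),
      Commute ⁅s, t⁆ r)
    (W : Subgroup G) [W.Normal] (hW : IsElementaryAbelian 2 W) (hWS : W ≤ (S : Subgroup G))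
    (hO : pCore 2 (G ⧸ Subgroup.centralizer (W : Set G)) = ⊥)
    (A : Subgroup G) (hAS : A ≤ (S : Subgroup G)) (hA : IsElementaryAbelian 2 A)
    (hmax : ∀ B : Subgroup G, B ≤ (S : Subgroup G) → IsElementaryAbelian 2 B → Nat.card B ≤ Nat.card A) :
    A ≤ Subgroup.centralizer (W : Set G) := by
  classical
  haveI : Fact (Nat.Prime 2) := ⟨Nat.prime_two⟩
  by_contra hne
  set C := Subgroup.centralizer (W : Set G) with hC
  set q := QuotientGroup.mk' C with hq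
  have hqs : Function.Surjective q := QuotientGroup.mk'_surjective C
  have hqC : ∀ g, q g = 1 ↔ g ∈ C := fun g => QuotientGroup.eq_one_iff g
  have hWc : ∀ g : G, ∀ w ∈ W, g * w * g⁻¹ ∈ W := fun g w hw =>
    (inferInstance : W.Normal).conj_mem w hw g
  have hCw : ∀ c ∈ C, ∀ w ∈ W, c * w = w * c := fun c hc w hw =>
    (Subgroup.mem_centralizer_iff.1 hc w hw).symm
  -- every 2-subgroup of the quotient is abelian
  have hab : ∀ P : Subgroup (G ⧸ C), IsPGroup 2 P → ∀ x ∈ P, ∀ y ∈ P, x * y = y * x := by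
    intro P hP x hx y hy
    obtain ⟨T, hT⟩ := hP.exists_le_sylow
    obtain ⟨h, hh⟩ := MulAction.exists_smul_eq (G ⧸ C) T (S.mapSurjective hqs)
    have hmem : ∀ t ∈ (T : Subgroup (G ⧸ C)), ∃ s ∈ (S : Subgroup G), q s = h * t * h⁻¹ := by
      intro t ht
      have h1 : h * t * h⁻¹ ∈ ((h • T : Sylow 2 (G ⧸ C)) : Subgroup (G ⧸ C)) := ⟨t, ht, rfl⟩
      rw [hh] at h1
      exact h1
    obtain ⟨s, hs, hse⟩ := hmem x (hT hx)
    obtain ⟨t, ht, hte⟩ := hmem y (hT hy)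
    have hcst : q ⁅s, t⁆ = 1 := (hqC _).2 (Subgroup.mem_centralizer_iff.2 fun w hw =>
      (hcl s hs t ht w (hWS hw)).eq.symm)
    rw [map_commutatorElement, commutatorElement_eq_one_iff_mul_comm, hse, hte] at hcst
    calc x * y = h⁻¹ * ((h * x * h⁻¹) * (h * y * h⁻¹)) * h := by group
      _ = y * x := by rw [hcst]; group
  -- the bad subgroups
  let Bad : Subgroup (G ⧸ C) → Prop := fun L =>
    A.map q ≤ L ∧ ¬ A.map q ≤ (pCore 2 L).map L.subtype
  have hA1 : A.map q ≠ ⊥ := fun h => hne fun a ha =>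
    (hqC a).1 (Subgroup.mem_bot.1 (h ▸ Subgroup.mem_map_of_mem q ha))
  have hBtop : Bad ⊤ := by
    refine ⟨le_top, fun h => hA1 (eq_bot_iff.2 (h.trans ?_))⟩
    have : pCore 2 (⊤ : Subgroup (G ⧸ C)) = ⊥ := by
      have h1 := Solv.map_pCore_le (G := (⊤ : Subgroup (G ⧸ C))) 2
        (f := (Subgroup.topEquiv : (⊤ : Subgroup (G ⧸ C)) ≃* G ⧸ C).toMonoidHom)
        (Subgroup.topEquiv : (⊤ : Subgroup (G ⧸ C)) ≃* G ⧸ C).surjective
      rw [hO, le_bot_iff, Subgroup.map_eq_bot_iff_of_injective] at h1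
      · exact h1
      · exact Subgroup.topEquiv.injective
    rw [this, Subgroup.map_bot]
  obtain ⟨L, ⟨hAL, hAO⟩, hmin⟩ := (Set.toFinite {L | Bad L}).exists_minimal ⟨⊤, hBtop⟩
  have hminle : ∀ L' : Subgroup (G ⧸ C), L' ≤ L → L' ≠ L → A.map q ≤ L' →
      A.map q ≤ (pCore 2 L').map L'.subtype := by
    intro L' h1 h2 h3
    by_contra h4
    exact h2 (le_antisymm h1 (hmin ⟨h3, h4⟩ h1))
  have hAp : IsPGroup 2 (A.map q) := (elem_isPGroup hA).map q
  -- generation by two conjugates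
  obtain ⟨gb, hgbL, hgen⟩ : ∃ gb ∈ L, L = A.map q ⊔ (A.map q).map (MulAut.conj gb).toMonoidHom := by
    obtain ⟨ab, hab1, hab2⟩ : ∃ ab ∈ A.map q, ab ∉ (pCore 2 L).map L.subtype :=
      SetLike.not_le_iff_exists.1 hAO
    obtain ⟨gl, hgl⟩ : ∃ gl : L, ¬ IsPGroup 2 ↥(Subgroup.closure
        ({⟨ab, hAL hab1⟩, gl * ⟨ab, hAL hab1⟩ * gl⁻¹} : Set L)) := by
      by_contra hall
      push_neg at hall
      exact hab2 ⟨_, Cfsg.Lib.ThreeT.baerSuzuki hall, rfl⟩
    refine ⟨gl, gl.2, ?_⟩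
    set L' := A.map q ⊔ (A.map q).map (MulAut.conj (gl : G ⧸ C)).toMonoidHom with hL'
    have hL'L : L' ≤ L := by
      refine sup_le hAL ?_
      rintro _ ⟨x, hx, rfl⟩
      exact mul_mem (mul_mem gl.2 (hAL hx)) (inv_mem gl.2)
    by_contra hLne
    have h1 := hminle L' hL'L (Ne.symm hLne) le_sup_left
    set L'' := L'.map (MulAut.conj (gl : G ⧸ C)⁻¹).toMonoidHom with hL''
    have hL''L : L'' ≤ L := by
      rintro _ ⟨x, hx, rfl⟩
      exact mul_mem (mul_mem (inv_mem gl.2) (hL'L hx)) (inv_mem (inv_mem gl.2))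
    have hAL'' : A.map q ≤ L'' := fun x hx =>
      ⟨(gl : G ⧸ C) * x * (gl : G ⧸ C)⁻¹, Subgroup.mem_sup_right ⟨x, hx, rfl⟩, by simp [mul_assoc]⟩
    have hc'' : Nat.card L'' = Nat.card L' :=
      Subgroup.card_map_of_injective (MulAut.conj (gl : G ⧸ C)⁻¹).injective
    have h2 := hminle L'' hL''L (fun h => Ne.symm hLne (Subgroup.eq_of_le_of_card_ge hL'L
      (by rw [← hc'', h]))) hAL''
    let e : L'' ≃* L' :=
      { toFun := fun x => ⟨(gl : G ⧸ C) * x * (gl : G ⧸ C)⁻¹, by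
          obtain ⟨y, hy, e⟩ := x.2
          rw [← e]; simpa [mul_assoc] using hy⟩
        invFun := fun y => ⟨(gl : G ⧸ C)⁻¹ * y * (gl : G ⧸ C)⁻¹⁻¹, ⟨y, y.2, rfl⟩⟩
        left_inv := fun x => Subtype.ext (by simp [mul_assoc])
        right_inv := fun x => Subtype.ext (by simp [mul_assoc])
        map_mul' := fun x y => Subtype.ext (by simp [mul_assoc]) }
    have hall : L' ≤ (pCore 2 L').map L'.subtype := by
      refine sup_le h1 ?_
      rintro _ ⟨x, hx, rfl⟩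
      obtain ⟨x', hx', hxe⟩ := h2 hx
      refine ⟨e x', Solv.map_pCore_le (f := e.toMonoidHom) 2 e.surjective ⟨x', hx', rfl⟩, ?_⟩
      show (gl : G ⧸ C) * (x' : G ⧸ C) * (gl : G ⧸ C)⁻¹ = (gl : G ⧸ C) * x * (gl : G ⧸ C)⁻¹
      rw [show (x' : G ⧸ C) = x from hxe]
    have hL'p : IsPGroup 2 L' := ((Solv.isPGroup_pCore 2).map _).to_le hall
    refine hgl ?_
    refine (hL'p.comap_of_injective L.subtype L.subtype_injective).to_le ((Subgroup.closure_le _).2 ?_)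
    rintro y (rfl | rfl)
    · exact Subgroup.mem_sup_left hab1
    · exact Subgroup.mem_sup_right ⟨ab, hab1, rfl⟩
  -- the part of `A` in the core is central
  set R := (pCore 2 L).map L.subtype with hR
  have hRL : R ≤ L := Subgroup.map_subtype_le _
  have hRn : ∀ l ∈ L, ∀ r ∈ R, l * r * l⁻¹ ∈ R := by
    rintro l hl _ ⟨r, hr, rfl⟩
    exact ⟨⟨l, hl⟩ * r * ⟨l, hl⟩⁻¹, (Transfer.pCore_normal (G := L) 2).conj_mem r hr _, rfl⟩
  have hRp : IsPGroup 2 R := (Solv.isPGroup_pCore 2).map _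
  have hRN : ∀ P : Subgroup (G ⧸ C), P ≤ L → IsPGroup 2 P → ∀ r ∈ R, ∀ x ∈ P, r * x = x * r := by
    intro P hPL hP r hr x hx
    exact hab (R ⊔ P) (IsPGroup.to_sup_of_normal_left' hRp hP fun y hy =>
      mem_normalizer_of_conj_le (hRn y (hPL hy))) r (Subgroup.mem_sup_left hr) x (Subgroup.mem_sup_right hx)
  have hAg : (A.map q).map (MulAut.conj gb).toMonoidHom ≤ L := hgen ▸ le_sup_right
  have hcentral : ∀ z : G ⧸ C, (∀ x ∈ A.map q, z * x = x * z) →
      (∀ x ∈ A.map q, z * (gb * x * gb⁻¹) = (gb * x * gb⁻¹) * z) → ∀ l ∈ L, z * l = l * z := by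
    intro z h1 h2 l hl
    have hle : L ≤ Subgroup.centralizer ({z} : Set (G ⧸ C)) := by
      rw [hgen]
      refine sup_le (fun x hx => Subgroup.mem_centralizer_singleton_iff.2 (h1 x hx).symm) ?_
      rintro _ ⟨x, hx, rfl⟩
      exact Subgroup.mem_centralizer_singleton_iff.2 (h2 x hx).symm
    exact (Subgroup.mem_centralizer_singleton_iff.1 (hle hl)).symm
  have hRc : ∀ r ∈ R, ∀ l ∈ L, r * l = l * r := fun r hr =>
    hcentral r (hRN _ hAL hAp r hr) fun x hx => hRN _ hAg (hAp.map _) r hr _ ⟨x, hx, rfl⟩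
  -- back in `G`
  obtain ⟨g, rfl⟩ := hqs gb
  set Lg := L.comap q with hLg
  set A0 := A ⊓ R.comap q with hA0
  set Y0 := W ⊓ Subgroup.centralizer (A0 : Set G) with hY0
  have hgL : g ∈ Lg := hgbL
  have hALg : A ≤ Lg := fun a ha => hAL (Subgroup.mem_map_of_mem q ha)
  have hqW : ∀ {x y : G}, q x = q y → ∀ w ∈ W, x * w * x⁻¹ = y * w * y⁻¹ := by
    intro x y hxy w hw
    have h1 : y⁻¹ * x ∈ C := by rw [← hqC, map_mul, map_inv, hxy, inv_mul_cancel]
    calc x * w * x⁻¹ = y * ((y⁻¹ * x) * w) * x⁻¹ := by group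
      _ = y * w * y⁻¹ := by rw [hCw _ h1 w hw]; group
  -- the generators move `W` into the fixed points of `A0`
  have hA0q : ∀ d ∈ A0, ∀ l ∈ Lg, q (l * d * l⁻¹) = q d := fun d hd l hl => by
    rw [map_mul, map_mul, map_inv, ← hRc (q d) hd.2 (q l) hl, mul_inv_cancel_right]
  have hY0L : ∀ l ∈ Lg, ∀ y ∈ Y0, l * y * l⁻¹ ∈ Y0 := by
    intro l hl y hy
    refine ⟨hWc l y hy.1, Subgroup.mem_centralizer_iff.2 fun d hd => ?_⟩
    have h1 := hqW (hA0q d hd l⁻¹ (inv_mem hl)) y hy.1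
    rw [Subgroup.mem_centralizer_iff.1 hy.2 d hd, mul_inv_cancel_right] at h1
    refine (mul_inv_eq_iff_eq_mul.1 ?_)
    calc d * (l * y * l⁻¹) * d⁻¹ = l * ((l⁻¹ * d * l⁻¹⁻¹) * y * (l⁻¹ * d * l⁻¹⁻¹)⁻¹) * l⁻¹ := by group
      _ = l * y * l⁻¹ := by rw [h1]
  have hmoveA : ∀ a ∈ A, ∀ w ∈ W, ∀ r ∈ (S : Subgroup G), Commute (a * w * a⁻¹ * w⁻¹) r :=
    fun a ha w hw r hr => hcl a (hAS ha) w (hWS hw) r hr
  let M0 : Subgroup G := {
      carrier := {l | l ∈ Lg ∧ ∀ w ∈ W, l * w * l⁻¹ * w⁻¹ ∈ Y0}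
      one_mem' := ⟨one_mem _, fun w _ => by simp⟩
      mul_mem' := fun {l m} hl hm => ⟨mul_mem hl.1 hm.1, fun w hw => by
        have e : l * m * w * (l * m)⁻¹ * w⁻¹ =
            (l * (m * w * m⁻¹) * l⁻¹ * (m * w * m⁻¹)⁻¹) * (m * w * m⁻¹ * w⁻¹) := by group
        rw [e]
        exact mul_mem (hl.2 _ (hWc m w hw)) (hm.2 w hw)⟩
      inv_mem' := fun {l} hl => ⟨inv_mem hl.1, fun w hw => by
        have e : l⁻¹ * w * l⁻¹⁻¹ * w⁻¹ =
            (l * (l⁻¹ * w * l⁻¹⁻¹) * l⁻¹ * (l⁻¹ * w * l⁻¹⁻¹)⁻¹)⁻¹ := by group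
        rw [e]
        exact inv_mem (hl.2 _ (hWc l⁻¹ w hw))⟩ }
  have hmove : Lg ≤ M0 := by
    intro l hl
    have hql : q l ∈ L := hl
    rw [hgen] at hql
    have hC0 : C ≤ M0 := fun c hc => ⟨show q c ∈ L by rw [(hqC c).2 hc]; exact one_mem L,
      fun w hw => by rw [hCw c hc w hw, mul_inv_cancel_right, mul_inv_cancel]; exact one_mem Y0⟩
    have hM : A.map q ⊔ (A.map q).map (MulAut.conj (q g)).toMonoidHom ≤ M0.map q := by
      refine sup_le (Subgroup.map_mono fun a ha => ⟨hALg ha, fun w hw =>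
        ⟨W.mul_mem (hWc a w hw) (W.inv_mem hw), Subgroup.mem_centralizer_iff.2 fun d hd =>
          (hmoveA a ha w hw d (hAS hd.1)).eq.symm⟩⟩) ?_
      rintro _ ⟨_, ⟨a, ha, rfl⟩, rfl⟩
      refine ⟨g * a * g⁻¹, ⟨Lg.mul_mem (Lg.mul_mem hgL (hALg ha)) (Lg.inv_mem hgL), fun w hw => ?_⟩, by simp⟩
      have hw' : g⁻¹ * w * g⁻¹⁻¹ ∈ W := hWc g⁻¹ w hw
      have h0 : a * (g⁻¹ * w * g⁻¹⁻¹) * a⁻¹ * (g⁻¹ * w * g⁻¹⁻¹)⁻¹ ∈ Y0 :=
        ⟨W.mul_mem (hWc a _ hw') (W.inv_mem hw'), Subgroup.mem_centralizer_iff.2 fun d hd =>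
          (hmoveA a ha _ hw' d (hAS hd.1)).eq.symm⟩
      have := hY0L g hgL _ h0
      simpa [mul_assoc] using this
    obtain ⟨m, hm, hme⟩ := hM hql
    have h1 : m⁻¹ * l ∈ M0 := hC0 ((hqC _).1 (by rw [map_mul, map_inv, hme, inv_mul_cancel]))
    have := mul_mem hm h1
    rwa [mul_inv_cancel_left] at this
  have hY0W : Y0 ≤ W := inf_le_left
  have hUY : Y0 ⊓ Subgroup.centralizer (A : Set G) = W ⊓ Subgroup.centralizer (A : Set G) :=
    le_antisymm (inf_le_inf_right _ hY0W)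
      (le_inf (inf_le_inf_left _ (Subgroup.centralizer_le fun x hx => hx.1)) inf_le_right)
  have hmaxY : Nat.card A0 * Nat.card Y0 ≤
      Nat.card A * Nat.card ↥(Y0 ⊓ Subgroup.centralizer (A : Set G)) := by
    have hc : A0 ≤ Subgroup.centralizer (Y0 : Set G) := Subgroup.le_centralizer_iff.1 inf_le_right
    have h1 := hmax (A0 ⊔ Y0) (sup_le (inf_le_left.trans hAS) (hY0W.trans hWS))
      (elem_sup (elem_le hA inf_le_left) (elem_le hW hY0W) hc)
    rw [← card_sup_mul_card_inf hc, hUY]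
    exact Nat.mul_le_mul h1 (Subgroup.card_le_of_le fun x hx => ⟨hx.2.1,
      Subgroup.mem_centralizer_iff.2 fun a ha => elem_comm hA ha hx.1.1⟩)
  rcases layer_or_stable W Lg A hW (fun l _ w hw => hWc l w hw) hALg _ Y0 hY0W le_rfl
      (fun l hl => mem_normalizer_of_conj_le (hY0L l hl)) with
    ⟨X, Y, hAX, hYW, hAY, hXY, hYY0, hLX, hLY, hirr, hnetriv, hcod⟩ | ⟨N, hNL, hLN, hNp, hle, hlt⟩
  · have hXW := hXY.trans hYW
    refine hS4 (involves_s4_of_layer W hW X Y A g (fun a ha => by rw [← sq]; exact hA.2 a ha) hXY hYW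
      hAX hAY (hLX hgL) (hLY hgL) ?_ ?_ hnetriv hcod ?_)
    · intro a ha b hb y hy
      rw [(hmoveA a ha y (hYW hy) b (hAS hb)).eq.symm, mul_inv_cancel_right, mul_inv_cancel]
      exact one_mem X
    · intro Z hXZ hZY hZA hZg
      refine hirr Z hXZ hZY fun l hl => ?_
      set M0 := Subgroup.normalizer (Z : Set G)
      have hC0 : C ≤ M0 := fun c hc => mem_normalizer_of_conj_le fun z hz => by
        rw [hCw c hc z (hYW (hZY hz)), mul_inv_cancel_right]; exact hz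
      have hM : A.map q ⊔ (A.map q).map (MulAut.conj (q g)).toMonoidHom ≤ M0.map q := by
        refine sup_le (Subgroup.map_mono fun a ha => mem_normalizer_of_conj_le (hZA a ha)) ?_
        rintro _ ⟨_, ⟨a, ha, rfl⟩, rfl⟩
        exact ⟨g * a * g⁻¹, mem_normalizer_of_conj_le (hZg a ha), by simp⟩
      have hql : q l ∈ L := hl
      rw [hgen] at hql
      obtain ⟨m, hm, hme⟩ := hM hql
      have := M0.mul_mem hm (hC0 ((hqC _).1 (show q (m⁻¹ * l) = 1 by
        rw [map_mul, map_inv, hme, inv_mul_cancel])))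
      rwa [mul_inv_cancel_left] at this
    · intro b hb w hwY hwg ⟨a, ha, haw⟩ hbw y hy
      let St : Subgroup G :=
        { carrier := {l | l ∈ Lg ∧ l * w * l⁻¹ * w⁻¹ ∈ X}
          one_mem' := ⟨one_mem _, by simp⟩
          mul_mem' := fun {l m} hl hm => ⟨mul_mem hl.1 hm.1, by
            have e : l * m * w * (l * m)⁻¹ * w⁻¹ =
                (l * (m * w * m⁻¹ * w⁻¹) * l⁻¹) * (l * w * l⁻¹ * w⁻¹) := by group
            rw [e]
            exact mul_mem ((Subgroup.mem_normalizer_iff.1 (hLX hl.1) _).1 hm.2) hl.2⟩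
          inv_mem' := fun {l} hl => ⟨inv_mem hl.1, by
            have e : l⁻¹ * w * l⁻¹⁻¹ * w⁻¹ = l⁻¹ * (l * w * l⁻¹ * w⁻¹)⁻¹ * l⁻¹⁻¹ := by group
            rw [e]
            exact (Subgroup.mem_normalizer_iff.1 (hLX (inv_mem hl.1)) _).1 (inv_mem hl.2)⟩ }
      set L' := St.map q with hL'
      have hL'L : L' ≤ L := by rintro _ ⟨l, hl, rfl⟩; exact hl.1
      have hL'ne : L' ≠ L := by
        intro h
        obtain ⟨m, hm, hme⟩ := h.ge (hAL (Subgroup.mem_map_of_mem q ha))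
        refine haw ?_
        rw [hqW hme.symm w (hYW hwY)]
        exact hm.2
      set L'' := L'.map (MulAut.conj (q g)⁻¹).toMonoidHom with hL''
      have hL''L : L'' ≤ L := by
        rintro _ ⟨x, hx, rfl⟩
        exact mul_mem (mul_mem (inv_mem hgbL) (hL'L hx)) (inv_mem (inv_mem hgbL))
      have hAL'' : A.map q ≤ L'' := by
        rintro _ ⟨c, hc, rfl⟩
        exact ⟨q (g * c * g⁻¹), ⟨_, ⟨mul_mem (mul_mem hgL (hALg hc)) (inv_mem hgL), hwg c hc⟩, rfl⟩,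
          by simp [mul_assoc]⟩
      have h2 := hminle L'' hL''L (fun h => hL'ne (Subgroup.eq_of_le_of_card_ge hL'L (by
        rw [← h]; exact (Subgroup.card_map_of_injective (MulAut.conj (q g)⁻¹).injective).le))) hAL''
      set b' := (q g)⁻¹ * q b * (q g)⁻¹⁻¹ with hb'
      have hb'L : b' ∈ L'' := ⟨q b, ⟨b, ⟨hALg hb, hbw⟩, rfl⟩, rfl⟩
      have hbp : IsPGroup 2 (Subgroup.zpowers b') := by
        refine ((hAp.to_le (Subgroup.zpowers_le.2 (Subgroup.mem_map_of_mem q hb))).map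
          (MulAut.conj (q g)⁻¹).toMonoidHom).to_le ?_
        exact Subgroup.zpowers_le.2 ⟨q b, Subgroup.mem_zpowers _, rfl⟩
      set R'' := (pCore 2 L'').map L''.subtype with hR''
      have hR''n : ∀ l ∈ L'', ∀ r ∈ R'', l * r * l⁻¹ ∈ R'' := by
        rintro l hl _ ⟨r, hr, rfl⟩
        exact ⟨⟨l, hl⟩ * r * ⟨l, hl⟩⁻¹, (Transfer.pCore_normal (G := L'') 2).conj_mem r hr _, rfl⟩
      have hcomm' : ∀ x ∈ A.map q, b' * x = x * b' := fun x hx =>
        hab (R'' ⊔ Subgroup.zpowers b') (IsPGroup.to_sup_of_normal_left'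
          ((Solv.isPGroup_pCore 2).map _) hbp fun y hy => mem_normalizer_of_conj_le
            (hR''n y ((Subgroup.zpowers_le.2 hb'L) hy))) b'
          (Subgroup.mem_sup_right (Subgroup.mem_zpowers _)) x (Subgroup.mem_sup_left (h2 hx))
      have hbcent : ∀ l ∈ L, q b * l = l * q b := by
        refine hcentral (q b) (fun x hx => ?_) fun x hx => ?_
        · exact hab _ hAp _ (Subgroup.mem_map_of_mem q hb) x hx
        · have h := hcomm' x hx
          calc q b * (q g * x * (q g)⁻¹) = q g * (b' * x) * (q g)⁻¹ := by rw [hb']; group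
            _ = q g * x * (q g)⁻¹ * q b := by rw [h, hb']; group
      have hbR : q b ∈ R := by
        have hn : ((Subgroup.zpowers (q b)).subgroupOf L).Normal := ⟨fun z hz l => by
          obtain ⟨i, hi⟩ := Subgroup.mem_zpowers_iff.1 (show (z : G ⧸ C) ∈ Subgroup.zpowers (q b) from hz)
          show (l : G ⧸ C) * (z : G ⧸ C) * (l : G ⧸ C)⁻¹ ∈ Subgroup.zpowers (q b)
          rw [← hi, ← ((show Commute (q b) (l : G ⧸ C) from hbcent l l.2).zpow_left i).eq,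
            mul_inv_cancel_right]
          exact Subgroup.zpow_mem_zpowers _ i⟩
        exact ⟨⟨q b, hAL (Subgroup.mem_map_of_mem q hb)⟩, Solv.le_pCore hn
          ((hAp.to_le (Subgroup.zpowers_le.2 (Subgroup.mem_map_of_mem q hb))).comap_of_injective
            L.subtype L.subtype_injective) (Subgroup.mem_zpowers _), rfl⟩
      rw [Subgroup.mem_centralizer_iff.1 (hYY0 hy).2 b ⟨hb, hbR⟩, mul_inv_cancel_right, mul_inv_cancel]
      exact one_mem X
  · have hNA0 : A ⊓ N ≤ A0 := by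
      have hNq : N.map q ≤ L := Subgroup.map_le_iff_le_comap.2 hNL
      have hn : ((N.map q).subgroupOf L).Normal := ⟨fun z hz l => by
        obtain ⟨m, hm, hme⟩ := (show (z : G ⧸ C) ∈ N.map q from hz)
        obtain ⟨l', hl'⟩ := hqs (l : G ⧸ C)
        refine ⟨l' * m * l'⁻¹, (Subgroup.mem_normalizer_iff.1 (hLN (show q l' ∈ L from hl'.symm ▸ l.2)) m).1 hm, ?_⟩
        show q (l' * m * l'⁻¹) = (l : G ⧸ C) * (z : G ⧸ C) * (l : G ⧸ C)⁻¹
        rw [map_mul, map_mul, map_inv, hl', hme]⟩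
      have hp : IsPGroup 2 ((N.map q).subgroupOf L) := by
        refine IsPGroup.comap_of_injective ?_ L.subtype L.subtype_injective
        rintro ⟨_, m, hm, rfl⟩
        obtain ⟨i, hi⟩ := hNp m hm
        have hmL : m ^ 2 ^ i ∈ Lg := pow_mem (hNL hm) _
        obtain ⟨j, hj⟩ := Cfsg.Lib.PStable.exists_pow_commute (p := 2) (V := W) (P₀ := Y0)
          (elem_isPGroup (elem_le hW hY0W)) (m ^ 2 ^ i) hi (fun w hw => by
            have h := (hmove hmL).2 w hw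
            rwa [elem_comm hW (x := w⁻¹) (inv_mem hw) (hWc _ w hw)])
        refine ⟨i + j, Subtype.ext ?_⟩
        show q m ^ 2 ^ (i + j) = 1
        rw [← map_pow, hqC, pow_add, pow_mul]
        exact Subgroup.mem_centralizer_iff.2 fun w hw => (hj w hw).symm
      intro a ha
      refine ⟨ha.1, ?_⟩
      exact ⟨⟨q a, hNq (Subgroup.mem_map_of_mem q ha.2)⟩,
        Solv.le_pCore hn hp (show q a ∈ N.map q from Subgroup.mem_map_of_mem q ha.2), rfl⟩
    have h2 : Nat.card ↥(A ⊓ N) * Nat.card Y0 ≤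
        Nat.card A * Nat.card ↥(Y0 ⊓ Subgroup.centralizer (A : Set G)) :=
      (Nat.mul_le_mul_right _ (Subgroup.card_le_of_le hNA0)).trans hmaxY
    rcases hlt with h | h
    · refine hAO ?_
      rintro _ ⟨a, ha, rfl⟩
      exact (hNA0 ⟨ha, h ha⟩).2
    · exact absurd h (not_lt.2 h2)

/-- The factorization when the 2-core contains its centralizer. -/
theorem thompson_normal_of_class_two_free (hS4 : ¬ Cfsg.Involves (Equiv.Perm (Fin 4)) G)
    (hCO : Subgroup.centralizer (pCore 2 G : Set G) ≤ pCore 2 G) (S : Sylow 2 G)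
    (hcl : ∀ s ∈ (S : Subgroup G), ∀ t ∈ (S : Subgroup G), ∀ r ∈ (S : Subgroup G), Commute ⁅s, t⁆ r) :
    (thompsonSubgroupOf 2 (S : Subgroup G)).Normal := by
  haveI : Fact (Nat.Prime 2) := ⟨Nat.prime_two⟩
  haveI := Transfer.pCore_normal (G := G) 2
  set Q := pCore 2 G with hQ
  have hQS : Q ≤ (S : Subgroup G) := Transfer.pCore_le_sylow S
  have hCQ : Subgroup.centralizer (Q : Set G) ≤ Q := hCO
  set W := ⨆ T : Sylow 2 G, omegaZ 2 (T : Subgroup G) with hW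
  haveI hWn : W.Normal := iSup_omegaZ_normal
  have hOT : ∀ T : Sylow 2 G, omegaZ 2 (T : Subgroup G) ≤ Q ⊓ Subgroup.centralizer (Q : Set G) := by
    intro T x hx
    have h1 := omegaOne_le _ hx
    have h2 : x ∈ Subgroup.centralizer (Q : Set G) :=
      Subgroup.centralizer_le (Transfer.pCore_le_sylow T) h1.2
    exact ⟨hCQ h2, h2⟩
  have hWQ : W ≤ Q := iSup_le fun T => (hOT T).trans inf_le_left
  have hWc : W ≤ Subgroup.centralizer (Q : Set G) := iSup_le fun T => (hOT T).trans inf_le_right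
  have hWel : IsElementaryAbelian 2 W := by
    refine elem_le (omegaOne_elem (H := Q ⊓ Subgroup.centralizer (Q : Set G)) fun x hx y hy =>
      Subgroup.mem_centralizer_iff.1 hy.2 x hx.1) ?_
    refine iSup_le fun T => (Subgroup.closure_le _).2 fun x hx => mem_omegaOne (hOT T (mem_omegaOne hx.1 hx.2)) hx.2
  have hWgen : W ≤ ⨆ T : Sylow 2 G, W ⊓ Subgroup.centralizer ((T : Subgroup G) : Set G) :=
    iSup_le fun T => le_iSup_of_le T (le_inf (le_iSup (fun T : Sylow 2 G => omegaZ 2 (T : Subgroup G)) T)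
      ((omegaOne_le _).trans inf_le_right))
  have hOq := pCore_quotient_eq_bot W hWgen
  set C := Subgroup.centralizer (W : Set G) with hC
  -- the subgroup acting trivially on `Q / W`
  let N : Subgroup G :=
    { carrier := {g | g ∈ C ∧ ∀ t ∈ Q, g * t * g⁻¹ * t⁻¹ ∈ W}
      one_mem' := ⟨one_mem C, fun t _ => by simp⟩
      mul_mem' := by
        rintro g h ⟨hg, hg'⟩ ⟨hh, hh'⟩
        refine ⟨mul_mem hg hh, fun t ht => ?_⟩
        have e : g * h * t * (g * h)⁻¹ * t⁻¹ = (g * (h * t * h⁻¹ * t⁻¹) * g⁻¹) * (g * t * g⁻¹ * t⁻¹) := by group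
        rw [e]
        exact mul_mem (hWn.conj_mem _ (hh' t ht) g) (hg' t ht)
      inv_mem' := by
        rintro g ⟨hg, hg'⟩
        refine ⟨inv_mem hg, fun t ht => ?_⟩
        have e : g⁻¹ * t * g⁻¹⁻¹ * t⁻¹ = g⁻¹ * (g * t * g⁻¹ * t⁻¹)⁻¹ * g⁻¹⁻¹ := by group
        rw [e]
        exact hWn.conj_mem _ (inv_mem (hg' t ht)) g⁻¹ }
  have hNn : N.Normal := by
    constructor
    rintro n ⟨hn, hn'⟩ g
    refine ⟨(inferInstance : C.Normal).conj_mem n hn g, fun t ht => ?_⟩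
    have e : g * n * g⁻¹ * t * (g * n * g⁻¹)⁻¹ * t⁻¹ =
        g * (n * (g⁻¹ * t * g⁻¹⁻¹) * n⁻¹ * (g⁻¹ * t * g⁻¹⁻¹)⁻¹) * g⁻¹ := by group
    rw [e]
    exact hWn.conj_mem _ (hn' _ ((inferInstance : Q.Normal).conj_mem t ht g⁻¹)) g
  have hN2 : IsPGroup 2 N := by
    rintro ⟨g, hg, hg'⟩
    have hsq : g * g ∈ Q := by
      refine hCQ (Subgroup.mem_centralizer_iff.2 fun t ht => ?_)
      set c := g * t * g⁻¹ * t⁻¹ with hc
      have hgc : Commute g c := (Subgroup.mem_centralizer_iff.1 hg c (hg' t ht)).symm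
      have h1 : g * g * t * (g * g)⁻¹ = c * c * t := by
        calc g * g * t * (g * g)⁻¹ = (g * c * g⁻¹) * (g * t * g⁻¹) := by rw [hc]; group
          _ = c * (c * t) := by rw [hgc.eq, mul_inv_cancel_right, hc]; group
          _ = c * c * t := (mul_assoc c c t).symm
      rw [← sq c, hWel.2 c (hg' t ht), one_mul] at h1
      exact (mul_inv_eq_iff_eq_mul.1 h1).symm
    obtain ⟨k, hk⟩ := Transfer.pCore_isPGroup (G := G) 2 ⟨g * g, hsq⟩
    refine ⟨k + 1, Subtype.ext ?_⟩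
    show g ^ 2 ^ (k + 1) = 1
    rw [pow_succ', pow_mul, sq]
    exact congrArg Subtype.val hk
  have hNQ : N ≤ Q := Transfer.le_pCore hNn hN2
  have hJ : thompsonSubgroupOf 2 (S : Subgroup G) ≤ Q := by
    rw [thompsonSubgroupOf_eq_iSup]
    refine iSup₂_le fun A hA a ha => hNQ ⟨?_, fun t ht => ?_⟩
    · exact maxElem_le_centralizer_free hS4 S hcl W hWel (hWQ.trans hQS) hOq A hA.1 hA.2.1 hA.2.2 ha
    · have haS := hA.1 ha
      have htS := hQS ht
      set c := a * t * a⁻¹ * t⁻¹ with hc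
      have hcS : c ∈ (S : Subgroup G) := mul_mem (mul_mem (mul_mem haS htS) (inv_mem haS)) (inv_mem htS)
      have hcen : ∀ s ∈ (S : Subgroup G), Commute c s := fun s hs => hcl a haS t htS s hs
      refine le_iSup (fun T : Sylow 2 G => omegaZ 2 (T : Subgroup G)) S (mem_omegaOne
        ⟨hcS, Subgroup.mem_centralizer_iff.2 fun s hs => (hcen s hs).eq.symm⟩ ?_)
      have ha2 : a * a = 1 := by rw [← sq]; exact hA.2.1.2 a ha
      have hai : a⁻¹ = a := inv_eq_of_mul_eq_one_right ha2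
      calc c ^ 2 = c * (a * t * a⁻¹ * t⁻¹) := by rw [sq]
        _ = a * c * (t * a⁻¹ * t⁻¹) := by rw [← mul_assoc, ← mul_assoc, ← mul_assoc, (hcen a haS).eq]; group
        _ = (a * a) * t * (a⁻¹ * t⁻¹ * t * a⁻¹) * t⁻¹ := by rw [hc]; group
        _ = 1 := by rw [ha2, hai, one_mul, mul_assoc a t⁻¹ t, inv_mul_cancel, mul_one, ha2, mul_one, mul_inv_cancel]
  rw [← thompsonSubgroupOf_eq_of_le hQS hJ]
  refine ⟨fun x hx g => ?_⟩
  have h := thompsonSubgroupOf_conj (p := 2) Q g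
  have hQg : Q.map (MulAut.conj g).toMonoidHom = Q := by
    ext t
    constructor
    · rintro ⟨s, hs, rfl⟩; exact (inferInstance : Q.Normal).conj_mem s hs g
    · intro ht
      exact ⟨g⁻¹ * t * g, by simpa using (inferInstance : Q.Normal).conj_mem t ht g⁻¹, by simp [mul_assoc]⟩
  rw [hQg] at h
  rw [h]
  exact ⟨x, hx, rfl⟩

/-- Constrained `S₄`-free groups with Sylow 2-subgroups of class at most two. -/
theorem class_two_factorization_free (hS4 : ¬ Cfsg.Involves (Equiv.Perm (Fin 4)) G)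
    (hcon : IsPConstrained 2 G) (S : Sylow 2 G)
    (hcl : ∀ s ∈ (S : Subgroup G), ∀ t ∈ (S : Subgroup G), ∀ r ∈ (S : Subgroup G), Commute ⁅s, t⁆ r) :
    Subgroup.normalizer ((thompsonSubgroupOf 2 (S : Subgroup G)) : Set G) ⊔ pPrimeCore 2 G = ⊤ := by
  haveI : Fact (Nat.Prime 2) := ⟨Nat.prime_two⟩
  haveI := Transfer.pPrimeCore_normal (G := G) 2
  set O := pPrimeCore 2 G with hOdef
  set q := QuotientGroup.mk' O with hq
  have hqs : Function.Surjective q := QuotientGroup.mk'_surjective O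
  have hd : O ⊓ (S : Subgroup G) = ⊥ := by
    obtain ⟨n, hn⟩ := IsPGroup.iff_card.1 S.isPGroup'
    exact Subgroup.inf_eq_bot_of_coprime (by
      rw [hn]; exact (Transfer.coprime_card_pPrimeCore (G := G) 2).pow_right n)
  have hS' := S.mapSurjective hqs
  have hcl' : ∀ s ∈ ((S.mapSurjective hqs : Sylow 2 (G ⧸ O)) : Subgroup (G ⧸ O)),
      ∀ t ∈ ((S.mapSurjective hqs : Sylow 2 (G ⧸ O)) : Subgroup (G ⧸ O)),
      ∀ r ∈ ((S.mapSurjective hqs : Sylow 2 (G ⧸ O)) : Subgroup (G ⧸ O)), Commute ⁅s, t⁆ r := by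
    rintro _ ⟨s, hs, rfl⟩ _ ⟨t, ht, rfl⟩ _ ⟨r, hr, rfl⟩
    rw [← map_commutatorElement]
    exact (hcl s hs t ht r hr).map q
  have hN := thompson_normal_of_class_two_free (G := G ⧸ O)
    (fun h => hS4 (Fusion.involves_of_surjective q hqs h)) (isPConstrained_iff_quotient.1 hcon)
    (S.mapSurjective hqs) hcl'
  rw [Sylow.coe_mapSurjective, thompsonSubgroupOf_map_mk O (S : Subgroup G) hd] at hN
  rw [eq_top_iff]
  intro g _
  obtain ⟨o, ho, hog⟩ := exists_mul_mem_normalizer O (thompsonSubgroupOf 2 (S : Subgroup G))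
    (Transfer.coprime_card_pPrimeCore 2) (S.isPGroup'.to_le (thompsonSubgroupOf_le _)) (g := g)
    (map_conj_le_sup fun x hx => by
      rw [map_mul, map_mul, map_inv]
      exact hN.conj_mem _ (Subgroup.mem_map_of_mem q hx) (q g))
  have h : o⁻¹ * (o * g) ∈ Subgroup.normalizer ((thompsonSubgroupOf 2 (S : Subgroup G)) : Set G) ⊔ O :=
    mul_mem (Subgroup.mem_sup_right (inv_mem ho)) (Subgroup.mem_sup_left hog)
  rwa [inv_mul_cancel_left] at h

end Cfsg.Lib.PLocal
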