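import Mathlib

/-!
A fixed-point-free automorphism of prime order `q` on a vector space over `ZMod p`: transitivity of
its semilinear centralizer when `p` is a primitive root modulo `q`, and the converse.
-/

set_option autoImplicit false

namespace Cfsg.Lib.PLocal.FpfModule

open Polynomial

variable {p q : ℕ} [hp : Fact p.Prime] [hq : Fact q.Prime] {V : Type*} [AddCommGroup V] [Module (ZMod p) V]
  {σ : Module.End (ZMod p) V}

theorem cyclotomic_eq_zero (hσ : σ ^ q = 1) (hfix : ∀ v, σ v = v → v = 0) :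
    aeval σ (cyclotomic q (ZMod p)) = 0 := by
  rw [cyclotomic_prime, map_sum]
  simp only [map_pow, aeval_X]
  refine LinearMap.ext fun v => ?_
  have h := congrArg (fun f : Module.End (ZMod p) V => f v) (mul_geom_sum σ q)
  simp only [hσ, sub_self, Module.End.mul_apply, LinearMap.sub_apply, Module.End.one_apply, LinearMap.zero_apply, sub_eq_zero] at h
  exact hfix _ h

theorem natDegree_of_irreducible (hpq : p ≠ q) {f : (ZMod p)[X]} (hf : Irreducible f)
    (hd : f ∣ cyclotomic q (ZMod p)) : f.natDegree = orderOf (p : ZMod q) := by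
  have hc : p.Coprime q := (Nat.coprime_primes hp.out hq.out).2 hpq
  rw [natDegree_of_dvd_cyclotomic_of_irreducible (f := 1) (p := p) (by simp) hc hd hf, ← orderOf_units]
  congr 1
  rw [ZMod.coe_unitOfCoprime, pow_one]

theorem irreducible_cyclotomic (hpq : p ≠ q) (hord : orderOf (p : ZMod q) = q - 1) :
    Irreducible (cyclotomic q (ZMod p)) := by
  refine ZMod.irreducible_of_dvd_cyclotomic_of_natDegree
    (fun h => hpq ((Nat.prime_dvd_prime_iff_eq hp.out hq.out).1 h)) dvd_rfl ?_
  rw [natDegree_cyclotomic, Nat.totient_prime hq.out, ← orderOf_units, ZMod.coe_unitOfCoprime, hord]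

/-- The cyclic submodule generated by a vector. -/
noncomputable def cyc (σ : Module.End (ZMod p) V) (v : V) : Submodule (ZMod p) V :=
  LinearMap.range ((LinearMap.applyₗ v).comp (aeval σ : (ZMod p)[X] →ₐ[ZMod p] Module.End (ZMod p) V).toLinearMap)

theorem mem_cyc {v w : V} : w ∈ cyc σ v ↔ ∃ f : (ZMod p)[X], aeval σ f v = w := by
  simp [cyc]

theorem cyc_mono {v w : V} (h : w ∈ cyc σ v) : cyc σ w ≤ cyc σ v := by
  intro x hx
  obtain ⟨f, rfl⟩ := mem_cyc.1 hx
  obtain ⟨g, rfl⟩ := mem_cyc.1 h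
  exact mem_cyc.2 ⟨f * g, by rw [map_mul, Module.End.mul_apply]⟩

/-- Transitivity of the semilinear centralizer forces `p` to be a primitive root modulo `q`. -/
theorem orderOf_eq_of_transitive [Finite V] [Nontrivial V] (hpq : p ≠ q) (hσ : σ ^ q = 1)
    (hfix : ∀ v, σ v = v → v = 0)
    (htr : ∀ v w : V, v ≠ 0 → w ≠ 0 → ∃ (α : V ≃ₗ[ZMod p] V) (k : ℕ), α v = w ∧ α.conjAlgEquiv (ZMod p) σ = σ ^ k)
    (hgal : ∀ k : ℕ, 0 < k → k < q → ∃ α : V ≃ₗ[ZMod p] V, α.conjAlgEquiv (ZMod p) σ = σ ^ k) :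
    orderOf (p : ZMod q) = q - 1 := by
  classical
  have hone : ∀ v w : V, v ≠ 0 → w ≠ 0 → Nat.card (cyc σ v) ≤ Nat.card (cyc σ w) := by
    intro v w hv hw
    obtain ⟨α, k, hvw, hk⟩ := htr v w hv hw
    have hmap : ∀ x ∈ cyc σ v, α x ∈ cyc σ w := by
      intro x hx
      obtain ⟨f, rfl⟩ := mem_cyc.1 hx
      have h1 : α.conjAlgEquiv (ZMod p) (aeval σ f) = aeval σ (f.comp (X ^ k)) := by
        rw [aeval_comp, map_pow, aeval_X, ← hk, ← aeval_algHom_apply]
      refine mem_cyc.2 ⟨f.comp (X ^ k), ?_⟩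
      rw [← h1, ← hvw]
      simp [LinearEquiv.conjAlgEquiv_apply]
    exact Nat.card_le_card_of_injective (fun x : cyc σ v => (⟨α x, hmap x x.2⟩ : cyc σ w))
      fun a b e => Subtype.ext (α.injective (congrArg Subtype.val e))
  have heq : ∀ v w : V, v ≠ 0 → w ≠ 0 → w ∈ cyc σ v → cyc σ w = cyc σ v := by
    intro v w hv hw h
    exact SetLike.coe_injective (Set.eq_of_subset_of_ncard_le (cyc_mono h)
      (by rw [← Nat.card_coe_set_eq, ← Nat.card_coe_set_eq]; exact hone v w hv hw))
  have hself : ∀ v : V, v ∈ cyc σ v := fun v => mem_cyc.2 ⟨1, by simp⟩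
  have hdom : ∀ (f : (ZMod p)[X]) (v : V), v ≠ 0 → aeval σ f v = 0 → aeval σ f = 0 := by
    intro f v hv hfv
    refine LinearMap.ext fun w => ?_
    by_contra hw'
    rw [LinearMap.zero_apply] at hw'
    set w' := aeval σ f w with hw'def
    have hu : aeval σ f (v + w) = w' := by rw [map_add, hfv, zero_add]
    have hu0 : v + w ≠ 0 := fun e => hw' (by rw [← hu, e, map_zero])
    have hw0 : w ≠ 0 := fun e => hw' (by rw [hw'def, e, map_zero])
    have e1 := heq (v + w) w' hu0 hw' (mem_cyc.2 ⟨f, hu⟩)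
    have e2 := heq w w' hw0 hw' (mem_cyc.2 ⟨f, rfl⟩)
    have hvw : v ∈ cyc σ w := by
      have : v + w ∈ cyc σ w := by rw [← e2, e1]; exact hself _
      simpa using (cyc σ w).sub_mem this (hself w)
    have : w ∈ cyc σ v := heq w v hw0 hv hvw ▸ hself w
    obtain ⟨g, hg⟩ := mem_cyc.1 this
    refine hw' ?_
    rw [hw'def, ← hg, ← Module.End.mul_apply, ← map_mul, mul_comm, map_mul, Module.End.mul_apply, hfv, map_zero]
  have hint : IsIntegral (ZMod p) σ := ⟨cyclotomic q (ZMod p), cyclotomic.monic _ _, by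
    rw [← aeval_def]; exact cyclotomic_eq_zero hσ hfix⟩
  set m := minpoly (ZMod p) σ
  haveI : Nontrivial (Module.End (ZMod p) V) := by
    obtain ⟨v, hv⟩ := exists_ne (0 : V)
    exact ⟨1, 0, fun e => hv (by simpa using congrArg (fun f : Module.End (ZMod p) V => f v) e)⟩
  have hm1 : m.Monic := minpoly.monic hint
  have hmirr : Irreducible m := by
    refine (irreducible_iff.2 ⟨minpoly.not_isUnit _ _, fun a b hab => ?_⟩)
    obtain ⟨v, hv⟩ := exists_ne (0 : V)
    have h0 : aeval σ a (aeval σ b v) = 0 := by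
      rw [← Module.End.mul_apply, ← map_mul, ← hab, minpoly.aeval, LinearMap.zero_apply]
    have hne : m ≠ 0 := hm1.ne_zero
    by_cases hb : aeval σ b v = 0
    · left
      have hdvd : m ∣ b := minpoly.dvd _ _ (hdom b v hv hb)
      obtain ⟨c, hc⟩ := hdvd
      rw [hab] at hne
      have : a * c = 1 := mul_right_cancel₀ (b := m) (hab ▸ hne) (by rw [one_mul, mul_assoc, mul_comm c, ← hc, ← hab])
      exact IsUnit.of_mul_eq_one _ this
    · right
      have hdvd : m ∣ a := minpoly.dvd _ _ (hdom a _ hb h0)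
      obtain ⟨c, hc⟩ := hdvd
      rw [hab] at hne
      have : b * c = 1 := mul_right_cancel₀ (b := m) (hab ▸ hne)
        (by rw [one_mul, mul_assoc, mul_comm c, ← hc, mul_comm, ← hab])
      exact IsUnit.of_mul_eq_one _ this
  have hmdvd : m ∣ cyclotomic q (ZMod p) := minpoly.dvd _ _ (cyclotomic_eq_zero hσ hfix)
  have hdeg := natDegree_of_irreducible hpq hmirr hmdvd
  refine le_antisymm (Nat.le_of_dvd (by have := hq.out.two_le; omega) (ZMod.orderOf_dvd_card_sub_one ?_)) ?_
  · rw [ne_eq, ZMod.natCast_eq_zero_iff]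
    exact fun h => hpq ((Nat.prime_dvd_prime_iff_eq hq.out hp.out).1 h).symm
  rw [← hdeg]
  haveI := Fact.mk hmirr
  set r := AdjoinRoot.root m
  have hr : IsPrimitiveRoot r q := by
    haveI : NeZero (q : AdjoinRoot m) := by
      haveI : CharP (AdjoinRoot m) p := charP_of_injective_algebraMap' (ZMod p) p
      exact ⟨fun h => hpq ((Nat.prime_dvd_prime_iff_eq hp.out hq.out).1 ((CharP.cast_eq_zero_iff _ p q).1 h))⟩
    rw [← isRoot_cyclotomic_iff, ← map_cyclotomic q (algebraMap (ZMod p) (AdjoinRoot m))]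
    exact (AdjoinRoot.isRoot_root m).dvd (map_dvd (mapRingHom (algebraMap (ZMod p) (AdjoinRoot m))) hmdvd)
  set g := m.map (algebraMap (ZMod p) (AdjoinRoot m))
  have hsub : (Finset.Ioo 0 q).image (fun k => r ^ k) ⊆ g.roots.toFinset := by
    intro x hx
    obtain ⟨k, hk, rfl⟩ := Finset.mem_image.1 hx
    obtain ⟨α, hα⟩ := hgal k (Finset.mem_Ioo.1 hk).1 (Finset.mem_Ioo.1 hk).2
    have h1 : aeval σ (m.comp (X ^ k)) = 0 := by
      rw [aeval_comp, map_pow, aeval_X, ← hα, aeval_algHom_apply, minpoly.aeval, map_zero]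
    obtain ⟨c, hc⟩ : m ∣ m.comp (X ^ k) := minpoly.dvd _ _ h1
    rw [Multiset.mem_toFinset, mem_roots (map_ne_zero hm1.ne_zero), IsRoot, eval_map, ← aeval_def]
    have h2 := congrArg (aeval r) hc
    rwa [aeval_comp, map_pow, aeval_X, map_mul, AdjoinRoot.aeval_eq, AdjoinRoot.mk_self, zero_mul] at h2
  have := (Finset.card_le_card hsub).trans ((Multiset.toFinset_card_le _).trans (card_roots' g))
  rw [Finset.card_image_of_injOn, Nat.card_Ioo, natDegree_map] at this
  · omega
  · intro a ha b hb e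
    simp only [Finset.coe_Ioo, Set.mem_Ioo] at ha hb
    exact hr.pow_inj ha.2 hb.2 e

/-- If `p` is a primitive root modulo `q`, the semilinear centralizer is transitive. -/
theorem transitive_of_orderOf_eq [Finite V] (hpq : p ≠ q) (hord : orderOf (p : ZMod q) = q - 1) (hσ : σ ^ q = 1)
    (hfix : ∀ v, σ v = v → v = 0) :
    (∀ v w : V, v ≠ 0 → w ≠ 0 → ∃ α : V ≃+ V, α v = w ∧ ∀ x, α (σ x) = σ (α x)) ∧
    ∀ k : ℕ, k.Coprime q → ∃ α : V ≃+ V, ∀ x, α (σ x) = (σ ^ k) (α x) := by
  classical
  haveI := Fact.mk (irreducible_cyclotomic hpq hord)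
  set Φ := cyclotomic q (ZMod p)
  let f : AdjoinRoot Φ →+* Module.End (ZMod p) V := Ideal.Quotient.lift _ (aeval σ).toRingHom fun a ha => by
    obtain ⟨c, rfl⟩ := Ideal.mem_span_singleton.1 ha
    show aeval σ (Φ * c) = 0
    rw [map_mul, cyclotomic_eq_zero hσ hfix, zero_mul]
  letI : Module (AdjoinRoot Φ) V := Module.compHom V f
  set r := AdjoinRoot.root Φ
  have hfr : f r = σ := by
    show aeval σ X = σ
    rw [aeval_X]
  have hsmul : ∀ (c : AdjoinRoot Φ) (x : V), c • x = f c x := fun _ _ => rfl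
  have hrx : ∀ x : V, r • x = σ x := fun x => by rw [hsmul, hfr]
  refine ⟨fun v w hv hw => ?_, fun k hk => ?_⟩
  · obtain ⟨e, he⟩ : ∃ e : V ≃ₗ[AdjoinRoot Φ] V, e v = w := by
      by_cases hd : v ∈ Submodule.span (AdjoinRoot Φ) {w}
      · obtain ⟨c, hc⟩ := Submodule.mem_span_singleton.1 hd
        have hc0 : c ≠ 0 := fun e => hv (by rw [← hc, e, zero_smul])
        exact ⟨LinearEquiv.smulOfUnit (Units.mk0 c hc0)⁻¹, by
          rw [← hc]
          show (↑(Units.mk0 c hc0)⁻¹ : AdjoinRoot Φ) • (c • w) = w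
          rw [smul_smul, Units.val_inv_eq_inv_val, Units.val_mk0, inv_mul_cancel₀ hc0, one_smul]⟩
      · have hvd : v ∉ Submodule.span (AdjoinRoot Φ) {w - v} := by
          intro h
          obtain ⟨c, hc⟩ := Submodule.mem_span_singleton.1 h
          refine hd (Submodule.mem_span_singleton.2 ?_)
          have h1 : c • w = (1 + c) • v := by
            rw [smul_sub, sub_eq_iff_eq_add] at hc
            rw [hc, add_smul, one_smul]
          by_cases hc1 : 1 + c = 0
          · rw [hc1, zero_smul] at h1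
            rcases smul_eq_zero.1 h1 with e | e
            · rw [e, add_zero] at hc1
              exact absurd hc1 one_ne_zero
            · exact absurd e hw
          · exact ⟨(1 + c)⁻¹ * c, by rw [mul_smul, h1, inv_smul_smul₀ hc1]⟩
        obtain ⟨φ, hφ, hker⟩ := Submodule.exists_dual_map_eq_bot_of_notMem hvd inferInstance
        have hd0 : φ (w - v) = 0 := by
          have : φ (w - v) ∈ (Submodule.span (AdjoinRoot Φ) {w - v}).map φ :=
            ⟨_, Submodule.mem_span_singleton_self _, rfl⟩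
          rw [hker] at this
          exact (Submodule.mem_bot _).1 this
        set ψ := (φ v)⁻¹ • φ
        have hψv : ψ v = 1 := inv_mul_cancel₀ hφ
        have hψd : ψ (w - v) = 0 := by
          show (φ v)⁻¹ * φ (w - v) = 0
          rw [hd0, mul_zero]
        have hψw : ψ w = 1 := by rw [← sub_add_cancel w v, map_add, hψd, hψv, zero_add]
        refine ⟨LinearEquiv.ofLinear (LinearMap.id + ψ.smulRight (w - v)) (LinearMap.id - ψ.smulRight (w - v))
          (LinearMap.ext fun x => ?_) (LinearMap.ext fun x => ?_), ?_⟩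
        · simp only [LinearMap.comp_apply, LinearMap.sub_apply, LinearMap.add_apply, LinearMap.id_apply,
            LinearMap.smulRight_apply, map_sub, map_smul, hψd, smul_zero, sub_zero, map_add]
          simp [smul_sub, hψw, hψv]
        · simp only [LinearMap.comp_apply, LinearMap.sub_apply, LinearMap.add_apply, LinearMap.id_apply,
            LinearMap.smulRight_apply, map_sub, map_smul, hψd, smul_zero, add_zero, map_add]
          simp [smul_sub, hψw, hψv]
        · show v + ψ v • (w - v) = w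
          rw [hψv, one_smul, add_sub_cancel]
    refine ⟨e.toAddEquiv, he, fun x => ?_⟩
    show e (σ x) = σ (e x)
    rw [← hrx, map_smul, hrx]
  · haveI : CharP (AdjoinRoot Φ) p := charP_of_injective_algebraMap' (ZMod p) p
    haveI : NeZero (q : AdjoinRoot Φ) :=
      ⟨fun h => hpq ((Nat.prime_dvd_prime_iff_eq hp.out hq.out).1 ((CharP.cast_eq_zero_iff _ p q).1 h))⟩
    have hr : IsPrimitiveRoot r q := by
      rw [← isRoot_cyclotomic_iff, ← map_cyclotomic q (algebraMap (ZMod p) (AdjoinRoot Φ))]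
      exact AdjoinRoot.isRoot_root Φ
    have hrk : (r ^ k : AdjoinRoot Φ) ∈ {x | aeval x Φ = 0} := by
      show aeval (r ^ k) Φ = 0
      rw [aeval_def, ← eval_map, map_cyclotomic]
      exact isRoot_cyclotomic_iff.2 (hr.pow_of_coprime k hk)
    set φ := AdjoinRoot.liftAlgHom Φ (Algebra.ofId (ZMod p) (AdjoinRoot Φ)) (r ^ k) hrk
    haveI : Finite (AdjoinRoot Φ) := by
      haveI := (cyclotomic.monic q (ZMod p)).finite_adjoinRoot
      exact Module.finite_of_finite (ZMod p)
    set φe := RingEquiv.ofBijective φ.toRingHom (Finite.injective_iff_bijective.1 φ.toRingHom.injective)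
    have hφr : φe r = r ^ k := by
      show φ (AdjoinRoot.root Φ) = _
      exact AdjoinRoot.liftAlgHom_root (h := hrk)
    let b := Module.Free.chooseBasis (AdjoinRoot Φ) V
    refine ⟨(b.repr.toAddEquiv.trans (Finsupp.mapRange.addEquiv φe.toAddEquiv)).trans b.repr.symm.toAddEquiv, fun x => ?_⟩
    have h1 : Finsupp.mapRange φe (map_zero φe) (r • b.repr x) = r ^ k • Finsupp.mapRange φe (map_zero φe) (b.repr x) := by
      ext i
      simp [hφr]
    show b.repr.symm (Finsupp.mapRange φe (map_zero φe) (b.repr (σ x))) = (σ ^ k) (b.repr.symm (Finsupp.mapRange φe (map_zero φe) (b.repr x)))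
    rw [← hrx, map_smul, h1, map_smul, hsmul, map_pow, hfr]

end Cfsg.Lib.PLocal.FpfModule
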