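import Mathlib
import Cfsg.Prelude.Def_LocalStructure
import Cfsg.Agent.Lib.Solv.Cores
import Cfsg.Agent.Lib.PLocal.ElementaryAbelian
import Cfsg.Agent.Lib.PLocal.BlockCommutator

/-!
Elements of `L ∈ 𝔏(Y)` fixing elements of `O_p(L) / C_Y(L)`.
-/

set_option autoImplicit false
set_option linter.style.haveILetI false
set_option linter.unusedSectionVars false

namespace Cfsg.Lib.FrakLFixed

open Subgroup Cfsg Cfsg.Lib.PLocal
open scoped Pointwise commutatorElement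

variable {G : Type*} [Group G] [Finite G] {p : ℕ} [hp : Fact p.Prime]

/-- The standing configuration. -/
structure Conf (p : ℕ) (Y L : Subgroup G) : Prop where
  hYL : Y ≤ L
  hcl : pCoreOf p L = (Subgroup.normalClosure (((Y ⊓ pCoreOf p L).subgroupOf L : Subgroup ↥L) : Set ↥L)).map L.subtype
  hAY : pCoreOf p L ≤ normalizer (Y : Set G)
  comm : ∀ a ∈ Y, ∀ b ∈ Y, a * b = b * a
  pgrp : IsPGroup p ↥Y
  hmax : ∀ X : Subgroup G, Y ≤ X → X < L → X ≤ L ⊓ normalizer (Y : Set G)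
  hne : ¬ Y ≤ pCoreOf p L

/-- conjugate of `Y` -/
def cY (Y : Subgroup G) (g : G) : Subgroup G := Y.map (MulAut.conj g).toMonoidHom

theorem mem_cY {Y : Subgroup G} {g x : G} : x ∈ cY Y g ↔ g⁻¹ * x * g ∈ Y := conj_map_iff

theorem cY_one (Y : Subgroup G) : cY Y 1 = Y := by ext x; simp [mem_cY]

variable {Y L : Subgroup G}

local notation "A" => pCoreOf p L
local notation "C" => Y ⊓ centralizer ((L : Subgroup G) : Set G)

theorem A_le : A ≤ L := map_subtype_le _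

theorem A_conj {l a : G} (hl : l ∈ L) (ha : a ∈ A) : l * a * l⁻¹ ∈ A := by
  obtain ⟨b, hb, rfl⟩ := ha
  exact ⟨⟨l, hl⟩ * b * ⟨l, hl⟩⁻¹, (inferInstance : (pCore p ↥L).Normal).conj_mem b hb _, rfl⟩

theorem C_fix {c l : G} (hc : c ∈ C) (hl : l ∈ L) : l * c * l⁻¹ = c := by
  rw [mem_centralizer_iff.1 hc.2 l hl, mul_inv_cancel_right]

theorem conj_C {c l : G} (hl : l ∈ L) (hc : c ∈ C) : l * c * l⁻¹ ∈ C := by rw [C_fix hc hl]; exact hc

theorem C_le_A (h : Conf p Y L) : C ≤ A := by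
  intro c hc
  refine ⟨⟨c, h.hYL hc.1⟩, ?_, rfl⟩
  refine Solv.le_pCore (N := (C : Subgroup G).subgroupOf L) ⟨fun n hn g => ?_⟩
    (h.pgrp.to_le inf_le_left).comap_subtype hc
  show (g : G) * n * (g : G)⁻¹ ∈ C
  exact conj_C g.2 hn

theorem C_le_cY (h : Conf p Y L) {g : G} (hg : g ∈ L) : C ≤ cY Y g ⊓ A := fun c hc => by
  refine ⟨mem_cY.2 ?_, C_le_A h hc⟩
  rw [show g⁻¹ * c * g = g⁻¹ * c * g⁻¹⁻¹ by group, C_fix hc (inv_mem hg)]
  exact hc.1

/-- the elements of `L` fixing `b` modulo `C` -/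
def stab (Y L : Subgroup G) (b : G) : Subgroup G where
  carrier := {x | x ∈ L ∧ ⁅x, b⁆ ∈ Y ⊓ centralizer ((L : Subgroup G) : Set G)}
  one_mem' := ⟨one_mem _, by rw [commutatorElement_one_left]; exact one_mem _⟩
  mul_mem' := fun {x y} hx hy => ⟨mul_mem hx.1 hy.1, by
    rw [show ⁅x * y, b⁆ = (x * ⁅y, b⁆ * x⁻¹) * ⁅x, b⁆ by simp only [_root_.commutatorElement_def]; group]
    exact mul_mem (conj_C hx.1 hy.2) hx.2⟩
  inv_mem' := fun {x} hx => ⟨inv_mem hx.1, by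
    rw [show ⁅x⁻¹, b⁆ = x⁻¹ * ⁅x, b⁆⁻¹ * x⁻¹⁻¹ by simp only [_root_.commutatorElement_def]; group]
    exact conj_C (inv_mem hx.1) (inv_mem hx.2)⟩

theorem mem_stab {b x : G} : x ∈ stab Y L b ↔ x ∈ L ∧ ⁅x, b⁆ ∈ C := Iff.rfl

theorem pair_top (h : Conf p Y L) {Z : Subgroup G} (hZ : Z ≤ L) {g : G} (hg : g ∈ L)
    (hn : ¬ Z ≤ normalizer (cY Y g : Set G)) : Z ⊔ cY Y g = L := by
  have hgL : cY Y g ≤ L := fun x hx => by
    have := mul_mem (mul_mem hg (h.hYL (mem_cY.1 hx))) (inv_mem hg)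
    simpa [mul_assoc] using this
  refine (sup_le hZ hgL).eq_or_lt.resolve_right fun hlt => hn fun z hz => ?_
  set X := (Z ⊔ cY Y g).map (MulAut.conj g⁻¹).toMonoidHom
  have hXle : X ≤ L := by
    rintro _ ⟨x, hx, rfl⟩
    have hxL : x ∈ L := sup_le hZ hgL hx
    show g⁻¹ * x * g⁻¹⁻¹ ∈ L
    exact mul_mem (mul_mem (inv_mem hg) hxL) (inv_mem (inv_mem hg))
  have hXne : X ≠ L := fun e => by
    have h1 : Nat.card ↥X = Nat.card ↥(Z ⊔ cY Y g) := card_map_of_injective (MulAut.conj g⁻¹).injective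
    rw [e] at h1
    exact hlt.ne (eq_of_le_of_card_ge hlt.le h1.le)
  have hYX : Y ≤ X := fun y hy => ⟨g * y * g⁻¹, mem_sup_right (mem_cY.2 (by simpa [mul_assoc] using hy)), by
    simp [mul_assoc]⟩
  have hz' : g⁻¹ * z * g ∈ normalizer (Y : Set G) := by
    have := (h.hmax X hYX (lt_of_le_of_ne hXle hXne) ⟨z, mem_sup_left hz, rfl⟩).2
    simpa using this
  refine mem_normalizer_iff.2 fun y => ?_
  simp only [mem_cY]
  rw [show g⁻¹ * (z * y * z⁻¹) * g = (g⁻¹ * z * g) * (g⁻¹ * y * g) * (g⁻¹ * z * g)⁻¹ by group]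
  exact mem_normalizer_iff.1 hz' _

theorem exists_not_norm (h : Conf p Y L) {u : G} (hu : u ∈ Y) (huA : u ∉ A) :
    ∃ g ∈ L, u ∉ normalizer (cY Y g : Set G) := by
  by_contra hcon
  push Not at hcon
  apply huA
  set K := L ⊓ ⨅ g : L, normalizer (cY Y (g : G) : Set G)
  have hK : ∀ {x : G}, x ∈ K ↔ x ∈ L ∧ ∀ g ∈ L, x ∈ normalizer (cY Y g : Set G) := by
    intro x; simp [K, mem_iInf]
  have huK : u ∈ K := hK.2 ⟨h.hYL hu, hcon⟩
  have hLK : L ≤ normalizer (K : Set G) := FStarAction.le_normalizer_of_conj fun l hl x hx => by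
    obtain ⟨hxL, hxN⟩ := hK.1 hx
    refine hK.2 ⟨mul_mem (mul_mem hl hxL) (inv_mem hl), fun g hg => ?_⟩
    have h1 := hxN (l⁻¹ * g) (mul_mem (inv_mem hl) hg)
    refine mem_normalizer_iff.2 fun y => ?_
    have h2 := mem_normalizer_iff.1 h1 (l⁻¹ * y * l)
    simp only [mem_cY] at h2 ⊢
    rw [show g⁻¹ * (l * x * l⁻¹ * y * (l * x * l⁻¹)⁻¹) * g =
      (l⁻¹ * g)⁻¹ * (x * (l⁻¹ * y * l) * x⁻¹) * (l⁻¹ * g) by group, ← h2,
      show (l⁻¹ * g)⁻¹ * (l⁻¹ * y * l) * (l⁻¹ * g) = g⁻¹ * y * g by group]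
  have hYK : Y ⊓ K ≤ pCoreOf p K := by
    refine fun x hx => ⟨⟨x, hx.2⟩, Solv.le_pCore (N := (Y ⊓ K).subgroupOf K) ⟨fun n hn g => ?_⟩
      (h.pgrp.to_le inf_le_left).comap_subtype hx, rfl⟩
    have hgN := (hK.1 g.2).2 1 (one_mem _)
    rw [cY_one] at hgN
    exact ⟨(mem_normalizer_iff.1 hgN n).1 hn.1, (g * n * g⁻¹).2⟩
  have hKA : pCoreOf p K ≤ A := by
    intro x hx
    have hle : pCoreOf p K ≤ L := (map_subtype_le _).trans inf_le_left
    exact ⟨⟨x, hle hx⟩, Solv.le_pCore (N := (pCoreOf p K).subgroupOf L)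
      ((normal_subgroupOf_iff_le_normalizer hle).2 (hLK.trans (BlockComm.normalizer_le_pCoreOf K)))
      ((Solv.isPGroup_pCore p).map K.subtype).comap_subtype hx, rfl⟩
  exact hKA (hYK ⟨hu, huK⟩)

theorem exists_pair (h : Conf p Y L) : ∃ g ∈ L, Y ⊔ cY Y g = L := by
  obtain ⟨u, hu, huA⟩ := SetLike.not_le_iff_exists.1 h.hne
  obtain ⟨g, hg, hn⟩ := exists_not_norm h hu huA
  exact ⟨g, hg, pair_top h h.hYL hg fun hle => hn (hle hu)⟩

theorem inter_le (h : Conf p Y L) {i j : G} (hi : i ∈ L) (hj : j ∈ L) (hij : cY Y i ⊔ cY Y j = L) {x : G}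
    (hxi : x ∈ cY Y i) (hxj : x ∈ cY Y j) : x ∈ C := by
  have hc : ∀ k, x ∈ cY Y k → cY Y k ≤ centralizer ({x} : Set G) := fun k hk y hy => by
    refine mem_centralizer_singleton_iff.2 ?_
    have := h.comm _ (mem_cY.1 hk) _ (mem_cY.1 hy)
    calc y * x = k * ((k⁻¹ * y * k) * (k⁻¹ * x * k)) * k⁻¹ := by group
      _ = k * ((k⁻¹ * x * k) * (k⁻¹ * y * k)) * k⁻¹ := by rw [this]
      _ = x * y := by group
  have hL : L ≤ centralizer ({x} : Set G) := hij ▸ sup_le (hc i hxi) (hc j hxj)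
  have hxc : x ∈ centralizer ((L : Subgroup G) : Set G) :=
    mem_centralizer_iff.2 fun l hl => (mem_centralizer_singleton_iff.1 (hL hl))
  refine ⟨?_, hxc⟩
  have := mem_cY.1 hxi
  rwa [show i⁻¹ * x * i = x by rw [mul_assoc, ← mem_centralizer_iff.1 hxc i hi, inv_mul_cancel_left]] at this

theorem YA_normal (h : Conf p Y L) {g : G} (hg : g ∈ L) :
    A ≤ normalizer ((cY Y g ⊓ A : Subgroup G) : Set G) := by
  refine FStarAction.le_normalizer_of_conj fun a ha x hx => ⟨mem_cY.2 ?_,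
    (pCoreOf p L).mul_mem ((pCoreOf p L).mul_mem ha hx.2) ((pCoreOf p L).inv_mem ha)⟩
  have ha' : g⁻¹ * a * g ∈ A := by
    have := A_conj (inv_mem hg) ha
    simpa using this
  rw [show g⁻¹ * (a * x * a⁻¹) * g = (g⁻¹ * a * g) * (g⁻¹ * x * g) * (g⁻¹ * a * g)⁻¹ by group]
  exact (mem_normalizer_iff.1 (h.hAY ha') _).1 (mem_cY.1 hx.1)

theorem comm_Y (h : Conf p Y L) {g u a : G} (hg : g ∈ L) (hu : u ∈ cY Y g) (ha : a ∈ A) :
    ⁅u, a⁆ ∈ cY Y g ⊓ A := by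
  have huL : u ∈ L := by
    have := mul_mem (mul_mem hg (h.hYL (mem_cY.1 hu))) (inv_mem hg)
    simpa [mul_assoc] using this
  refine ⟨?_, ?_⟩
  · rw [show ⁅u, a⁆ = u * (a * u⁻¹ * a⁻¹) by simp only [_root_.commutatorElement_def]; group]
    refine mul_mem hu (mem_cY.2 ?_)
    have ha' : g⁻¹ * a * g ∈ A := by
      have := A_conj (inv_mem hg) ha
      simpa using this
    rw [show g⁻¹ * (a * u⁻¹ * a⁻¹) * g = (g⁻¹ * a * g) * (g⁻¹ * u * g)⁻¹ * (g⁻¹ * a * g)⁻¹ by group]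
    exact (mem_normalizer_iff.1 (h.hAY ha') _).1 (inv_mem (mem_cY.1 hu))
  · rw [show ⁅u, a⁆ = (u * a * u⁻¹) * a⁻¹ from _root_.commutatorElement_def u a]
    exact (pCoreOf p L).mul_mem (A_conj huL ha) ((pCoreOf p L).inv_mem ha)

theorem decomp (h : Conf p Y L) {g : G} (hg : g ∈ L) (hpair : Y ⊔ cY Y g = L) :
    A ≤ (Y ⊓ A) ⊔ (cY Y g ⊓ A) := by
  set D := (Y ⊓ A) ⊔ (cY Y g ⊓ A)
  have hDA : D ≤ A := sup_le inf_le_right inf_le_right
  have key : ∀ k : G, k ∈ L → cY Y k ⊓ A ≤ D → cY Y k ≤ normalizer (D : Set G) := by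
    intro k hk hkD
    refine FStarAction.le_normalizer_of_conj fun y hy d hd => ?_
    rw [show y * d * y⁻¹ = ⁅y, d⁆ * d by simp [_root_.commutatorElement_def]]
    exact mul_mem (hkD (comm_Y h hk hy (hDA hd))) hd
  have h1 : Y ≤ normalizer (D : Set G) := by
    have := key 1 (one_mem _) (by rw [cY_one]; exact le_sup_left)
    rwa [cY_one] at this
  have hL : L ≤ normalizer (D : Set G) := hpair ▸ sup_le h1 (key g hg le_sup_right)
  conv_lhs => rw [h.hcl]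
  rw [map_le_iff_le_comap]
  haveI : (D.comap L.subtype).Normal := (normal_subgroupOf_iff_le_normalizer (hDA.trans A_le)).2 hL
  exact normalClosure_le_normal fun x hx => (le_sup_left : Y ⊓ A ≤ D) hx

theorem comm_A (h : Conf p Y L) {a b : G} (ha : a ∈ A) (hb : b ∈ A) : ⁅a, b⁆ ∈ C := by
  obtain ⟨g, hg, hpair⟩ := exists_pair h
  have hpair' : cY Y 1 ⊔ cY Y g = L := by rw [cY_one]; exact hpair
  have hswap : ∀ {x y : G}, ⁅x, y⁆ ∈ C → ⁅y, x⁆ ∈ C := fun {x y} hxy => by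
    rw [← commutatorElement_inv]; exact inv_mem hxy
  have hself : ∀ {k : G}, k ∈ L → ∀ {x y : G}, x ∈ cY Y k → y ∈ cY Y k → ⁅x, y⁆ ∈ C := by
    intro k _ x y hx hy
    have : x * y = y * x := by
      calc x * y = k * ((k⁻¹ * x * k) * (k⁻¹ * y * k)) * k⁻¹ := by group
        _ = k * ((k⁻¹ * y * k) * (k⁻¹ * x * k)) * k⁻¹ := by rw [h.comm _ (mem_cY.1 hx) _ (mem_cY.1 hy)]
        _ = y * x := by group
    rw [commutatorElement_eq_one_iff_mul_comm.2 this]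
    exact one_mem _
  have hcross : ∀ {x y : G}, x ∈ cY Y 1 ⊓ A → y ∈ cY Y g ⊓ A → ⁅x, y⁆ ∈ C := by
    intro x y hx hy
    refine inter_le h (one_mem _) hg hpair' (comm_Y h (one_mem _) hx.1 hy.2).1 ?_
    rw [← commutatorElement_inv]
    exact inv_mem (comm_Y h hg hy.1 hx.2).1
  have hd : A ≤ (cY Y 1 ⊓ A) ⊔ (cY Y g ⊓ A) := by rw [cY_one]; exact decomp h hg hpair
  have h1 : ∀ y ∈ cY Y 1 ⊓ A, A ≤ stab Y L y := fun y hy => hd.trans (sup_le
    (fun x hx => ⟨A_le hx.2, hself (one_mem _) hx.1 hy.1⟩)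
    (fun x hx => ⟨A_le hx.2, hswap (hcross hy hx)⟩))
  have h2 : ∀ y ∈ cY Y g ⊓ A, A ≤ stab Y L y := fun y hy => hd.trans (sup_le
    (fun x hx => ⟨A_le hx.2, hcross hx hy⟩)
    (fun x hx => ⟨A_le hx.2, hself hg hx.1 hy.1⟩))
  have h3 : A ≤ stab Y L b := hd.trans (sup_le (fun x hx => ⟨A_le hx.2, hswap (h1 x hx hb).2⟩)
    (fun x hx => ⟨A_le hx.2, hswap (h2 x hx hb).2⟩))
  exact (h3 ha).2

theorem fix_one (h : Conf p Y L) {u a : G} (hu : u ∈ Y) (huA : u ∉ A) (ha : a ∈ A) (hua : ⁅u, a⁆ ∈ C) :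
    a ∈ Y := by
  obtain ⟨g, hg, hn⟩ := exists_not_norm h hu huA
  have hpair := pair_top h h.hYL hg fun hle => hn (hle hu)
  have hun := YA_normal h hg
  obtain ⟨y, hy, b, hb, rfl⟩ : a ∈ (((Y ⊓ A : Subgroup G) : Set G) * ((cY Y g ⊓ A : Subgroup G) : Set G)) := by
    rw [← coe_mul_of_left_le_normalizer_right _ _ (inf_le_right.trans hun)]
    exact decomp h hg hpair ha
  refine mul_mem hy.1 ?_
  have hyL : y ∈ L := h.hYL hy.1
  have hub : ⁅u, b⁆ ∈ C := by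
    have e : ⁅u, b⁆ = y⁻¹ * ⁅u, y * b⁆ * y⁻¹⁻¹ := by
      have h2 : u * y = y * u := h.comm u hu y hy.1
      simp only [_root_.commutatorElement_def]
      calc u * b * u⁻¹ * b⁻¹ = y⁻¹ * ((y * u) * b * u⁻¹ * b⁻¹ * y⁻¹) * y := by group
        _ = y⁻¹ * ((u * y) * b * u⁻¹ * b⁻¹ * y⁻¹) * y := by rw [h2]
        _ = _ := by group
    rw [e]
    exact conj_C (inv_mem hyL) hua
  have htop := pair_top h (zpowers_le.2 (h.hYL hu)) hg fun hle => hn (hle (mem_zpowers u))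
  have hall : L ≤ stab Y L b := by
    conv_lhs => rw [← htop]
    refine sup_le (zpowers_le.2 ⟨h.hYL hu, hub⟩) fun x hx => ⟨?_, ?_⟩
    · have := mul_mem (mul_mem hg (h.hYL (mem_cY.1 hx))) (inv_mem hg)
      simpa [mul_assoc] using this
    · have : x * b = b * x := by
        calc x * b = g * ((g⁻¹ * x * g) * (g⁻¹ * b * g)) * g⁻¹ := by group
          _ = g * ((g⁻¹ * b * g) * (g⁻¹ * x * g)) * g⁻¹ := by
            rw [h.comm _ (mem_cY.1 hx) _ (mem_cY.1 hb.1)]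
          _ = b * x := by group
      rw [commutatorElement_eq_one_iff_mul_comm.2 this]
      exact one_mem _
  have h1 := (hall (inv_mem hg)).2
  have e : b = ⁅g⁻¹, b⁆⁻¹ * (g⁻¹ * b * g) := by simp only [_root_.commutatorElement_def]; group
  rw [e]
  exact mul_mem (inv_mem h1.1) (mem_cY.1 hb.1)

theorem fix_conj (h : Conf p Y L) {i u a : G} (hi : i ∈ L) (hu : u ∈ cY Y i) (huA : u ∉ A) (ha : a ∈ A)
    (hua : ⁅u, a⁆ ∈ C) : a ∈ cY Y i := by
  refine mem_cY.2 (fix_one h (mem_cY.1 hu) (fun hA => huA ?_) ?_ ?_)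
  · have := A_conj hi hA
    simpa [mul_assoc] using this
  · have := A_conj (inv_mem hi) ha
    simpa using this
  · rw [show ⁅i⁻¹ * u * i, i⁻¹ * a * i⁆ = i⁻¹ * ⁅u, a⁆ * i⁻¹⁻¹ by simp only [_root_.commutatorElement_def]; group]
    exact conj_C (inv_mem hi) hua

/-- A product of elements of two conjugates of `Y` which is not a `p`-element modulo `A` fixes only `C`. -/
theorem product_trivial (h : Conf p Y L) {i j u v x a : G} (hi : i ∈ L) (hj : j ∈ L) (hu : u ∈ cY Y i)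
    (huA : u ∉ A) (hv : v ∈ cY Y j) (hvA : v ∉ A) (hx : x * (u * v)⁻¹ ∈ A)
    (hnp : ∀ k : ℕ, (u * v) ^ p ^ k ∉ A) (ha : a ∈ A) (hfix : ⁅x, a⁆ ∈ C) : a ∈ C := by
  have hcL : ∀ {k}, k ∈ L → cY Y k ≤ L := fun {k} hk y hy => by
    have := mul_mem (mul_mem hk (h.hYL (mem_cY.1 hy))) (inv_mem hk)
    simpa [mul_assoc] using this
  have hij : cY Y i ⊔ cY Y j = L := by
    by_contra hne
    have hni : cY Y i ≤ normalizer (cY Y j : Set G) := by
      by_contra hn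
      exact hne (pair_top h (hcL hi) hj hn)
    have hP : IsPGroup p ↥(cY Y i ⊔ cY Y j) := by
      have h1 := IsPGroup.to_sup_of_normal_left' (H := cY Y j) (K := cY Y i) (h.pgrp.map _) (h.pgrp.map _) hni
      rwa [sup_comm] at h1
    obtain ⟨k, hk⟩ := hP ⟨u * v, mul_mem (mem_sup_left hu) (mem_sup_right hv)⟩
    exact hnp k (by rw [show (u * v) ^ p ^ k = 1 from congrArg Subtype.val hk]; exact one_mem _)
  have huv : ⁅u * v, a⁆ ∈ C := by
    have h1 : x * (u * v)⁻¹ ∈ stab Y L a := ⟨A_le hx, comm_A h hx ha⟩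
    have h2 : x ∈ stab Y L a := ⟨by
      have := mul_mem (A_le hx) (mul_mem (hcL hi hu) (hcL hj hv))
      simpa [mul_assoc] using this, hfix⟩
    have := (mul_mem (inv_mem h1) h2).2
    rwa [mul_inv_rev, inv_inv, mul_assoc, inv_mul_cancel, mul_one] at this
  set s := ⁅v, a⁆
  set t := ⁅u, a⁆
  have hs := comm_Y h hj hv ha
  have ht := comm_Y h hi hu ha
  have e : ⁅u * v, a⁆ = (u * s * u⁻¹) * t := by simp only [s, t, _root_.commutatorElement_def]; group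
  rw [e] at huv
  have hsi : u * s * u⁻¹ ∈ cY Y i := by
    have := (cY Y i).mul_mem (C_le_cY h hi huv).1 ((cY Y i).inv_mem ht.1)
    rwa [mul_inv_cancel_right] at this
  have hsi' : s ∈ cY Y i := by
    have := mul_mem (mul_mem (inv_mem hu) hsi) hu
    simpa [mul_assoc] using this
  have hsC := inter_le h hi hj hij hsi' hs.1
  have htC : t ∈ C := by
    have := mul_mem (inv_mem (conj_C (hcL hi hu) hsC)) huv
    rwa [inv_mul_cancel_left] at this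
  exact inter_le h hi hj hij (fix_conj h hi hu huA ha htC) (fix_conj h hj hv hvA ha hsC)

/-- `z` is a nontrivial member of a conjugate of `I`. -/
def CI {X : Type*} [Group X] (I : Subgroup X) (z : X) : Prop := z ≠ 1 ∧ ∃ g, g⁻¹ * z * g ∈ I

variable {X : Type*} [Group X]

theorem of_image (h : Conf p Y L) (φ : ↥L →* X) (hφ : Function.Surjective φ) (hker : φ.ker = pCore p ↥L)
    {z₁ z₂ : X} (h1 : CI ((Y.subgroupOf L).map φ) z₁) (h2 : CI ((Y.subgroupOf L).map φ) z₂)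
    (hnp : ∀ k : ℕ, (z₁ * z₂) ^ p ^ k ≠ 1) {x : ↥L} (hx : φ x = z₁ * z₂) {a : G} (ha : a ∈ A)
    (hfix : ⁅(x : G), a⁆ ∈ C) : a ∈ C := by
  have hA : ∀ y : ↥L, (y : G) ∈ A ↔ φ y = 1 := fun y => by
    rw [← MonoidHom.mem_ker, hker]
    exact ⟨fun ⟨b, hb, hby⟩ => Subtype.ext hby ▸ hb, fun hy => ⟨y, hy, rfl⟩⟩
  have hlift : ∀ z, CI ((Y.subgroupOf L).map φ) z → ∃ i : ↥L, ∃ u : ↥L, (u : G) ∈ cY Y (i : G) ∧
      (u : G) ∉ A ∧ φ u = z := by
    rintro z ⟨hz1, g, y, hy, hgy⟩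
    obtain ⟨i, rfl⟩ := hφ g
    refine ⟨i, i * y * i⁻¹, mem_cY.2 ?_, fun hA' => hz1 ?_, ?_⟩
    · show (i : G)⁻¹ * ((i : G) * y * (i : G)⁻¹) * i ∈ Y
      simpa [mul_assoc, mem_subgroupOf] using hy
    · have := (hA _).1 hA'
      rw [map_mul, map_mul, map_inv, hgy] at this
      simpa [mul_assoc] using this
    · rw [map_mul, map_mul, map_inv, hgy]; group
  obtain ⟨i, u, hu, huA, hu'⟩ := hlift z₁ h1
  obtain ⟨j, v, hv, hvA, hv'⟩ := hlift z₂ h2
  refine product_trivial h i.2 j.2 hu huA hv hvA ?_ (fun k hk => hnp k ?_) ha hfix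
  · exact (hA (x * (u * v)⁻¹)).2 (by rw [map_mul, map_inv, map_mul, hu', hv', hx, mul_inv_cancel])
  · have := (hA ((u * v) ^ p ^ k)).1 hk
    rwa [map_pow, map_mul, hu', hv'] at this

/-- `z` fixes only `C`. -/
def Good (p : ℕ) (Y L : Subgroup G) {X : Type*} [Group X] (φ : ↥L →* X) (z : X) : Prop :=
  ∀ x : ↥L, φ x = z → ∀ a ∈ pCoreOf p L,
    ⁅(x : G), a⁆ ∈ Y ⊓ centralizer ((L : Subgroup G) : Set G) → a ∈ Y ⊓ centralizer ((L : Subgroup G) : Set G)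

/-- If `z = t ^ 2 = t' ^ 2` with `t`, `t'` and `t * t'` fixing only `C`, then so does `z`. -/
theorem good_square (h : Conf p Y L) (φ : ↥L →* X) (hφ : Function.Surjective φ) (hker : φ.ker = pCore p ↥L)
    {z t t' : X} (ht : t * t = z) (ht' : t' * t' = z) (g1 : Good p Y L φ t) (g1' : Good p Y L φ t')
    (g2 : Good p Y L φ (t * t')) : Good p Y L φ z := by
  intro x hx a ha hfix
  have haL : a ∈ L := A_le ha
  have key : ∀ (s : X), s * s = z → Good p Y L φ s → ∀ y : ↥L, φ y = s →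
      ((y : G) * a * (y : G)⁻¹) * a ∈ C := by
    intro s hs gs y hy
    have hya : (y : G) * a * (y : G)⁻¹ ∈ A := A_conj y.2 ha
    refine gs y hy _ (mul_mem hya ha) ?_
    have hyy : ⁅(y : G) * y, a⁆ ∈ C := by
      have hA' : ((x⁻¹ * (y * y) : ↥L) : G) ∈ A := by
        refine ⟨x⁻¹ * (y * y), ?_, rfl⟩
        rw [SetLike.mem_coe, ← hker, MonoidHom.mem_ker, map_mul, map_inv, hx, map_mul, hy, hs, inv_mul_cancel]
      have := (mul_mem (show (x : G) ∈ stab Y L a from ⟨x.2, hfix⟩)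
        (show ((x⁻¹ * (y * y) : ↥L) : G) ∈ stab Y L a from ⟨SetLike.coe_mem _, comm_A h hA' ha⟩)).2
      simpa using this
    set b := (y : G) * a * (y : G)⁻¹
    have e : ⁅(y : G), b * a⁆ = ⁅(y : G) * y, a⁆ * ⁅a, b⁆ := by
      simp only [b, _root_.commutatorElement_def]; group
    rw [e]
    exact mul_mem hyy (comm_A h ha hya)
  obtain ⟨y, hy⟩ := hφ t
  obtain ⟨y', hy'⟩ := hφ t'
  have c := key t ht g1 y hy
  have c' := key t' ht' g1' y' hy'
  refine g2 (y * y') (by rw [map_mul, hy, hy']) a ha ?_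
  set c₁ := (y : G) * a * (y : G)⁻¹ * a
  set c₂ := (y' : G) * a * (y' : G)⁻¹ * a
  have hfix2 : (y : G) * c₂ * (y : G)⁻¹ = c₂ := C_fix c' y.2
  have hca : a * c₁ = c₁ * a := (mem_centralizer_iff.1 c.2 a haL)
  have e : ⁅((y * y' : ↥L) : G), a⁆ = c₂ * c₁⁻¹ := by
    show ⁅(y : G) * y', a⁆ = _
    calc ⁅(y : G) * y', a⁆ = ((y : G) * c₂ * (y : G)⁻¹) * (a * c₁⁻¹) * a⁻¹ := by
          simp only [c₁, c₂, _root_.commutatorElement_def]; group
      _ = c₂ * (a * c₁⁻¹ * a⁻¹) := by rw [hfix2]; group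
      _ = c₂ * c₁⁻¹ := by
          rw [show a * c₁⁻¹ * a⁻¹ = (a * c₁ * a⁻¹)⁻¹ by group, hca, mul_inv_cancel_right]
  rw [e]
  exact mul_mem c' (inv_mem c)

/-- From prime order to arbitrary order. -/
theorem final (h : Conf p Y L) (φ : ↥L →* X) (hker : φ.ker = pCore p ↥L)
    (hgood : ∀ (r : ℕ), r.Prime → r ≠ p → ∀ z : X, orderOf z = r → Good p Y L φ z)
    {l : G} (hl : l ∈ L) (hnp : ¬ ∃ k : ℕ, orderOf l = p ^ k) {a : G} (ha : a ∈ A)
    (hfix : ⁅l, a⁆ ∈ C) : a ∈ C := by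
  have hpos := orderOf_pos l
  obtain ⟨r, hr, hdvd, hrp⟩ : ∃ r : ℕ, r.Prime ∧ r ∣ orderOf l ∧ r ≠ p := by
    by_contra hcon
    push Not at hcon
    exact hnp ⟨_, Nat.eq_prime_pow_of_unique_prime_dvd hpos.ne' fun {d} hd hdd => hcon d hd hdd⟩
  obtain ⟨m, hm⟩ := hdvd
  have ho : orderOf (l ^ m) = r := by
    have hm0 : m ≠ 0 := fun e => by rw [e, mul_zero] at hm; exact hpos.ne' hm
    rw [orderOf_pow_of_dvd hm0 ⟨r, by rw [hm, mul_comm]⟩, hm, Nat.mul_div_cancel _ (Nat.pos_of_ne_zero hm0)]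
  set x : ↥L := ⟨l ^ m, pow_mem hl m⟩
  have hxr : x ^ r = 1 := Subtype.ext (by show (l ^ m) ^ r = 1; rw [← ho, pow_orderOf_eq_one])
  have hzr : φ x ^ r = 1 := by rw [← map_pow, hxr, map_one]
  have hz1 : φ x ≠ 1 := fun e => by
    have hxA : x ∈ pCore p ↥L := by rw [← hker, MonoidHom.mem_ker]; exact e
    obtain ⟨k, hk⟩ := Solv.isPGroup_pCore p (⟨x, hxA⟩ : ↥(pCore p ↥L))
    have hk' : (l ^ m) ^ p ^ k = 1 := congrArg (fun y : ↥(pCore p ↥L) => ((y : ↥L) : G)) hk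
    have hdk : r ∣ p ^ k := ho ▸ orderOf_dvd_of_pow_eq_one hk'
    exact hrp ((Nat.prime_dvd_prime_iff_eq hr hp.out).1 (hr.dvd_of_dvd_pow hdk))
  refine hgood r hr hrp (φ x) ?_ x rfl a ha ?_
  · haveI := Fact.mk hr
    exact orderOf_eq_prime hzr hz1
  · exact (pow_mem (show l ∈ stab Y L a from ⟨hl, hfix⟩) m).2

end Cfsg.Lib.FrakLFixed
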