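import Mathlib
import Cfsg.Agent.Lib.PLocal.FrakLFixed
import Cfsg.Agent.Lib.PLocal.PReduced
import Cfsg.Agent.Lib.Classical.LinearOrders
import Cfsg.Agent.Lib.SzC.StronglyReal

/-!
The three possible quotients of `L ∈ 𝔏(Y)`: every element of prime order other than `p` fixes only `C_Y(L)`.
-/

set_option autoImplicit false
set_option linter.style.haveILetI false
set_option linter.unusedSectionVars false
set_option linter.unusedSimpArgs false

namespace Cfsg.Lib.FrakLFixed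

open Subgroup Cfsg Cfsg.Lib.PLocal
open scoped Pointwise commutatorElement Matrix

section General

variable {X : Type*} [Group X]

theorem ci_conj {I : Subgroup X} {z : X} (g : X) (h : CI I z) : CI I (g * z * g⁻¹) := by
  obtain ⟨h1, k, hk⟩ := h
  refine ⟨fun e => h1 ?_, g * k, ?_⟩
  · calc z = g⁻¹ * (g * z * g⁻¹) * g := by group
      _ = 1 := by rw [e]; group
  · rwa [show (g * k)⁻¹ * (g * z * g⁻¹) * (g * k) = k⁻¹ * z * k by group]

theorem inv_decomp {z s : X} (ho : Odd (orderOf z)) (hs : s * s = 1) (hinv : s * z * s = z⁻¹) :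
    ∃ y : X, z = (y * s * y⁻¹) * s := by
  obtain ⟨k, hk⟩ := ho
  refine ⟨z ^ (k + 1), ?_⟩
  have hsy : ∀ n : ℕ, s * (z ^ n)⁻¹ * s = z ^ n := by
    intro n
    induction n with
    | zero => simp [hs]
    | succ n ih =>
      have h1 : s * z⁻¹ * s = z := by
        have : (s * z * s)⁻¹ = z := by rw [hinv, inv_inv]
        rwa [mul_inv_rev, mul_inv_rev, inv_eq_of_mul_eq_one_right hs, ← mul_assoc] at this
      calc s * (z ^ (n + 1))⁻¹ * s = s * z⁻¹ * ((s * s) * (z ^ n)⁻¹) * s := by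
            rw [hs, one_mul, pow_succ, mul_inv_rev]; group
        _ = (s * z⁻¹ * s) * (s * (z ^ n)⁻¹ * s) := by group
        _ = z ^ (n + 1) := by rw [h1, ih, pow_succ']
  calc z = z ^ (k + 1) * z ^ (k + 1) := by
        rw [← pow_add, show k + 1 + (k + 1) = orderOf z + 1 by omega, pow_succ, pow_orderOf_eq_one, one_mul]
    _ = z ^ (k + 1) * (s * (z ^ (k + 1))⁻¹ * s) := by rw [hsy]
    _ = _ := by group

theorem inverted_of_dihedral {u u' : X} (hu : u * u = 1) (hu' : u' * u' = 1)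
    (hgen : closure ({u, u'} : Set X) = ⊤) {z : X} (ho : Odd (orderOf z)) (hz : z ≠ 1) : u * z * u = z⁻¹ := by
  set r := u * u'
  have hur : u * r * u = r⁻¹ := by
    rw [mul_inv_rev, inv_eq_of_mul_eq_one_right hu, inv_eq_of_mul_eq_one_right hu']
    simp [r, ← mul_assoc, hu]
  have hinv : u⁻¹ = u := inv_eq_of_mul_eq_one_right hu
  have hk : ∀ k : ℤ, u * r ^ k * u = (r ^ k)⁻¹ := fun k => by
    have h1 : (MulAut.conj u) (r ^ k) = ((MulAut.conj u) r) ^ k := map_zpow _ _ _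
    simp only [MulAut.conj_apply, hinv, hur] at h1
    rw [h1, inv_zpow]
  have hconj : ∀ x ∈ zpowers r, u * x * u ∈ zpowers r := by
    rintro _ ⟨k, rfl⟩
    show u * r ^ k * u ∈ zpowers r
    rw [hk]
    exact inv_mem (zpow_mem (mem_zpowers r) k)
  let D : Subgroup X :=
    { carrier := {x | x ∈ zpowers r ∨ x * u ∈ zpowers r}
      one_mem' := Or.inl (one_mem _)
      mul_mem' := by
        rintro x y (hx | hx) (hy | hy)
        · exact Or.inl (mul_mem hx hy)
        · exact Or.inr (by rw [mul_assoc]; exact mul_mem hx hy)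
        · refine Or.inr ?_
          have := mul_mem hx (hconj y hy)
          rwa [show x * u * (u * y * u) = x * (u * u) * y * u by group, hu, mul_one] at this
        · refine Or.inl ?_
          have := mul_mem hx (hconj _ hy)
          rwa [show x * u * (u * (y * u) * u) = x * (u * u) * y * (u * u) by group, hu, mul_one, mul_one] at this
      inv_mem' := by
        rintro x (hx | hx)
        · exact Or.inl (inv_mem hx)
        · refine Or.inr ?_
          have := hconj _ (inv_mem hx)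
          rwa [show u * (x * u)⁻¹ * u = u * u⁻¹ * x⁻¹ * u by group, mul_inv_cancel, one_mul] at this }
  have hD : z ∈ D := by
    have : closure ({u, u'} : Set X) ≤ D := by
      rw [closure_le]
      rintro x (rfl | rfl)
      · exact Or.inr (by rw [hu]; exact one_mem _)
      · refine Or.inr ?_
        have : x * u = (u * x)⁻¹ := by
          rw [mul_inv_rev, hinv, inv_eq_of_mul_eq_one_right hu']
        rw [this]
        exact inv_mem (mem_zpowers r)
    exact this (hgen ▸ mem_top z)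
  rcases hD with ⟨k, rfl⟩ | ⟨k, hk'⟩
  · exact hk k
  · exfalso
    change r ^ k = z * u at hk'
    have hzeq : z = r ^ k * u := by rw [hk', mul_assoc, hu, mul_one]
    have h2 : z * z = 1 := by
      calc z * z = r ^ k * (u * r ^ k * u) := by rw [hzeq]; group
        _ = 1 := by rw [hk, mul_inv_cancel]
    obtain ⟨j, hj⟩ := ho
    apply hz
    have h3 := pow_orderOf_eq_one z
    rwa [hj, pow_succ, pow_mul, pow_two, h2, one_pow, one_mul] at h3

end General

variable {G : Type*} [Group G] [Finite G] {p : ℕ} [hp : Fact p.Prime] {Y L : Subgroup G}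
variable {X : Type*} [Group X]

theorem good_of_product (h : Conf p Y L) (φ : ↥L →* X) (hφ : Function.Surjective φ) (hker : φ.ker = pCore p ↥L)
    {z₁ z₂ : X} (h1 : CI ((Y.subgroupOf L).map φ) z₁) (h2 : CI ((Y.subgroupOf L).map φ) z₂)
    (hnp : ∀ k : ℕ, (z₁ * z₂) ^ p ^ k ≠ 1) : Good p Y L φ (z₁ * z₂) :=
  fun _ hx _ ha hfix => of_image h φ hφ hker h1 h2 hnp hx ha hfix

theorem not_p_elem {z : X} {r : ℕ} (hr : r.Prime) (hrp : r ≠ p) (hz : orderOf z = r) (k : ℕ) :
    z ^ p ^ k ≠ 1 := fun e => by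
  have := orderOf_dvd_of_pow_eq_one e
  rw [hz] at this
  exact hrp ((Nat.prime_dvd_prime_iff_eq hr hp.out).1 (hr.dvd_of_dvd_pow this))

theorem good_of_inverted (h : Conf 2 Y L) (φ : ↥L →* X) (hφ : Function.Surjective φ) (hker : φ.ker = pCore 2 ↥L)
    {z s : X} {r : ℕ} (hr : r.Prime) (hr2 : r ≠ 2) (hz : orderOf z = r) (hs : s * s = 1)
    (hinv : s * z * s = z⁻¹) (hci : CI ((Y.subgroupOf L).map φ) s) : Good 2 Y L φ z := by
  obtain ⟨y, hy⟩ := inv_decomp (hz ▸ hr.odd_of_ne_two hr2) hs hinv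
  have hnp : ∀ k, (y * s * y⁻¹ * s) ^ 2 ^ k ≠ 1 := hy ▸ not_p_elem (p := 2) hr hr2 hz
  rw [hy]
  exact good_of_product h φ hφ hker (ci_conj y hci) hci hnp

theorem image_facts (h : Conf p Y L) (φ : ↥L →* X) (hker : φ.ker = pCore p ↥L) :
    Nat.card ↥((Y.subgroupOf L).map φ) = (Y ⊓ pCoreOf p L).relIndex Y ∧
    IsPGroup p ↥((Y.subgroupOf L).map φ) ∧ (Y.subgroupOf L).map φ ≠ ⊥ := by
  refine ⟨?_, h.pgrp.comap_subtype.map φ, ?_⟩
  · rw [← relIndex_ker, hker, inf_relIndex_left, ← relIndex_subgroupOf h.hYL]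
    congr 1
    exact (comap_map_eq_self_of_injective L.subtype_injective _).symm
  · intro hbot
    refine h.hne fun y hy => ?_
    have hm : φ ⟨y, h.hYL hy⟩ ∈ (Y.subgroupOf L).map φ := ⟨_, hy, rfl⟩
    rw [hbot, mem_bot, ← MonoidHom.mem_ker, hker] at hm
    exact ⟨_, hm, rfl⟩

theorem good_card_two (h : Conf 2 Y L) (φ : ↥L →* X) (hφ : Function.Surjective φ) (hker : φ.ker = pCore 2 ↥L)
    (hI : Nat.card ↥((Y.subgroupOf L).map φ) = 2) :
    ∀ (r : ℕ), r.Prime → r ≠ 2 → ∀ z : X, orderOf z = r → Good 2 Y L φ z := by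
  intro r hr hr2 z hz
  set I := (Y.subgroupOf L).map φ
  haveI : Finite ↥I := Nat.finite_of_card_ne_zero (by rw [hI]; norm_num)
  obtain ⟨g, hg, hpair⟩ := exists_pair h
  obtain ⟨u, hu1, huniq⟩ := (Nat.card_eq_two_iff' (1 : ↥I)).1 hI
  have husq : (u : X) * u = 1 := by
    have := pow_card_eq_one' (x := u)
    rw [hI, pow_two] at this
    exact congrArg Subtype.val this
  have hone : ∀ x ∈ I, x = 1 ∨ x = (u : X) := fun x hx => by
    by_cases hx1 : x = 1
    · exact Or.inl hx1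
    · exact Or.inr (congrArg Subtype.val (huniq ⟨x, hx⟩ fun e => hx1 (congrArg Subtype.val e)))
  set gb := φ ⟨g, hg⟩
  set u' := gb * u * gb⁻¹
  have hu' : u' * u' = 1 := by
    calc u' * u' = gb * ((u : X) * u) * gb⁻¹ := by simp only [u']; group
      _ = 1 := by rw [husq]; group
  have hgen : closure ({(u : X), u'} : Set X) = ⊤ := by
    rw [eq_top_iff]
    intro x _
    obtain ⟨l, rfl⟩ := hφ x
    set W := closure ({(u : X), u'} : Set X)
    have hle : Y ⊔ cY Y g ≤ (W.comap φ).map L.subtype := by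
      refine sup_le (fun y hy => ⟨⟨y, h.hYL hy⟩, ?_, rfl⟩) (fun y hy => ?_)
      · show φ _ ∈ W
        rcases hone (φ ⟨y, h.hYL hy⟩) ⟨_, hy, rfl⟩ with e | e <;> rw [e]
        · exact one_mem _
        · exact subset_closure (Or.inl rfl)
      · have hy' := mem_cY.1 hy
        refine ⟨⟨g, hg⟩ * ⟨_, h.hYL hy'⟩ * ⟨g, hg⟩⁻¹, ?_, by simp [mul_assoc]⟩
        show φ _ ∈ W
        rw [map_mul, map_mul, map_inv]
        rcases hone (φ ⟨_, h.hYL hy'⟩) ⟨_, hy', rfl⟩ with e | e <;> rw [e]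
        · simp
        · exact subset_closure (Or.inr rfl)
    have hl'' : (l : G) ∈ Y ⊔ cY Y g := by rw [hpair]; exact l.2
    obtain ⟨l', hl', e⟩ := hle hl''
    rw [show l = l' from Subtype.ext e.symm]
    exact hl'
  have hz1 : z ≠ 1 := fun e => by rw [e, orderOf_one] at hz; exact hr.one_lt.ne hz
  exact good_of_inverted h φ hφ hker hr hr2 hz husq
    (inverted_of_dihedral husq hu' hgen (hz ▸ hr.odd_of_ne_two hr2) hz1)
    ⟨fun e => hu1 (Subtype.ext e), 1, by simp⟩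

section Suzuki

open Cfsg.Agent.SzC Cfsg.Agent.SzB

variable {F : Type} [Field F] [Fintype F] [CharP F 2] {m : ℕ} (hF : Fintype.card F = 2 ^ (2 * m + 1))

theorem good_sz (hm : 1 ≤ m) (h : Conf 2 Y L) (φ : ↥L →* SG hF) (hφ : Function.Surjective φ)
    (hker : φ.ker = pCore 2 ↥L) :
    ∀ (r : ℕ), r.Prime → r ≠ 2 → ∀ z : SG hF, orderOf z = r → Good 2 Y L φ z := by
  intro r hr hr2 z hz
  set I := (Y.subgroupOf L).map φ
  obtain ⟨-, hIp, hIne⟩ := image_facts h φ hker
  obtain ⟨x, hxI, hx1⟩ := (bot_or_exists_ne_one I).resolve_left hIne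
  obtain ⟨k, hk⟩ := IsPGroup.iff_orderOf.1 hIp ⟨x, hxI⟩
  rw [Subgroup.orderOf_mk] at hk
  have hk0 : k ≠ 0 := fun e => by
    rw [e, pow_zero, orderOf_eq_one_iff] at hk
    exact hx1 hk
  have hu : orderOf (x ^ 2 ^ (k - 1)) = 2 := by
    rw [orderOf_pow_of_dvd (by positivity) (hk ▸ pow_dvd_pow 2 (Nat.sub_le k 1)), hk,
      Nat.pow_div (Nat.sub_le k 1) (by norm_num), show k - (k - 1) = 1 by omega, pow_one]
  have hz1 : z ≠ 1 := fun e => by rw [e, orderOf_one] at hz; exact hr.one_lt.ne hz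
  obtain ⟨s, hs, hs1, hinv⟩ := inverted_by_involution hF hm hz1 (hz ▸ hr.odd_of_ne_two hr2)
  have hso : orderOf s = 2 := orderOf_eq_prime (by rw [pow_two, hs]) hs1
  obtain ⟨c, hc⟩ := isConj_iff.1 ((involution_conj hF hu).trans (involution_conj hF hso).symm)
  refine good_of_inverted h φ hφ hker hr hr2 hz hs hinv ?_
  rw [← hc]
  exact ci_conj c ⟨fun e => by rw [e, orderOf_one] at hu; norm_num at hu, 1, by rw [inv_one, one_mul, mul_one]; exact pow_mem hxI _⟩

end Suzuki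

section SL2

variable {F : Type} [Field F] [Fintype F]

local notation "SL" => Matrix.SpecialLinearGroup (Fin 2) F

theorem trace_of_pow (hch : CharP F p) {A : SL} {k : ℕ} (h : A ^ p ^ k = 1) :
    (A : Matrix (Fin 2) (Fin 2) F).trace = 2 := by
  haveI := hch
  have h1 : IsNilpotent ((A : Matrix (Fin 2) (Fin 2) F) - 1) := by
    refine ⟨p ^ k, ?_⟩
    rw [sub_pow_char_pow_of_commute (p := p) (n := k) (h := Commute.one_right _), one_pow, ← Matrix.SpecialLinearGroup.coe_pow, h,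
      Matrix.SpecialLinearGroup.coe_one, sub_self]
  have h2 := (Matrix.isNilpotent_trace_of_isNilpotent h1).eq_zero
  rw [Matrix.trace_sub, sub_eq_zero] at h2
  rw [h2]
  simp

theorem pow_of_trace (hch : CharP F p) {A : SL} (h : (A : Matrix (Fin 2) (Fin 2) F).trace = 2) :
    A ^ p = 1 := by
  haveI := hch
  apply Subtype.ext
  show (A : Matrix (Fin 2) (Fin 2) F) ^ p = 1
  set N := (A : Matrix (Fin 2) (Fin 2) F) - 1 with hN
  have hdet := A.det_coe
  rw [Matrix.det_fin_two] at hdet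
  rw [Matrix.trace_fin_two] at h
  have h2 : N ^ 2 = 0 := by
    rw [pow_two, hN]
    ext i j
    fin_cases i <;> fin_cases j <;>
      simp [Matrix.mul_apply, Fin.sum_univ_two, Matrix.sub_apply, Matrix.one_apply] <;> grind
  rw [show (A : Matrix (Fin 2) (Fin 2) F) = N + 1 by rw [hN, sub_add_cancel],
    add_pow_char_of_commute (p := p) (h := Commute.one_right _), one_pow,
    pow_eq_zero_of_le hp.out.two_le h2, zero_add]

theorem exists_decomp {z : SL} (hnc : ¬ ((z : Matrix (Fin 2) (Fin 2) F) 0 1 = 0 ∧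
    (z : Matrix (Fin 2) (Fin 2) F) 1 0 = 0 ∧
    (z : Matrix (Fin 2) (Fin 2) F) 0 0 = (z : Matrix (Fin 2) (Fin 2) F) 1 1))
    (ht : (z : Matrix (Fin 2) (Fin 2) F).trace ≠ 2) :
    ∃ u v : SL, z = u * v ∧ (u : Matrix (Fin 2) (Fin 2) F).trace = 2 ∧
      (v : Matrix (Fin 2) (Fin 2) F).trace = 2 ∧ u ≠ 1 ∧ v ≠ 1 := by
  suffices key : ∃ u : SL, (u : Matrix (Fin 2) (Fin 2) F).trace = 2 ∧
      ((u⁻¹ * z : SL) : Matrix (Fin 2) (Fin 2) F).trace = 2 by
    obtain ⟨u, h1, h2⟩ := key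
    refine ⟨u, u⁻¹ * z, by group, h1, h2, fun e => ht ?_, fun e => ht ?_⟩
    · rw [e, inv_one, one_mul] at h2; exact h2
    · rw [show z = u * (u⁻¹ * z) by group, e, mul_one]; exact h1
  rw [Matrix.trace_fin_two] at ht
  by_cases h10 : (z : Matrix (Fin 2) (Fin 2) F) 1 0 = 0
  · by_cases h01 : (z : Matrix (Fin 2) (Fin 2) F) 0 1 = 0
    · have hd : (z : Matrix (Fin 2) (Fin 2) F) 0 0 - (z : Matrix (Fin 2) (Fin 2) F) 1 1 ≠ 0 :=
        fun e => hnc ⟨h01, h10, sub_eq_zero.1 e⟩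
      set a := ((z : Matrix (Fin 2) (Fin 2) F) 0 0 + (z : Matrix (Fin 2) (Fin 2) F) 1 1 - 2) /
        ((z : Matrix (Fin 2) (Fin 2) F) 0 0 - (z : Matrix (Fin 2) (Fin 2) F) 1 1)
      obtain ⟨u, hu⟩ : ∃ u : SL, (u : Matrix (Fin 2) (Fin 2) F) = !![1 + a, -a; a, 1 - a] :=
        ⟨⟨_, by rw [Matrix.det_fin_two_of]; ring⟩, rfl⟩
      refine ⟨u, ?_, ?_⟩
      · simp [Matrix.trace_fin_two, hu]; ring
      · simp [Matrix.trace_fin_two, Matrix.mul_apply, Fin.sum_univ_two, Matrix.vecMul, dotProduct, h01, h10, hu,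
          Matrix.SpecialLinearGroup.coe_inv, Matrix.adjugate_fin_two_of]
        simp only [a]
        field_simp
        ring
    · set a := ((z : Matrix (Fin 2) (Fin 2) F) 0 0 + (z : Matrix (Fin 2) (Fin 2) F) 1 1 - 2) /
        (z : Matrix (Fin 2) (Fin 2) F) 0 1
      obtain ⟨u, hu⟩ : ∃ u : SL, (u : Matrix (Fin 2) (Fin 2) F) = !![1, 0; a, 1] :=
        ⟨⟨_, by rw [Matrix.det_fin_two_of]; ring⟩, rfl⟩
      refine ⟨u, ?_, ?_⟩
      · simp [Matrix.trace_fin_two, hu]; ring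
      · simp [Matrix.trace_fin_two, Matrix.mul_apply, Fin.sum_univ_two, Matrix.vecMul, dotProduct, hu,
          Matrix.SpecialLinearGroup.coe_inv, Matrix.adjugate_fin_two_of]
        simp only [a]
        field_simp
        ring
  · set a := ((z : Matrix (Fin 2) (Fin 2) F) 0 0 + (z : Matrix (Fin 2) (Fin 2) F) 1 1 - 2) /
      (z : Matrix (Fin 2) (Fin 2) F) 1 0
    obtain ⟨u, hu⟩ : ∃ u : SL, (u : Matrix (Fin 2) (Fin 2) F) = !![1, a; 0, 1] :=
      ⟨⟨_, by rw [Matrix.det_fin_two_of]; ring⟩, rfl⟩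
    refine ⟨u, ?_, ?_⟩
    · simp [Matrix.trace_fin_two, hu]; ring
    · simp [Matrix.trace_fin_two, Matrix.mul_apply, Fin.sum_univ_two, Matrix.vecMul, dotProduct, hu,
        Matrix.SpecialLinearGroup.coe_inv, Matrix.adjugate_fin_two_of]
      simp only [a]
      field_simp
      ring

theorem good_sl2 (h : Conf p Y L) (φ : ↥L →* SL) (hφ : Function.Surjective φ) (hker : φ.ker = pCore p ↥L)
    (hq : Fintype.card F = (Y ⊓ pCoreOf p L).relIndex Y) :
    ∀ (r : ℕ), r.Prime → r ≠ p → ∀ z : SL, orderOf z = r → Good p Y L φ z := by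
  classical
  set I := (Y.subgroupOf L).map φ
  obtain ⟨hIc, hIp, -⟩ := image_facts h φ hker
  rw [← hq] at hIc
  obtain ⟨n, hn⟩ := hIp.exists_card_eq
  rw [hIc] at hn
  obtain ⟨c, hc⟩ := CharP.exists F
  obtain ⟨⟨k, hk0⟩, hcp, hck⟩ := FiniteField.card F c
  have hn0 : n ≠ 0 := fun e => by
    rw [e, pow_zero] at hn
    exact absurd hn (Fintype.one_lt_card (α := F)).ne'
  have hcp' : c = p := by
    have h1 : p ∣ c ^ k := by
      have : p ∣ Fintype.card F := hn ▸ dvd_pow_self p hn0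
      rwa [hck] at this
    exact ((Nat.prime_dvd_prime_iff_eq hp.out hcp).1 (hp.out.dvd_of_dvd_pow h1)).symm
  have hch : CharP F p := hcp' ▸ hc
  set q := Fintype.card F
  have hsl : Nat.card SL = (q ^ 2 - 1) * q := by
    have h := Cfsg.Lib.Classical.LinearOrders.card_sl_mul (F := F) (n := 2) (by norm_num)
    rw [Fin.prod_univ_two] at h
    simp only [Fin.val_zero, Fin.val_one, pow_zero, pow_one] at h
    have h1 : 1 < q := Fintype.one_lt_card
    refine Nat.eq_of_mul_eq_mul_left (show 0 < q - 1 by omega) ?_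
    rw [h, show q ^ 2 - q = q * (q - 1) by rw [Nat.mul_sub, mul_one, pow_two]]
    ring
  have hcoprime : ¬ p ∣ q ^ 2 - 1 := fun hd => by
    have h1 : p ∣ q ^ 2 := dvd_pow (hn ▸ dvd_pow_self p hn0) two_ne_zero
    have h2 := Nat.dvd_sub h1 hd
    have : 1 ≤ q ^ 2 := Nat.one_le_pow _ _ Fintype.card_pos
    rw [show q ^ 2 - (q ^ 2 - 1) = 1 by omega, Nat.dvd_one] at h2
    exact hp.out.ne_one h2
  have hfac : (Nat.card SL).factorization p = n := by
    have h0 : q ^ 2 - 1 ≠ 0 := fun e => hcoprime (e ▸ dvd_zero p)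
    rw [hsl, Nat.factorization_mul h0 Fintype.card_pos.ne', Finsupp.add_apply,
      Nat.factorization_eq_zero_of_not_dvd hcoprime, zero_add, show Fintype.card F = p ^ n from hn, hp.out.factorization_pow, Finsupp.single_eq_same]
  let P : Sylow p SL := Sylow.ofCard I (by rw [hIc, hn, hfac])
  have hCI : ∀ u : SL, u ≠ 1 → (u : Matrix (Fin 2) (Fin 2) F).trace = 2 → CI I u := by
    intro u hu1 hut
    have hup : IsPGroup p ↥(zpowers u) := by
      rintro ⟨x, j, rfl⟩
      exact ⟨1, Subtype.ext (by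
        show (u ^ j) ^ p ^ 1 = 1
        rw [pow_one, ← zpow_natCast, ← zpow_mul, mul_comm, zpow_mul, zpow_natCast, pow_of_trace hch hut, one_zpow])⟩
    obtain ⟨Q, hQ⟩ := hup.exists_le_sylow
    obtain ⟨g, rfl⟩ := MulAction.exists_smul_eq SL P Q
    refine ⟨hu1, g, ?_⟩
    have hmem := hQ (mem_zpowers u)
    rw [Sylow.coe_subgroup_smul, Subgroup.mem_pointwise_smul_iff_inv_smul_mem] at hmem
    simpa [MulAut.smul_def, P] using hmem
  have hgood : ∀ z : SL, ¬ ((z : Matrix (Fin 2) (Fin 2) F) 0 1 = 0 ∧ (z : Matrix (Fin 2) (Fin 2) F) 1 0 = 0 ∧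
      (z : Matrix (Fin 2) (Fin 2) F) 0 0 = (z : Matrix (Fin 2) (Fin 2) F) 1 1) →
      (z : Matrix (Fin 2) (Fin 2) F).trace ≠ 2 → Good p Y L φ z := by
    intro z hnc ht
    obtain ⟨u, v, rfl, hu, hv, hu1, hv1⟩ := exists_decomp hnc ht
    exact good_of_product h φ hφ hker (hCI u hu1 hu) (hCI v hv1 hv) fun k e => ht (trace_of_pow hch e)
  intro r hr hrp z hz
  have hnp := not_p_elem (p := p) hr hrp hz
  have ht : (z : Matrix (Fin 2) (Fin 2) F).trace ≠ 2 := fun e => hnp 1 (by rw [pow_one]; exact pow_of_trace hch e)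
  by_cases hnc : (z : Matrix (Fin 2) (Fin 2) F) 0 1 = 0 ∧ (z : Matrix (Fin 2) (Fin 2) F) 1 0 = 0 ∧
      (z : Matrix (Fin 2) (Fin 2) F) 0 0 = (z : Matrix (Fin 2) (Fin 2) F) 1 1
  swap
  · exact hgood z hnc ht
  obtain ⟨h01, h10, hdd⟩ := hnc
  have hdet := z.det_coe
  rw [Matrix.det_fin_two, h01, h10, ← hdd, mul_zero, sub_zero, mul_self_eq_one_iff] at hdet
  have hne1 : (z : Matrix (Fin 2) (Fin 2) F) 0 0 ≠ 1 := fun e => ht (by
    rw [Matrix.trace_fin_two, ← hdd, e]; ring)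
  have hm1 := hdet.resolve_left hne1
  have h2 : (2 : F) ≠ 0 := fun e => ht (by rw [Matrix.trace_fin_two, ← hdd, hm1]; linear_combination (-2 : F) * e)
  obtain ⟨t, t0⟩ : ∃ t : SL, (t : Matrix (Fin 2) (Fin 2) F) = !![0, -1; 1, 0] :=
    ⟨⟨_, by simp [Matrix.det_fin_two]⟩, rfl⟩
  obtain ⟨t', t0'⟩ : ∃ t : SL, (t : Matrix (Fin 2) (Fin 2) F) = !![2, -5; 1, -2] :=
    ⟨⟨_, by rw [Matrix.det_fin_two_of]; ring⟩, rfl⟩
  refine good_square h φ hφ hker (t := t) (t' := t') ?_ ?_ (hgood t ?_ ?_) (hgood t' ?_ ?_) (hgood _ ?_ ?_)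
  · apply Subtype.ext
    ext i j; fin_cases i <;> fin_cases j <;> simp [t0, Matrix.mul_apply, Fin.sum_univ_two, h01, h10, ← hdd, hm1]
  · apply Subtype.ext
    ext i j; fin_cases i <;> fin_cases j <;> simp [t0', Matrix.mul_apply, Fin.sum_univ_two, h01, h10, ← hdd, hm1] <;> ring
  · simp [t0]
  · simp [t0, Matrix.trace_fin_two]; exact fun e => h2 e.symm
  · simp [t0']
  · simp [t0', Matrix.trace_fin_two]; exact fun e => h2 e.symm
  · simp [t0, t0', Matrix.mul_apply, Fin.sum_univ_two, h2]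
  · simp [t0, t0', Matrix.trace_fin_two, Matrix.mul_apply, Fin.sum_univ_two]
    intro e
    exact pow_ne_zero 3 h2 (by linear_combination -e)

end SL2

theorem ker_aux {H K : Type*} [Group H] [Group K] {N : Subgroup H} [N.Normal] (e : H ⧸ N ≃* K) :
    (e.toMonoidHom.comp (QuotientGroup.mk' N)).ker = N := by
  ext x
  simp [MonoidHom.mem_ker]

theorem dihedral_noncomm {r : ℕ} (hr : r.Prime) (hr2 : r ≠ 2) :
    ∃ a b : DihedralGroup r, a * b ≠ b * a := by
  refine ⟨DihedralGroup.r 1, DihedralGroup.sr 0, fun e => ?_⟩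
  simp only [DihedralGroup.r_mul_sr, DihedralGroup.sr_mul_r, zero_sub, zero_add, DihedralGroup.sr.injEq] at e
  haveI : Fact r.Prime := ⟨hr⟩
  have h : ((2 : ℕ) : ZMod r) = 0 := by push_cast; linear_combination -e
  rw [ZMod.natCast_eq_zero_iff] at h
  exact hr2 ((Nat.prime_dvd_prime_iff_eq hr Nat.prime_two).1 h)

/-- The main statement. -/
theorem fixed_trivial (Y L : Subgroup G) (hYL : Y ≤ L)
    (hcl : pCoreOf p L =
      (Subgroup.normalClosure (((Y ⊓ pCoreOf p L).subgroupOf L : Subgroup ↥L) : Set ↥L)).map L.subtype)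
    (hAY : pCoreOf p L ≤ normalizer (Y : Set G)) (hcomm : ∀ a ∈ Y, ∀ b ∈ Y, a * b = b * a)
    (hYp : IsPGroup p ↥Y) (hN : L ⊓ normalizer (Y : Set G) < L)
    (hmax : ∀ X : Subgroup G, Y ≤ X → X < L → X ≤ L ⊓ normalizer (Y : Set G))
    (hcases : (∃ (F : Type) (_ : Field F) (_ : Fintype F),
        Fintype.card F = (Y ⊓ pCoreOf p L).relIndex Y ∧
          Nonempty (↥L ⧸ pCore p ↥L ≃* Matrix.SpecialLinearGroup (Fin 2) F)) ∨
      (p = 2 ∧ ∃ (F : Type) (_ : Field F) (_ : Fintype F) (m : ℕ),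
        Fintype.card F = 2 ^ (2 * m + 1) ∧
          Fintype.card F = (Y ⊓ pCoreOf p L).relIndex Y ∧
            Nonempty (↥L ⧸ pCore p ↥L ≃* ↥(Cfsg.Lie.Sz F (2 ^ (m + 1))))) ∨
      (p = 2 ∧ ∃ r : ℕ, r.Prime ∧ r ≠ 2 ∧ Nonempty (↥L ⧸ pCore p ↥L ≃* DihedralGroup r)))
    {l : G} (hl : l ∈ L) (hnp : ¬ ∃ k : ℕ, orderOf l = p ^ k) {a : G} (ha : a ∈ pCoreOf p L)
    (hfix : ⁅l, a⁆ ∈ Y ⊓ centralizer ((L : Subgroup G) : Set G)) :
    a ∈ Y ⊓ centralizer ((L : Subgroup G) : Set G) := by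
  have hne : ¬ Y ≤ pCoreOf p L := by
    intro hle
    have hrel : (Y ⊓ pCoreOf p L).relIndex Y = 1 := by
      rw [inf_eq_left.2 hle, relIndex_self]
    rcases hcases with ⟨F, _, _, hq, -⟩ | ⟨-, F, _, _, m, -, hq, -⟩ | ⟨-, r, hr, hr2, ⟨e⟩⟩
    · rw [hrel] at hq
      exact absurd hq (Fintype.one_lt_card (α := F)).ne'
    · rw [hrel] at hq
      exact absurd hq (Fintype.one_lt_card (α := F)).ne'
    · obtain ⟨x, y, hxy⟩ := dihedral_noncomm hr hr2
      set φ := e.toMonoidHom.comp (QuotientGroup.mk' (pCore p ↥L))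
      have hsurj : Function.Surjective φ := e.surjective.comp (QuotientGroup.mk'_surjective _)
      refine hN.not_ge fun l hl => ?_
      set X := pCoreOf p L ⊔ zpowers l
      have hXL : X ≤ L := sup_le A_le (zpowers_le.2 hl)
      rcases hXL.eq_or_lt with heq | hlt
      · exfalso
        apply hxy
        have hc : ∀ d, d ∈ zpowers (φ ⟨l, hl⟩) := by
          intro d
          obtain ⟨d', rfl⟩ := hsurj d
          have hle' : X ≤ ((zpowers (φ ⟨l, hl⟩)).comap φ).map L.subtype := by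
            refine sup_le (fun w hw => ⟨⟨w, A_le hw⟩, ?_, rfl⟩) (zpowers_le.2 ⟨⟨l, hl⟩, mem_zpowers _, rfl⟩)
            obtain ⟨w', hw', hww⟩ := hw
            show φ _ ∈ zpowers _
            rw [show (⟨w, _⟩ : ↥L) = w' from Subtype.ext hww.symm,
              show φ w' = 1 by simp [φ, (QuotientGroup.eq_one_iff w').2 hw']]
            exact one_mem _
          have hd : (d' : G) ∈ X := by rw [heq]; exact d'.2
          obtain ⟨d'', hd'', he⟩ := hle' hd
          rw [show d' = d'' from Subtype.ext he.symm]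
          exact hd''
        obtain ⟨i, hi⟩ := hc x
        obtain ⟨j, hj⟩ := hc y
        rw [← hi, ← hj]
        exact zpow_mul_comm _ i j
      · exact hmax X (hle.trans le_sup_left) hlt (mem_sup_right (mem_zpowers l))
  have hconf : Conf p Y L := ⟨hYL, hcl, hAY, hcomm, hYp, hmax, hne⟩
  rcases hcases with ⟨F, _, _, hq, ⟨e⟩⟩ | ⟨hp2, F, _, _, m, hF, hq, ⟨e⟩⟩ | ⟨hp2, r, hr, hr2, ⟨e⟩⟩
  · have hker := ker_aux e
    exact final hconf _ hker (good_sl2 hconf _ (e.surjective.comp (QuotientGroup.mk'_surjective _)) hker hq)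
      hl hnp ha hfix
  · subst hp2
    haveI := Cfsg.Agent.SzB.charTwo_of_card hF
    set φ : ↥L →* Cfsg.Agent.SzC.SG hF := e.toMonoidHom.comp (QuotientGroup.mk' (pCore 2 ↥L))
    have hker : φ.ker = pCore 2 ↥L := ker_aux e
    have hsurj : Function.Surjective φ := e.surjective.comp (QuotientGroup.mk'_surjective _)
    rcases Nat.eq_zero_or_pos m with hm | hm
    · refine final hconf φ hker (good_card_two hconf φ hsurj hker ?_) hl hnp ha hfix
      rw [(image_facts hconf φ hker).1, ← hq, hF, hm]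
      norm_num
    · exact final hconf φ hker (good_sz hF hm hconf φ hsurj hker) hl hnp ha hfix
  · subst hp2
    haveI : NeZero r := ⟨hr.ne_zero⟩
    set φ := e.toMonoidHom.comp (QuotientGroup.mk' (pCore 2 ↥L))
    have hker : φ.ker = pCore 2 ↥L := ker_aux e
    have hsurj : Function.Surjective φ := e.surjective.comp (QuotientGroup.mk'_surjective _)
    refine final hconf φ hker (good_card_two hconf φ hsurj hker ?_) hl hnp ha hfix
    obtain ⟨-, hIp, hIne⟩ := image_facts hconf φ hker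
    obtain ⟨j, hj⟩ := hIp.exists_card_eq
    have hdvd := card_subgroup_dvd_card ((Y.subgroupOf L).map φ)
    rw [hj, DihedralGroup.nat_card] at hdvd
    rw [hj]
    rcases j with _ | _ | j
    · exact absurd ((Subgroup.eq_bot_iff_card _).2 (by rw [hj, pow_zero])) hIne
    · norm_num
    · exfalso
      have h4 : 2 * 2 ∣ 2 * r := (dvd_trans (pow_dvd_pow 2 (by omega : 2 ≤ j + 1 + 1)) hdvd : 2 ^ 2 ∣ 2 * r)
      have := Nat.dvd_of_mul_dvd_mul_left two_pos h4
      exact hr2 ((Nat.prime_dvd_prime_iff_eq Nat.prime_two hr).1 this).symm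

/-- S2863. -/
theorem frakL_fixed (M L : Subgroup G) (hL : IsInFrakL p M L) {l : G} (hl : l ∈ L)
    (hnp : ¬ ∃ k : ℕ, orderOf l = p ^ k) {a : G} (ha : a ∈ pCoreOf p L)
    (hfix : l * a * l⁻¹ * a⁻¹ ∈ largestPReducedOf p M ⊓ centralizer ((L : Subgroup G) : Set G)) :
    a ∈ largestPReducedOf p M ⊓ centralizer ((L : Subgroup G) : Set G) := by
  obtain ⟨hYL, hcl, hAY, -, -, ⟨hN, hmax⟩, hcases⟩ := hL
  have hred := PReduced.red_largest (p := p) M
  exact fixed_trivial _ L hYL hcl hAY hred.comm hred.isPGroup hN hmax hcases hl hnp ha hfix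

end Cfsg.Lib.FrakLFixed
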