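import Mathlib
import Cfsg.Agent.Lib.PLocal.FrakLCases
import Cfsg.Agent.Lib.RootSub.SL2RankOne
import Cfsg.Agent.Lib.SzC.SubgroupCount

/-!
The unique elementary abelian normal `p`-subgroup of `N_L(Y) / O_p(L)`.
-/

set_option autoImplicit false
set_option linter.style.haveILetI false
set_option linter.unusedSectionVars false
set_option linter.unusedSimpArgs false

namespace Cfsg.Lib.FrakLFixed

open Subgroup Cfsg Cfsg.Lib.PLocal
open scoped Pointwise commutatorElement Matrix

/-- the only subgroup of exponent `p` of `N(I)` normalized by `N(I)` is `I` -/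
def UniqueIn {X : Type*} [Group X] (p : ℕ) (I : Subgroup X) : Prop :=
  ∀ V : Subgroup X, V ≠ ⊥ → IsElementaryAbelian p V → V ≤ normalizer (I : Set X) →
    normalizer (I : Set X) ≤ normalizer (V : Set X) → V = I

section SL2

variable {F : Type} [Field F] [Fintype F] {p : ℕ} [hp : Fact p.Prime]

local notation "SL" => Matrix.SpecialLinearGroup (Fin 2) F

open Cfsg.Agent.SL2RankOne

theorem unique_sl2 (I : Subgroup SL) (hch : CharP F p) (hIp : IsPGroup p ↥I)
    (hcard : Nat.card ↥I = Fintype.card F) (hsyl : ∀ R : Subgroup SL, IsPGroup p ↥R → Nat.card ↥R ≤ Fintype.card F) :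
    UniqueIn p I := by
  classical
  haveI := hch
  intro V hV1 hVe hVI hIV
  have hVp : IsPGroup p ↥V := fun v => ⟨1, Subtype.ext (by rw [pow_one]; exact hVe.2 v v.2)⟩
  have hsup := IsPGroup.to_sup_of_normal_left' (H := I) (K := V) hIp hVp hVI
  have hVle : V ≤ I := by
    have := eq_of_le_of_card_ge (le_sup_left : I ≤ I ⊔ V) ((hsyl _ hsup).trans hcard.ge)
    rw [this]; exact le_sup_right
  set U := Cfsg.upperUnipotentSL2 F with hU
  have hUc : Nat.card ↥U = Fintype.card F := by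
    rw [← Nat.card_eq_fintype_card]
    refine (Nat.card_congr (Equiv.ofBijective (fun x : F => (⟨up x, mem_upper.2 ⟨x, rfl⟩⟩ : ↥U)) ⟨fun a b e => ?_, fun g => ?_⟩)).symm
    · have := congrArg (fun g : ↥U => (g : SL).1 0 1) e
      simpa [up] using this
    · obtain ⟨x, hx⟩ := mem_upper.1 g.2
      exact ⟨x, Subtype.ext hx.symm⟩
  have hUp : IsPGroup p ↥U := by
    intro g
    obtain ⟨x, hx⟩ := mem_upper.1 g.2
    refine ⟨1, Subtype.ext ?_⟩
    show (g : SL) ^ p ^ 1 = 1
    rw [pow_one, hx]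
    exact pow_of_trace hch (by simp [Matrix.trace_fin_two, up]; ring)
  obtain ⟨P, hP⟩ := hIp.exists_le_sylow
  obtain ⟨Q, hQ⟩ := hUp.exists_le_sylow
  have hPI : I = P := eq_of_le_of_card_ge hP ((hsyl _ P.isPGroup').trans hcard.ge)
  have hQU : U = Q := eq_of_le_of_card_ge hQ ((hsyl _ Q.isPGroup').trans hUc.ge)
  obtain ⟨g, hg⟩ := MulAction.exists_smul_eq SL Q P
  have hmem : ∀ x : SL, x ∈ I ↔ g⁻¹ * x * g ∈ U := fun x => by
    rw [hPI, hQU, ← hg, Sylow.coe_subgroup_smul, Subgroup.mem_pointwise_smul_iff_inv_smul_mem]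
    simp [MulAut.smul_def]
  let S : AddSubgroup F :=
    { carrier := {x | g * up x * g⁻¹ ∈ V}
      zero_mem' := by simp [up_zero]
      add_mem' := fun {a b} ha hb => by
        show g * up (a + b) * g⁻¹ ∈ V
        rw [← up_mul, show g * (up a * up b) * g⁻¹ = (g * up a * g⁻¹) * (g * up b * g⁻¹) by group]
        exact mul_mem ha hb
      neg_mem' := fun {a} ha => by
        show g * up (-a) * g⁻¹ ∈ V
        rw [← up_inv, show g * (up a)⁻¹ * g⁻¹ = (g * up a * g⁻¹)⁻¹ by group]
        exact inv_mem ha }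
  obtain ⟨v, hvV, hv1⟩ := (bot_or_exists_ne_one V).resolve_left hV1
  obtain ⟨a, ha⟩ := mem_upper.1 ((hmem v).1 (hVle hvV))
  have haS : a ∈ S := by
    show g * up a * g⁻¹ ∈ V
    rw [← ha]
    simpa [mul_assoc] using hvV
  have ha0 : a ≠ 0 := fun e => hv1 (by
    rw [e, up_zero] at ha
    calc v = g * (g⁻¹ * v * g) * g⁻¹ := by group
      _ = 1 := by rw [ha]; group)
  have hsq : ∀ t x : F, x ∈ S → t * t * x ∈ S := by
    intro t x hx
    rcases eq_or_ne t 0 with rfl | ht
    · simp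
    obtain ⟨d, hd⟩ : ∃ d : SL, (d : Matrix (Fin 2) (Fin 2) F) = !![t, 0; 0, t⁻¹] :=
      ⟨⟨_, by rw [Matrix.det_fin_two_of]; field_simp; ring⟩, rfl⟩
    have hdu : ∀ y, d * up y = up (t * t * y) * d := fun y => Subtype.ext (by
      simp only [Matrix.SpecialLinearGroup.coe_mul, hd, up_coe]
      ext i j
      fin_cases i <;> fin_cases j <;> simp [Matrix.mul_apply, Fin.sum_univ_two] <;> field_simp)
    have hdN : g * d * g⁻¹ ∈ normalizer (I : Set SL) := by
      refine mem_normalizer_iff.2 fun y => ?_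
      rw [hmem, hmem, show g⁻¹ * (g * d * g⁻¹ * y * (g * d * g⁻¹)⁻¹) * g = d * (g⁻¹ * y * g) * d⁻¹ by group]
      constructor
      · intro hy
        obtain ⟨z, hz⟩ := mem_upper.1 hy
        exact mem_upper.2 ⟨t * t * z, by rw [hz, hdu, mul_inv_cancel_right]⟩
      · intro hy
        obtain ⟨z, hz⟩ := mem_upper.1 hy
        refine mem_upper.2 ⟨z / (t * t), ?_⟩
        calc g⁻¹ * y * g = d⁻¹ * (d * (g⁻¹ * y * g) * d⁻¹) * d := by group
          _ = d⁻¹ * (up (t * t * (z / (t * t))) * d) := by rw [hz, mul_div_cancel₀ _ (mul_ne_zero ht ht)]; group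
          _ = _ := by rw [← hdu]; group
    have := (mem_normalizer_iff.1 (hIV hdN) _).1 hx
    show g * up (t * t * x) * g⁻¹ ∈ V
    rwa [show g * d * g⁻¹ * (g * up x * g⁻¹) * (g * d * g⁻¹)⁻¹ = g * (d * up x * d⁻¹) * g⁻¹ by group, hdu,
      mul_inv_cancel_right] at this
  have hall : ∀ y : F, y ∈ S := by
    intro y
    have hy : y = y / a * a := by field_simp
    rw [hy]
    generalize y / a = c
    by_cases h2 : (2 : F) = 0
    · haveI : CharP F 2 := CharTwo.of_one_ne_zero_of_two_eq_zero one_ne_zero h2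
      obtain ⟨r, hr⟩ := FiniteField.isSquare_of_char_two (ringChar.eq F 2) c
      rw [hr]; exact hsq r a haS
    · have hc : c * a = ((c + 1) / 2) * ((c + 1) / 2) * a - ((c - 1) / 2) * ((c - 1) / 2) * a := by
        field_simp; ring
      rw [hc]
      exact S.sub_mem (hsq _ a haS) (hsq _ a haS)
  refine le_antisymm hVle fun x hx => ?_
  obtain ⟨z, hz⟩ := mem_upper.1 ((hmem x).1 hx)
  have := hall z
  change g * up z * g⁻¹ ∈ V at this
  rw [← hz] at this
  simpa [mul_assoc] using this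

end SL2

section Small

variable {X : Type*} [Group X]

theorem unique_card_two {u u' : X} (hu : u * u = 1) (hu' : u' * u' = 1) (hgen : closure ({u, u'} : Set X) = ⊤)
    (hodd : Odd (orderOf (u * u'))) (I : Subgroup X) (hI : ∀ x, x ∈ I ↔ x = 1 ∨ x = u) : UniqueIn 2 I := by
  intro V hV1 hVe hVI _
  have huI : u ∈ I := (hI u).2 (Or.inr rfl)
  set r := u * u'
  have hcent : ∀ x ∈ normalizer (I : Set X), x * x = 1 → x ∈ I := by
    intro x hx hx2
    have hux : x * u = u * x := by
      rcases (hI _).1 ((mem_normalizer_iff.1 hx u).1 huI) with e | e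
      · have : u = 1 := by
          calc u = x⁻¹ * (x * u * x⁻¹) * x := by group
            _ = 1 := by rw [e]; group
        rw [this]; simp
      · calc x * u = (x * u * x⁻¹) * x := by group
          _ = u * x := by rw [e]
    have hinv : u⁻¹ = u := inv_eq_of_mul_eq_one_right hu
    have hur : u * r * u = r⁻¹ := by
      rw [mul_inv_rev, hinv, inv_eq_of_mul_eq_one_right hu']
      simp [r, ← mul_assoc, hu]
    have hk : ∀ k : ℤ, u * r ^ k * u = (r ^ k)⁻¹ := fun k => by
      have h1 : (MulAut.conj u) (r ^ k) = ((MulAut.conj u) r) ^ k := map_zpow _ _ _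
      simp only [MulAut.conj_apply, hinv, hur] at h1
      rw [h1, inv_zpow]
    -- every element is `r ^ k` or `r ^ k * u`
    have hD : ∀ y : X, ∃ k : ℤ, y = r ^ k ∨ y = r ^ k * u := by
      intro y
      have hy : y ∈ closure ({u, u'} : Set X) := hgen ▸ mem_top y
      induction hy using Subgroup.closure_induction with
      | mem y hy =>
        rcases hy with rfl | rfl
        · exact ⟨0, Or.inr (by simp)⟩
        · refine ⟨-1, Or.inr ?_⟩
          simp [r, hinv, inv_eq_of_mul_eq_one_right hu', mul_assoc, hu]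
      | one => exact ⟨0, Or.inl (by simp)⟩
      | mul a b _ _ iha ihb =>
        obtain ⟨k, rfl | rfl⟩ := iha <;> obtain ⟨j, rfl | rfl⟩ := ihb
        · exact ⟨k + j, Or.inl (zpow_add r k j).symm⟩
        · exact ⟨k + j, Or.inr (by rw [← mul_assoc, ← zpow_add])⟩
        · refine ⟨k - j, Or.inr ?_⟩
          calc r ^ k * u * r ^ j = r ^ k * (u * r ^ j * u) * u⁻¹ := by group
            _ = _ := by rw [hk, hinv, ← zpow_neg, ← zpow_add]; rfl
        · refine ⟨k - j, Or.inl ?_⟩
          calc r ^ k * u * (r ^ j * u) = r ^ k * (u * r ^ j * u) := by group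
            _ = _ := by rw [hk, ← zpow_neg, ← zpow_add]; rfl
      | inv a _ iha =>
        obtain ⟨k, rfl | rfl⟩ := iha
        · exact ⟨-k, Or.inl (zpow_neg r k).symm⟩
        · refine ⟨k, Or.inr ?_⟩
          calc (r ^ k * u)⁻¹ = u⁻¹ * (r ^ k)⁻¹ := by group
            _ = u * (u * r ^ k * u) := by rw [hinv, hk]
            _ = (u * u) * (r ^ k * u) := by group
            _ = _ := by rw [hu, one_mul]
    have key : ∀ y : X, y * y = 1 → y ∈ zpowers r → y = 1 := by
      intro y hy hyr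
      have h1 : orderOf y ∣ 2 := orderOf_dvd_of_pow_eq_one (by rw [pow_two, hy])
      have h2 : orderOf y ∣ orderOf r := orderOf_dvd_of_mem_zpowers hyr
      exact orderOf_eq_one_iff.1 (Nat.eq_one_of_dvd_coprimes (Nat.coprime_two_left.2 hodd) h1 h2)
    obtain ⟨k, rfl | rfl⟩ := hD x
    · rw [key _ hx2 ⟨k, rfl⟩]; exact one_mem _
    · have h1 : u * r ^ k * u = r ^ k := by
        have : r ^ k * u * u = u * (r ^ k * u) := hux
        rw [mul_assoc _ u u, hu, mul_one] at this
        rw [mul_assoc]; exact this.symm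
      rw [hk] at h1
      have h2 : r ^ k * r ^ k = 1 := inv_eq_iff_mul_eq_one.1 h1
      rw [key _ h2 ⟨k, rfl⟩, one_mul]
      exact huI
  have hle : V ≤ I := fun x hx => hcent x (hVI hx) (by rw [← pow_two]; exact hVe.2 x hx)
  obtain ⟨v, hv, hv1⟩ := (bot_or_exists_ne_one V).resolve_left hV1
  have hvu : v = u := ((hI v).1 (hle hv)).resolve_left hv1
  refine le_antisymm hle fun x hx => ?_
  rcases (hI x).1 hx with rfl | rfl
  · exact one_mem _
  · exact hvu ▸ hv

end Small

section Suzuki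

open Cfsg.Agent.SzC Cfsg.Agent.SzB

variable {F : Type} [Field F] [Fintype F] [CharP F 2] {m : ℕ} (hF : Fintype.card F = 2 ^ (2 * m + 1))

theorem unique_sz (I : Subgroup (SG hF)) (hIe : IsElementaryAbelian 2 I)
    (hcard : Nat.card ↥I = Fintype.card F) : UniqueIn 2 I := by
  classical
  set τ := stdTwist hF
  haveI : Fact (Nat.Prime 2) := ⟨Nat.prime_two⟩
  intro V hV1 hVe hVI hIV
  have hIp : IsPGroup 2 ↥I := fun v => ⟨1, Subtype.ext (by rw [pow_one]; exact hIe.2 v v.2)⟩
  obtain ⟨g, hg⟩ := two_group_le hIp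
  have hmem : ∀ x ∈ I, ∃ b, g⁻¹ * x * g = uS τ 0 b := by
    intro x hx
    obtain ⟨a, b, hab⟩ := hg x hx
    have h2 : (g⁻¹ * x * g) ^ 2 = 1 := by
      calc (g⁻¹ * x * g) ^ 2 = g⁻¹ * x ^ 2 * g := by rw [pow_two, pow_two]; group
        _ = 1 := by rw [hIe.2 x hx]; group
    rw [hab] at h2
    exact ⟨b, by rw [hab, Cfsg.Agent.SzO.sq_eq_one τ h2]⟩
  -- `I` is the conjugate of the centre
  have hfull : ∀ b, g * uS τ 0 b * g⁻¹ ∈ I := by
    choose f hf using hmem
    have hinj : Function.Injective (fun x : ↥I => f x x.2) := by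
      intro x y e
      have : g⁻¹ * (x : SG hF) * g = g⁻¹ * (y : SG hF) * g := by rw [hf x x.2, hf y y.2]; simp only at e; rw [e]
      exact Subtype.ext (mul_left_cancel (mul_right_cancel this))
    have hbij := (Nat.bijective_iff_injective_and_card _).2 ⟨hinj, by rw [hcard, Nat.card_eq_fintype_card]⟩
    intro b
    obtain ⟨x, hx⟩ := hbij.2 b
    simp only at hx
    rw [← hx, ← hf x x.2]
    simp [mul_assoc]
  have hVle : V ≤ I := by
    intro v hv
    have hv2 : v ^ 2 = 1 := hVe.2 v hv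
    set z := g * uS τ 0 1 * g⁻¹
    have hz : z ∈ I := hfull 1
    set w := v * z * v⁻¹
    have hw : w ∈ I := (mem_normalizer_iff.1 (hVI hv) z).1 hz
    have hvw : v * (z * w) * v⁻¹ = z * w := by
      calc v * (z * w) * v⁻¹ = w * (v ^ 2 * z * (v ^ 2)⁻¹) := by simp only [w, pow_two]; group
        _ = w * z := by rw [hv2]; group
        _ = z * w := elem_comm hIe hw hz
    obtain ⟨y, hy, hy1, hvy⟩ : ∃ y ∈ I, y ≠ 1 ∧ v * y * v⁻¹ = y := by
      by_cases hzw : z * w = 1
      · refine ⟨z, hz, fun e => ?_, ?_⟩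
        · have h1 : uS τ 0 1 = 1 := by
            calc uS τ 0 1 = g⁻¹ * z * g := by simp only [z]; group
              _ = 1 := by rw [e]; group
          exact one_ne_zero (uS_inj τ (h1.trans (uS_zero τ).symm)).2
        · show w = z
          have h2 : z * z = 1 := by rw [← pow_two]; exact hIe.2 z hz
          exact mul_left_cancel (hzw.trans h2.symm)
      · exact ⟨z * w, mul_mem hz hw, hzw, hvw⟩
    obtain ⟨b, hb⟩ := hmem y hy
    have hb0 : b ≠ 0 := fun e => hy1 (by
      rw [e, uS_zero] at hb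
      calc y = g * (g⁻¹ * y * g) * g⁻¹ := by group
        _ = 1 := by rw [hb]; group)
    have hc : g⁻¹ * v * g * uS τ 0 b = uS τ 0 b * (g⁻¹ * v * g) := by
      rw [← hb]
      calc g⁻¹ * v * g * (g⁻¹ * y * g) = g⁻¹ * (v * y * v⁻¹) * v * g := by group
        _ = _ := by rw [hvy]; group
    obtain ⟨a, c, hac⟩ := cent_center τ hb0 hc
    have h2 : (g⁻¹ * v * g) ^ 2 = 1 := by
      calc (g⁻¹ * v * g) ^ 2 = g⁻¹ * v ^ 2 * g := by rw [pow_two, pow_two]; group
        _ = 1 := by rw [hv2]; group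
    rw [hac] at h2
    rw [Cfsg.Agent.SzO.sq_eq_one τ h2] at hac
    rw [show v = g * (g⁻¹ * v * g) * g⁻¹ by group, hac]
    exact hfull c
  obtain ⟨v, hv, hv1⟩ := (bot_or_exists_ne_one V).resolve_left hV1
  obtain ⟨b, hb⟩ := hmem v (hVle hv)
  have hb0 : b ≠ 0 := fun e => hv1 (by
    rw [e, uS_zero] at hb
    calc v = g * (g⁻¹ * v * g) * g⁻¹ := by group
      _ = 1 := by rw [hb]; group)
  refine le_antisymm hVle fun x hx => ?_
  obtain ⟨c, hc⟩ := hmem x hx
  rcases eq_or_ne c 0 with rfl | hc0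
  · rw [uS_zero] at hc
    rw [show x = g * (g⁻¹ * x * g) * g⁻¹ by group, hc]; simp
  obtain ⟨t, ht⟩ := (th_bijective hF).2 (b / c)
  have ht0 : t ≠ 0 := fun e => div_ne_zero hb0 hc0 (by rw [← ht, e, map_zero])
  set d := tS τ (Units.mk0 t ht0)⁻¹
  have hd : ∀ e, d * uS τ 0 e * d⁻¹ = uS τ 0 (e / τ.th t) := fun e => by
    rw [tS_uS]; simp
  have hthne : τ.th t ≠ 0 := by rw [ht]; exact div_ne_zero hb0 hc0
  have hdN : g * d * g⁻¹ ∈ normalizer (I : Set (SG hF)) := by
    refine mem_normalizer_iff.2 fun y => ⟨fun hy => ?_, fun hy => ?_⟩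
    · obtain ⟨e, he⟩ := hmem y hy
      rw [show g * d * g⁻¹ * y * (g * d * g⁻¹)⁻¹ = g * (d * (g⁻¹ * y * g) * d⁻¹) * g⁻¹ by group, he, hd]
      exact hfull _
    · obtain ⟨e, he⟩ := hmem _ hy
      have h1 : d * uS τ 0 (e * τ.th t) * d⁻¹ = uS τ 0 e := by rw [hd, mul_div_cancel_right₀ _ hthne]
      rw [← h1] at he
      have : y = g * uS τ 0 (e * τ.th t) * g⁻¹ := by
        calc y = g * (d⁻¹ * (g⁻¹ * (g * d * g⁻¹ * y * (g * d * g⁻¹)⁻¹) * g) * d) * g⁻¹ := by group
          _ = _ := by rw [he]; group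
      rw [this]; exact hfull _
  have := (mem_normalizer_iff.1 (hIV hdN) v).1 hv
  rw [show g * d * g⁻¹ * v * (g * d * g⁻¹)⁻¹ = g * (d * (g⁻¹ * v * g) * d⁻¹) * g⁻¹ by group, hb, hd, ht,
    div_div_cancel₀ hb0, ← hc] at this
  simpa [mul_assoc] using this

/-- For `q = 2` the Suzuki group is not generated by two involutions. -/
theorem sz_two_false (hm : m = 0) {u u' : SG hF} (hu : u * u = 1) (hu' : u' * u' = 1)
    (hgen : closure ({u, u'} : Set (SG hF)) = ⊤) : False := by
  classical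
  set τ := stdTwist hF
  have hq : Fintype.card F = 2 := by rw [hF, hm]; norm_num
  have hcard : Nat.card (SG hF) = 20 := by rw [card_group τ, hq]; norm_num
  set z := uS τ 1 0
  have hz2 : z ^ 2 ≠ 1 := fun e => one_ne_zero (Cfsg.Agent.SzO.sq_eq_one τ e)
  have hz4 : z ^ 4 = 1 := by
    rw [show z ^ 4 = z ^ (2 * 2) from rfl, pow_mul, uS_sq hF, uS_sq hF]
    simp [uS_zero]
  have hinv : u⁻¹ = u := inv_eq_of_mul_eq_one_right hu
  set r := u * u'
  have hk : ∀ k : ℤ, u * r ^ k * u = (r ^ k)⁻¹ := fun k => by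
    have hur : u * r * u = r⁻¹ := by
      rw [mul_inv_rev, hinv, inv_eq_of_mul_eq_one_right hu']
      simp [r, ← mul_assoc, hu]
    have h1 : (MulAut.conj u) (r ^ k) = ((MulAut.conj u) r) ^ k := map_zpow _ _ _
    simp only [MulAut.conj_apply, hinv, hur] at h1
    rw [h1, inv_zpow]
  haveI hn : (zpowers r).Normal := by
    have hle : (⊤ : Subgroup (SG hF)) ≤ normalizer (zpowers r : Set (SG hF)) := by
      rw [← hgen, closure_le]
      have hu_mem : u ∈ normalizer (zpowers r : Set (SG hF)) := mem_normalizer_iff.2 fun y => by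
        constructor
        · rintro ⟨k, rfl⟩
          exact ⟨-k, by simp only [hinv, zpow_neg]; exact (hk k).symm⟩
        · rintro ⟨k, hk'⟩
          refine ⟨-k, ?_⟩
          show r ^ (-k) = y
          change r ^ k = _ at hk'
          rw [zpow_neg, ← hk k, hk', hinv]
          calc u * (u * y * u) * u = (u * u) * y * (u * u) := by group
            _ = y := by rw [hu, one_mul, mul_one]
      rintro y (rfl | rfl)
      · exact hu_mem
      · have hmul := mul_mem (inv_mem hu_mem) (le_normalizer (mem_zpowers r))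
        rwa [inv_mul_cancel_left] at hmul
    exact normalizer_eq_top_iff.1 (top_le_iff.1 hle)
  set f := QuotientGroup.mk' (zpowers r)
  have hsmall : ∀ y, f y = 1 ∨ f y = f u := by
    intro y
    have hy : y ∈ closure ({u, u'} : Set (SG hF)) := hgen ▸ mem_top y
    have hfu2 : f u * f u = 1 := by rw [← map_mul, hu, map_one]
    induction hy using Subgroup.closure_induction with
    | mem y hy =>
      rcases hy with rfl | rfl
      · exact Or.inr rfl
      · refine Or.inr ?_
        have h1 : f r = 1 := (QuotientGroup.eq_one_iff r).2 (mem_zpowers r)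
        rw [map_mul] at h1
        exact mul_left_cancel (h1.trans hfu2.symm)
    | one => exact Or.inl (map_one f)
    | mul a b _ _ iha ihb =>
      rcases iha with e | e <;> rcases ihb with e' | e' <;> simp [map_mul, e, e', hfu2]
    | inv a _ iha =>
      rcases iha with e | e
      · simp [map_inv, e]
      · exact Or.inr (by rw [map_inv, e, inv_eq_of_mul_eq_one_right hfu2])
  by_cases hzr : f z = 1
  · -- then the order of `r` is divisible by four and divides ten
    have hz : orderOf z = 4 := orderOf_eq_prime_pow (p := 2) (n := 1) (by simpa using hz2) hz4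
    have h4 := orderOf_dvd_of_mem_zpowers ((QuotientGroup.eq_one_iff z).1 hzr)
    rw [hz] at h4
    have hidx : (zpowers r).index ≤ 2 := by
      rw [index_eq_card]
      have : Function.Surjective (fun b : Fin 2 => if b = 0 then (1 : SG hF ⧸ zpowers r) else f u) := fun y => by
        obtain ⟨y, rfl⟩ := QuotientGroup.mk'_surjective _ y
        rcases hsmall y with e | e
        · exact ⟨0, e.symm⟩
        · exact ⟨1, e.symm⟩
      have := Nat.card_le_card_of_surjective _ this
      simpa using this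
    have hmul := (zpowers r).card_mul_index
    rw [Nat.card_zpowers, hcard] at hmul
    have hdvd : orderOf r ∣ 20 := ⟨_, hmul.symm⟩
    have hpos : 0 < (zpowers r).index := Nat.pos_of_ne_zero index_ne_zero_of_finite
    interval_cases h : (zpowers r).index
    · have : orderOf r = 20 := by omega
      -- the group would be cyclic
      have htop : zpowers r = ⊤ := index_eq_one.1 h
      obtain ⟨k, hku⟩ : u ∈ zpowers r := htop ▸ mem_top u
      have h1 : r⁻¹ = r := by
        have := hk 1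
        simp only [zpow_one] at this
        have hc : u * r = r * u := by
          change r ^ k = u at hku
          calc u * r = r ^ k * r := by rw [hku]
            _ = r * r ^ k := (Commute.zpow_self r k).eq
            _ = r * u := by rw [hku]
        rw [← this, hc, mul_assoc, hu, mul_one]
      have h2 : r ^ 2 = 1 := by rw [pow_two]; exact inv_eq_iff_mul_eq_one.1 h1
      have := Nat.le_of_dvd two_pos (orderOf_dvd_of_pow_eq_one h2)
      omega
    · omega
  · rcases hsmall z with e | e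
    · exact hzr e
    obtain ⟨k, hk'⟩ : z * u ∈ zpowers r := (QuotientGroup.eq_one_iff _).1 (by
      show f (z * u) = 1
      rw [map_mul, e, ← map_mul, hu, map_one])
    change r ^ k = z * u at hk'
    apply hz2
    have hzeq : z = r ^ k * u := by rw [hk', mul_assoc, hu, mul_one]
    calc z ^ 2 = r ^ k * (u * r ^ k * u) := by rw [pow_two, hzeq]; group
      _ = 1 := by rw [hk, mul_inv_cancel]

end Suzuki

variable {G : Type*} [Group G] [Finite G] {p : ℕ} [hp : Fact p.Prime] {Y L : Subgroup G}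

theorem dihedral_gen {X : Type*} [Group X] (h : Conf 2 Y L) (φ : ↥L →* X) (hφ : Function.Surjective φ)
    (hI : Nat.card ↥((Y.subgroupOf L).map φ) = 2) :
    ∃ u u' : X, u * u = 1 ∧ u' * u' = 1 ∧ closure ({u, u'} : Set X) = ⊤ ∧
      ∀ x, x ∈ (Y.subgroupOf L).map φ ↔ x = 1 ∨ x = u := by
  set I := (Y.subgroupOf L).map φ
  haveI : Finite ↥I := Nat.finite_of_card_ne_zero (by rw [hI]; norm_num)
  obtain ⟨g, hg, hpair⟩ := exists_pair h
  obtain ⟨u, hu1, huniq⟩ := (Nat.card_eq_two_iff' (1 : ↥I)).1 hI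
  have husq : (u : X) * u = 1 := by
    have := pow_card_eq_one' (x := u)
    rw [hI, pow_two] at this
    exact congrArg Subtype.val this
  have hone : ∀ x, x ∈ I ↔ x = 1 ∨ x = (u : X) := fun x => ⟨fun hx => by
    by_cases hx1 : x = 1
    · exact Or.inl hx1
    · exact Or.inr (congrArg Subtype.val (huniq ⟨x, hx⟩ fun e => hx1 (congrArg Subtype.val e))),
    fun hx => by rcases hx with rfl | rfl; exacts [one_mem _, u.2]⟩
  set gb := φ ⟨g, hg⟩
  set u' := gb * u * gb⁻¹
  refine ⟨u, u', husq, ?_, eq_top_iff.2 fun x _ => ?_, hone⟩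
  · calc u' * u' = gb * ((u : X) * u) * gb⁻¹ := by simp only [u']; group
      _ = 1 := by rw [husq]; group
  obtain ⟨l, rfl⟩ := hφ x
  set W := closure ({(u : X), u'} : Set X)
  have hle : Y ⊔ cY Y g ≤ (W.comap φ).map L.subtype := by
    refine sup_le (fun y hy => ⟨⟨y, h.hYL hy⟩, ?_, rfl⟩) (fun y hy => ?_)
    · show φ _ ∈ W
      rcases (hone (φ ⟨y, h.hYL hy⟩)).1 ⟨_, hy, rfl⟩ with e | e <;> rw [e]
      · exact one_mem _
      · exact subset_closure (Or.inl rfl)
    · have hy' := mem_cY.1 hy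
      refine ⟨⟨g, hg⟩ * ⟨_, h.hYL hy'⟩ * ⟨g, hg⟩⁻¹, ?_, by simp [mul_assoc]⟩
      show φ _ ∈ W
      rw [map_mul, map_mul, map_inv]
      rcases (hone (φ ⟨_, h.hYL hy'⟩)).1 ⟨_, hy', rfl⟩ with e | e <;> rw [e]
      · simp
      · exact subset_closure (Or.inr rfl)
  have hl'' : (l : G) ∈ Y ⊔ cY Y g := by rw [hpair]; exact l.2
  obtain ⟨l', hl', e⟩ := hle hl''
  rw [show l = l' from Subtype.ext e.symm]
  exact hl'

end Cfsg.Lib.FrakLFixed

namespace Cfsg.Lib.FrakLFixed

open Subgroup Cfsg Cfsg.Lib.PLocal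
open scoped Pointwise commutatorElement Matrix

variable {G : Type*} [Group G] [Finite G] {p : ℕ} [hp : Fact p.Prime] {Y L : Subgroup G}

theorem unique_sl2_case {F : Type} [Field F] [Fintype F] (h : Conf p Y L) (hexp : ∀ y ∈ Y, y ^ p = 1)
    (φ : ↥L →* Matrix.SpecialLinearGroup (Fin 2) F) (hker : φ.ker = pCore p ↥L)
    (hq : Fintype.card F = (Y ⊓ pCoreOf p L).relIndex Y) : UniqueIn p ((Y.subgroupOf L).map φ) := by
  classical
  obtain ⟨hIc, hIp, -⟩ := image_facts h φ hker
  rw [← hq] at hIc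
  obtain ⟨n, hn⟩ := hIp.exists_card_eq
  rw [hIc] at hn
  have hn0 : n ≠ 0 := fun e => by
    rw [e, pow_zero] at hn
    exact absurd hn (Fintype.one_lt_card (α := F)).ne'
  obtain ⟨c, hc⟩ := CharP.exists F
  obtain ⟨⟨k, hk0⟩, hcp, hck⟩ := FiniteField.card F c
  have hcp' : c = p := by
    have h1 : p ∣ c ^ k := by
      have : p ∣ Fintype.card F := hn ▸ dvd_pow_self p hn0
      rwa [hck] at this
    exact ((Nat.prime_dvd_prime_iff_eq hp.out hcp).1 (hp.out.dvd_of_dvd_pow h1)).symm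
  refine unique_sl2 _ (hcp' ▸ hc) hIp hIc fun R hR => ?_
  obtain ⟨j, hj⟩ := hR.exists_card_eq
  set q := Fintype.card F
  have hsl : Nat.card (Matrix.SpecialLinearGroup (Fin 2) F) = (q ^ 2 - 1) * q := by
    have h := Cfsg.Lib.Classical.LinearOrders.card_sl_mul (F := F) (n := 2) (by norm_num)
    rw [Fin.prod_univ_two] at h
    simp only [Fin.val_zero, Fin.val_one, pow_zero, pow_one] at h
    have h1 : 1 < q := Fintype.one_lt_card
    refine Nat.eq_of_mul_eq_mul_left (show 0 < q - 1 by omega) ?_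
    rw [h, show q ^ 2 - q = q * (q - 1) by rw [Nat.mul_sub, mul_one, pow_two]]
    ring
  have hcoprime : ¬ p ∣ q ^ 2 - 1 := fun hd => by
    have h1 : p ∣ q ^ 2 := dvd_pow (hn ▸ dvd_pow_self p hn0) two_ne_zero
    have h2 := Nat.dvd_sub h1 hd
    have : 1 ≤ q ^ 2 := Nat.one_le_pow _ _ Fintype.card_pos
    rw [show q ^ 2 - (q ^ 2 - 1) = 1 by omega, Nat.dvd_one] at h2
    exact hp.out.ne_one h2
  have hd := card_subgroup_dvd_card R
  rw [hsl, hj] at hd
  rw [hj]
  exact Nat.le_of_dvd Fintype.card_pos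
    (((hp.out.coprime_iff_not_dvd.2 hcoprime).pow_left j).dvd_of_dvd_mul_left hd)

theorem unique_dihedral {r : ℕ} (hr : r.Prime) (hr2 : r ≠ 2) (h : Conf 2 Y L)
    (φ : ↥L →* DihedralGroup r) (hφ : Function.Surjective φ) (hker : φ.ker = pCore 2 ↥L) :
    UniqueIn 2 ((Y.subgroupOf L).map φ) := by
  haveI : NeZero r := ⟨hr.ne_zero⟩
  set I := (Y.subgroupOf L).map φ
  obtain ⟨-, hIp, hIne⟩ := image_facts h φ hker
  obtain ⟨j, hj⟩ := hIp.exists_card_eq
  have hdvd := card_subgroup_dvd_card I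
  rw [hj, DihedralGroup.nat_card] at hdvd
  have hI2 : Nat.card ↥I = 2 := by
    rw [hj]
    rcases j with _ | _ | j
    · exact absurd ((Subgroup.eq_bot_iff_card _).2 (by rw [hj, pow_zero])) hIne
    · norm_num
    · exfalso
      have h4 : 2 * 2 ∣ 2 * r := (dvd_trans (pow_dvd_pow 2 (by omega : 2 ≤ j + 1 + 1)) hdvd : 2 ^ 2 ∣ 2 * r)
      exact hr2 ((Nat.prime_dvd_prime_iff_eq Nat.prime_two hr).1 (Nat.dvd_of_mul_dvd_mul_left two_pos h4)).symm
  obtain ⟨u, u', hu, hu', hgen, hI⟩ := dihedral_gen h φ hφ hI2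
  refine unique_card_two hu hu' hgen ?_ I hI
  -- elements of even order square to one
  rcases Nat.even_or_odd (orderOf (u * u')) with he | ho
  swap
  · exact ho
  exfalso
  have hsq : (u * u') * (u * u') = 1 := by
    generalize hg : u * u' = g at he ⊢
    cases g with
    | r i =>
      have h1 : orderOf (DihedralGroup.r i) ∣ r := by
        rw [DihedralGroup.orderOf_r]
        exact ⟨Nat.gcd r i.val, (Nat.div_mul_cancel (Nat.gcd_dvd_left _ _)).symm⟩
      exact absurd ((Nat.prime_dvd_prime_iff_eq Nat.prime_two hr).1 ((even_iff_two_dvd.1 he).trans h1)).symm hr2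
    | sr i => simp [DihedralGroup.sr_mul_sr]
  -- so the two generators commute
  have hcomm : u * u' = u' * u := by
    calc u * u' = (u * u')⁻¹ := (inv_eq_of_mul_eq_one_right hsq).symm
      _ = u' * u := by rw [mul_inv_rev, inv_eq_of_mul_eq_one_right hu, inv_eq_of_mul_eq_one_right hu']
  obtain ⟨a, b, hab⟩ := dihedral_noncomm hr hr2
  apply hab
  have hall : ∀ x : DihedralGroup r, x ∈ closure ({u, u'} : Set (DihedralGroup r)) := fun x => hgen ▸ mem_top x
  have hc : closure ({u, u'} : Set (DihedralGroup r)) ≤ centralizer ({u, u'} : Set (DihedralGroup r)) := by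
    rw [closure_le]
    rintro x hx y hy
    rcases hx with rfl | rfl <;> rcases hy with rfl | rfl
    · rfl
    · exact hcomm.symm
    · exact hcomm
    · rfl
  have hc2 : closure ({u, u'} : Set (DihedralGroup r)) ≤
      centralizer ((closure ({u, u'} : Set (DihedralGroup r)) : Subgroup _) : Set (DihedralGroup r)) := by
    rw [centralizer_closure]; exact hc
  exact (mem_centralizer_iff.1 (hc2 (hall a)) b (hall b)).symm

theorem dihedral_not_le {r : ℕ} {Y L : Subgroup G} (hN : L ⊓ normalizer (Y : Set G) < L)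
    (hmax : ∀ X : Subgroup G, Y ≤ X → X < L → X ≤ L ⊓ normalizer (Y : Set G)) (hle : Y ≤ pCoreOf p L)
    (hr : r.Prime) (hr2 : r ≠ 2) (e : ↥L ⧸ pCore p ↥L ≃* DihedralGroup r) : False := by
  obtain ⟨x, y, hxy⟩ := dihedral_noncomm hr hr2
  set φ := e.toMonoidHom.comp (QuotientGroup.mk' (pCore p ↥L))
  have hsurj : Function.Surjective φ := e.surjective.comp (QuotientGroup.mk'_surjective _)
  refine hN.not_ge fun l hl => ?_
  set X := pCoreOf p L ⊔ zpowers l
  have hXL : X ≤ L := sup_le A_le (zpowers_le.2 hl)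
  rcases hXL.eq_or_lt with heq | hlt
  · exfalso
    apply hxy
    have hc : ∀ d, d ∈ zpowers (φ ⟨l, hl⟩) := by
      intro d
      obtain ⟨d', rfl⟩ := hsurj d
      have hle' : X ≤ ((zpowers (φ ⟨l, hl⟩)).comap φ).map L.subtype := by
        refine sup_le (fun w hw => ⟨⟨w, A_le hw⟩, ?_, rfl⟩) (zpowers_le.2 ⟨⟨l, hl⟩, mem_zpowers _, rfl⟩)
        obtain ⟨w', hw', hww⟩ := hw
        show φ _ ∈ zpowers _
        rw [show (⟨w, _⟩ : ↥L) = w' from Subtype.ext hww.symm,
          show φ w' = 1 by simp [φ, (QuotientGroup.eq_one_iff w').2 hw']]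
        exact one_mem _
      have hd : (d' : G) ∈ X := by rw [heq]; exact d'.2
      obtain ⟨d'', hd'', he⟩ := hle' hd
      rw [show d' = d'' from Subtype.ext he.symm]
      exact hd''
    obtain ⟨i, hi⟩ := hc x
    obtain ⟨j, hj⟩ := hc y
    rw [← hi, ← hj]
    exact zpow_mul_comm _ i j
  · exact hmax X (hle.trans le_sup_left) hlt (mem_sup_right (mem_zpowers l))

theorem normal_unique {X : Type*} [Group X] (h : Conf p Y L) (hexp : ∀ y ∈ Y, y ^ p = 1) (φ : ↥L →* X)
    (hφ : Function.Surjective φ) (hker : φ.ker = pCore p ↥L) (hu : UniqueIn p ((Y.subgroupOf L).map φ))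
    (NL : Subgroup G) (hNL : NL = L ⊓ normalizer (Y : Set G)) [hn : ((pCoreOf p L).subgroupOf NL).Normal] :
    let Ybar : Subgroup (↥NL ⧸ (pCoreOf p L).subgroupOf NL) :=
      (Y.subgroupOf NL).map (QuotientGroup.mk' ((pCoreOf p L).subgroupOf NL))
    Ybar ≠ ⊥ ∧ Ybar.Normal ∧ IsElementaryAbelian p Ybar ∧
      ∀ (V : Subgroup (↥NL ⧸ (pCoreOf p L).subgroupOf NL)), V.Normal → IsElementaryAbelian p V → V ≠ ⊥ → V = Ybar := by
  intro Ybar
  have hNLL : NL ≤ L := hNL ▸ inf_le_left
  have hNY : NL ≤ normalizer (Y : Set G) := hNL ▸ inf_le_right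
  have hYN : Y ≤ NL := hNL ▸ le_inf h.hYL le_normalizer
  set I := (Y.subgroupOf L).map φ
  set θ : ↥NL →* X := φ.comp (Subgroup.inclusion hNLL)
  have hθker : θ.ker = (pCoreOf p L).subgroupOf NL := by
    ext x
    rw [MonoidHom.mem_ker, mem_subgroupOf]
    show φ _ = 1 ↔ _
    rw [← MonoidHom.mem_ker, hker]
    exact ⟨fun hx => ⟨_, hx, rfl⟩, fun ⟨b, hb, hbx⟩ => (show b = Subgroup.inclusion hNLL x from Subtype.ext hbx) ▸ hb⟩
  set f : ↥NL ⧸ (pCoreOf p L).subgroupOf NL →* X := QuotientGroup.lift _ θ hθker.ge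
  have hf : Function.Injective f := by
    rw [← MonoidHom.ker_eq_bot_iff, eq_bot_iff]
    intro z hz
    obtain ⟨z, rfl⟩ := QuotientGroup.mk'_surjective _ z
    rw [mem_bot]
    refine (QuotientGroup.eq_one_iff z).2 ?_
    rw [← hθker]
    exact hz
  have hYbar : Ybar.map f = I := by
    ext x
    constructor
    · rintro ⟨_, ⟨y, hy, rfl⟩, rfl⟩
      exact ⟨Subgroup.inclusion hNLL y, hy, rfl⟩
    · rintro ⟨y, hy, rfl⟩
      exact ⟨_, ⟨⟨y, hYN hy⟩, hy, rfl⟩, rfl⟩
  have hrange : ∀ x, x ∈ f.range → x ∈ normalizer (I : Set X) := by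
    rintro _ ⟨z, rfl⟩
    obtain ⟨z, rfl⟩ := QuotientGroup.mk'_surjective _ z
    have key : ∀ w : ↥NL, ∀ t ∈ I, θ w * t * (θ w)⁻¹ ∈ I := by
      rintro w _ ⟨y, hy, rfl⟩
      refine ⟨Subgroup.inclusion hNLL w * y * (Subgroup.inclusion hNLL w)⁻¹, ?_, by simp [θ]⟩
      exact (mem_normalizer_iff.1 (hNY w.2) (y : G)).1 hy
    refine mem_normalizer_iff.2 fun t => ⟨key z t, fun ht => ?_⟩
    have := key z⁻¹ _ ht
    simpa [map_inv, mul_assoc, f] using this
  have hsurj : ∀ x ∈ normalizer (I : Set X), x ∈ f.range := by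
    intro x hx
    obtain ⟨l, rfl⟩ := hφ x
    set N := L ⊓ normalizer ((Y ⊔ pCoreOf p L : Subgroup G) : Set G)
    have hlN : (l : G) ∈ N := by
      refine ⟨l.2, mem_normalizer_iff.2 fun y => ?_⟩
      have key : ∀ w : ↥L, φ w ∈ normalizer (I : Set X) → ∀ y ∈ Y ⊔ pCoreOf p L,
          (w : G) * y * (w : G)⁻¹ ∈ Y ⊔ pCoreOf p L := by
        intro w hw y hy
        have hle : Y ⊔ pCoreOf p L ≤ (Y ⊔ pCoreOf p L).comap (MulAut.conj (w : G)).toMonoidHom := by
          refine sup_le (fun y hy => ?_) (fun a ha => mem_sup_right (A_conj w.2 ha))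
          obtain ⟨y', hy', e⟩ := (mem_normalizer_iff.1 hw (φ ⟨y, h.hYL hy⟩)).1 ⟨_, hy, rfl⟩
          rw [← map_inv, ← map_mul, ← map_mul, MonoidHom.eq_iff, hker] at e
          show (w : G) * y * (w : G)⁻¹ ∈ Y ⊔ pCoreOf p L
          have h2 : ((w * ⟨y, h.hYL hy⟩ * w⁻¹)⁻¹ * y' : ↥L) ∈ pCore p ↥L := e
          have h3 : ((w : G) * y * (w : G)⁻¹)⁻¹ * (y' : G) ∈ pCoreOf p L := ⟨_, h2, rfl⟩
          have := mul_mem (mem_sup_left (T := pCoreOf p L) (show (y' : G) ∈ Y from hy')) (inv_mem (mem_sup_right (S := Y) h3))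
          simpa [mul_assoc] using this
        exact hle hy
      refine ⟨key l hx y, fun hy => ?_⟩
      have := key l⁻¹ (by rw [map_inv]; exact inv_mem hx) _ hy
      simpa [mul_assoc] using this
    have hYA : Y ⊔ pCoreOf p L ≤ L := sup_le h.hYL A_le
    have hN : N < L := by
      refine inf_le_left.lt_of_ne fun e => h.hne ?_
      have hp' : IsPGroup p ↥(Y ⊔ pCoreOf p L) := by
        have h1 := IsPGroup.to_sup_of_normal_left' (H := Y) (K := pCoreOf p L) h.pgrp
          ((Solv.isPGroup_pCore p).map L.subtype) h.hAY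
        exact h1
      have hnorm : L ≤ normalizer ((Y ⊔ pCoreOf p L : Subgroup G) : Set G) := fun x hx => (e.ge hx).2
      exact fun y hy => ⟨⟨y, h.hYL hy⟩, Solv.le_pCore (N := (Y ⊔ pCoreOf p L).subgroupOf L)
        ((normal_subgroupOf_iff_le_normalizer hYA).2 hnorm) hp'.comap_subtype (mem_sup_left hy), rfl⟩
    have hYN' : Y ≤ N := le_inf h.hYL (le_sup_left.trans le_normalizer)
    have hlNL : (l : G) ∈ NL := hNL ▸ h.hmax N hYN' hN hlN
    exact ⟨QuotientGroup.mk' _ ⟨l, hlNL⟩, rfl⟩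
  have hne : Ybar ≠ ⊥ := fun e => (image_facts h φ hker).2.2 (by
    show I = ⊥
    rw [← hYbar, e, Subgroup.map_bot])
  refine ⟨hne, ?_, elem_map (elem_mk (fun x hx y hy => Subtype.ext (h.comm _ hx _ hy))
    (fun x hx => Subtype.ext (hexp _ hx))) _, fun V hVn hVe hV1 => ?_⟩
  · exact Subgroup.Normal.map ((normal_subgroupOf_iff_le_normalizer hYN).2 hNY) _ (QuotientGroup.mk'_surjective _)
  · apply map_injective hf
    rw [hYbar]
    refine hu _ (fun e => hV1 ((map_eq_bot_iff_of_injective _ hf).1 e)) (elem_map hVe f) ?_ ?_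
    · rintro _ ⟨v, -, rfl⟩
      exact hrange _ ⟨v, rfl⟩
    · intro x hx
      obtain ⟨z, rfl⟩ := hsurj x hx
      refine mem_normalizer_iff.2 fun t => ⟨?_, fun ht => ?_⟩
      · rintro ⟨v, hv, rfl⟩
        exact ⟨z * v * z⁻¹, hVn.conj_mem v hv z, by simp⟩
      · obtain ⟨v, hv, e⟩ := ht
        refine ⟨z⁻¹ * v * z⁻¹⁻¹, hVn.conj_mem v hv _, ?_⟩
        simp [e, mul_assoc]

/-- S2861. -/
theorem frakL_normal (M L : Subgroup G) (hL : IsInFrakL p M L) (NL : Subgroup G)
    (hNL : NL = L ⊓ normalizer (largestPReducedOf p M : Set G)) [hn : ((pCoreOf p L).subgroupOf NL).Normal] :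
    let Ybar : Subgroup (↥NL ⧸ (pCoreOf p L).subgroupOf NL) :=
      ((largestPReducedOf p M).subgroupOf NL).map (QuotientGroup.mk' ((pCoreOf p L).subgroupOf NL))
    Ybar ≠ ⊥ ∧ Ybar.Normal ∧ IsElementaryAbelian p Ybar ∧
      ∀ (V : Subgroup (↥NL ⧸ (pCoreOf p L).subgroupOf NL)), V.Normal → IsElementaryAbelian p V → V ≠ ⊥ → V = Ybar := by
  obtain ⟨hYL, hcl, hAY, -, -, ⟨hN, hmax⟩, hcases⟩ := hL
  have hred := PReduced.red_largest (p := p) M
  set Y := largestPReducedOf p M
  have hne : ¬ Y ≤ pCoreOf p L := by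
    intro hle
    have hrel : (Y ⊓ pCoreOf p L).relIndex Y = 1 := by
      rw [inf_eq_left.2 hle, relIndex_self]
    rcases hcases with ⟨F, _, _, hq, -⟩ | ⟨-, F, _, _, m, -, hq, -⟩ | ⟨-, r, hr, hr2, ⟨e⟩⟩
    · rw [hrel] at hq
      exact absurd hq (Fintype.one_lt_card (α := F)).ne'
    · rw [hrel] at hq
      exact absurd hq (Fintype.one_lt_card (α := F)).ne'
    · exact dihedral_not_le hN hmax hle hr hr2 e
  have h : Conf p Y L := ⟨hYL, hcl, hAY, hred.comm, hred.isPGroup, hmax, hne⟩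
  rcases hcases with ⟨F, _, _, hq, ⟨e⟩⟩ | ⟨hp2, F, _, _, m, hF, hq, ⟨e⟩⟩ | ⟨hp2, r, hr, hr2, ⟨e⟩⟩
  · exact normal_unique h hred.exp _ (e.surjective.comp (QuotientGroup.mk'_surjective _)) (ker_aux e)
      (unique_sl2_case h hred.exp _ (ker_aux e) hq) NL hNL
  · subst hp2
    haveI := Cfsg.Agent.SzB.charTwo_of_card hF
    set φ : ↥L →* Cfsg.Agent.SzC.SG hF := e.toMonoidHom.comp (QuotientGroup.mk' (pCore 2 ↥L))
    have hker : φ.ker = pCore 2 ↥L := ker_aux e
    have hsurj : Function.Surjective φ := e.surjective.comp (QuotientGroup.mk'_surjective _)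
    obtain ⟨hc, -, -⟩ := image_facts h φ hker
    rw [← hq] at hc
    rcases Nat.eq_zero_or_pos m with hm | hm
    · obtain ⟨u, u', hu, hu', hgen, -⟩ := dihedral_gen h φ hsurj (by rw [hc, hF, hm]; norm_num)
      exact (sz_two_false hF hm hu hu' hgen).elim
    · refine normal_unique h hred.exp φ hsurj hker (unique_sz hF _ ?_ hc) NL hNL
      exact elem_map (elem_mk (fun x hx y hy => Subtype.ext (h.comm _ hx _ hy))
        (fun x hx => Subtype.ext (hred.exp _ hx))) _
  · subst hp2
    exact normal_unique h hred.exp _ (e.surjective.comp (QuotientGroup.mk'_surjective _)) (ker_aux e)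
      (unique_dihedral hr hr2 h _ (e.surjective.comp (QuotientGroup.mk'_surjective _)) (ker_aux e)) NL hNL

end Cfsg.Lib.FrakLFixed
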