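import Mathlib
import Cfsg.Prelude.Def_IsolatedElements
import Cfsg.Agent.Lib.Solv.Cores
import Cfsg.Agent.Lib.Solv.Coprime
import Cfsg.Agent.Lib.Solv.SchurZassenhaus
import Cfsg.Agent.Lib.PLocal.FStarAction

/-!
Sylow subgroups normalized by an isolated element in a minimal counterexample to `Z*_p`.
-/

set_option autoImplicit false
set_option linter.style.haveILetI false
set_option linter.unusedSectionVars false

namespace Cfsg.Lib.IsolatedSyl

open Subgroup Cfsg
open scoped Pointwise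

variable {G : Type*} [Group G] [Finite G] {p : ℕ} [hp : Fact p.Prime]

/-- In a `p`-group an isolated element is the only one of its conjugates. -/
theorem eq_of_mem {x : G} (hiso : IsIsolated x) {P : Subgroup G} (hP : IsPGroup p ↥P) (hx : x ∈ P)
    {g : G} (hg : g * x * g⁻¹ ∈ P) : g * x * g⁻¹ = x := by
  refine hiso g ?_
  -- `x` is central in `P`
  set C := P ⊓ centralizer ({x} : Set G) with hC
  have hle : P ≤ C := by
    have hxC : x ∈ C := ⟨hx, mem_centralizer_singleton_iff.2 rfl⟩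
    by_contra hne
    have hne' : C.subgroupOf P ≠ ⊤ := fun h => hne (subgroupOf_eq_top.1 h)
    obtain ⟨n, hnN, hnC⟩ := SetLike.exists_of_lt
      (@Group.normalizerCondition_of_isNilpotent _ _ hP.isNilpotent _ (lt_top_iff_ne_top.2 hne'))
    have h1 : (⟨x, hx⟩ : ↥P) ∈ C.subgroupOf P := hxC
    have h2 := ((mem_normalizer_iff.1 hnN) ⟨x, hx⟩).1 h1
    have h3 : Commute x ((n : G) * x * (n : G)⁻¹) := by
      have := mem_centralizer_singleton_iff.1 h2.2
      exact (this.symm : x * ((n : G) * x * (n : G)⁻¹) = _)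
    have h4 := hiso (n : G) h3
    refine hnC ⟨n.2, mem_centralizer_singleton_iff.2 ?_⟩
    calc (n : G) * x = (n : G) * x * (n : G)⁻¹ * n := by group
      _ = x * n := by rw [h4]
  exact (mem_centralizer_singleton_iff.1 (hle hg).2).symm

/-- An element central modulo `O_{p'}` normalizes a Sylow `q`-subgroup. -/
theorem exists_invariant {y : G} (hy : orderOf y = p) (hz : InZStar p y) (q : ℕ) [hq : Fact q.Prime] :
    ∃ R : Sylow q G, y ∈ normalizer ((R : Subgroup G) : Set G) := by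
  have hyp : IsPGroup p ↥(zpowers y) := IsPGroup.of_card (n := 1) (by rw [Nat.card_zpowers, hy, pow_one])
  by_cases hqp : q = p
  · subst hqp
    obtain ⟨R, hR⟩ := hyp.exists_le_sylow
    exact ⟨R, le_normalizer (hR (mem_zpowers y))⟩
  set K := pPrimeCore p G with hK
  haveI : K.Normal := inferInstanceAs (pPrimeCore p G).Normal
  obtain ⟨R₀⟩ : Nonempty (Sylow q G) := inferInstance
  set T := K ⊔ (R₀ : Subgroup G) with hT
  have hTn : zpowers y ≤ normalizer (T : Set G) := by
    refine zpowers_le.2 (mem_normalizer_iff.2 fun t => ?_)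
    have key : ∀ g : G, g⁻¹ * (y * g * y⁻¹) ∈ T := fun g => by
      refine mem_sup_left ?_
      have h := hz g⁻¹
      have h2 := (inferInstance : K.Normal).conj_mem _ h 1
      rw [show g⁻¹ * (y * g * y⁻¹) = g⁻¹ * y * g⁻¹⁻¹ * y⁻¹ by group]
      exact h
    constructor
    · intro ht
      have := mul_mem ht (key t)
      rwa [mul_inv_cancel_left] at this
    · intro ht
      have := mul_mem ht (inv_mem (key t))
      rwa [mul_inv_rev, inv_inv, mul_inv_cancel_left] at this
  have hTp : (Nat.card T).Coprime p := by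
    have h : Nat.card ↥T ∣ Nat.card (R₀ : Subgroup G) * Nat.card K := by
      rw [hT, sup_comm]; exact Solv.card_sup_dvd_mul _ K
    refine Nat.Coprime.coprime_dvd_left h (Nat.Coprime.mul_left ?_ (Solv.coprime_pPrimeCore p))
    obtain ⟨n, hn⟩ := IsPGroup.iff_card.1 R₀.isPGroup'
    rw [hn]
    exact Nat.Coprime.pow_left n ((Nat.coprime_primes hq.out hp.out).2 hqp)
  obtain ⟨Q, hQ⟩ := Solv.exists_invariant_sylow (zpowers y) T hTn
    (FStarAction.coprime_card_of_isPGroup hyp hTp) (Or.inl (FStarAction.solvable_of_isPGroup hyp)) q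
  have hcard : Nat.card ↥((Q : Subgroup ↥T).map T.subtype) = Nat.card (R₀ : Subgroup G) := by
    rw [card_map_of_injective T.subtype_injective]
    refine le_antisymm ?_ ?_
    · obtain ⟨R₁, hR₁⟩ := (Q.isPGroup'.map T.subtype).exists_le_sylow
      have := card_le_of_le hR₁
      rw [card_map_of_injective T.subtype_injective, R₁.card_eq_multiplicity, ← R₀.card_eq_multiplicity] at this
      exact this
    · have h1 : IsPGroup q ↥((R₀ : Subgroup G).subgroupOf T) := R₀.isPGroup'.comap_subtype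
      obtain ⟨Q₁, hQ₁⟩ := h1.exists_le_sylow
      have := card_le_of_le hQ₁
      rw [Nat.card_congr (subgroupOfEquivOfLe (le_sup_right : (R₀ : Subgroup G) ≤ T)).toEquiv,
        Q₁.card_eq_multiplicity, ← Q.card_eq_multiplicity] at this
      exact this
  refine ⟨Sylow.ofCard ((Q : Subgroup ↥T).map T.subtype) (by rw [hcard]; exact R₀.card_eq_multiplicity), ?_⟩
  rw [Sylow.coe_ofCard]
  exact hQ (mem_zpowers y)

variable (x : G) (hx : orderOf x = p) (hiso : IsIsolated x) (hnz : ¬ InZStar p x)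
  (hmin : ∀ (H : Subgroup G) (hxH : x ∈ H), H ≠ ⊤ → InZStar p (⟨x, hxH⟩ : ↥H))
  (hquot : ∀ (N : Subgroup G) [N.Normal], N ≠ ⊥ → InZStar p (QuotientGroup.mk x : G ⧸ N))

include hx hiso hnz hmin hquot in
/-- S2975, first part. -/
theorem maximal_is_sylow (q : ℕ) [hq : Fact q.Prime] (Q : Subgroup G) (hQ : IsPGroup q ↥Q)
    (hxQ : x ∈ normalizer (Q : Set G))
    (hmax : ∀ R : Subgroup G, IsPGroup q ↥R → x ∈ normalizer (R : Set G) → Q ≤ R → R = Q) :
    Q = ⊥ ∨ ∃ S : Sylow q G, (S : Subgroup G) = Q := by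
  have hxp : IsPGroup p ↥(zpowers x) := IsPGroup.of_card (n := 1) (by rw [Nat.card_zpowers, hx, pow_one])
  by_cases hqp : q = p
  · subst hqp
    right
    have hle : zpowers x ≤ normalizer (Q : Set G) := zpowers_le.2 hxQ
    obtain ⟨S, hS⟩ := (IsPGroup.to_sup_of_normal_left' (H := Q) (K := zpowers x) hQ hxp hle).exists_le_sylow
    exact ⟨S, hmax _ S.isPGroup' (le_normalizer (hS (mem_sup_right (mem_zpowers x)))) (le_sup_left.trans hS)⟩
  rw [or_iff_not_imp_left]
  intro hQ1
  have hNtop : normalizer (Q : Set G) ≠ ⊤ := by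
    intro h
    haveI : Q.Normal := normalizer_eq_top_iff.1 h
    refine hnz fun g => ?_
    have h1 := hquot Q hQ1 (QuotientGroup.mk g)
    set f := QuotientGroup.mk' Q with hf
    have hcop : (Nat.card Q).Coprime p := by
      obtain ⟨n, hn⟩ := IsPGroup.iff_card.1 hQ
      rw [hn]
      exact Nat.Coprime.pow_left n ((Nat.coprime_primes hq.out hp.out).2 hqp)
    have hle : (pPrimeCore p (G ⧸ Q)).comap f ≤ pPrimeCore p G := by
      haveI : (pPrimeCore p (G ⧸ Q)).Normal := inferInstance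
      refine Solv.le_pPrimeCore inferInstance ?_
      have hr : Q ≤ (pPrimeCore p (G ⧸ Q)).comap f := fun a ha => by
        rw [mem_comap, hf, QuotientGroup.mk'_apply, (QuotientGroup.eq_one_iff a).2 ha]
        exact one_mem _
      have h2 := relIndex_ker (K := (pPrimeCore p (G ⧸ Q)).comap f) f
      rw [map_comap_eq_self_of_surjective (QuotientGroup.mk'_surjective Q), QuotientGroup.ker_mk'] at h2
      have h3 := relIndex_mul_relIndex ⊥ Q ((pPrimeCore p (G ⧸ Q)).comap f) bot_le hr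
      rw [relIndex_bot_left, relIndex_bot_left, h2] at h3
      rw [← h3]
      exact Nat.Coprime.mul_left hcop (Solv.coprime_pPrimeCore p)
    exact hle h1
  set N := normalizer (Q : Set G) with hN
  set xN : ↥N := ⟨x, hxQ⟩
  obtain ⟨R, hR⟩ := exists_invariant (G := ↥N) (p := p) (y := xN) (by rw [Subgroup.orderOf_mk]; exact hx)
    (hmin N hxQ hNtop) q
  have hxR : x ∈ normalizer (((R : Subgroup ↥N).map N.subtype : Subgroup G) : Set G) :=
    le_normalizer_map N.subtype ⟨xN, hR, rfl⟩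
  haveI : (Q.subgroupOf N).Normal := normal_subgroupOf_of_le_normalizer le_rfl
  have hQN : Q ≤ N := le_normalizer
  have hQR : Q ≤ (R : Subgroup ↥N).map N.subtype := fun a ha =>
    ⟨⟨a, hQN ha⟩, (show IsPGroup q ↥(Q.subgroupOf N) from hQ.comap_subtype).le_sylow_of_normal R ha, rfl⟩
  have hRQ : (R : Subgroup ↥N).map N.subtype = Q := hmax _ (R.isPGroup'.map _) hxR hQR
  obtain ⟨P, hP⟩ := hQ.exists_le_sylow
  refine ⟨P, le_antisymm ?_ hP⟩
  by_contra hle
  have hne : Q.subgroupOf (P : Subgroup G) ≠ ⊤ := fun h => hle (subgroupOf_eq_top.1 h)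
  obtain ⟨a, haN, haQ⟩ := SetLike.exists_of_lt
    (@Group.normalizerCondition_of_isNilpotent _ _ P.isPGroup'.isNilpotent _ (lt_top_iff_ne_top.2 hne))
  have han : (a : G) ∈ N := by
    have h1 := le_normalizer_map (H := Q.subgroupOf (P : Subgroup G)) (P : Subgroup G).subtype ⟨a, haN, rfl⟩
    rwa [subgroupOf_map_subtype, inf_eq_left.2 hP] at h1
  have hUp : IsPGroup q ↥((Q ⊔ zpowers (a : G)).subgroupOf N) :=
    (P.isPGroup'.to_le (sup_le hP (zpowers_le.2 a.2))).comap_subtype
  obtain ⟨R', hR'⟩ := hUp.exists_le_sylow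
  have h1 : Nat.card ↥(Q ⊔ zpowers (a : G)) ≤ Nat.card Q := by
    rw [← Nat.card_congr (subgroupOfEquivOfLe (sup_le hQN (zpowers_le.2 han))).toEquiv]
    refine (card_le_of_le hR').trans ?_
    rw [R'.card_eq_multiplicity, ← R.card_eq_multiplicity, ← hRQ, card_map_of_injective N.subtype_injective]
  have h2 : Q ⊔ zpowers (a : G) = Q := (eq_of_le_of_card_ge le_sup_left h1).symm
  exact haQ (show (a : G) ∈ Q from h2 ▸ mem_sup_right (mem_zpowers _))

include hx hiso in
/-- S2975, second part. -/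
theorem transitive (q : ℕ) [Fact q.Prime] (S₁ S₂ : Sylow q G)
    (h1 : x ∈ normalizer ((S₁ : Subgroup G) : Set G)) (h2 : x ∈ normalizer ((S₂ : Subgroup G) : Set G)) :
    ∃ c ∈ centralizer ({x} : Set G), (S₁ : Subgroup G).map (MulAut.conj c).toMonoidHom = (S₂ : Subgroup G) := by
  obtain ⟨g, rfl⟩ := MulAction.exists_smul_eq G S₁ S₂
  set N := normalizer ((S₁ : Subgroup G) : Set G) with hN
  have hy : g⁻¹ * x * g ∈ N := by
    refine Sylow.smul_eq_iff_mem_normalizer.1 ?_
    rw [mul_smul, mul_smul, Sylow.smul_eq_iff_mem_normalizer.2 h2, inv_smul_smul]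
  have hxp : ∀ z : ↥N, orderOf z = p → IsPGroup p ↥(zpowers z) := fun z hz =>
    IsPGroup.of_card (n := 1) (by rw [Nat.card_zpowers, hz, pow_one])
  obtain ⟨T, hT⟩ := (hxp ⟨x, h1⟩ (by rw [Subgroup.orderOf_mk]; exact hx)).exists_le_sylow
  obtain ⟨U, hU⟩ := (hxp ⟨_, hy⟩ (by
    rw [Subgroup.orderOf_mk, show g⁻¹ * x * g = MulAut.conj g⁻¹ x by simp, MulEquiv.orderOf_eq, hx])).exists_le_sylow
  obtain ⟨h, hh⟩ := MulAction.exists_smul_eq ↥N T U
  have hm : (⟨_, hy⟩ : ↥N) ∈ ((h • T : Sylow p ↥N) : Subgroup ↥N) := hh ▸ hU (mem_zpowers _)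
  rw [Sylow.coe_subgroup_smul] at hm
  obtain ⟨t, ht, e⟩ := hm
  have e' : (h : G) * (t : G) * (h : G)⁻¹ = g⁻¹ * x * g := congrArg Subtype.val e
  have htx : (t : G) = x := by
    have h3 := eq_of_mem hiso (T.isPGroup'.map N.subtype) ⟨⟨x, h1⟩, hT (mem_zpowers _), rfl⟩
      (g := (h : G)⁻¹ * g⁻¹) (by
        refine ⟨t, ht, ?_⟩
        show (t : G) = _
        calc (t : G) = (h : G)⁻¹ * ((h : G) * t * (h : G)⁻¹) * h := by group
          _ = _ := by rw [e']; group)
    calc (t : G) = (h : G)⁻¹ * ((h : G) * t * (h : G)⁻¹) * h := by group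
      _ = (h : G)⁻¹ * g⁻¹ * x * ((h : G)⁻¹ * g⁻¹)⁻¹ := by rw [e']; group
      _ = x := h3
  rw [htx] at e'
  refine ⟨g * h, mem_centralizer_singleton_iff.2 ?_, ?_⟩
  · calc g * h * x = g * ((h : G) * x * (h : G)⁻¹) * h := by group
      _ = x * (g * h) := by rw [e']; group
  · show (S₁ : Subgroup G).map (MulAut.conj (g * h)).toMonoidHom = _
    have h4 : (g * (h : G)) • S₁ = g • S₁ := by
      rw [mul_smul, Sylow.smul_eq_iff_mem_normalizer.2 h.2]
    rw [← h4, Sylow.coe_subgroup_smul]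
    rfl

end Cfsg.Lib.IsolatedSyl
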