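import Mathlib
import Cfsg.Agent.Lib.PLocal.IsolatedSylow
import Cfsg.Agent.Lib.Comp.PComponent
import Cfsg.Agent.Lib.Solv.Subnormal

/-!
Structure of a minimal counterexample to the `Z*_p` statement.
-/

set_option autoImplicit false
set_option linter.style.haveILetI false
set_option linter.unusedSectionVars false

namespace Cfsg.Lib.IsolatedMin

open Subgroup Cfsg
open Cfsg.Lib.IsolatedSyl (eq_of_mem)
open scoped Pointwise commutatorElement

variable {G : Type*} [Group G] [Finite G] {p : ℕ} [hp : Fact p.Prime]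

theorem comap_core_le (N : Subgroup G) [N.Normal] (hN : (Nat.card N).Coprime p) :
    (pPrimeCore p (G ⧸ N)).comap (QuotientGroup.mk' N) ≤ pPrimeCore p G := by
  set f := QuotientGroup.mk' N with hf
  haveI : (pPrimeCore p (G ⧸ N)).Normal := inferInstance
  refine Solv.le_pPrimeCore inferInstance ?_
  have hr : N ≤ (pPrimeCore p (G ⧸ N)).comap f := fun a ha => by
    rw [mem_comap, hf, QuotientGroup.mk'_apply, (QuotientGroup.eq_one_iff a).2 ha]
    exact one_mem _
  have h2 := relIndex_ker (K := (pPrimeCore p (G ⧸ N)).comap f) f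
  rw [map_comap_eq_self_of_surjective (QuotientGroup.mk'_surjective N), QuotientGroup.ker_mk'] at h2
  have h3 := relIndex_mul_relIndex ⊥ N ((pPrimeCore p (G ⧸ N)).comap f) bot_le hr
  rw [relIndex_bot_left, relIndex_bot_left, h2] at h3
  rw [← h3]
  exact Nat.Coprime.mul_left hN (Solv.coprime_pPrimeCore p)

theorem commutator_simple (x : G) (hx : orderOf x = p) (hiso : IsIsolated x) (hnz : ¬ InZStar p x)
    (hmin : ∀ (H : Subgroup G) (hxH : x ∈ H), H ≠ ⊤ → InZStar p (⟨x, hxH⟩ : ↥H))
    (hquot : ∀ (N : Subgroup G) [N.Normal], N ≠ ⊥ → InZStar p (QuotientGroup.mk x : G ⧸ N)) :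
    IsSimpleGroup ↥(commutator G) ∧ ¬ IsMulCommutative ↥(commutator G) ∧
      commutator G ⊔ zpowers x = ⊤ := by
  classical
  have hcentral : ¬ ∀ g : G, g * x = x * g := fun h => hnz fun g => by
    rw [h g, mul_inv_cancel_right, mul_inv_cancel]; exact one_mem _
  have hO : pPrimeCore p G = ⊥ := by
    by_contra h
    haveI : (pPrimeCore p G).Normal := inferInstance
    exact hnz fun g => comap_core_le (pPrimeCore p G) (Solv.coprime_pPrimeCore p)
      (hquot _ h (QuotientGroup.mk g))
  -- normal subgroups which together with `x` do not generate `G` are centralized by `x`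
  have hcent : ∀ N : Subgroup G, N.Normal → N ⊔ zpowers x ≠ ⊤ → ∀ n ∈ N, n * x = x * n := by
    intro N hN hne n hn
    haveI := hN
    set H := N ⊔ zpowers x with hH
    have hxH : x ∈ H := mem_sup_right (mem_zpowers x)
    have h1 := hmin H hxH hne ⟨n, mem_sup_left hn⟩
    set C := (pPrimeCore p ↥H ⊓ N.subgroupOf H).map H.subtype with hC
    have hCsn : C.IsSubnormal := by
      have h2 : ((pPrimeCore p ↥H ⊓ N.subgroupOf H).map H.subtype).subgroupOf N |>.Normal := by
        refine normal_subgroupOf_of_le_normalizer ?_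
        refine le_trans ?_ (le_normalizer_map H.subtype)
        rw [normalizer_eq_top, ← MonoidHom.range_eq_map, range_subtype]
        exact le_sup_left
      exact Subgroup.IsSubnormal.trans (fun y hy => by obtain ⟨z, hz, rfl⟩ := hy; exact hz.2) h2.isSubnormal hN.isSubnormal
    have hCp : (Nat.card C).Coprime p := by
      rw [hC, card_map_of_injective H.subtype_injective]
      exact (Solv.coprime_pPrimeCore p).coprime_dvd_left (card_dvd_of_le inf_le_left)
    have h3 : n * x * n⁻¹ * x⁻¹ ∈ C := by
      refine ⟨_, ⟨h1, ?_⟩, rfl⟩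
      show n * x * n⁻¹ * x⁻¹ ∈ N
      rw [show n * x * n⁻¹ * x⁻¹ = n * (x * n⁻¹ * x⁻¹) by group]
      exact mul_mem hn (hN.conj_mem _ (inv_mem hn) x)
    have h4 := (Cfsg.Lib.Comp.le_pPrimeCore_of_subnormal hCsn hCp).trans hO.le h3
    rw [mem_bot, mul_inv_eq_one, mul_inv_eq_iff_eq_mul] at h4
    exact h4
  -- the conjugates of `x` generate `G`
  have hgen : normalClosure ({x} : Set G) = ⊤ := by
    by_contra hR
    set R := normalClosure ({x} : Set G) with hRdef
    have hxR : x ∈ R := subset_normalClosure rfl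
    have h1 := hcent R normalClosure_normal (by
      rw [sup_eq_left.2 (zpowers_le.2 hxR)]; exact hR)
    refine hcentral fun g => ?_
    have h2 : g * x * g⁻¹ ∈ R := (normalClosure_normal (s := ({x} : Set G))).conj_mem x hxR g
    have h3 := hiso g (h1 _ h2).symm
    calc g * x = g * x * g⁻¹ * g := by group
      _ = x * g := by rw [h3]
  have htop : commutator G ⊔ zpowers x = ⊤ := by
    refine top_le_iff.1 (hgen.symm.trans_le ?_)
    haveI : (commutator G ⊔ zpowers x).Normal := by
      refine ⟨fun a ha g => ?_⟩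
      have h1 : ⁅g, a⁆ ∈ commutator G := commutator_mem_commutator (mem_top g) (mem_top a)
      have := mul_mem (mem_sup_left (T := zpowers x) h1) ha
      rwa [_root_.commutatorElement_def, inv_mul_cancel_right] at this
    exact normalClosure_le_normal (Set.singleton_subset_iff.2 (mem_sup_right (mem_zpowers x)))
  have hZ : center G = ⊥ := by
    by_contra hZ
    set K := (pPrimeCore p (G ⧸ center G)).comap (QuotientGroup.mk' (center G)) with hK
    haveI : K.Normal := (inferInstance : (pPrimeCore p (G ⧸ center G)).Normal).comap _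
    -- the `p`-part of `K` is central, the rest is trivial
    obtain ⟨P⟩ : Nonempty (Sylow p ↥K) := inferInstance
    have hPZ : (P : Subgroup ↥K).map K.subtype ≤ center G := by
      intro y hy
      have h1 : IsPGroup p ↥(((P : Subgroup ↥K).map K.subtype).map (QuotientGroup.mk' (center G))) :=
        (P.isPGroup'.map _).map _
      have h2 : ((P : Subgroup ↥K).map K.subtype).map (QuotientGroup.mk' (center G)) ≤ pPrimeCore p (G ⧸ center G) := by
        rintro _ ⟨_, ⟨a, -, rfl⟩, rfl⟩; exact a.2
      have h3 := FStarAction.eq_bot_of_pgroup_coprime h1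
        ((Solv.coprime_pPrimeCore p).coprime_dvd_left (card_dvd_of_le h2))
      rw [Subgroup.map_eq_bot_iff, QuotientGroup.ker_mk'] at h3
      exact h3 hy
    have hPc : normalizer ((P : Subgroup ↥K) : Set ↥K) ≤ centralizer ((P : Subgroup ↥K) : Set ↥K) := by
      intro k _
      rw [mem_centralizer_iff]
      intro a ha
      exact Subtype.ext (mem_center_iff.1 (hPZ ⟨a, ha, rfl⟩) k).symm
    set N := (MonoidHom.transferSylow P hPc).ker with hN
    have hNp : (Nat.card N).Coprime p :=
      (hp.out.coprime_iff_not_dvd.2 (MonoidHom.not_dvd_card_ker_transferSylow P hPc)).symm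
    have hNsn : (N.map K.subtype).IsSubnormal := by
      have h := Subgroup.Normal.isSubnormal (H := N) (hN ▸ MonoidHom.normal_ker _)
      exact Subgroup.IsSubnormal.trans (map_subtype_le N)
        (by rw [subgroupOf, comap_map_eq_self_of_injective K.subtype_injective]; exact h)
        (Subgroup.Normal.isSubnormal inferInstance)
    have hN1 : N = ⊥ := (map_eq_bot_iff_of_injective _ K.subtype_injective).1 (le_bot_iff.1
      ((Cfsg.Lib.Comp.le_pPrimeCore_of_subnormal hNsn
        (by rwa [card_map_of_injective K.subtype_injective])).trans hO.le))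
    have hKZ : K ≤ center G := fun k hk => by
      have h5 : (⟨k, hk⟩ : ↥K) ∈ N ⊔ (P : Subgroup ↥K) :=
        (MonoidHom.ker_transferSylow_isComplement' P hPc).sup_eq_top.symm ▸ mem_top _
      rw [hN1, bot_sup_eq] at h5
      exact hPZ ⟨_, h5, rfl⟩
    refine hcentral fun g => ?_
    have h6 : g * x * g⁻¹ * x⁻¹ ∈ center G := hKZ (hquot _ hZ (QuotientGroup.mk g))
    have h7 : g * x * g⁻¹ = g * x * g⁻¹ * x⁻¹ * x := by group
    have h8 : Commute x (g * x * g⁻¹) := by
      rw [h7]; exact ((show Commute x (g * x * g⁻¹ * x⁻¹) from mem_center_iff.1 h6 x)).mul_right (Commute.refl x)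
    calc g * x = g * x * g⁻¹ * g := by group
      _ = x * g := by rw [hiso g h8]
  -- every nontrivial normal subgroup contains `G'`
  have hmin' : ∀ N : Subgroup G, N.Normal → N ≠ ⊥ → commutator G ≤ N := by
    intro N hN hN1
    haveI := hN
    have hNt : N ⊔ zpowers x = ⊤ := by
      by_contra hne
      refine hN1 (le_bot_iff.1 (hZ ▸ fun n hn => ?_))
      rw [mem_center_iff]
      have hle : normalClosure ({x} : Set G) ≤ centralizer (N : Set G) :=
        normalClosure_le_normal (Set.singleton_subset_iff.2 (mem_centralizer_iff.2 fun m hm => hcent N hN hne m hm))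
      intro g
      exact (mem_centralizer_iff.1 (hle (hgen ▸ mem_top g)) n hn).symm
    rw [_root_.commutator_def]
    refine commutator_le.2 fun a _ b _ => ?_
    have hmem : ∀ a : G, ∃ i : ℤ, QuotientGroup.mk' N a = QuotientGroup.mk' N x ^ i := by
      intro a
      have h1 : a ∈ N ⊔ zpowers x := hNt ▸ mem_top a
      obtain ⟨m, hm, z, hz, rfl⟩ := mem_sup_of_normal_left.1 h1
      obtain ⟨i, rfl⟩ := mem_zpowers_iff.1 hz
      refine ⟨i, ?_⟩
      rw [map_mul, map_zpow, show QuotientGroup.mk' N m = 1 from (QuotientGroup.eq_one_iff m).2 hm, one_mul]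
    obtain ⟨i, hi⟩ := hmem a
    obtain ⟨j, hj⟩ := hmem b
    rw [← QuotientGroup.eq_one_iff, show ((⁅a, b⁆ : G) : G ⧸ N) = ⁅QuotientGroup.mk' N a, QuotientGroup.mk' N b⁆ from
      map_commutatorElement (QuotientGroup.mk' N) a b, hi, hj, commutatorElement_eq_one_iff_mul_comm]
    exact (Commute.zpow_zpow_self _ i j).eq
  set D := commutator G with hD
  have hD1 : D ≠ ⊥ := fun h => hcentral fun g => commutatorElement_eq_one_iff_mul_comm.1
    (mem_bot.1 (h ▸ commutator_mem_commutator (mem_top g) (mem_top x)))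
  have hnab : ¬ IsMulCommutative ↥D := by
    intro hab
    by_cases hd : p ∣ Nat.card D
    · -- then `G` is a `p`-group
      have hP : IsPGroup p ↥(pCore p ↥D) := Solv.isPGroup_pCore p
      haveI : ((pCore p ↥D).map D.subtype).Normal := inferInstance
      have h1 : D ≤ (pCore p ↥D).map D.subtype := hmin' _ inferInstance (fun e => by
        obtain ⟨T⟩ : Nonempty (Sylow p ↥D) := inferInstance
        haveI : (T : Subgroup ↥D).Normal := ⟨fun a ha g => by
          rwa [show g * a = a * g from mul_comm' g a, mul_inv_cancel_right]⟩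
        have h2 : (T : Subgroup ↥D) ≤ pCore p ↥D := Solv.le_pCore inferInstance T.isPGroup'
        rw [(map_eq_bot_iff_of_injective _ D.subtype_injective).1 e, le_bot_iff] at h2
        exact T.ne_bot_of_dvd_card hd h2)
      have hDp : IsPGroup p ↥D := (hP.map D.subtype).to_le h1
      have hG : IsPGroup p ↥(⊤ : Subgroup G) := htop ▸ IsPGroup.to_sup_of_normal_left' hDp
        (IsPGroup.of_card (n := 1) (by rw [Nat.card_zpowers, hx, pow_one]) : IsPGroup p ↥(zpowers x))
        (le_top.trans (normalizer_eq_top (H := D)).ge)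
      refine hcentral fun g => ?_
      have h9 := eq_of_mem hiso hG (mem_top x) (g := g) (mem_top _)
      calc g * x = g * x * g⁻¹ * g := by group
        _ = x * g := by rw [h9]
    · exact hD1 (le_bot_iff.1 ((Solv.le_pPrimeCore inferInstance
        (hp.out.coprime_iff_not_dvd.2 hd).symm).trans hO.le))
  refine ⟨?_, hnab, htop⟩
  -- simplicity
  haveI : Nontrivial ↥D := D.nontrivial_iff_ne_bot.2 hD1
  refine ⟨fun L hL => ?_⟩
  by_contra hcon
  push Not at hcon
  obtain ⟨L₀, hle, hL₀⟩ := Finite.exists_le_minimal (p := fun K : Subgroup ↥D => K.Normal ∧ K ≠ ⊥) ⟨hL, hcon.1⟩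
  obtain ⟨⟨hL₀n, hL₀1⟩, hmin₀⟩ := hL₀
  set A := L₀.map D.subtype with hA
  have hA1 : A ≠ ⊥ := fun h => hL₀1 ((map_eq_bot_iff_of_injective _ D.subtype_injective).1 h)
  have hAsn : A.IsSubnormal := Subgroup.IsSubnormal.trans (map_subtype_le L₀)
    (by rw [subgroupOf, comap_map_eq_self_of_injective D.subtype_injective]; exact hL₀n.isSubnormal)
    (Subgroup.Normal.isSubnormal inferInstance)
  have hpA : p ∣ Nat.card A := by
    by_contra hd
    exact hA1 (le_bot_iff.1 ((Cfsg.Lib.Comp.le_pPrimeCore_of_subnormal hAsn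
      (hp.out.coprime_iff_not_dvd.2 hd).symm).trans hO.le))
  obtain ⟨S, hS⟩ := (IsPGroup.of_card (G := zpowers x) (p := p) (n := 1)
    (by rw [Nat.card_zpowers, hx, pow_one])).exists_le_sylow
  obtain ⟨Q, hQ⟩ := Solv.sylow_inf_subnormal hAsn S
  obtain ⟨a, haA, ha1⟩ : ∃ a ∈ (S : Subgroup G) ⊓ A, a ≠ 1 := by
    by_contra h
    push Not at h
    refine Q.ne_bot_of_dvd_card hpA ?_
    rw [hQ, ← map_eq_bot_iff_of_injective _ A.subtype_injective, subgroupOf_map_subtype]
    exact (Subgroup.eq_bot_iff_forall _).2 h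
  have hxa : x * a * x⁻¹ = a := by
    have h1 := eq_of_mem hiso S.isPGroup' (hS (mem_zpowers x)) (g := a)
      (mul_mem (mul_mem haA.1 (hS (mem_zpowers x))) (inv_mem haA.1))
    calc x * a * x⁻¹ = a * x * a⁻¹ * a * x⁻¹ := by rw [h1]
      _ = a := by group
  set B := A.map (MulAut.conj x).toMonoidHom with hB
  have hDn : ∀ g : G, ∀ d ∈ D, g * d * g⁻¹ ∈ D := fun g d hd => (inferInstance : D.Normal).conj_mem d hd g
  have hAD : D ≤ normalizer (A : Set G) := by
    have h := le_normalizer_map (H := L₀) D.subtype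
    rwa [normalizer_eq_top, ← MonoidHom.range_eq_map, range_subtype] at h
  have hBD : D ≤ normalizer (B : Set G) := by
    intro d hd
    refine (le_normalizer_map (MulAut.conj x).toMonoidHom) ⟨x⁻¹ * d * x, hAD ?_, by simp [mul_assoc]⟩
    simpa using hDn x⁻¹ d hd
  set I := (A ⊓ B).subgroupOf D with hI
  have hIn : I.Normal := normal_subgroupOf_of_le_normalizer ((le_inf hAD hBD).trans inf_normalizer_le_normalizer_inf)
  have hI1 : I ≠ ⊥ := by
    intro h
    obtain ⟨z, hz, e⟩ := haA.2
    have h3 : z ∈ I := ⟨e ▸ haA.2, e ▸ ⟨a, haA.2, hxa⟩⟩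
    rw [h, mem_bot] at h3
    exact ha1 (by rw [← e, h3, map_one])
  have hIle : I ≤ L₀ := by
    intro y hy
    obtain ⟨z, hz, e⟩ := hy.1
    rw [← Subtype.ext e]; exact hz
  have h4 := hmin₀ ⟨hIn, hI1⟩ hIle
  have hAB : A ≤ B := fun w hw => by
    obtain ⟨z, hz, rfl⟩ := hw
    exact (h4 hz).2
  have heq : A = B := eq_of_le_of_card_ge hAB (by rw [hB, card_map_of_injective (MulAut.conj x).injective])
  have hxN : x ∈ normalizer (A : Set G) := by
    rw [mem_normalizer_iff]
    intro w
    constructor
    · intro hw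
      show x * w * x⁻¹ ∈ A
      rw [heq]
      exact ⟨w, hw, rfl⟩
    · intro hw
      rw [heq] at hw
      obtain ⟨v, hv, e⟩ := hw
      have : v = w := (MulAut.conj x).injective (by simpa using e)
      exact this ▸ hv
  haveI : A.Normal := normalizer_eq_top_iff.1 (top_le_iff.1 (htop ▸ sup_le hAD (zpowers_le.2 hxN)))
  refine hcon.2 (top_le_iff.1 fun y _ => hle ?_)
  obtain ⟨z, hz, e⟩ := hmin' A inferInstance hA1 y.2
  rw [← Subtype.ext e]; exact hz

end Cfsg.Lib.IsolatedMin
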