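import Mathlib
import Cfsg.Prelude.Def_LocalStructure
import Cfsg.Prelude.Def_Amalgam
import Cfsg.Agent.Lib.Solv.Cores

/-!
The L-Lemma for minimal groups over a Sylow subgroup.
-/

set_option autoImplicit false

open scoped Pointwise

namespace Cfsg.Lib.PLocal.LLemma

variable {H : Type*} [Group H]

/-- Conjugate subgroup. -/
abbrev cj (g : H) (X : Subgroup H) : Subgroup H := X.map (MulAut.conj g).toMonoidHom

theorem mem_cj {g x : H} {X : Subgroup H} : x ∈ cj g X ↔ g⁻¹ * x * g ∈ X := by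
  constructor
  · rintro ⟨y, hy, rfl⟩
    show g⁻¹ * (g * y * g⁻¹) * g ∈ X
    rwa [show g⁻¹ * (g * y * g⁻¹) * g = y by group]
  · exact fun h => ⟨_, h, show g * (g⁻¹ * x * g) * g⁻¹ = x by group⟩

theorem cj_cj (g h : H) (X : Subgroup H) : cj g (cj h X) = cj (g * h) X := by
  ext x
  simp only [mem_cj, mul_inv_rev, mul_assoc]

theorem cj_one (X : Subgroup H) : cj 1 X = X := by
  ext x
  simp [mem_cj]

theorem cj_le_cj {X Y : Subgroup H} (g : H) (h : X ≤ Y) : cj g X ≤ cj g Y := Subgroup.map_mono h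

theorem cj_le_iff {X Y : Subgroup H} (g : H) : cj g X ≤ Y ↔ X ≤ cj g⁻¹ Y := by
  constructor
  · intro h
    have := cj_le_cj g⁻¹ h
    rwa [cj_cj, inv_mul_cancel, cj_one] at this
  · intro h
    have := cj_le_cj g h
    rwa [cj_cj, mul_inv_cancel, cj_one] at this

theorem cj_eq_iff_mem_normalizer {g : H} {X : Subgroup H} : cj g X = X ↔ g ∈ Subgroup.normalizer (X : Set H) := by
  rw [Subgroup.mem_normalizer_iff'', SetLike.ext_iff]
  simp only [mem_cj]
  exact ⟨fun h x => (h x).symm, fun h x => (h x).symm⟩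

theorem cj_coe_sylow {p : ℕ} (g : H) (T : Sylow p H) : ((g • T : Sylow p H) : Subgroup H) = cj g (T : Subgroup H) := by
  rw [Sylow.coe_subgroup_smul, Subgroup.pointwise_smul_def]
  rfl

variable [Finite H]

theorem mem_normalizer_of_cj_le {g : H} {X : Subgroup H} (h : cj g X ≤ X) : g ∈ Subgroup.normalizer (X : Set H) :=
  cj_eq_iff_mem_normalizer.1 (Subgroup.eq_of_le_of_card_ge h (Subgroup.card_map_of_injective (MulAut.conj g).injective).ge)

/-- Generated by `Q` and the conjugates of `A` inside `X`. -/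
def W (Q A X : Subgroup H) : Subgroup H := Q ⊔ sSup {B : Subgroup H | (∃ g, B = cj g A) ∧ B ≤ X}

theorem W_le {Q A X Y : Subgroup H} (hQ : Q ≤ Y) (h : ∀ g, cj g A ≤ X → cj g A ≤ Y) : W Q A X ≤ Y :=
  sup_le hQ (sSup_le fun _ ⟨⟨g, hg⟩, hle⟩ => hg ▸ h g (hg ▸ hle))

theorem le_W {Q A X : Subgroup H} {g : H} (h : cj g A ≤ X) : cj g A ≤ W Q A X :=
  le_sup_of_le_right (le_sSup ⟨⟨g, rfl⟩, h⟩)

theorem normalizer_le_W {Q A : Subgroup H} [Q.Normal] (X : Subgroup H) :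
    Subgroup.normalizer (X : Set H) ≤ Subgroup.normalizer (W Q A X : Set H) := by
  intro y hy
  refine mem_normalizer_of_cj_le ((cj_le_iff y).2 (W_le ?_ fun g hg => ?_))
  · rw [← cj_le_iff]
    intro x hx
    exact le_sup_left (a := Q) (Subgroup.Normal.conj_mem' inferInstance x (show x ∈ Q from (by
      rw [mem_cj] at hx
      have := Subgroup.Normal.conj_mem inferInstance _ hx y
      rwa [show y * (y⁻¹ * x * y) * y⁻¹ = x by group] at this)) 1 |> fun h => by simpa using h)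
  · rw [← cj_le_iff, cj_cj]
    refine le_W ?_
    rw [← cj_cj]
    exact (cj_le_cj y hg).trans (cj_eq_iff_mem_normalizer.2 hy).le

variable {p : ℕ} [Fact p.Prime]

theorem exists_normalizing_not_mem {S D : Subgroup H} (hS : IsPGroup p S) (hDS : D ≤ S) (hne : ¬ S ≤ D) :
    ∃ x ∈ S, x ∉ D ∧ x ∈ Subgroup.normalizer (D : Set H) := by
  haveI : Group.IsNilpotent S := hS.isNilpotent
  have hlt : D.subgroupOf S < ⊤ := lt_top_iff_ne_top.2 fun h => hne (Subgroup.subgroupOf_eq_top.1 h)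
  obtain ⟨x, hx, hxD⟩ := SetLike.exists_of_lt (Group.normalizerCondition_of_isNilpotent _ hlt)
  refine ⟨x, x.2, fun h => hxD (Subgroup.mem_subgroupOf.2 h), mem_normalizer_of_cj_le ?_⟩
  rintro _ ⟨y, hy, rfl⟩
  exact Subgroup.mem_subgroupOf.1 ((Subgroup.mem_normalizer_iff.1 hx ⟨y, hDS hy⟩).1 (Subgroup.mem_subgroupOf.2 hy))

section

variable (T : Sylow p H) (M : Subgroup H) (hmin : Cfsg.IsMinimalOver (T : Subgroup H))
  (hM : IsCoatom M ∧ (T : Subgroup H) ≤ M)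

include hmin hM

/-- `X` lies in a conjugate of `M`. -/
abbrev InCM (X : Subgroup H) : Prop := ∃ g, X ≤ cj g M

theorem not_inCM_top : ¬ InCM M (⊤ : Subgroup H) := by
  rintro ⟨g, hg⟩
  apply hM.1.1
  rw [eq_top_iff]
  intro x _
  have := mem_cj.1 (hg (Subgroup.mem_top (g * x * g⁻¹)))
  rwa [show g⁻¹ * (g * x * g⁻¹) * g = x by group] at this

theorem eq_M {N : Subgroup H} (hN : IsCoatom N) (hT : (T : Subgroup H) ≤ N) : N = M := by
  obtain ⟨N₀, -, hu⟩ := hmin.2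
  exact (hu N ⟨hN, hT⟩).trans (hu M hM).symm

theorem uniq (R : Sylow p H) {g k : H} (hg : (R : Subgroup H) ≤ cj g M) (hk : (R : Subgroup H) ≤ cj k M) :
    cj g M = cj k M := by
  obtain ⟨h, rfl⟩ := MulAction.exists_smul_eq H T R
  rw [cj_coe_sylow, cj_le_iff, cj_cj] at hg hk
  have hco : ∀ g : H, IsCoatom (cj g M) := fun g => ((MulAut.conj g).mapSubgroup.isCoatom_iff M).2 hM.1
  have h1 := congrArg (cj h) ((eq_M T M hmin hM (hco _) hg).trans (eq_M T M hmin hM (hco _) hk).symm)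
  rwa [cj_cj, cj_cj, mul_inv_cancel_left, mul_inv_cancel_left] at h1

theorem inCM_of_pgroup {X : Subgroup H} (hX : IsPGroup p X) : InCM M X := by
  obtain ⟨R, hR⟩ := hX.exists_le_sylow
  obtain ⟨h, rfl⟩ := MulAction.exists_smul_eq H T R
  exact ⟨h, hR.trans ((cj_coe_sylow h T).le.trans (cj_le_cj h hM.2))⟩

theorem inCM_of_sylow_le {X : Subgroup H} (R : Sylow p H) (hR : (R : Subgroup H) ≤ X) (hX : X ≠ ⊤) : InCM M X := by
  obtain ⟨h, rfl⟩ := MulAction.exists_smul_eq H T R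
  have hne : cj h⁻¹ X ≠ ⊤ := fun h0 => hX (by
    have := congrArg (cj h) h0
    rw [cj_cj, mul_inv_cancel, cj_one] at this
    rw [this, eq_top_iff]
    intro x _
    exact mem_cj.2 (Subgroup.mem_top _))
  obtain ⟨N, hN, hle⟩ := (eq_top_or_exists_le_coatom (cj h⁻¹ X)).resolve_left hne
  have hT : (T : Subgroup H) ≤ cj h⁻¹ X := (cj_le_iff h).1 ((cj_coe_sylow h T).ge.trans hR)
  rw [eq_M T M hmin hM hN (hT.trans hle)] at hle
  refine ⟨h, ?_⟩
  have := cj_le_cj h hle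
  rwa [cj_cj, mul_inv_cancel, cj_one] at this

theorem normalizer_M : Subgroup.normalizer (M : Set H) = M := by
  rcases hM.1.le_iff.1 (Subgroup.le_normalizer (H := M)) with h | h
  · exfalso
    haveI : M.Normal := Subgroup.normalizer_eq_top_iff.1 h
    exact hM.1.1 (eq_top_iff.2 (hmin.1 ▸ Subgroup.normalClosure_le_normal hM.2))
  · exact h

theorem exists_sylow_between {D : Subgroup H} (hD : IsPGroup p D) {g : H} (hg : D ≤ cj g M) :
    ∃ R : Sylow p H, D ≤ (R : Subgroup H) ∧ (R : Subgroup H) ≤ cj g M := by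
  have hD' : IsPGroup p (cj g⁻¹ D) := hD.map _
  have hle : cj g⁻¹ D ≤ M := by rw [cj_le_iff, inv_inv]; exact hg
  obtain ⟨P, hP⟩ := (hD'.comap_subtype (K := M)).exists_le_sylow
  obtain ⟨m, rfl⟩ := MulAction.exists_smul_eq M (T.subtype hM.2) P
  refine ⟨(g * m) • T, fun x hx => ?_, ?_⟩
  · have h1 : g⁻¹ * x * g ∈ cj g⁻¹ D := mem_cj.2 (by simpa [mul_assoc] using hx)
    have h2 := hP (show (⟨_, hle h1⟩ : M) ∈ (cj g⁻¹ D).subgroupOf M from h1)
    rw [cj_coe_sylow, mem_cj] at h2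
    rw [cj_coe_sylow, mem_cj]
    have h3 : ((m⁻¹ * ⟨g⁻¹ * x * g, hle h1⟩ * m : M) : H) ∈ (T : Subgroup H) := h2
    simpa [mul_assoc] using h3
  · rw [cj_coe_sylow, ← cj_cj]
    refine cj_le_cj g fun x hx => ?_
    have h := hM.2 (mem_cj.1 hx)
    have := M.mul_mem (M.mul_mem m.2 h) (M.inv_mem m.2)
    simpa [mul_assoc] using this

/-- A maximal `p`-subgroup in two conjugates of `M` has normalizer in none. -/
theorem normalizer_not_inCM {D : Subgroup H} (hD : IsPGroup p D) {g k : H} (hg : D ≤ cj g M) (hk : D ≤ cj k M)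
    (hne : cj g M ≠ cj k M)
    (hmax : ∀ E : Subgroup H, IsPGroup p E → D ≤ E → (∃ g k, E ≤ cj g M ∧ E ≤ cj k M ∧ cj g M ≠ cj k M) →
      Nat.card E ≤ Nat.card D) : ¬ InCM M (Subgroup.normalizer (D : Set H)) := by
  rintro ⟨c, hc⟩
  have key : ∀ g k : H, D ≤ cj g M → D ≤ cj k M → cj g M ≠ cj k M → cj g M = cj c M := by
    intro g k hg hk hne
    obtain ⟨R, hDR, hRg⟩ := exists_sylow_between T M hmin hM hD hg
    have hnR : ¬ (R : Subgroup H) ≤ D := fun h => hne (uniq T M hmin hM R hRg (h.trans hk))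
    obtain ⟨x, hxR, hxD, hxN⟩ := exists_normalizing_not_mem R.isPGroup' hDR hnR
    by_contra hgc
    have hE : IsPGroup p ↥((R : Subgroup H) ⊓ Subgroup.normalizer (D : Set H)) := R.isPGroup'.to_inf_left
    have hDE : D ≤ (R : Subgroup H) ⊓ Subgroup.normalizer (D : Set H) := le_inf hDR Subgroup.le_normalizer
    have h := hmax _ hE hDE ⟨g, c, inf_le_left.trans hRg, inf_le_right.trans hc, hgc⟩
    exact hxD ((Subgroup.eq_of_le_of_card_ge hDE h).symm ▸ ⟨hxR, hxN⟩)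
  exact hne ((key g k hg hk hne).trans (key k g hk hg (Ne.symm hne)).symm)

/-- The subgroup to start from. -/
theorem exists_start (A : Subgroup H) (hAT : A ≤ (T : Subgroup H)) (hA : ¬ A ≤ Cfsg.pCore p H) :
    ∃ D : Subgroup H, IsPGroup p D ∧ Cfsg.pCore p H ≤ D ∧ A ≤ Subgroup.normalizer (D : Set H) ∧ ¬ A ≤ D ∧
      ¬ InCM M (Subgroup.normalizer (D : Set H)) ∧
      ∀ g k : H, A ⊔ D ≤ cj g M → A ⊔ D ≤ cj k M → cj g M = cj k M := by
  classical
  set Q := Cfsg.pCore p H with hQdef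
  have hQp : IsPGroup p Q := Cfsg.Lib.Solv.isPGroup_pCore p
  have hAp : IsPGroup p A := T.isPGroup'.to_le hAT
  haveI : Nonempty {D : Subgroup H // IsPGroup p D ∧ Q ≤ D ∧ W Q A D = D ∧ ¬ InCM M (Subgroup.normalizer (D : Set H))} :=
    ⟨⟨Q, hQp, le_rfl, le_antisymm (W_le le_rfl fun g h => h) le_sup_left, by
      rw [Subgroup.normalizer_eq_top]; exact not_inCM_top T M hmin hM⟩⟩
  obtain ⟨⟨D, hDp, hQD, hWD, hDN⟩, hDmax⟩ := Finite.exists_max
    (fun D : {D : Subgroup H // IsPGroup p D ∧ Q ≤ D ∧ W Q A D = D ∧ ¬ InCM M (Subgroup.normalizer (D : Set H))} =>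
      Nat.card D.1)
  obtain ⟨g, hgN, hgD⟩ : ∃ g, cj g A ≤ Subgroup.normalizer (D : Set H) ∧ ¬ cj g A ≤ D := by
    by_contra hno
    push Not at hno
    obtain ⟨S, hS⟩ := hDp.exists_le_sylow
    set R := (S : Subgroup H) ⊓ Subgroup.normalizer (D : Set H)
    have hWR : W Q A R = D := le_antisymm (W_le hQD fun g h => hno g (h.trans inf_le_right))
      (hWD.ge.trans (W_le le_sup_left fun g h => le_W (h.trans (le_inf hS Subgroup.le_normalizer))))
    have hSR : (S : Subgroup H) ≤ R := by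
      by_contra hnot
      obtain ⟨x, hxS, hxR, hxN⟩ := exists_normalizing_not_mem S.isPGroup' (inf_le_left (b := Subgroup.normalizer (D : Set H))) hnot
      have := normalizer_le_W (Q := Q) (A := A) R hxN
      rw [hWR] at this
      exact hxR ⟨hxS, this⟩
    have hSN := hSR.trans inf_le_right
    by_cases htop : Subgroup.normalizer (D : Set H) = ⊤
    · haveI := Subgroup.normalizer_eq_top_iff.1 htop
      obtain ⟨h, hh⟩ := MulAction.exists_smul_eq H T S
      have hAS : cj h A ≤ R := ((cj_le_cj h hAT).trans ((cj_coe_sylow h T).ge.trans (by rw [hh]))).trans hSR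
      have h1 : cj h A ≤ Q := (hno h (hAS.trans inf_le_right)).trans (Cfsg.Lib.Solv.le_pCore inferInstance hDp)
      refine hA fun a ha => ?_
      have h2 := Subgroup.Normal.conj_mem' (inferInstance : Q.Normal) _ (h1 ⟨a, ha, rfl⟩) h
      simpa [mul_assoc] using h2
    · exact hDN (inCM_of_sylow_le T M hmin hM S hSN htop)
  have hPp : IsPGroup p ↥(cj g A ⊔ D) := IsPGroup.to_sup_of_normal_right' (hAp.map _) hDp hgN
  have hu : ∀ a b : H, cj g A ⊔ D ≤ cj a M → cj g A ⊔ D ≤ cj b M → cj a M = cj b M := by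
    intro a b ha hb
    by_contra hne
    haveI : Nonempty {E : Subgroup H // IsPGroup p E ∧ cj g A ⊔ D ≤ E ∧ ∃ a b, E ≤ cj a M ∧ E ≤ cj b M ∧ cj a M ≠ cj b M} :=
      ⟨⟨_, hPp, le_rfl, a, b, ha, hb, hne⟩⟩
    obtain ⟨⟨E, hEp, hPE, a', b', ha', hb', hne'⟩, hEmax⟩ := Finite.exists_max
      (fun E : {E : Subgroup H // IsPGroup p E ∧ cj g A ⊔ D ≤ E ∧ ∃ a b, E ≤ cj a M ∧ E ≤ cj b M ∧ cj a M ≠ cj b M} =>
        Nat.card E.1)
    have hN := normalizer_not_inCM T M hmin hM hEp ha' hb' hne'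
      fun F hF hEF h => hEmax ⟨F, hF, hPE.trans hEF, h⟩
    have hQE : Q ≤ E := (hQD.trans le_sup_right).trans hPE
    have hWE : W Q A E ≤ E := W_le hQE fun _ h => h
    have hWW : W Q A (W Q A E) = W Q A E :=
      le_antisymm (W_le le_sup_left fun _ h => h) (W_le le_sup_left fun _ h => le_W (le_W h))
    have hDW : D ≤ W Q A E := hWD.ge.trans (W_le le_sup_left fun _ h => le_W (h.trans (le_sup_right.trans hPE)))
    have hcard := hDmax ⟨W Q A E, hEp.to_le hWE, le_sup_left, hWW,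
      fun ⟨c, hc⟩ => hN ⟨c, (normalizer_le_W E).trans hc⟩⟩
    exact hgD (le_trans (le_W (le_sup_left.trans hPE)) (Subgroup.eq_of_le_of_card_ge hDW hcard).ge)
  refine ⟨cj g⁻¹ D, hDp.map _, ?_, ?_, ?_, ?_, ?_⟩
  · rw [← cj_le_iff]
    exact (le_of_eq (cj_eq_iff_mem_normalizer.2 (by rw [Subgroup.normalizer_eq_top]; exact Subgroup.mem_top _))).trans hQD
  · intro a ha
    have h : g * a * g⁻¹ ∈ Subgroup.normalizer (D : Set H) := hgN ⟨a, ha, rfl⟩
    refine cj_eq_iff_mem_normalizer.1 ?_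
    have e := congrArg (cj g⁻¹) (cj_eq_iff_mem_normalizer.2 h)
    rw [cj_cj, show g⁻¹ * (g * a * g⁻¹) = a * g⁻¹ by group, ← cj_cj] at e
    exact e
  · exact fun h => hgD ((cj_le_iff g).2 h)
  · rintro ⟨c, hc⟩
    refine hDN ⟨g * c, fun x hx => ?_⟩
    rw [← cj_cj, mem_cj]
    refine hc (cj_eq_iff_mem_normalizer.1 ?_)
    have e := congrArg (cj g⁻¹) (cj_eq_iff_mem_normalizer.2 hx)
    rw [cj_cj] at e
    rw [cj_cj, show g⁻¹ * x * g * g⁻¹ = g⁻¹ * x by group]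
    exact e
  · intro a b ha hb
    have conv : ∀ a, A ⊔ cj g⁻¹ D ≤ cj a M → cj g A ⊔ D ≤ cj (g * a) M := by
      intro a ha
      rw [← cj_cj]
      refine sup_le (cj_le_cj g (le_sup_left.trans ha)) ?_
      have := cj_le_cj g (le_sup_right.trans ha)
      rwa [cj_cj, mul_inv_cancel, cj_one] at this
    have := congrArg (cj g⁻¹) (hu _ _ (conv a ha) (conv b hb))
    rwa [cj_cj, cj_cj, inv_mul_cancel_left, inv_mul_cancel_left] at this

/-- The L-Lemma. -/
theorem l_lemma (A : Subgroup H) (hAT : A ≤ (T : Subgroup H)) (hA : ¬ A ≤ Cfsg.pCore p H) :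
    ∃ L : Subgroup H, A ⊔ Cfsg.pCore p H ≤ L ∧ ∃ L₀ : Subgroup H, A ⊔ (Cfsg.pCoreOf p L) ≤ L₀ ∧ L₀ < L ∧
      (∀ X : Subgroup H, A ⊔ (Cfsg.pCoreOf p L) ≤ X → X < L → X ≤ L₀) ∧
      (∃ g : H, L₀ = L ⊓ cj g M) ∧
      ∀ x ∈ L, x ∉ L₀ → (A ⊔ cj x A) ⊔ (Cfsg.pCoreOf p L) = L := by
  classical
  obtain ⟨D, hDp, hQD, hAN, -, hDN, hu⟩ := exists_start T M hmin hM A hAT hA
  have hAp : IsPGroup p A := T.isPGroup'.to_le hAT
  haveI : Nonempty {L : Subgroup H // A ⊔ D ≤ L ∧ L ≤ Subgroup.normalizer (D : Set H) ∧ ¬ InCM M L} :=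
    ⟨⟨_, sup_le hAN Subgroup.le_normalizer, le_rfl, hDN⟩⟩
  obtain ⟨⟨L, hPL, hLN, hLM⟩, hLmin⟩ := Finite.exists_min
    (fun L : {L : Subgroup H // A ⊔ D ≤ L ∧ L ≤ Subgroup.normalizer (D : Set H) ∧ ¬ InCM M L} => Nat.card L.1)
  set O := Cfsg.pCoreOf p L with hO
  have hDO : D ≤ O := by
    haveI : (D.subgroupOf L).Normal := Subgroup.normal_subgroupOf_of_le_normalizer hLN
    intro x hx
    exact ⟨⟨x, hPL (le_sup_right (a := A) hx)⟩, Cfsg.Lib.Solv.le_pCore (N := D.subgroupOf L) inferInstance (hDp.comap_subtype) hx, rfl⟩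
  have hOL : O ≤ L := Subgroup.map_subtype_le _
  have hAL : A ≤ L := le_sup_left.trans hPL
  have hLO : L ≤ Subgroup.normalizer (O : Set H) := by
    intro y hy
    refine mem_normalizer_of_cj_le ?_
    rintro _ ⟨_, ⟨z, hz, rfl⟩, rfl⟩
    exact ⟨⟨y, hy⟩ * z * ⟨y, hy⟩⁻¹, Subgroup.Normal.conj_mem inferInstance z hz _, rfl⟩
  have hOp : IsPGroup p O := (Cfsg.Lib.Solv.isPGroup_pCore p).map _
  obtain ⟨c, hc⟩ := inCM_of_pgroup T M hmin hM
    (IsPGroup.to_sup_of_normal_right' hAp hOp (hAL.trans hLO))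
  have hPc : A ⊔ D ≤ cj c M := (sup_le_sup_left hDO A).trans hc
  have hbelow : ∀ X : Subgroup H, A ⊔ O ≤ X → X < L → X ≤ L ⊓ cj c M := by
    intro X hX hXL
    refine le_inf hXL.le ?_
    obtain ⟨k, hk⟩ : InCM M X := by
      by_contra hno
      have := hLmin ⟨X, (sup_le_sup_left hDO A).trans hX, hXL.le.trans hLN, hno⟩
      exact hXL.ne (Subgroup.eq_of_le_of_card_ge hXL.le this)
    rwa [hu c k hPc (((sup_le_sup_left hDO A).trans hX).trans hk)]
  refine ⟨L, sup_le hAL ((hQD.trans hDO).trans hOL), L ⊓ cj c M, le_inf (sup_le hAL hOL) hc,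
    lt_of_le_of_ne inf_le_left (fun h => hLM ⟨c, inf_eq_left.1 h⟩), hbelow, ⟨c, rfl⟩, ?_⟩
  intro x hx hx0
  by_contra hne
  have hxA : cj x A ≤ L := by
    rintro _ ⟨a, ha, rfl⟩
    exact L.mul_mem (L.mul_mem hx (hAL ha)) (L.inv_mem hx)
  have hY : (A ⊔ cj x A) ⊔ O < L := lt_of_le_of_ne (sup_le (sup_le hAL hxA) hOL) hne
  have hYM := (hbelow _ (sup_le (le_sup_left.trans le_sup_left) le_sup_right) hY).trans inf_le_right
  have hxP : cj x (A ⊔ D) ≤ cj c M := by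
    rw [show cj x (A ⊔ D) = cj x A ⊔ cj x D from Subgroup.map_sup A D _]
    refine sup_le ((le_sup_right.trans le_sup_left).trans hYM) ?_
    rw [cj_eq_iff_mem_normalizer.2 (hLN hx)]
    exact le_sup_right.trans hPc
  rw [cj_le_iff, cj_cj] at hxP
  have e := congrArg (fun Z => cj (c⁻¹ * x) Z) (hu _ _ hPc hxP)
  simp only [cj_cj] at e
  rw [show c⁻¹ * x * (x⁻¹ * c) = 1 by group, cj_one] at e
  have hmem := cj_eq_iff_mem_normalizer.1 e
  rw [normalizer_M T M hmin hM] at hmem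
  exact hx0 ⟨hx, mem_cj.2 (by simpa [mul_assoc] using hmem)⟩

end

end Cfsg.Lib.PLocal.LLemma
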