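import Mathlib
import Cfsg.Prelude.Def_LocalStructure
import Cfsg.Prelude.Def_LocalEven
import Cfsg.Prelude.Def_IsolatedElements
import Cfsg.Prelude.Def_CaseTheorems
import Cfsg.Agent.Lib.Sig.Basic
import Cfsg.Agent.Lib.PLocal.LocalEasy
import Cfsg.Agent.Lib.PLocal.ChainStabilizer
import Cfsg.Agent.Lib.PLocal.ClosedConjugates
import Cfsg.Agent.Lib.PLocal.StrongEmbedding
import Cfsg.Agent.Lib.Solv.Subnormal
import Cfsg.Agent.Lib.Solv.Coprime2
import Cfsg.Agent.Lib.Transfer.Frobenius
import Cfsg.Agent.Lib.Transfer.NormalPComplement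
import Cfsg.Agent.Lib.Yoshida.Wreath

/-!
Coprime action with a constant fixed-point subgroup, `p`-minimal groups, isolated elements in rank
one, and a transfer criterion for groups with no subgroup of index two.
-/

set_option autoImplicit false
set_option maxHeartbeats 1000000
set_option linter.style.haveILetI false

open scoped Pointwise commutatorElement

namespace Cfsg.Lib.PLocal.LocalMisc4

open Cfsg Subgroup Cfsg.Lib.PLocal.Closed Cfsg.Lib.PLocal.Chain

universe u

variable {G : Type u} [Group G] [Finite G] {p : ℕ} [hp : Fact p.Prime]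

/-! ### Normalizers of fixed points -/

omit [Finite G] in
theorem mem_normalizer_inf_centralizer {g u : G} {K : Subgroup G}
    (hK : g ∈ normalizer (K : Set G)) (hu : g * u = u * g) :
    g ∈ normalizer ((K ⊓ centralizer ({u} : Set G) : Subgroup G) : Set G) := by
  have hu' : g * u * g⁻¹ = u := by rw [hu, mul_inv_cancel_right]
  refine mem_normalizer_iff.2 fun x => ?_
  rw [mem_inf, mem_inf, ← mem_normalizer_iff.1 hK x, mem_centralizer_singleton_iff,
    mem_centralizer_singleton_iff]
  refine and_congr_right fun _ => ?_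
  rw [← (MulAut.conj g).injective.eq_iff, map_mul, map_mul, MulAut.conj_apply, MulAut.conj_apply, hu']

/-! ### Coprime generation -/

/-- `R` is generated by fixed points of maximal subgroups of a noncyclic elementary group. -/
theorem coprime_generation {U R : Subgroup G} (hU : IsElementaryAbelian p U)
    (hR : ¬ p ∣ Nat.card R) (hRU : U ≤ normalizer (R : Set G)) (T : Subgroup G)
    (h : ∀ B : Subgroup G, B ≤ U → B.relIndex U ≤ p → R ⊓ centralizer (B : Set G) ≤ T) : R ≤ T := by
  have hg := Sig.le_iSup_centralizer_index U R hU hR hRU ⊥ bot_le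
  rw [coe_bot, centralizer_eq_top_iff_subset.2 (by simp), inf_top_eq] at hg
  exact hg.trans (iSup_le fun B => h B B.2.1 B.2.2)

theorem commutator_centralizes (E : Subgroup G) [E.Normal] (hE : IsPGroup p ↥E) (U : Subgroup G)
    (hU : IsElementaryAbelian p U) (hnc : ¬ IsCyclic ↥U)
    (hcond : (∀ u ∈ U, u ≠ 1 → E ⊓ centralizer (U : Set G) = E ⊓ centralizer ({u} : Set G)) ∨
      (∀ u ∈ U, u ≠ 1 → ⁅E, U⁆ = ⁅E, zpowers u⁆))
    (R : Subgroup G) (hR : ¬ p ∣ Nat.card ↥R) (hRU : U ≤ normalizer (R : Set G)) :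
    ⁅R, U⁆ ≤ centralizer (E : Set G) := by
  set C := centralizer (E : Set G)
  haveI : C.Normal := normalizer_eq_top_iff.1 (top_le_iff.1
    ((normalizer_eq_top_iff.2 inferInstance).ge.trans (Solv.normalizer_le_normalizer_centralizer E)))
  let T : Subgroup G :=
    { carrier := {r | ∀ v ∈ U, ⁅r, v⁆ ∈ C}
      one_mem' := fun v _ => by rw [commutatorElement_one_left]; exact one_mem _
      mul_mem' := fun {a b} ha hb v hv => by
        rw [show ⁅a * b, v⁆ = (a * ⁅b, v⁆ * a⁻¹) * ⁅a, v⁆ by simp only [commutatorElement_def]; group]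
        exact mul_mem (Subgroup.Normal.conj_mem inferInstance _ (hb v hv) a) (ha v hv)
      inv_mem' := fun {a} ha v hv => by
        rw [show ⁅a⁻¹, v⁆ = a⁻¹ * ⁅a, v⁆⁻¹ * a⁻¹⁻¹ by simp only [commutatorElement_def]; group]
        exact Subgroup.Normal.conj_mem inferInstance _ (inv_mem (ha v hv)) a⁻¹ }
  suffices hle : R ≤ T from commutator_le.2 fun r hr v hv => hle hr v hv
  refine coprime_generation hU hR hRU T fun B hBU hB => ?_
  -- `B` is nontrivial
  have hB1 : B ≠ ⊥ := by
    intro e
    rw [e, relIndex_bot_left] at hB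
    refine hnc ?_
    obtain ⟨k, hk⟩ := IsPGroup.iff_card.1 (elem_isPGroup hU)
    rcases k with _ | _ | k
    · haveI : Subsingleton U := (Nat.card_eq_one_iff_unique.1 (by rw [hk, pow_zero])).1
      infer_instance
    · exact isCyclic_of_prime_card (p := p) (by rw [hk, pow_one])
    · rw [hk] at hB
      exact absurd ((Nat.pow_le_pow_iff_right hp.out.one_lt).1 (hB.trans (pow_one p).ge))
        (by omega)
  obtain ⟨⟨u, hu⟩, hu1'⟩ := (ne_bot_iff_exists_ne_one (H := B)).1 hB1
  have hu1 : u ≠ 1 := fun e => hu1' (Subtype.ext e)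
  have huU : u ∈ U := hBU hu
  have hcomm : ∀ a ∈ U, ∀ b ∈ U, a * b = b * a := fun a ha b hb => elem_comm hU ha hb
  set R₀ := R ⊓ centralizer ({u} : Set G)
  refine le_trans (inf_le_inf_left _ (centralizer_le (Set.singleton_subset_iff.2 hu))) ?_
  set X := ⁅R₀, U⁆
  suffices hX : X ≤ C from fun r hr v hv => hX (commutator_mem_commutator hr hv)
  have hUu : U ≤ centralizer ({u} : Set G) := fun v hv =>
    mem_centralizer_singleton_iff.2 (hcomm v hv u huU)
  have hUR₀ : U ≤ normalizer (R₀ : Set G) := fun v hv =>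
    mem_normalizer_inf_centralizer (hRU hv) (mem_centralizer_singleton_iff.1 (hUu hv))
  have hXR₀ : X ≤ R₀ := le_normalizer_iff_commutator_le_left.1 hUR₀
  have hXp : (Nat.card X).Coprime p :=
    (hp.out.coprime_iff_not_dvd.2 hR).symm.coprime_dvd_left
      (card_dvd_of_le (hXR₀.trans inf_le_left))
  have huX : zpowers u ≤ centralizer (X : Set G) := zpowers_le.2 (mem_centralizer_iff.2 fun x hx =>
    mem_centralizer_singleton_iff.1 (hXR₀ hx).2)
  have huE : zpowers u ≤ normalizer (E : Set G) := le_normalizer_of_normal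
  have hXE : X ≤ normalizer (E : Set G) := le_normalizer_of_normal
  have hup : IsPGroup p (zpowers u) := (elem_isPGroup hU).to_le (zpowers_le.2 huU)
  rcases hcond with h | h
  · refine Solv.thompson_PxQ (zpowers u) X E hup hXp hE huX huE hXE ?_
    have he : E ⊓ centralizer ((zpowers u : Subgroup G) : Set G) = E ⊓ centralizer (U : Set G) := by
      rw [h u huU hu1, zpowers_eq_closure, centralizer_closure]
    rw [he]
    -- three subgroups
    set E₀ := E ⊓ centralizer (U : Set G)
    have h1 : ⁅⁅U, E₀⁆, R₀⁆ = ⊥ := by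
      rw [commutator_eq_bot_iff_le_centralizer.2 (le_centralizer_iff.1 inf_le_right),
        commutator_bot_left]
    have h2 : ⁅⁅E₀, R₀⁆, U⁆ = ⊥ := by
      have hn : R₀ ≤ normalizer (E₀ : Set G) := by
        intro r hr
        have : r ∈ normalizer ((E ⊓ centralizer ({u} : Set G) : Subgroup G) : Set G) :=
          mem_normalizer_inf_centralizer (le_normalizer_of_normal (mem_top r))
            (mem_centralizer_singleton_iff.1 hr.2)
        rwa [← h u huU hu1] at this
      rw [commutator_eq_bot_iff_le_centralizer]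
      exact (le_normalizer_iff_commutator_le_left.1 hn).trans inf_le_right
    have h3 := commutator_commutator_eq_bot_of_rotate h1 h2
    exact le_centralizer_iff.1 (commutator_eq_bot_iff_le_centralizer.1 h3)
  · have hXu : ⁅zpowers u, X⁆ = ⊥ := commutator_eq_bot_iff_le_centralizer.2 huX
    have hle : ⁅E, X⁆ ≤ ⁅E, zpowers u⁆ := by
      rw [← h u huU hu1]
      set F := ⁅E, U⁆
      have hR₀F : R₀ ≤ normalizer (F : Set G) := by
        rw [show F = ⁅E, zpowers u⁆ from h u huU hu1]
        refine le_normalizer_iff.2 fun r hr x hx => ?_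
        have hmem : (MulAut.conj r).toMonoidHom x ∈
            (⁅E, zpowers u⁆).map (MulAut.conj r).toMonoidHom := mem_map_of_mem _ hx
        rw [map_commutator] at hmem
        have e1 : E.map (MulAut.conj r).toMonoidHom = E :=
          mem_normalizer_iff_map_conj_eq.1 (le_normalizer_of_normal (mem_top r))
        have e2 : (zpowers u).map (MulAut.conj r).toMonoidHom = zpowers u := by
          rw [MonoidHom.map_zpowers]
          congr 1
          show r * u * r⁻¹ = u
          rw [mem_centralizer_singleton_iff.1 hr.2, mul_inv_cancel_right]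
        rwa [e1, e2] at hmem
      have hFE : F ≤ E := le_normalizer_iff_commutator_le_left.1 le_normalizer_of_normal
      -- conjugation by `U` is trivial on `E` modulo `F`
      refine commutator_le.2 fun e he x hx => ?_
      let S : Subgroup G :=
        { carrier := {y | y ∈ normalizer (F : Set G) ∧ ∀ a ∈ E, ⁅a, y⁆ ∈ F}
          one_mem' := ⟨one_mem _, fun a _ => by rw [commutatorElement_one_right]; exact one_mem _⟩
          mul_mem' := fun {y z} hy hz => ⟨mul_mem hy.1 hz.1, fun a ha => by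
            rw [show ⁅a, y * z⁆ = ⁅a, y⁆ * (y * ⁅a, z⁆ * y⁻¹) by
              simp only [commutatorElement_def]; group]
            exact mul_mem (hy.2 a ha) ((mem_normalizer_iff.1 hy.1 _).1 (hz.2 a ha))⟩
          inv_mem' := fun {y} hy => ⟨inv_mem hy.1, fun a ha => by
            rw [show ⁅a, y⁻¹⁆ = y⁻¹ * ⁅a, y⁆⁻¹ * y⁻¹⁻¹ by simp only [commutatorElement_def]; group]
            exact (mem_normalizer_iff.1 (inv_mem hy.1) _).1 (inv_mem (hy.2 a ha))⟩ }
      suffices hS : X ≤ S from (hS hx).2 e he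
      refine commutator_le.2 fun r hr v hv => ⟨?_, fun a ha => ?_⟩
      · have hvF : v ∈ normalizer (F : Set G) := Cfsg.Lib.Solv.le_normalizer_commutator_left U E
          |> fun h' => (commutator_comm U E ▸ h' : U ≤ normalizer ((⁅E, U⁆ : Subgroup G) : Set G)) hv
        have hrF := hR₀F hr
        exact mul_mem (mul_mem (mul_mem hrF hvF) (inv_mem hrF)) (inv_mem hvF)
      · have hN : ∀ y : G, y * a * y⁻¹ ∈ E := fun y => Subgroup.Normal.conj_mem inferInstance a ha y
        have hvF : ∀ b ∈ E, ⁅b, v⁆ ∈ F := fun b hb => commutator_mem_commutator hb hv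
        have hvn : v ∈ normalizer (F : Set G) := Cfsg.Lib.Solv.le_normalizer_commutator_left U E
          |> fun h' => (commutator_comm U E ▸ h' : U ≤ normalizer ((⁅E, U⁆ : Subgroup G) : Set G)) hv
        set b := r⁻¹ * v⁻¹ * a * v * r
        have hb : b ∈ E := by
          have h' := Subgroup.Normal.conj_mem (inferInstance : E.Normal) a ha (r⁻¹ * v⁻¹)
          simpa [b, mul_assoc] using h'
        -- `⁅a, ⁅r, v⁆⁆` as a product of two elements of `F`
        rw [show ⁅a, ⁅r, v⁆⁆ = a * (r * v * r⁻¹ * v⁻¹ * a⁻¹ * v * r * v⁻¹ * r⁻¹) by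
          simp only [commutatorElement_def]; group]
        have e : a * (r * v * r⁻¹ * v⁻¹ * a⁻¹ * v * r * v⁻¹ * r⁻¹) =
            (a * (v⁻¹ * a * v)⁻¹) * (r * (b * (v * b * v⁻¹)⁻¹)⁻¹⁻¹ * r⁻¹) := by
          simp only [b]; group
        rw [e]
        refine mul_mem ?_ ((mem_normalizer_iff.1 (hR₀F hr) _).1 ?_)
        · rw [show a * (v⁻¹ * a * v)⁻¹ = ⁅a, v⁻¹⁆ by rw [commutatorElement_def]; group]
          exact commutator_mem_commutator ha (inv_mem hv)
        · rw [inv_inv]
          have hbv := hvF b hb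
          rw [commutatorElement_def] at hbv
          rw [show b * (v * b * v⁻¹)⁻¹ = b * v * b⁻¹ * v⁻¹ by group]
          exact hbv
    have h0 := LocalEasy.centralizes_of_commutator_le E (zpowers u) X hE hup
      (hp.out.coprime_iff_not_dvd.1 hXp.symm) huE hXE hXu hle
    exact le_centralizer_iff.1 (commutator_eq_bot_iff_le_centralizer.1 h0)

/-! ### Large subgroups and coprime subgroups -/

theorem large_fixed_points (Q : Subgroup G) (hQp : IsPGroup p ↥Q) (hlarge : IsLarge Q)
    (G₁ : Subgroup G) (hQG : Q ≤ G₁) (R : Subgroup G) (hR : (Nat.card ↥R).Coprime p)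
    (hGR : G₁ ≤ normalizer (R : Set G)) (U : Subgroup G) (hUG : U ≤ G₁) :
    ((∃ x ∈ U, x ≠ 1 ∧ ∃ g ∈ G₁, g * x * g⁻¹ ∈ Q ⊓ centralizer (Q : Set G)) →
      R ⊓ centralizer (U : Set G) = ⊥) ∧
    (IsElementaryAbelian p U → p ^ 2 ≤ Nat.card ↥U →
      (∀ U₀ : Subgroup G, U₀ ≤ U → IsCoatom (U₀.subgroupOf U) →
        ∃ x ∈ U₀, x ≠ 1 ∧ ∃ g ∈ G₁, g * x * g⁻¹ ∈ Q ⊓ centralizer (Q : Set G)) → R = ⊥) := by
  have key : ∀ x g : G, x ≠ 1 → g ∈ G₁ → g * x * g⁻¹ ∈ Q ⊓ centralizer (Q : Set G) →
      R ⊓ centralizer ({x} : Set G) = ⊥ := by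
    intro x g hx hg hz
    set z := g * x * g⁻¹ with hzdef
    have hz1 : zpowers z ≠ ⊥ := fun e => by
      rw [zpowers_eq_bot, hzdef, mul_inv_eq_one, mul_eq_left] at e
      exact hx e
    refine eq_bot_iff.2 fun r hr => mem_bot.2 ?_
    set r' := g * r * g⁻¹ with hr'def
    have hr'R : r' ∈ R := (mem_normalizer_iff.1 (hGR hg) r).1 hr.1
    have hr'z : r' ∈ normalizer ((zpowers z : Subgroup G) : Set G) := by
      refine centralizer_le_normalizer _ (mem_centralizer_iff.2 fun y hy => ?_)
      obtain ⟨k, rfl⟩ := mem_zpowers_iff.1 hy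
      refine (Commute.zpow_left ?_ k).eq
      have h := mem_centralizer_singleton_iff.1 hr.2
      show z * r' = r' * z
      calc z * r' = g * (x * r) * g⁻¹ := by rw [hzdef, hr'def]; group
        _ = g * (r * x) * g⁻¹ := by rw [h]
        _ = r' * z := by rw [hzdef, hr'def]; group
    have hr'Q := hlarge.2 (zpowers z) (zpowers_le.2 hz.2) hz1 hr'z
    have hr'CQ : r' ∈ centralizer (Q : Set G) := mem_centralizer_iff.2 fun q hq => by
      have hmem : r' * q * r'⁻¹ * q⁻¹ ∈ R ⊓ Q :=
        ⟨by
          have := (mem_normalizer_iff.1 (hGR (hQG hq)) r'⁻¹).1 (R.inv_mem hr'R)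
          have h2 := R.mul_mem hr'R this
          simpa [mul_assoc] using h2,
        Q.mul_mem ((mem_normalizer_iff.1 hr'Q q).1 hq) (Q.inv_mem hq)⟩
      obtain ⟨k, hk⟩ := IsPGroup.iff_card.1 hQp
      rw [inf_eq_bot_of_coprime (hk ▸ hR.pow_right k), mem_bot, mul_inv_eq_one,
        mul_inv_eq_iff_eq_mul] at hmem
      exact hmem.symm
    obtain ⟨k, hk⟩ := IsPGroup.iff_card.1 hQp
    have h1 : r' = 1 := (mem_bot (G := G)).1 (inf_eq_bot_of_coprime (hk ▸ hR.pow_right k) ▸
      (⟨hr'R, hlarge.1 hr'CQ⟩ : r' ∈ R ⊓ Q))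
    rw [hr'def, mul_inv_eq_one, mul_eq_left] at h1
    exact h1
  refine ⟨fun ⟨x, hx, hx1, g, hg, hz⟩ => eq_bot_iff.2 ((inf_le_inf_left _
    (centralizer_le (Set.singleton_subset_iff.2 hx))).trans (key x g hx1 hg hz).le), fun hU hcard h => ?_⟩
  refine eq_bot_iff.2 (coprime_generation hU (hp.out.coprime_iff_not_dvd.1 hR.symm) (hUG.trans hGR) ⊥
    fun B hBU hB => ?_)
  -- enlarge `B` to a proper subgroup inside a maximal one
  have hBlt : B.subgroupOf U ≠ ⊤ ∨ B = U := by
    by_cases e : B = U
    · exact Or.inr e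
    · exact Or.inl fun he => e (le_antisymm hBU (subgroupOf_eq_top.1 he))
  rcases hBlt with hne | rfl
  · obtain ⟨M, hM, hBM⟩ := (eq_top_or_exists_le_coatom _).resolve_left hne
    -- index at most `p` forces maximality
    have hMB : M = B.subgroupOf U := by
      refine le_antisymm ?_ hBM
      have hd : M.index ∣ (B.subgroupOf U).index := index_dvd_of_le hBM
      obtain ⟨a, ha⟩ := IsPGroup.iff_card.1 (elem_isPGroup hU)
      have hBd : (B.subgroupOf U).index ∣ p ^ a := ha ▸ index_dvd_card _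
      obtain ⟨i, -, hi⟩ := (Nat.dvd_prime_pow hp.out).1 hBd
      have hMi : M.index ∣ p ^ i := hi ▸ hd
      obtain ⟨j, hj, hj'⟩ := (Nat.dvd_prime_pow hp.out).1 hMi
      have hi1 : i ≤ 1 := (Nat.pow_le_pow_iff_right hp.out.one_lt).1 (hi ▸ hB.trans (pow_one p).ge)
      have hj1 : j ≠ 0 := fun e => hM.1 (index_eq_one.1 (by rw [hj', e, pow_zero]))
      have : (B.subgroupOf U).index = M.index := by rw [hi, hj']; congr 1; omega
      have hcardeq : Nat.card M = Nat.card (B.subgroupOf U) := by
        have h1 := card_mul_index M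
        have h2 := card_mul_index (B.subgroupOf U)
        rw [this] at h2
        exact Nat.eq_of_mul_eq_mul_right (Nat.pos_of_ne_zero index_ne_zero_of_finite) (h1.trans h2.symm)
      exact (eq_of_le_of_card_ge hBM hcardeq.le).ge
    obtain ⟨x, hx, hx1, g, hg, hz⟩ := h B hBU (hMB ▸ hM)
    exact (inf_le_inf_left _ (centralizer_le (Set.singleton_subset_iff.2 hx))).trans (key x g hx1 hg hz).le
  · obtain ⟨M, hM, -⟩ := (eq_top_or_exists_le_coatom (⊥ : Subgroup B)).resolve_left (by
      intro e
      have h1 : Nat.card B = 1 := by rw [← card_top, ← e, card_bot]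
      rw [h1] at hcard
      exact absurd hcard (not_le.2 (Nat.one_lt_pow two_ne_zero hp.out.one_lt)))
    obtain ⟨x, hx, hx1, g, hg, hz⟩ := h (M.map B.subtype) (map_subtype_le M)
      (by rwa [subgroupOf, comap_map_eq_self_of_injective B.subtype_injective])
    exact (inf_le_inf_left _ (centralizer_le (Set.singleton_subset_iff.2 (map_subtype_le M hx)))).trans
      (key x g hx1 hg hz).le

/-! ### Isolated elements in rank one -/

theorem inZStar_rank_one (hp2 : p ≠ 2) (hrk : PRankLE p 1 G) (x : G) (hx : orderOf x = p)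
    (hiso : IsIsolated x) : InZStar p x := by
  obtain ⟨S, hS⟩ := (IsPGroup.of_card (G := zpowers x) (n := 1) (p := p)
    (by rw [Nat.card_zpowers, hx, pow_one])).exists_le_sylow
  have hxS : x ∈ (S : Subgroup G) := hS (mem_zpowers x)
  have hSx := isolated_sylow_center hiso S.isPGroup' hxS
  have hord : ∀ y ∈ (S : Subgroup G), y ^ p = 1 → y ∈ zpowers x := by
    intro y hy hyp
    have hcy : Commute y x := mem_centralizer_singleton_iff.1 (hSx hy)
    have hxp : x ^ p = 1 := hx ▸ pow_orderOf_eq_one x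
    have hA : IsElementaryAbelian p (zpowers x ⊔ zpowers y) :=
      elem_sup (elem_zpowers hxp) (elem_zpowers hyp) (fun a ha b hb => by
        obtain ⟨i, rfl⟩ := mem_zpowers_iff.1 ha
        obtain ⟨j, rfl⟩ := mem_zpowers_iff.1 hb
        exact (hcy.zpow_zpow j i).eq)
    have hle := hrk _ hA.1 hA.2
    rw [pow_one] at hle
    have e : zpowers x = zpowers x ⊔ zpowers y :=
      eq_of_le_of_card_ge le_sup_left (by rw [Nat.card_zpowers, hx]; exact hle)
    exact e.symm ▸ (mem_sup_right (mem_zpowers y))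
  have hFC : Transfer.FrobeniusCond S := by
    intro Q hQS g hg hgp
    by_cases hQ1 : Q = ⊥
    · exact mem_centralizer_iff.2 fun q hq => by
        rw [hQ1] at hq
        rw [mem_bot.1 hq, one_mul, mul_one]
    have hQp := S.isPGroup'.to_le hQS
    have hxQ : x ∈ Q := by
      obtain ⟨y, hy, hyo⟩ := StrongEmb.exists_order_p (StrongEmb.dvd_of_ne_bot hQp hQ1)
      have h : zpowers y = zpowers x := eq_of_le_of_card_ge
        (zpowers_le.2 (hord y (hQS hy) (hyo ▸ pow_orderOf_eq_one y)))
        (by rw [Nat.card_zpowers, Nat.card_zpowers, hx, hyo])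
      exact (zpowers_le.2 hy : zpowers y ≤ Q) (h ▸ mem_zpowers x)
    have hgx : g * x * g⁻¹ = x := hiso g (Commute.symm
      (mem_centralizer_singleton_iff.1 (hSx (hQS ((mem_normalizer_iff.1 hg x).1 hxQ)))))
    refine (centralizes_of_fix_elementary (p := p) hp2 Q ⊥ (zpowers g) hQp bot_le elem_bot
      (zpowers_le.2 hg) (by rwa [Nat.card_zpowers]) fun y hy hyo => ?_) (mem_zpowers g)
    obtain ⟨k, rfl⟩ := mem_zpowers_iff.1 (hord y (hQS hy.1) (hyo ▸ pow_orderOf_eq_one y))
    refine zpowers_le.2 (mem_centralizer_singleton_iff.2 ?_)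
    exact (Commute.zpow_right (show Commute g x from mul_inv_eq_iff_eq_mul.1 hgx) k).eq
  obtain ⟨P, N, hN, hNP⟩ := (Transfer.frobenius_iff S).2 hFC
  have hNc : (Nat.card N).Coprime p := by
    refine (hp.out.coprime_iff_not_dvd.2 fun hd => ?_).symm
    exact P.not_dvd_index (hd.trans (dvd_of_eq hNP.index_eq_card.symm))
  have hNK : N ≤ pPrimeCore p G := Solv.le_pPrimeCore hN hNc
  have hNS : N ⊔ (S : Subgroup G) = ⊤ := by
    obtain ⟨h, hh⟩ := MulAction.exists_smul_eq G P S
    have h2 : N ⊔ (P : Subgroup G) = ⊤ := hNP.sup_eq_top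
    have h3 : cj h (N ⊔ (P : Subgroup G)) = cj h ⊤ := congrArg (cj h) h2
    have h4 : cj h N = N := cj_eq_self_iff.2 (le_normalizer_of_normal (mem_top h))
    have h5 : cj h (⊤ : Subgroup G) = ⊤ := map_top_of_surjective _ (MulAut.conj h).surjective
    rw [h5] at h3
    rw [← h3, ← hh, Sylow.coe_subgroup_smul]
    show N ⊔ cj h (P : Subgroup G) = _
    rw [cj, cj, Subgroup.map_sup]
    exact congrArg (· ⊔ _) h4.symm
  intro g
  have hg : g ∈ N ⊔ (S : Subgroup G) := hNS ▸ mem_top g
  obtain ⟨n, hn, s, hs, rfl⟩ := mem_sup_of_normal_left.1 hg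
  have e : s * x * s⁻¹ = x := by
    rw [mem_centralizer_singleton_iff.1 (hSx hs), mul_inv_cancel_right]
  rw [show n * s * x * (n * s)⁻¹ * x⁻¹ = n * (s * x * s⁻¹) * n⁻¹ * x⁻¹ by group, e,
    show n * x * n⁻¹ * x⁻¹ = n * (x * n⁻¹ * x⁻¹) by group]
  exact hNK (mul_mem hn (hN.conj_mem _ (inv_mem hn) x))

/-! ### A transfer criterion -/

theorem transfer_order_p {A : Type*} [CommGroup A] {H : Subgroup G} [Fintype (G ⧸ H)]
    (γ : H →* A) (x : G) (hxp : orderOf x = p) :
    MonoidHom.transfer γ x = ∏ q : G ⧸ H, Yoshida.fixedVal γ x q := by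
  classical
  letI := Fintype.ofFinite (Quotient (MulAction.orbitRel (zpowers x) (G ⧸ H)))
  let π : G ⧸ H → Quotient (MulAction.orbitRel (zpowers x) (G ⧸ H)) := Quotient.mk''
  rw [MonoidHom.transfer_eq_prod_quotient_orbitRel_zpowers_quot,
    ← Finset.prod_fiberwise Finset.univ π (Yoshida.fixedVal γ x)]
  refine Finset.prod_congr (Finset.ext fun _ => by simp) fun o _ => ?_
  have horb : ∀ q, π q = o → q ∈ MulAction.orbit (zpowers x) o.out := fun q hq => by
    rw [← MulAction.orbitRel_apply, ← Quotient.eq'']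
    exact hq.trans (Quotient.out_eq' o).symm
  by_cases h1 : Function.minimalPeriod (x • ·) o.out = 1
  · have hx1 : x • o.out = o.out := by
      have h2 := MulAction.pow_smul_eq_iff_minimalPeriod_dvd (a := x) (b := o.out) (n := 1)
      rw [pow_one] at h2
      exact h2.2 h1.dvd
    rw [show Finset.univ.filter (fun q => π q = o) = {o.out} from ?_, Finset.prod_singleton]
    · simp only [h1, pow_one]
      rw [Yoshida.fixedVal, dif_pos]
    · ext q
      simp only [Finset.mem_filter, Finset.mem_univ, true_and, Finset.mem_singleton]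
      refine ⟨fun hq => ?_, fun hq => hq ▸ Quotient.out_eq' o⟩
      obtain ⟨g, hg⟩ := horb q hq
      have hstab : zpowers x ≤ MulAction.stabilizer G o.out := zpowers_le.2 hx1
      exact hg.symm.trans (show (g : G) • o.out = o.out from hstab g.2)
  · have hdvd : Function.minimalPeriod (x • ·) o.out ∣ p :=
      hxp ▸ MulAction.pow_smul_eq_iff_minimalPeriod_dvd.1 (by rw [pow_orderOf_eq_one, one_smul])
    have hper : Function.minimalPeriod (x • ·) o.out = p :=
      (hp.out.eq_one_or_self_of_dvd _ hdvd).resolve_left h1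
    have hl : γ ⟨_, QuotientGroup.out_conj_pow_minimalPeriod_mem H x o.out⟩ = 1 := by
      refine (congrArg γ (Subtype.ext ?_)).trans (map_one γ)
      show o.out.out⁻¹ * x ^ Function.minimalPeriod (x • ·) o.out * o.out.out = 1
      rw [hper, ← hxp, pow_orderOf_eq_one, mul_one, inv_mul_cancel]
    rw [hl]
    refine (Finset.prod_eq_one fun q hq => ?_).symm
    by_contra hne
    have hfix : x • q = q := by
      unfold Yoshida.fixedVal at hne
      split_ifs at hne with h
      · conv_lhs => rw [← QuotientGroup.out_eq' q]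
        rw [MulAction.Quotient.smul_mk]
        conv_rhs => rw [← QuotientGroup.out_eq' q]
        exact QuotientGroup.eq.2 (by simpa [mul_assoc] using inv_mem h)
      · exact absurd rfl hne
    obtain ⟨g, hg⟩ := MulAction.mem_orbit_symm.1 (horb q (Finset.mem_filter.1 hq).2)
    have hstab : zpowers x ≤ MulAction.stabilizer G q := zpowers_le.2 hfix
    have hq' : q = o.out := (show (g : G) • q = q from hstab g.2).symm.trans hg
    refine h1 (Nat.eq_one_of_dvd_one
      ((MulAction.pow_smul_eq_iff_minimalPeriod_dvd (a := x) (b := o.out) (n := 1)).1 ?_))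
    rw [pow_one, ← hq', hfix]

theorem index_two_of_central_involution (S : Sylow 2 G) {z : G}
    (hzS : z ∈ (S : Subgroup G) ⊓ centralizer ((S : Subgroup G) : Set G)) (hz : orderOf z = 2)
    (hzΦ : z ∉ (frattini ↥(S : Subgroup G)).map (S : Subgroup G).subtype)
    (hN : ∀ g ∈ normalizer ((S : Subgroup G) : Set G), g * z * g⁻¹ = z) :
    pResidual 2 G ≠ ⊤ := by
  classical
  haveI : Fact (Nat.Prime 2) := ⟨Nat.prime_two⟩
  obtain ⟨M, hM, hzM⟩ : ∃ M : Subgroup ↥(S : Subgroup G), IsCoatom M ∧ (⟨z, hzS.1⟩ : ↥(S : Subgroup G)) ∉ M := by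
    by_contra h
    push_neg at h
    refine hzΦ ⟨⟨z, hzS.1⟩, ?_, rfl⟩
    rw [SetLike.mem_coe, frattini, Order.radical]
    simp only [mem_iInf]
    exact fun M hM => h M hM
  obtain ⟨hMn, hMi⟩ := Transfer.coatom_normal_index S.isPGroup' hM
  haveI := hMn
  have hcard : Nat.card (↥(S : Subgroup G) ⧸ M) = 2 := hMi
  haveI : IsCyclic (↥(S : Subgroup G) ⧸ M) := isCyclic_of_prime_card (p := 2) hcard
  letI : CommGroup (↥(S : Subgroup G) ⧸ M) := IsCyclic.commGroup
  haveI := Fintype.ofFinite (G ⧸ (S : Subgroup G))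
  set γ : ↥(S : Subgroup G) →* ↥(S : Subgroup G) ⧸ M := QuotientGroup.mk' M
  set c := γ ⟨z, hzS.1⟩
  have hc1 : c ≠ 1 := fun e => hzM ((QuotientGroup.eq_one_iff _).1 e)
  set f := fun q : G ⧸ (S : Subgroup G) => Yoshida.fixedVal γ z q
  have hf2 : ∀ a : ↥(S : Subgroup G) ⧸ M, a ^ 2 = 1 := fun a => (congrArg (a ^ ·) hcard.symm).trans pow_card_eq_one'
  have hSf : ∀ (s : ↥(S : Subgroup G)) (q : G ⧸ (S : Subgroup G)), f (s • q) = f q := by
    intro s q
    refine QuotientGroup.induction_on q fun a => ?_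
    have hs : (s : G) * z = z * s := mem_centralizer_iff.1 hzS.2 s s.2
    have e : ((s : G) * a)⁻¹ * z * ((s : G) * a) = a⁻¹ * z * a := by
      calc ((s : G) * a)⁻¹ * z * ((s : G) * a) = a⁻¹ * (s : G)⁻¹ * (z * s) * a := by group
        _ = a⁻¹ * z * a := by rw [← hs]; group
    show Yoshida.fixedVal γ z (((s : G) * a : G) : G ⧸ (S : Subgroup G)) = Yoshida.fixedVal γ z _
    rw [Yoshida.fixedVal_mk, Yoshida.fixedVal_mk]
    simp only [e]
  set F := Finset.univ.filter (fun q : G ⧸ (S : Subgroup G) => q ∈ MulAction.fixedPoints ↥(S : Subgroup G) (G ⧸ (S : Subgroup G)))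
  have hfix : ∀ q ∈ F, f q = c := by
    intro q hq
    have hq' := (Finset.mem_filter.1 hq).2
    have hmem : ∀ s ∈ (S : Subgroup G), q.out⁻¹ * s * q.out ∈ (S : Subgroup G) := by
      intro s hs
      have h := hq' ⟨s, hs⟩
      rw [← QuotientGroup.out_eq' q] at h
      have h2 := QuotientGroup.eq.1 (show ((s * q.out : G) : G ⧸ (S : Subgroup G)) = (q.out : G ⧸ _) from h)
      have := inv_mem h2
      simpa [mul_assoc] using this
    have hn : q.out ∈ normalizer ((S : Subgroup G) : Set G) := by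
      have hle : cj q.out⁻¹ (S : Subgroup G) ≤ (S : Subgroup G) := by
        rintro _ ⟨s, hs, rfl⟩
        simpa using hmem s hs
      have h := inv_mem (cj_eq_self_iff.1 (eq_of_le_of_card_ge hle
        (card_map_of_injective (MulAut.conj q.out⁻¹).injective).ge))
      rwa [inv_inv] at h
    have e : q.out⁻¹ * z * q.out = z := by
      have := hN _ (inv_mem hn)
      rwa [inv_inv] at this
    show Yoshida.fixedVal γ z q = c
    rw [Yoshida.fixedVal, dif_pos (e.symm ▸ hzS.1)]
    exact congrArg γ (Subtype.ext e)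
  -- values other than `1` are `c`
  have hval : ∀ a : ↥(S : Subgroup G) ⧸ M, a ≠ 1 → a = c := by
    intro a ha
    obtain ⟨d, -, hd⟩ := (Nat.card_eq_two_iff' (1 : ↥(S : Subgroup G) ⧸ M)).1 hcard
    exact (hd a ha).trans (hd c hc1).symm
  let B : SubMulAction ↥(S : Subgroup G) (G ⧸ (S : Subgroup G)) :=
    { carrier := {q | f q ≠ 1}
      smul_mem' := fun s q hq => by show f (s • q) ≠ 1; rw [hSf]; exact hq }
  -- the fixed cosets all lie in `B`
  have hfixB : Nat.card (MulAction.fixedPoints ↥(S : Subgroup G) B) =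
      Nat.card (MulAction.fixedPoints ↥(S : Subgroup G) (G ⧸ (S : Subgroup G))) := by
    refine Nat.card_congr
      { toFun := fun q => ⟨q.1.1, fun s => congrArg Subtype.val (q.2 s)⟩
        invFun := fun q => ⟨⟨q.1, ?_⟩, fun s => Subtype.ext (q.2 s)⟩
        left_inv := fun q => rfl
        right_inv := fun q => rfl }
    show f q.1 ≠ 1
    rw [hfix q.1 (Finset.mem_filter.2 ⟨Finset.mem_univ _, q.2⟩)]
    exact hc1
  have hodd : ¬ 2 ∣ Nat.card B := by
    rw [(S.isPGroup'.card_modEq_card_fixedPoints B).dvd_iff dvd_rfl, hfixB,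
      ← (S.isPGroup'.card_modEq_card_fixedPoints (G ⧸ (S : Subgroup G))).dvd_iff dvd_rfl]
    exact S.not_dvd_index
  intro htop
  have hker : MonoidHom.transfer γ z = 1 := by
    have hle : pResidual 2 G ≤ (MonoidHom.transfer γ).ker := (closure_le _).2 fun g hg => by
      refine MonoidHom.mem_ker.2 (orderOf_eq_one_iff.1 (Nat.eq_one_of_dvd_coprimes hg
        (orderOf_map_dvd _ g) (orderOf_dvd_of_pow_eq_one (hf2 _))))
    exact MonoidHom.mem_ker.1 (hle (htop ▸ mem_top z))
  rw [transfer_order_p (p := 2) γ z hz,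
    ← Finset.prod_filter_mul_prod_filter_not Finset.univ (fun q => f q ≠ 1)] at hker
  rw [Finset.prod_congr rfl (fun q hq => hval _ (Finset.mem_filter.1 hq).2), Finset.prod_const,
    Finset.prod_eq_one (fun q hq => not_not.1 (Finset.mem_filter.1 hq).2), mul_one] at hker
  have hB : (Finset.univ.filter (fun q => f q ≠ 1)).card = Nat.card B := by
    exact (Nat.subtype_card _ fun q => by simp [B]; rfl).symm
  rw [hB] at hker
  refine hodd (?_ : 2 ∣ Nat.card B)
  have ho : orderOf c = 2 := orderOf_eq_prime (hf2 c) hc1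
  have h2' := orderOf_dvd_of_pow_eq_one hker
  rwa [ho] at h2'

/-! ### `p`-minimal groups -/

theorem pminimal_props {P : Type u} [Group P] [Finite P] (hP : IsPMinimal p P) (S : Sylow p P)
    (M : Subgroup P) (hM : IsCoatom M) (hSM : (S : Subgroup P) ≤ M) [hF : M.normalCore.Normal] :
    (∀ N : Subgroup P, N.IsSubnormal → N ≤ M → N ⊓ (S : Subgroup P) ≤ pCore p P) ∧
    ((∀ T : Sylow p ↥(pResidual p P), (T : Subgroup ↥(pResidual p P)).Normal) →
      (Nat.card P).primeFactors.card ≤ 2) ∧
    (∀ N : Subgroup P, N.Normal → pResidual p P ≤ N ∨ N ≤ M.normalCore) ∧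
    (∀ N : Subgroup P, N.Normal → M.normalCore ≤ N → N ≤ pResidual p P ⊔ M.normalCore →
      N = M.normalCore ∨ N = pResidual p P ⊔ M.normalCore) ∧
    M.normalCore < pResidual p P ⊔ M.normalCore := by
  obtain ⟨hnn, M', -, huniq⟩ := hP S
  have key : ∀ K : Subgroup P, K ≠ ⊤ → (S : Subgroup P) ≤ K → K ≤ M := by
    intro K hK hSK
    obtain ⟨M'', hM'', hKM''⟩ := (eq_top_or_exists_le_coatom K).resolve_left hK
    rw [huniq M ⟨hM, hSM⟩, ← huniq M'' ⟨hM'', hSK.trans hKM''⟩]
    exact hKM''
  haveI := Transfer.pResidual_normal (G := P) p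
  set F := M.normalCore
  set O := pResidual p P
  have hOS : O ⊔ (S : Subgroup P) = ⊤ := Transfer.pResidual_sup_sylow S
  have hdich : ∀ N : Subgroup P, N.Normal → O ≤ N ∨ N ≤ F := by
    intro N hN
    by_cases hNM : N ≤ M
    · exact Or.inr (normal_le_normalCore.2 hNM)
    left
    have hNS : N ⊔ (S : Subgroup P) = ⊤ := by
      by_contra h
      exact hNM (le_sup_left.trans (key _ h le_sup_right))
    have hq : IsPGroup p (P ⧸ N) := by
      refine S.isPGroup'.of_surjective ((QuotientGroup.mk' N).comp (S : Subgroup P).subtype)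
        fun x => ?_
      obtain ⟨g, rfl⟩ := QuotientGroup.mk'_surjective N x
      have hg : g ∈ N ⊔ (S : Subgroup P) := hNS ▸ mem_top g
      obtain ⟨a, ha, b, hb, rfl⟩ := mem_sup_of_normal_left.1 hg
      exact ⟨⟨b, hb⟩, by simp [(QuotientGroup.eq_one_iff a).2 ha]⟩
    refine (closure_le _).2 fun g hg => ?_
    obtain ⟨k, hk⟩ := IsPGroup.iff_orderOf.1 hq (g : P ⧸ N)
    refine (QuotientGroup.eq_one_iff g).1 (orderOf_eq_one_iff.1
      (Nat.eq_one_of_dvd_coprimes (Nat.Coprime.pow_right k hg)
        (orderOf_map_dvd (QuotientGroup.mk' N) g) (hk ▸ dvd_refl _)))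
  refine ⟨fun N hN hNM => ?_, fun hT => ?_, hdich, fun N hN h1 h2 => ?_, ?_⟩
  · haveI : Fact p.Prime := hp
    obtain ⟨T, hT⟩ := Solv.sylow_inf_subnormal (hF.isSubnormal) S
    have hTm : (T : Subgroup F).map F.subtype = (S : Subgroup P) ⊓ F := by
      rw [hT, subgroupOf_map_subtype]
    have hfr := T.normalizer_sup_eq_top
    rw [hTm] at hfr
    have hn : ((S : Subgroup P) ⊓ F).Normal := by
      by_contra hnn'
      refine hM.1 (top_le_iff.1 (hfr ▸ sup_le (key _ (fun e => hnn' (normalizer_eq_top_iff.1 e)) ?_)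
        (normalCore_le M)))
      intro s hs
      refine mem_normalizer_iff.2 fun x => ?_
      rw [mem_inf, mem_inf, ← mem_normalizer_iff.1 (le_normalizer hs) x,
        ← mem_normalizer_iff.1 ((normalizer_eq_top_iff.2 hF).ge (mem_top s)) x]
    exact (le_inf inf_le_right (inf_le_left.trans (Solv.subnormal_le_normalCore hM hN hNM))).trans
      (Solv.le_pCore hn (S.isPGroup'.to_le inf_le_left))
  · -- a normal Sylow subgroup of the residual
    obtain ⟨T⟩ : Nonempty (Sylow p O) := inferInstance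
    haveI := hT T
    haveI hTc := T.characteristic_of_normal inferInstance
    set TP := (T : Subgroup O).map O.subtype
    haveI hTPn : TP.Normal := inferInstance
    have hTS : TP ≤ (S : Subgroup P) := by
      have h := Solv.le_pCore hTPn (T.isPGroup'.map O.subtype)
      exact h.trans (Transfer.pCore_le_sylow S)
    by_contra hcard
    push_neg at hcard
    refine hM.1 (eq_top_of_card_eq _ (Nat.dvd_antisymm (card_subgroup_dvd_card M) ?_))
    refine (Nat.dvd_iff_prime_pow_dvd_dvd _ _).2 fun q k hq hqk => ?_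
    haveI : Fact q.Prime := ⟨hq⟩
    rcases Nat.eq_zero_or_pos k with rfl | hk
    · simp
    by_cases hqp : q = p
    · subst hqp
      exact (S.pow_dvd_card_of_pow_dvd_card hqk).trans (card_dvd_of_le hSM)
    -- a Sylow `q`-subgroup of the residual
    obtain ⟨Q⟩ : Nonempty (Sylow q O) := inferInstance
    set QP := (Q : Subgroup O).map O.subtype
    have hfr := Q.normalizer_sup_eq_top
    have hidx : ¬ p ∣ (normalizer (QP : Set P) ⊔ TP).index := by
      set K := normalizer (QP : Set P) ⊔ TP
      have e : O ⊔ K = ⊤ := top_le_iff.1 (hfr ▸ sup_le (le_sup_left.trans le_sup_right) le_sup_left)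
      have h1 : (O.relIndex K) * K.index = (O ⊓ K).index := by
        rw [← inf_relIndex_right O K, relIndex_mul_index inf_le_right]
      have h2 : (K.relIndex O) * O.index = (O ⊓ K).index := by
        rw [← inf_relIndex_left O K, relIndex_mul_index inf_le_left]
      have h3 : O.relIndex K = O.index := by
        rw [← relIndex_sup_left (H := K) (K := O), e, relIndex_top_right]
      have h4 : K.index = K.relIndex O := by
        have hpos : 0 < O.index := Nat.pos_of_ne_zero index_ne_zero_of_finite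
        refine Nat.eq_of_mul_eq_mul_left hpos ?_
        rw [← h3]
        nth_rw 2 [h3]
        rw [h1, ← h2, mul_comm]
      rw [h4]
      intro hd
      refine T.not_dvd_index (hd.trans ?_)
      exact index_dvd_of_le (fun x hx => mem_subgroupOf.2 (mem_sup_right (mem_map_of_mem _ hx)))
    obtain ⟨S', hS'⟩ : ∃ S' : Sylow p P, (S' : Subgroup P) ≤ normalizer (QP : Set P) ⊔ TP := by
      set K := normalizer (QP : Set P) ⊔ TP
      obtain ⟨S₁⟩ : Nonempty (Sylow p K) := inferInstance
      obtain ⟨S', hS'⟩ := (S₁.isPGroup'.map K.subtype).exists_le_sylow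
      refine ⟨S', fun x hx => ?_⟩
      have hc : Nat.card ((S₁ : Subgroup K).map K.subtype) = Nat.card S' := by
        rw [card_map_of_injective K.subtype_injective, S₁.card_eq_multiplicity, S'.card_eq_multiplicity,
          ← K.card_mul_index, Nat.factorization_mul Nat.card_pos.ne' index_ne_zero_of_finite,
          Finsupp.add_apply, Nat.factorization_eq_zero_of_not_dvd hidx, add_zero]
      rw [← eq_of_le_of_card_ge hS' hc.ge] at hx
      exact map_subtype_le _ hx
    obtain ⟨g, hg⟩ := MulAction.exists_smul_eq P S' S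
    have hSn : (S : Subgroup P) ≤ normalizer ((cj g (QP ⊔ TP) : Subgroup P) : Set P) := by
      rw [← hg, Sylow.coe_subgroup_smul]
      show cj g (S' : Subgroup P) ≤ _
      refine (cj_mono g hS').trans ((cj_mono g ?_).trans (cj_normalizer g _).le)
      refine sup_le (fun n hn => ?_) (le_sup_right.trans le_normalizer)
      refine mem_normalizer_iff_map_conj_eq.2 ?_
      have e1 : QP.map (MulAut.conj n).toMonoidHom = QP := mem_normalizer_iff_map_conj_eq.1 hn
      have e2 : TP.map (MulAut.conj n).toMonoidHom = TP :=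
        mem_normalizer_iff_map_conj_eq.1 ((normalizer_eq_top_iff.2 hTPn).ge (mem_top n))
      show (QP ⊔ TP).map (MulAut.conj n).toMonoidHom = QP ⊔ TP
      rw [Subgroup.map_sup, e1, e2]
    set W := cj g QP
    have hWp : IsPGroup q W := (Q.isPGroup'.map _).map _
    have hWT : cj g (QP ⊔ TP) = W ⊔ TP := by
      show (QP ⊔ TP).map _ = _
      rw [Subgroup.map_sup]
      rw [show TP.map (MulAut.conj g).toMonoidHom = TP from mem_normalizer_iff_map_conj_eq.1 ((normalizer_eq_top_iff.2 hTPn).ge (mem_top g))]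
    rw [hWT] at hSn
    set J := W ⊔ TP ⊔ (S : Subgroup P)
    -- only two primes divide the order of `J`
    have hJ : ∀ r : ℕ, r.Prime → r ∣ Nat.card J → r = p ∨ r = q := by
      intro r hr hd
      obtain ⟨a, ha⟩ := IsPGroup.iff_card.1 hWp
      obtain ⟨b, hb⟩ := IsPGroup.iff_card.1 (T.isPGroup'.map O.subtype)
      obtain ⟨c, hc⟩ := IsPGroup.iff_card.1 S.isPGroup'
      have h1 : Nat.card ↥(W ⊔ TP : Subgroup P) ∣ q ^ a * p ^ b := by
        rw [← ha, ← hb]; exact Transfer.card_sup_dvd_of_normal W TP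
      have h2 : Nat.card J ∣ Nat.card ↥(W ⊔ TP : Subgroup P) * p ^ c := by
        have e := relIndex_mul_relIndex (⊥ : Subgroup P) (W ⊔ TP) J bot_le le_sup_left
        rw [relIndex_bot_left, relIndex_bot_left] at e
        rw [← e, Sig.relIndex_sup_normalized hSn]
        exact mul_dvd_mul_left _ ((relIndex_dvd_card _ _).trans hc.dvd)
      have h3 := hd.trans (h2.trans (Nat.mul_dvd_mul_right h1 _))
      rcases (Nat.Prime.dvd_mul hr).1 h3 with h | h
      · rcases (Nat.Prime.dvd_mul hr).1 h with h | h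
        · exact Or.inr ((Nat.prime_dvd_prime_iff_eq hr hq).1 (hr.dvd_of_dvd_pow h))
        · exact Or.inl ((Nat.prime_dvd_prime_iff_eq hr hp.out).1 (hr.dvd_of_dvd_pow h))
      · exact Or.inl ((Nat.prime_dvd_prime_iff_eq hr hp.out).1 (hr.dvd_of_dvd_pow h))
    have hJne : J ≠ ⊤ := fun e => by
      have hsub : (Nat.card P).primeFactors ⊆ {p, q} := fun r hr => by
        rw [Nat.mem_primeFactors] at hr
        rw [Finset.mem_insert, Finset.mem_singleton]
        exact hJ r hr.1 (by rw [e, card_top]; exact hr.2.1)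
      exact absurd ((Finset.card_le_card hsub).trans Finset.card_le_two) (not_le.2 hcard)
    have hWM : W ≤ M := (le_sup_left.trans le_sup_left).trans (key J hJne le_sup_right)
    refine dvd_trans ?_ (card_dvd_of_le hWM)
    rw [card_map_of_injective (MulAut.conj g).injective, card_map_of_injective O.subtype_injective]
    refine Q.pow_dvd_card_of_pow_dvd_card ?_
    have hOi : IsPGroup p (P ⧸ O) := Transfer.isPGroup_quotient_of_pResidual_le O le_rfl
    obtain ⟨i, hi⟩ := IsPGroup.iff_card.1 hOi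
    have hco : Nat.Coprime (q ^ k) O.index := by
      rw [show O.index = p ^ i from hi]
      exact Nat.Coprime.pow _ _ ((Nat.coprime_primes hq hp.out).2 hqp)
    rw [← card_mul_index O] at hqk
    exact hco.dvd_of_dvd_mul_right hqk
  · rcases hdich N hN with h | h
    · exact Or.inr (le_antisymm h2 (sup_le h h1))
    · exact Or.inl (le_antisymm h h1)
  · refine lt_of_le_of_ne le_sup_right fun e => hM.1 (top_le_iff.1 (hOS ▸ sup_le ?_ hSM))
    exact (le_sup_left.trans e.ge).trans (normalCore_le M)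

end Cfsg.Lib.PLocal.LocalMisc4
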