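import Mathlib
import Cfsg.Prelude.Def_Transfer
import Cfsg.Prelude.Def_TwoFusion
import Cfsg.Agent.Lib.Transfer.ExtraspecialClass
import Cfsg.Agent.Lib.PLocal.NarrowOdd
import Cfsg.Agent.Lib.Solv.ExtraspecialIndex

/-!
Extraspecial groups; transfer into a maximal subgroup with a normal subgroup of prime index.
-/

set_option autoImplicit false
set_option maxHeartbeats 800000

namespace Cfsg.Lib.LocalMisc6

open Subgroup
open scoped commutatorElement Pointwise

universe u

/-! ### Counting in extraspecial two-groups -/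

open scoped Classical in
/-- The sign of an element: `1` at the identity, `-1` elsewhere. -/
noncomputable def sgn {E : Type u} [Group E] (g : E) : ℤ := if g = 1 then 1 else -1

theorem sgn_mul {E : Type u} [Group E] [Finite E] {Z : Subgroup E} (hZ : Nat.card Z = 2) {u v : E}
    (hu : u ∈ Z) (hv : v ∈ Z) : sgn (u * v) = sgn u * sgn v := by
  rcases eq_or_ne u 1 with rfl | hu1
  · rw [one_mul]; simp [sgn]
  rcases eq_or_ne v 1 with rfl | hv1
  · rw [mul_one]; simp [sgn]
  obtain ⟨w, -, hw⟩ := (Nat.card_eq_two_iff' (1 : Z)).1 hZ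
  have h1 := hw ⟨u, hu⟩ fun e => hu1 (congrArg Subtype.val e)
  have h2 := hw ⟨v, hv⟩ fun e => hv1 (congrArg Subtype.val e)
  have huv : u = v := congrArg Subtype.val (h1.trans h2.symm)
  have hsq : u * u = 1 := by
    have h3 : (⟨u, hu⟩ : Z) ^ Nat.card Z = 1 := pow_card_eq_one'
    rw [hZ, pow_two] at h3
    exact congrArg Subtype.val h3
  simp [sgn, ← huv, hu1, hsq]

theorem sum_comm_zero {E : Type u} [Group E] [Finite E] (hc : ∀ a b : E, ⁅a, b⁆ ∈ center E)
    (hZ : Nat.card (center E) = 2) (A : Subgroup E) [Fintype A] (x : E) (a₀ : E) (ha₀ : a₀ ∈ A)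
    (h : ⁅x, a₀⁆ ≠ 1) : ∑ a : A, sgn ⁅x, (a : E)⁆ = 0 := by
  have hmul : ∀ a b : E, ⁅x, a * b⁆ = ⁅x, a⁆ * ⁅x, b⁆ := fun a b => by
    calc ⁅x, a * b⁆ = ⁅x, a⁆ * (a * ⁅x, b⁆ * a⁻¹) := by simp only [commutatorElement_def]; group
      _ = ⁅x, a⁆ * ⁅x, b⁆ := by rw [NarrowOdd.conj_center (hc x b)]
  have h1 : ∑ a : A, sgn ⁅x, ((a * ⟨a₀, ha₀⟩ : A) : E)⁆ = ∑ a : A, sgn ⁅x, (a : E)⁆ :=
    Equiv.sum_comp (Equiv.mulRight (⟨a₀, ha₀⟩ : A)) fun a : A => sgn ⁅x, (a : E)⁆
  have h2 : ∀ a : A, sgn ⁅x, ((a * ⟨a₀, ha₀⟩ : A) : E)⁆ = -sgn ⁅x, (a : E)⁆ := fun a => by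
    rw [Subgroup.coe_mul, hmul, sgn_mul hZ (hc _ _) (hc _ _)]
    simp [sgn, h]
  rw [Finset.sum_congr rfl fun a _ => h2 a, Finset.sum_neg_distrib] at h1
  linarith

theorem count_order_four {E : Type u} [Group E] [Finite E] (m : ℕ) (hE : Cfsg.IsExtraspecial 2 E)
    (hcard : Nat.card E = 2 ^ (2 * m + 1))
    (hplus : ∃ A : Subgroup E, Cfsg.IsElementaryAbelian 2 A ∧ Nat.card A = 2 ^ (m + 1)) :
    Nat.card {x : E // orderOf x = 4} = 2 ^ (2 * m) - 2 ^ m := by
  classical
  haveI := Fintype.ofFinite E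
  obtain ⟨hZ, hc, hp⟩ := Cfsg.Lib.Transfer.ExtraspecialClass.ES.of_extraspecial hE
  obtain ⟨A, hA, hAc⟩ := hplus
  haveI := hA.1
  have hsq : ∀ z ∈ center E, z ^ 2 = 1 := fun z hz => by
    have h : (⟨z, hz⟩ : center E) ^ Nat.card (center E) = 1 := pow_card_eq_one'
    rw [hZ] at h
    simpa using congrArg Subtype.val h
  -- an elementary abelian subgroup containing the centre
  have key : ∀ B : Subgroup E, center E ≤ B →
      Nat.card B * Nat.card (centralizer (B : Set E)) = 2 * Nat.card E := by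
    intro B hZB
    have hrow : ∀ x : E, ∑ a : B, sgn ⁅x, (a : E)⁆ =
        if x ∈ centralizer (B : Set E) then (Nat.card B : ℤ) else 0 := by
      intro x
      split_ifs with h
      · rw [Finset.sum_congr rfl fun (a : B) (_ : a ∈ Finset.univ) => show sgn ⁅x, (a : E)⁆ = 1 by
          rw [sgn, if_pos (commutatorElement_eq_one_iff_mul_comm.2 (mem_centralizer_iff.1 h a a.2).symm)]]
        simp [Nat.card_eq_fintype_card]
      · obtain ⟨a₀, ha₀, hne⟩ : ∃ a₀ ∈ B, ⁅x, a₀⁆ ≠ 1 := by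
          by_contra hno
          push Not at hno
          exact h (mem_centralizer_iff.2 fun a ha =>
            (commutatorElement_eq_one_iff_mul_comm.1 (hno a ha)).symm)
        exact sum_comm_zero hc hZ B x a₀ ha₀ hne
    have hcol : ∀ a : B, ∑ x : E, sgn ⁅x, (a : E)⁆ =
        if (a : E) ∈ center E then (Nat.card E : ℤ) else 0 := by
      intro a
      split_ifs with h
      · rw [Finset.sum_congr rfl fun (x : E) (_ : x ∈ Finset.univ) => show sgn ⁅x, (a : E)⁆ = 1 by
          rw [sgn, if_pos (commutatorElement_eq_one_iff_mul_comm.2 (mem_center_iff.1 h x))]]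
        simp [Nat.card_eq_fintype_card]
      · obtain ⟨x₀, hne⟩ : ∃ x₀ : E, ⁅(a : E), x₀⁆ ≠ 1 := by
          by_contra hno
          push Not at hno
          exact h (mem_center_iff.2 fun g =>
            (commutatorElement_eq_one_iff_mul_comm.1 (hno g)).symm)
        have h0 := sum_comm_zero hc hZ ⊤ (a : E) x₀ (mem_top _) hne
        have hsgn : ∀ u : E, sgn u⁻¹ = sgn u := fun u => by simp [sgn]
        have hswap : ∀ x : E, sgn ⁅x, (a : E)⁆ = sgn ⁅(a : E), x⁆ := fun x => by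
          rw [← commutatorElement_inv (a : E) x, hsgn]
        rw [Finset.sum_congr rfl fun x _ => hswap x]
        rwa [← Equiv.sum_comp (Subgroup.topEquiv (G := E)).toEquiv fun x => sgn ⁅(a : E), x⁆]
    have hT := Finset.sum_comm (s := (Finset.univ : Finset E)) (t := (Finset.univ : Finset B))
      (f := fun x a => sgn ⁅x, (a : E)⁆)
    rw [Finset.sum_congr rfl fun x _ => hrow x, Finset.sum_congr rfl fun a _ => hcol a,
      ← Finset.sum_filter, ← Finset.sum_filter, Finset.sum_const, Finset.sum_const,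
      ← Fintype.card_subtype, ← Fintype.card_subtype, nsmul_eq_mul, nsmul_eq_mul] at hT
    have h1 : Fintype.card {a : B // (a : E) ∈ center E} = 2 := by
      rw [← Nat.card_eq_fintype_card, ← hZ]
      exact Nat.card_congr (subgroupOfEquivOfLe hZB).toEquiv
    rw [h1, ← Nat.card_eq_fintype_card] at hT
    rw [mul_comm (Nat.card B)]
    exact_mod_cast hT
  have hbound : ∀ B : Subgroup E, center E ≤ B → IsMulCommutative B → Nat.card B ≤ 2 ^ (m + 1) := by
    intro B hZB hB
    haveI := hB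
    have h1 : Nat.card B ≤ Nat.card (centralizer (B : Set E)) := card_le_of_le (le_centralizer B)
    have h2 := key B hZB
    rw [hcard] at h2
    refine (Nat.pow_le_pow_iff_left (n := 2) two_ne_zero).1 ?_
    calc Nat.card B ^ 2 ≤ Nat.card B * Nat.card (centralizer (B : Set E)) := by
          rw [pow_two]; exact Nat.mul_le_mul_left _ h1
      _ = (2 ^ (m + 1)) ^ 2 := by rw [h2, ← pow_mul, ← pow_succ']; ring_nf
  have hZA : center E ≤ A := by
    have hB := NarrowOdd.elem_closure (p := 2) (s := (A : Set E) ∪ center E) ?_ ?_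
    · have hle : A ≤ closure ((A : Set E) ∪ center E) := fun a ha => subset_closure (Or.inl ha)
      rw [eq_of_le_of_card_ge hle (hAc ▸ hbound _ (fun z hz => subset_closure (Or.inr hz)) hB.1)]
      exact fun z hz => subset_closure (Or.inr hz)
    · rintro a (ha | ha) b (hb | hb)
      · exact congrArg Subtype.val (mul_comm' (⟨a, ha⟩ : A) ⟨b, hb⟩)
      · exact mem_center_iff.1 hb a
      · exact (mem_center_iff.1 ha b).symm
      · exact mem_center_iff.1 hb a
    · rintro a (ha | ha)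
      · exact hA.2 a ha
      · exact hsq a ha
  have hCA : centralizer (A : Set E) = A := by
    refine (eq_of_le_of_card_ge (le_centralizer A) ?_).symm
    have h2 := key A hZA
    rw [hAc, hcard] at h2
    refine le_of_eq (Nat.eq_of_mul_eq_mul_left (Nat.two_pow_pos (m + 1)) ?_)
    rw [h2, hAc, ← pow_add, ← pow_succ']
    ring_nf
  -- the signed count of squares
  have hsum : ∑ g : E, sgn (g ^ 2) = (Nat.card A : ℤ) := by
    have hstep : ∀ x : E, ∑ a : A, sgn ((x * a) ^ 2) = if x ∈ A then (Nat.card A : ℤ) else 0 := by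
      intro x
      have he : ∀ a : A, (x * (a : E)) ^ 2 = x ^ 2 * ⁅x⁻¹, (a : E)⁆ := fun a => by
        have ha := hA.2 a a.2
        rw [pow_two] at ha
        calc (x * (a : E)) ^ 2 = x ^ 2 * ⁅x⁻¹, (a : E)⁆ * ((a : E) * a) := by
              simp only [pow_two, commutatorElement_def]; group
          _ = x ^ 2 * ⁅x⁻¹, (a : E)⁆ := by rw [ha, mul_one]
      rw [Finset.sum_congr rfl fun a _ => by rw [he a, sgn_mul hZ (hp x) (hc _ _)], ← Finset.mul_sum]
      split_ifs with h
      · rw [hA.2 x h, Finset.sum_congr rfl fun (a : A) (_ : a ∈ Finset.univ) => show sgn ⁅x⁻¹, (a : E)⁆ = 1 by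
          rw [sgn, if_pos (commutatorElement_eq_one_iff_mul_comm.2
            (congrArg Subtype.val (mul_comm' (⟨x⁻¹, A.inv_mem h⟩ : A) a)))]]
        simp [sgn, Nat.card_eq_fintype_card]
      · obtain ⟨a₀, ha₀, hne⟩ : ∃ a₀ ∈ A, ⁅x⁻¹, a₀⁆ ≠ 1 := by
          by_contra hno
          push Not at hno
          refine h ?_
          have hx : x⁻¹ ∈ centralizer (A : Set E) := mem_centralizer_iff.2 fun a ha =>
            (commutatorElement_eq_one_iff_mul_comm.1 (hno a ha)).symm
          rw [hCA] at hx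
          simpa using A.inv_mem hx
        rw [sum_comm_zero hc hZ A x⁻¹ a₀ ha₀ hne, mul_zero]
    have h1 : ∑ x : E, ∑ a : A, sgn ((x * (a : E)) ^ 2) = (Nat.card A : ℤ) * ∑ g : E, sgn (g ^ 2) := by
      rw [Finset.sum_comm, Finset.sum_congr rfl fun (a : A) _ =>
        show ∑ x : E, sgn ((x * (a : E)) ^ 2) = ∑ g : E, sgn (g ^ 2) from
          Equiv.sum_comp (Equiv.mulRight (a : E)) fun g : E => sgn (g ^ 2)]
      simp [Nat.card_eq_fintype_card]
    rw [Finset.sum_congr rfl fun x _ => hstep x, ← Finset.sum_filter, Finset.sum_const,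
      ← Fintype.card_subtype, nsmul_eq_mul, ← Nat.card_eq_fintype_card] at h1
    exact (mul_left_cancel₀ (by exact_mod_cast (Nat.card_pos (α := A)).ne') h1).symm
  have hfour : ∀ g : E, orderOf g = 4 ↔ g ^ 2 ≠ 1 := fun g => by
    refine ⟨fun h e => ?_, fun h => ?_⟩
    · have := Nat.le_of_dvd two_pos (orderOf_dvd_of_pow_eq_one e)
      omega
    · exact orderOf_eq_prime_pow (p := 2) (n := 1) (by simpa using h)
        (by rw [show (2 : ℕ) ^ (1 + 1) = 2 * 2 from rfl, pow_mul, hsq _ (hp g)])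
  have hs2 : ∀ g : E, sgn (g ^ 2) = 1 - 2 * (if orderOf g = 4 then (1 : ℤ) else 0) := by
    intro g
    by_cases h : g ^ 2 = 1 <;> simp [sgn, hfour, h]
  rw [Finset.sum_congr rfl fun g _ => hs2 g, Finset.sum_sub_distrib, ← Finset.mul_sum,
    Finset.sum_boole, Finset.sum_const, Finset.card_univ, ← Fintype.card_subtype,
    ← Nat.card_eq_fintype_card, ← Nat.card_eq_fintype_card, hcard, hAc, nsmul_eq_mul, mul_one]
    at hsum
  push_cast at hsum
  rw [pow_succ, pow_succ] at hsum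
  have hle : 2 ^ m ≤ 2 ^ (2 * m) := Nat.pow_le_pow_right two_pos (by omega)
  generalize Nat.card {x : E // orderOf x = 4} = N at hsum ⊢
  zify [hle]
  linarith

/-! ### Transfer into a maximal subgroup -/

theorem exists_transfer_kernel {G : Type u} [Group G] [Finite G] (M H : Subgroup G) (hHM : H ≤ M)
    (hn : (H.subgroupOf M).Normal) (hcomm : ∀ a b : M, ⁅a, b⁆ ∈ H.subgroupOf M)
    (hfus : ∀ g ∉ M, ∀ y ∈ M, g * y * g⁻¹ ∈ M → y ∈ H) :
    ∃ N : Subgroup G, N.Normal ∧ commutator G ≤ N ∧ H ≤ N ∧ N ⊓ M = H := by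
  classical
  haveI := hn
  set K := H.subgroupOf M with hK
  letI : CommGroup (M ⧸ K) := { (inferInstance : Group (M ⧸ K)) with
    mul_comm := fun a b => by
      obtain ⟨a, rfl⟩ := QuotientGroup.mk_surjective a
      obtain ⟨b, rfl⟩ := QuotientGroup.mk_surjective b
      refine commutatorElement_eq_one_iff_mul_comm.1 ?_
      show ⁅QuotientGroup.mk' K a, QuotientGroup.mk' K b⁆ = 1
      rw [← map_commutatorElement]
      exact (QuotientGroup.eq_one_iff _).2 (hcomm a b) }
  let ψ : M →* M ⧸ K := QuotientGroup.mk' K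
  let V : G →* M ⧸ K := MonoidHom.transfer ψ
  have hV : ∀ m : M, V m = ψ m := by
    intro m
    haveI := Fintype.ofFinite (Quotient (MulAction.orbitRel (zpowers (m : G)) (G ⧸ M)))
    rw [show V m = _ from MonoidHom.transfer_eq_prod_quotient_orbitRel_zpowers_quot ψ (m : G)]
    set q₀ : Quotient (MulAction.orbitRel (zpowers (m : G)) (G ⧸ M)) :=
      Quotient.mk'' ((1 : G) : G ⧸ M)
    have hfix : (m : G) • ((1 : G) : G ⧸ M) = ((1 : G) : G ⧸ M) := by
      rw [MulAction.Quotient.smul_coe, smul_eq_mul, mul_one]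
      exact QuotientGroup.eq.2 (by simp)
    have hq₀ : q₀.out = ((1 : G) : G ⧸ M) := by
      have h1 : q₀.out ∈ MulAction.orbit (zpowers (m : G)) ((1 : G) : G ⧸ M) :=
        MulAction.orbitRel_apply.1 (Quotient.exact' (Quotient.out_eq' q₀))
      obtain ⟨⟨c, hc⟩, hc'⟩ := h1
      obtain ⟨k, rfl⟩ := mem_zpowers_iff.1 hc
      rw [← hc']
      show (m : G) ^ k • ((1 : G) : G ⧸ M) = _
      rw [MulAction.Quotient.smul_coe, smul_eq_mul, mul_one]
      exact QuotientGroup.eq.2 (by simpa using M.inv_mem (M.zpow_mem m.2 k))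
    rw [Fintype.prod_eq_single q₀]
    · have hg : q₀.out.out ∈ M := by
        have h : ((q₀.out.out : G) : G ⧸ M) = ((1 : G) : G ⧸ M) :=
          (QuotientGroup.out_eq' q₀.out).trans hq₀
        simpa using QuotientGroup.eq.1 h.symm
      have hper : Function.minimalPeriod ((m : G) • ·) q₀.out = 1 := by
        rw [hq₀, Function.minimalPeriod_eq_one_iff_isFixedPt]
        exact hfix
      have e : (⟨q₀.out.out⁻¹ * (m : G) ^ Function.minimalPeriod ((m : G) • ·) q₀.out * q₀.out.out,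
          QuotientGroup.out_conj_pow_minimalPeriod_mem M (m : G) q₀.out⟩ : M) =
          (⟨_, hg⟩ : M)⁻¹ * m * ⟨_, hg⟩ := Subtype.ext (by simp [hper])
      rw [e, map_mul, map_mul, map_inv, mul_comm, mul_inv_cancel_left]
    · intro q hq
      refine (QuotientGroup.eq_one_iff _).2 (mem_subgroupOf.2 ?_)
      refine hfus q.out.out (fun hg => hq ?_) _
        (QuotientGroup.out_conj_pow_minimalPeriod_mem M (m : G) q.out) ?_
      · have h1 : q.out = ((1 : G) : G ⧸ M) := by
          rw [← QuotientGroup.out_eq' q.out]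
          exact QuotientGroup.eq.2 (by simpa using M.inv_mem hg)
        rw [← Quotient.out_eq' q, h1]
      · simp only [mul_assoc, mul_inv_cancel_left, mul_inv_cancel, mul_one]
        exact M.pow_mem m.2 _
  refine ⟨V.ker, inferInstance, Abelianization.commutator_subset_ker V, fun h hh => ?_, ?_⟩
  · have := hV ⟨h, hHM hh⟩
    exact MonoidHom.mem_ker.2 (this.trans ((QuotientGroup.eq_one_iff _).2 (mem_subgroupOf.2 hh)))
  · ext x
    constructor
    · rintro ⟨hx, hxM⟩
      have := hV ⟨x, hxM⟩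
      rw [MonoidHom.mem_ker.1 hx] at this
      exact mem_subgroupOf.1 ((QuotientGroup.eq_one_iff _).1 this.symm)
    · intro hx
      have := hV ⟨x, hHM hx⟩
      exact ⟨MonoidHom.mem_ker.2 (this.trans ((QuotientGroup.eq_one_iff _).2 (mem_subgroupOf.2 hx))),
        hHM hx⟩

theorem commutator_mem_of_coatom {M : Type u} [Group M] {K : Subgroup M} [K.Normal]
    (hK : IsCoatom K) (a b : M) : ⁅a, b⁆ ∈ K := by
  rcases Classical.em (a ∈ K) with ha | ha
  · have e : ⁅a, b⁆ = a * (b * a⁻¹ * b⁻¹) := by rw [commutatorElement_def]; group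
    rw [e]
    exact K.mul_mem ha ((inferInstance : K.Normal).conj_mem _ (K.inv_mem ha) b)
  · have htop : K ⊔ zpowers a = ⊤ := hK.2 _ (lt_of_le_of_ne le_sup_left fun e => ha (by
      rw [e]; exact mem_sup_right (mem_zpowers a)))
    obtain ⟨k, hk, c, hc, rfl⟩ := mem_sup_of_normal_left.1 (htop ▸ mem_top b : b ∈ K ⊔ zpowers a)
    obtain ⟨i, rfl⟩ := mem_zpowers_iff.1 hc
    have e : ⁅a, k * a ^ i⁆ = a * k * a⁻¹ * k⁻¹ := by rw [commutatorElement_def]; group
    rw [e]
    exact K.mul_mem ((inferInstance : K.Normal).conj_mem _ hk a) (K.inv_mem hk)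

/-- Subgroups weakly closed in a maximal subgroup in the strong sense. -/
theorem normalClosure_inf {G : Type u} [Group G] [Finite G] (H M : Subgroup G) (hHM : H ≤ M)
    (hcl : ∀ g : G, (H ⊔ H.map (MulAut.conj g).toMonoidHom) ⊓ M = H)
    (hmaxH : IsCoatom (H.subgroupOf M)) (hmaxM : IsCoatom M) :
    normalClosure (H : Set G) ⊓ M = H := by
  have hge : H ≤ normalClosure (H : Set G) ⊓ M := le_inf le_normalClosure hHM
  refine le_antisymm ?_ hge
  by_contra hgoal
  have hnl : ∀ L : Subgroup G, L.Normal → H ≤ L → ¬ L ⊓ M ≤ H := fun L hL hHL h =>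
    hgoal (le_trans (inf_le_inf_right M (normalClosure_le_normal (N := L) hHL)) h)
  have hMH : ∀ m ∈ M, ∀ x ∈ H, m * x * m⁻¹ ∈ H := fun m hm x hx => by
    rw [← hcl m]
    exact ⟨mem_sup_right ⟨x, hx, rfl⟩, M.mul_mem (M.mul_mem hm (hHM hx)) (M.inv_mem hm)⟩
  haveI : (H.subgroupOf M).Normal := ⟨fun n hn g => mem_subgroupOf.2 (hMH g g.2 n hn)⟩
  have hNH : normalizer (H : Set G) = M := by
    have hle : M ≤ normalizer (H : Set G) :=
      le_normalizer_of_normal_subgroupOf hHM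
    refine (hmaxM.le_iff.1 hle).resolve_left fun h => ?_
    exact hnl H (normalizer_eq_top_iff.1 h) le_rfl inf_le_left
  obtain ⟨N, hNn, -, hHN, hNM⟩ := exists_transfer_kernel M H hHM inferInstance
    (commutator_mem_of_coatom hmaxH) fun g hg y hy hgy => by
      by_contra hyH
      have hxH : g * y * g⁻¹ ∉ H := fun hx => hyH (by
        rw [← hcl g⁻¹]
        exact ⟨mem_sup_right ⟨g * y * g⁻¹, hx, by simp [mul_assoc]⟩, hy⟩)
      set x := g * y * g⁻¹
      set L := H ⊔ H.map (MulAut.conj g).toMonoidHom with hL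
      have hxN : x ∈ normalizer (L : Set G) := by
        have hfw : ∀ w ∈ M, ∀ v ∈ L, (g * w * g⁻¹) ∈ M → g * w * g⁻¹ * v * (g * w * g⁻¹)⁻¹ ∈ L := by
          intro w hw v hv hgw
          have hmap : L.map (MulAut.conj (g * w * g⁻¹)).toMonoidHom ≤ L := by
            rw [hL, Subgroup.map_sup]
            refine sup_le (le_trans ?_ le_sup_left) (le_trans ?_ le_sup_right)
            · rintro _ ⟨h, hh, rfl⟩
              exact hMH _ hgw h hh
            · rintro _ ⟨_, ⟨h, hh, rfl⟩, rfl⟩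
              exact ⟨w * h * w⁻¹, hMH w hw h hh, by simp [mul_assoc]⟩
          exact hmap ⟨v, hv, rfl⟩
        rw [mem_normalizer_iff]
        intro v
        refine ⟨fun hv => hfw y hy v hv hgy, fun hv => ?_⟩
        have h := hfw y⁻¹ (M.inv_mem hy) _ hv (by
          rw [show g * y⁻¹ * g⁻¹ = x⁻¹ by simp [x, mul_assoc]]; exact M.inv_mem hgy)
        rwa [show g * y⁻¹ * g⁻¹ * (x * v * x⁻¹) * (g * y⁻¹ * g⁻¹)⁻¹ = v by
          simp [x, mul_assoc]] at h
      have hHL : H ≤ L := le_sup_left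
      have hMN : M ≤ normalizer (L : Set G) := by
        have h1 : (normalizer (L : Set G)).subgroupOf M = ⊤ := by
          refine hmaxH.2 _ (lt_of_le_of_ne (fun h hh => le_normalizer (hHL (mem_subgroupOf.1 hh)))
            fun e => hxH ?_)
          have : (⟨x, hgy⟩ : M) ∈ (normalizer (L : Set G)).subgroupOf M := mem_subgroupOf.2 hxN
          rw [← e] at this
          exact this
        exact subgroupOf_eq_top.1 h1
      rcases hmaxM.le_iff.1 hMN with h | h
      · exact hnl L (normalizer_eq_top_iff.1 h) hHL (hcl g).le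
      · refine hg (hNH ▸ ?_)
        have hLH : L = H := by
          have := hcl g
          rwa [inf_eq_left.2 ((le_normalizer).trans h.le)] at this
        have hmap : H.map (MulAut.conj g).toMonoidHom ≤ H := le_sup_right.trans hLH.le
        refine mem_normalizer_iff.2 fun v => ⟨fun hv => hmap ⟨v, hv, rfl⟩, fun hv => ?_⟩
        have heq := eq_of_le_of_card_ge hmap (by
          rw [card_map_of_injective (MulAut.conj g).injective])
        obtain ⟨w, hw, hwe⟩ := heq.ge hv
        rwa [← show w = v by simpa using hwe]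
  exact hnl N hNn hHN hNM.le

/-- Simple groups are generated by two conjugates of a normal subgroup of prime index in a maximal
subgroup. -/
theorem exists_generating_conj {G : Type u} [Group G] [Finite G] [IsSimpleGroup G]
    (hG : ¬ IsMulCommutative G) (M H : Subgroup G) (hmaxM : IsCoatom M) (hHM : H ≤ M)
    (hHn : (H.subgroupOf M).Normal) (hidx : (H.relIndex M).Prime) :
    ∃ g : G, H ⊔ H.map (MulAut.conj g).toMonoidHom = ⊤ := by
  by_contra hno
  push Not at hno
  haveI := hHn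
  haveI := Fact.mk hidx
  set q := H.relIndex M with hq
  have hcoatom : ∀ K : Subgroup M, K.index = q → IsCoatom K := fun K hK => by
    refine ⟨fun h => hidx.ne_one (by rw [← hK, h, index_top]), fun X hX => ?_⟩
    rcases hidx.eq_one_or_self_of_dvd _ (hK ▸ index_dvd_of_le hX.le) with h | h
    · exact index_eq_one.1 h
    · refine absurd (eq_of_le_of_card_ge hX.le ?_) hX.ne
      have h1 := K.card_mul_index
      rw [← X.card_mul_index, hK, h] at h1
      exact (Nat.eq_of_mul_eq_mul_right hidx.pos h1).ge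
  have hMH : ∀ m ∈ M, ∀ x ∈ H, m * x * m⁻¹ ∈ H := fun m hm x hx =>
    hHn.conj_mem ⟨x, hHM hx⟩ hx ⟨m, hm⟩
  have hnt : ∀ K : Subgroup G, K.Normal → K ≤ M → K = ⊥ := fun K hK hKM =>
    (IsSimpleGroup.eq_bot_or_eq_top_of_normal K hK).resolve_right fun h => hmaxM.1
      (top_le_iff.1 (h ▸ hKM))
  have hNM : normalizer (M : Set G) = M := by
    refine (hmaxM.le_iff.1 le_normalizer).resolve_left fun h => ?_
    have := hnt M (normalizer_eq_top_iff.1 h) le_rfl
    exact hidx.ne_one (by rw [hq, this, relIndex_bot_right])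
  have hcard : ∀ g : G, Nat.card (H.map (MulAut.conj g).toMonoidHom) = Nat.card H := fun g =>
    card_map_of_injective (MulAut.conj g).injective
  -- conjugates of `H` inside `M`
  have hconj : ∀ g : G, H.map (MulAut.conj g).toMonoidHom ≤ M →
      H.map (MulAut.conj g).toMonoidHom = H := by
    intro g hle
    rcases Classical.em (g ∈ M) with hg | hg
    · refine eq_of_le_of_card_ge ?_ (hcard g).ge
      rintro _ ⟨x, hx, rfl⟩
      exact hMH g hg x hx
    rcases eq_or_ne H ⊥ with hH | hH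
    · rw [hH, Subgroup.map_bot]
    exfalso
    -- the elements of order prime to `q`
    set S := {y : G | y ∈ M ∧ (orderOf y).Coprime q}
    have hSH : S ⊆ (H : Set G) := by
      rintro y ⟨hy, hco⟩
      refine mem_subgroupOf.1 ((QuotientGroup.eq_one_iff (⟨y, hy⟩ : M)).1 ?_)
      rw [← orderOf_eq_one_iff]
      refine Nat.eq_one_of_dvd_coprimes hco ?_ ?_
      · exact (orderOf_map_dvd (QuotientGroup.mk' (H.subgroupOf M)) _).trans (by
          rw [← Subgroup.orderOf_coe])
      · exact _root_.orderOf_dvd_natCard _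
    set O := closure S
    have hmapO : ∀ k : G, (∀ y ∈ S, k * y * k⁻¹ ∈ M) → k ∈ normalizer (O : Set G) := by
      intro k hk
      have h1 : O.map (MulAut.conj k).toMonoidHom ≤ O := by
        rw [MonoidHom.map_closure]
        refine closure_mono ?_
        rintro _ ⟨y, hy, rfl⟩
        exact ⟨hk y hy, by rw [MulEquiv.coe_toMonoidHom, MulEquiv.orderOf_eq]; exact hy.2⟩
      have h2 := eq_of_le_of_card_ge h1 (card_map_of_injective (MulAut.conj k).injective).ge
      rw [mem_normalizer_iff]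
      intro v
      refine ⟨fun hv => h1 ⟨v, hv, rfl⟩, fun hv => ?_⟩
      obtain ⟨w, hw, hwe⟩ := h2.ge hv
      rwa [← show w = v by simpa using hwe]
    have hMO : M ≤ normalizer (O : Set G) := fun k hk => hmapO k fun y hy =>
      M.mul_mem (M.mul_mem hk hy.1) (M.inv_mem hk)
    have hgO : g ∈ normalizer (O : Set G) := hmapO g fun y hy => hle ⟨y, hSH hy, rfl⟩
    have hOn : normalizer (O : Set G) = ⊤ :=
      (hmaxM.le_iff.1 hMO).resolve_right fun h => hg (h ▸ hgO)
    have hObot : O = ⊥ := hnt O (normalizer_eq_top_iff.1 hOn) ((closure_le _).2 fun y hy => hy.1)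
    have hMq : IsPGroup q M := by
      intro x
      obtain ⟨a, j, hj, hord⟩ := Nat.exists_eq_pow_mul_and_not_dvd (orderOf_pos x).ne' q hidx.ne_one
      refine ⟨a, Subtype.ext ?_⟩
      have : ((x ^ q ^ a : M) : G) ∈ O := subset_closure ⟨(x ^ q ^ a).2, by
        refine Nat.Coprime.coprime_dvd_left ?_ (hidx.coprime_iff_not_dvd.2 hj).symm
        refine orderOf_dvd_of_pow_eq_one ?_
        rw [← SubgroupClass.coe_pow, ← pow_mul, ← hord, pow_orderOf_eq_one]; rfl⟩
      rwa [hObot, mem_bot] at this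
    set H' := H.map (MulAut.conj g).toMonoidHom
    have hidx' : (H'.subgroupOf M).index = q := by
      have h1 := (H'.subgroupOf M).card_mul_index
      have h2 := (H.subgroupOf M).card_mul_index
      rw [Nat.card_congr (subgroupOfEquivOfLe hle).toEquiv, hcard g] at h1
      rw [Nat.card_congr (subgroupOfEquivOfLe hHM).toEquiv, ← h1] at h2
      exact (Nat.eq_of_mul_eq_mul_left Nat.card_pos h2).symm
    haveI := Cfsg.Lib.Solv.normal_of_index_prime hMq hidx'
    have hH' : normalizer (H' : Set G) = M := by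
      refine (hmaxM.le_iff.1 (le_normalizer_of_normal_subgroupOf hle)).resolve_left fun h => ?_
      have := hnt H' (normalizer_eq_top_iff.1 h) hle
      exact hH (card_eq_one.1 (by rw [← hcard g]; exact card_eq_one.2 this))
    refine hg (hNM ▸ ?_)
    have hfw : ∀ v ∈ M, g * v * g⁻¹ ∈ M := by
      intro v hv
      rw [← hH', mem_normalizer_iff]
      intro w
      constructor
      · rintro ⟨x, hx, rfl⟩
        exact ⟨v * x * v⁻¹, hMH v hv x hx, by simp [mul_assoc]⟩
      · rintro ⟨x, hx, hxe⟩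
        refine ⟨v⁻¹ * x * v, by simpa using hMH v⁻¹ (M.inv_mem hv) x hx, ?_⟩
        simp only [MulEquiv.coe_toMonoidHom, MulAut.conj_apply] at hxe ⊢
        calc g * (v⁻¹ * x * v) * g⁻¹ = (g * v⁻¹ * g⁻¹) * (g * x * g⁻¹) * (g * v * g⁻¹) := by group
          _ = w := by rw [hxe]; group
    refine mem_normalizer_iff.2 fun v => ⟨hfw v, fun hv => ?_⟩
    have h2 := eq_of_le_of_card_ge (show M.map (MulAut.conj g).toMonoidHom ≤ M by
      rintro _ ⟨w, hw, rfl⟩; exact hfw w hw) (card_map_of_injective (MulAut.conj g).injective).ge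
    obtain ⟨w, hw, hwe⟩ := h2.ge hv
    rwa [← show w = v by simpa using hwe]
  have hcl : ∀ g : G, (H ⊔ H.map (MulAut.conj g).toMonoidHom) ⊓ M = H := by
    intro g
    set L := H ⊔ H.map (MulAut.conj g).toMonoidHom
    have hge : H ≤ L ⊓ M := le_inf le_sup_left hHM
    rcases eq_or_ne ((L ⊓ M).subgroupOf M) ⊤ with h | h
    · exfalso
      have hML : M ≤ L := (subgroupOf_eq_top.1 h).trans inf_le_left
      have hLM : L = M := (hmaxM.le_iff.1 hML).resolve_left (hno g)
      have := hconj g (le_sup_right.trans hLM.le)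
      have hLH : L = H := by simp only [L]; rw [this, sup_idem]
      exact hidx.ne_one (by rw [hq, ← hLH, hLM, relIndex_self])
    · refine le_antisymm ?_ hge
      have : (L ⊓ M).subgroupOf M = H.subgroupOf M := by
        by_contra hne
        exact h ((hcoatom _ rfl).2 _ (lt_of_le_of_ne (fun x hx => hge hx) (Ne.symm hne)))
      intro x hx
      have h' : (⟨x, hx.2⟩ : M) ∈ (L ⊓ M).subgroupOf M := hx
      rw [this] at h'
      exact h'
  have hn := normalClosure_inf H M hHM hcl (hcoatom _ rfl) hmaxM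
  have hH : H = ⊥ := by
    rcases IsSimpleGroup.eq_bot_or_eq_top_of_normal (normalClosure (H : Set G)) inferInstance with h | h
    · exact le_bot_iff.1 (h ▸ le_normalClosure)
    · exfalso
      rw [h, top_inf_eq] at hn
      exact hidx.ne_one (by rw [hq, hn, relIndex_self])
  obtain ⟨N, hNn, hcN, -, hNM'⟩ := exists_transfer_kernel M H hHM hHn
    (commutator_mem_of_coatom (hcoatom _ rfl)) fun g hg y hy hgy => by
      by_contra hyH
      rw [hH, mem_bot] at hyH
      have hMp : Nat.card M = q := by rw [hq, hH, relIndex_bot_left]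
      have hz : zpowers y = M := by
        refine eq_of_le_of_card_ge (zpowers_le.2 hy) (le_of_eq ?_)
        rw [Nat.card_zpowers, hMp]
        exact ((hidx.eq_one_or_self_of_dvd _ (hMp ▸ M.orderOf_dvd_natCard hy)).resolve_left
          fun e => hyH (orderOf_eq_one_iff.1 e)).symm
      refine hg (hNM ▸ ?_)
      have hle : M.map (MulAut.conj g).toMonoidHom ≤ M := by
        conv_lhs => rw [← hz]
        rw [MonoidHom.map_zpowers, zpowers_le]
        exact hgy
      have heq := eq_of_le_of_card_ge hle (card_map_of_injective (MulAut.conj g).injective).ge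
      refine mem_normalizer_iff.2 fun v => ⟨fun hv => hle ⟨v, hv, rfl⟩, fun hv => ?_⟩
      obtain ⟨w, hw, hwe⟩ := heq.ge hv
      rwa [← show w = v by simpa using hwe]
  rcases IsSimpleGroup.eq_bot_or_eq_top_of_normal N hNn with h | h
  · refine hG ⟨⟨fun a b => commutatorElement_eq_one_iff_mul_comm.1 ?_⟩⟩
    exact mem_bot.1 (h ▸ hcN (commutator_mem_commutator (mem_top a) (mem_top b)))
  · rw [h, top_inf_eq] at hNM'
    exact hidx.ne_one (by rw [hq, ← hNM', relIndex_self])

/-! ### Extraspecial groups of order `p³` and exponent `p²` -/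

theorem center_strongly_closed {G : Type u} [Group G] [Finite G] {p : ℕ} [hp : Fact p.Prime]
    (hp2 : p ≠ 2) (P : Sylow p G) (hE : Cfsg.IsExtraspecial p ↥P) (hcard : Nat.card P = p ^ 3)
    (hexp : Monoid.exponent ↥P = p ^ 2) :
    Cfsg.IsStronglyClosed ((Subgroup.center ↥P).map (P : Subgroup G).subtype) (P : Subgroup G) := by
  have hES : Cfsg.Lib.Transfer.ExtraspecialClass.ES p ↥(P : Subgroup G) :=
    Cfsg.Lib.Transfer.ExtraspecialClass.ES.of_extraspecial hE
  have hZ : Nat.card (center ↥(P : Subgroup G)) = p := hES.cardZ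
  have hc : ∀ a b : ↥(P : Subgroup G), ⁅a, b⁆ ∈ center ↥(P : Subgroup G) := hES.comm
  have hpc : ∀ a : ↥(P : Subgroup G), a ^ p ∈ center ↥(P : Subgroup G) := hES.powc
  have hzp : ∀ z ∈ center ↥(P : Subgroup G), z ^ p = 1 := fun z hz => by
    have h : (⟨z, hz⟩ : center ↥(P : Subgroup G)) ^ Nat.card (center ↥(P : Subgroup G)) = 1 :=
      pow_card_eq_one'
    rw [hZ] at h
    simpa using congrArg Subtype.val h
  let π : ↥(P : Subgroup G) →* ↥(P : Subgroup G) := MonoidHom.mk' (fun u => u ^ p) fun u v => by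
    obtain ⟨j, hj⟩ := Nat.Prime.dvd_choose_self hp.out (k := 2) two_ne_zero
      (lt_of_le_of_ne hp.out.two_le (Ne.symm hp2))
    have hyx : v * u = u * v * ⁅v⁻¹, u⁻¹⁆ := by rw [commutatorElement_def]; group
    have hcen := hc v⁻¹ u⁻¹
    rw [Cfsg.Lib.Transfer.mul_pow_class_two hyx (mem_center_iff.1 hcen u).symm
      (mem_center_iff.1 hcen v).symm, hj, pow_mul, hzp _ hcen, one_pow, mul_one]
  set E := π.ker with hEdef
  have hmemE : ∀ x : ↥(P : Subgroup G), x ∈ E ↔ x ^ p = 1 := fun x => Iff.rfl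
  have hEcard : Nat.card E = p * p := by
    have h1 := E.card_mul_index
    rw [hEdef, index_ker] at h1
    have hr : π.range = center ↥(P : Subgroup G) := by
      refine eq_of_le_of_card_ge (by rintro _ ⟨u, rfl⟩; exact hpc u) ?_
      obtain ⟨i, hi⟩ := IsPGroup.iff_card.1 (P.isPGroup'.to_subgroup π.range)
      rw [hZ, hi]
      refine Nat.le_self_pow ?_ p
      rintro rfl
      have hbot : π.range = ⊥ := card_eq_one.1 (by simpa using hi)
      have : Monoid.exponent ↥(P : Subgroup G) ∣ p := Monoid.exponent_dvd_of_forall_pow_eq_one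
        fun u => mem_bot.1 (hbot ▸ (⟨u, rfl⟩ : u ^ p ∈ π.range))
      rw [show Monoid.exponent ↥(P : Subgroup G) = p ^ 2 from hexp] at this
      have := Nat.le_of_dvd hp.out.pos this
      nlinarith [hp.out.two_le]
    rw [hr, hZ, hcard] at h1
    refine Nat.eq_of_mul_eq_mul_right hp.out.pos ?_
    rw [h1]; ring
  have hZE : center ↥(P : Subgroup G) ≤ E := fun z hz => (hmemE z).2 (hzp z hz)
  refine ⟨map_subtype_le _, ?_⟩
  rintro _ ⟨z, hz, rfl⟩ g hgP
  by_contra hnot
  set y : ↥(P : Subgroup G) := ⟨g * (z : G) * g⁻¹, hgP⟩ with hy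
  have hyc : y ∉ center ↥(P : Subgroup G) := fun h => hnot ⟨y, h, rfl⟩
  have hyE : y ∈ E := (hmemE y).2 (Subtype.ext (by
    show (g * (z : G) * g⁻¹) ^ p = 1
    rw [conj_pow, ← SubgroupClass.coe_pow, hzp z hz]; simp))
  have hgen : center ↥(P : Subgroup G) ⊔ zpowers y = E :=
    NarrowOdd.sup_zpowers_eq P.isPGroup' hZE (by rw [hEcard, hZ]) hyE hyc
  -- the centralizer of `y` in `P` is `E`
  have hCy : ∀ w : ↥(P : Subgroup G), Commute w y → w ∈ E := by
    intro w hw
    have hle : E ≤ centralizer {y} := hgen ▸ sup_le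
      (fun c hc' => mem_centralizer_singleton_iff.2 (mem_center_iff.1 hc' y).symm)
      (zpowers_le.2 (mem_centralizer_singleton_iff.2 rfl))
    have heq : centralizer {y} = E := by
      refine (eq_of_le_of_card_ge hle ?_).symm
      have hne : centralizer ({y} : Set ↥(P : Subgroup G)) < ⊤ := lt_top_iff_ne_top.2 fun h =>
        hyc (mem_center_iff.2 fun c => mem_centralizer_singleton_iff.1 (h ▸ mem_top c))
      have := NarrowOdd.card_mul_le_of_lt P.isPGroup' hne
      rw [card_top, hcard] at this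
      rw [hEcard]
      exact Nat.le_of_mul_le_mul_left (by rw [show p * (p * p) = p ^ 3 by ring]; exact this) hp.out.pos
    exact heq.le (mem_centralizer_singleton_iff.2 hw.eq)
  set EG := E.map (P : Subgroup G).subtype with hEG
  -- a Sylow subgroup containing `E` in which `y` is central
  obtain ⟨h, hEh, hyh⟩ : ∃ h : G, (∀ e ∈ EG, h⁻¹ * e * h ∈ (P : Subgroup G)) ∧
      ∀ w ∈ (P : Subgroup G), (h * w * h⁻¹) * (y : G) = (y : G) * (h * w * h⁻¹) := by
    set C := centralizer ({(y : G)} : Set G)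
    have hEC : EG ≤ C := by
      rintro _ ⟨e, he, rfl⟩
      have hle : E ≤ centralizer {y} := hgen ▸ sup_le
        (fun c hc' => mem_centralizer_singleton_iff.2 (mem_center_iff.1 hc' y).symm)
        (zpowers_le.2 (mem_centralizer_singleton_iff.2 rfl))
      exact mem_centralizer_singleton_iff.2
        (congrArg Subtype.val (mem_centralizer_singleton_iff.1 (hle he)))
    obtain ⟨T, hT⟩ := ((P.isPGroup'.to_subgroup E).map (P : Subgroup G).subtype).comap_subtype (K := C)
      |>.exists_le_sylow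
    have hR : ((g • P : Sylow p G) : Subgroup G) ≤ C := by
      intro x hx
      rw [Sylow.coe_subgroup_smul] at hx
      obtain ⟨w, hw, rfl⟩ := hx
      refine mem_centralizer_singleton_iff.2 ?_
      have hzc : w * (z : G) = z * w :=
        congrArg Subtype.val (mem_center_iff.1 hz ⟨w, hw⟩)
      show g * w * g⁻¹ * (g * z * g⁻¹) = g * z * g⁻¹ * (g * w * g⁻¹)
      calc g * w * g⁻¹ * (g * z * g⁻¹) = g * (w * z) * g⁻¹ := by group
        _ = g * z * g⁻¹ * (g * w * g⁻¹) := by rw [hzc]; group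
    obtain ⟨c, hc'⟩ := MulAction.exists_smul_eq C ((g • P).subtype hR) T
    refine ⟨(c : G) * g, fun e he => ?_, fun w hw => ?_⟩
    · have h1 : (⟨e, hEC he⟩ : C) ∈ (T : Subgroup C) := hT (mem_subgroupOf.2 he)
      rw [← hc', Sylow.coe_subgroup_smul] at h1
      obtain ⟨u, hu, hue⟩ := h1
      have hu' : (u : G) ∈ ((g • P : Sylow p G) : Subgroup G) := hu
      rw [Sylow.coe_subgroup_smul] at hu'
      obtain ⟨w, hw, hwe⟩ := hu'
      have e1 : (c : G) * (u : G) * (c : G)⁻¹ = e := congrArg Subtype.val hue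
      have e2 : g * w * g⁻¹ = (u : G) := hwe
      rw [← e1, ← e2, show ((c : G) * g)⁻¹ * ((c : G) * (g * w * g⁻¹) * (c : G)⁻¹) * ((c : G) * g) = w by
        group]
      exact hw
    · have h1 : g * w * g⁻¹ ∈ C := hR (by
        rw [Sylow.coe_subgroup_smul]; exact ⟨w, hw, rfl⟩)
      rw [show (c : G) * g * w * ((c : G) * g)⁻¹ = c * (g * w * g⁻¹) * (c : G)⁻¹ by group]
      exact mem_centralizer_singleton_iff.1 (C.mul_mem (C.mul_mem c.2 h1) (C.inv_mem c.2))
  -- choose a noncentral element of `P`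
  obtain ⟨a, ha⟩ : ∃ a : ↥(P : Subgroup G), a ∉ E := by
    by_contra hno
    push Not at hno
    have := card_le_of_le (show (⊤ : Subgroup ↥(P : Subgroup G)) ≤ E from fun x _ => hno x)
    rw [card_top, hcard, hEcard] at this
    nlinarith [hp.out.two_le]
  set z₁ := ⁅a, y⁆ with hz₁
  have hz₁ne : z₁ ≠ 1 := fun e => ha (hCy a (commutatorElement_eq_one_iff_mul_comm.1 e))
  have hz₁c : z₁ ∈ center ↥(P : Subgroup G) := hc a y
  have hz₁gen : zpowers z₁ = center ↥(P : Subgroup G) := by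
    refine eq_of_le_of_card_ge (zpowers_le.2 hz₁c) ?_
    rw [Nat.card_zpowers, orderOf_eq_prime (hzp _ hz₁c) hz₁ne, hZ]
  -- conjugation by `h` preserves `E`
  have hEeq : ∀ e ∈ EG, ∃ e' ∈ EG, h * e' * h⁻¹ = e := by
    intro e he
    refine ⟨h⁻¹ * e * h, ⟨⟨_, hEh e he⟩, ?_, rfl⟩, by group⟩
    obtain ⟨e₀, he₀, rfl⟩ := he
    refine (hmemE _).2 (Subtype.ext ?_)
    show (h⁻¹ * (e₀ : G) * h) ^ p = 1
    rw [show h⁻¹ * (e₀ : G) * h = h⁻¹ * (e₀ : G) * h⁻¹⁻¹ by group, conj_pow,
      ← SubgroupClass.coe_pow, (hmemE _).1 he₀]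
    simp
  obtain ⟨y', hy', hy'e⟩ := hEeq (y : G) ⟨y, hyE, rfl⟩
  obtain ⟨z', hz', hz'e⟩ := hEeq (z₁ : G) ⟨z₁, hZE hz₁c, rfl⟩
  -- `h a h⁻¹` moves `z₁` by a non-trivial power of `y`
  obtain ⟨z₀, hz₀, rfl⟩ := hz'
  obtain ⟨y₀, hy₀, rfl⟩ := hy'
  have hy₀c : y₀ ∈ center ↥(P : Subgroup G) := mem_center_iff.2 fun w => Subtype.ext (by
    have h1 := hyh w w.2
    simp only [coe_subtype] at hy'e
    rw [← hy'e] at h1
    show (w : G) * y₀ = y₀ * w
    calc (w : G) * y₀ = h⁻¹ * ((h * w * h⁻¹) * (h * y₀ * h⁻¹)) * h := by group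
      _ = h⁻¹ * ((h * y₀ * h⁻¹) * (h * w * h⁻¹)) * h := by rw [h1]
      _ = y₀ * w := by group)
  have hy₀ne : y₀ ≠ 1 := fun e => hyc (by
    have : y = 1 := Subtype.ext (by simp only [coe_subtype] at hy'e; rw [← hy'e, e]; simp)
    rw [this]; exact one_mem _)
  have hy₀gen : zpowers y₀ = center ↥(P : Subgroup G) := by
    refine eq_of_le_of_card_ge (zpowers_le.2 hy₀c) ?_
    rw [Nat.card_zpowers, orderOf_eq_prime (hzp _ hy₀c) hy₀ne, hZ]
  have hz₀c : z₀ ∉ center ↥(P : Subgroup G) := fun hcon => by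
    obtain ⟨i, hi⟩ := mem_zpowers_iff.1 (hy₀gen.ge hcon)
    apply hyc
    have h1 : (z₁ : G) = (y : G) ^ i := by
      simp only [coe_subtype] at hy'e hz'e
      rw [← hz'e, ← hy'e, ← hi, conj_zpow, SubgroupClass.coe_zpow]
    have h2 : zpowers z₁ ≤ zpowers y := zpowers_le.2 (mem_zpowers_iff.2 ⟨i, Subtype.ext (by
      rw [SubgroupClass.coe_zpow, ← h1])⟩)
    have h3 : zpowers z₁ = zpowers y := eq_of_le_of_card_ge h2 (by
      rw [Nat.card_zpowers, Nat.card_zpowers, orderOf_eq_prime (hzp _ hz₁c) hz₁ne]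
      exact Nat.le_of_dvd hp.out.pos (orderOf_dvd_of_pow_eq_one ((hmemE y).1 hyE)))
    exact hz₁gen.le (h3.ge (mem_zpowers y))
  have hcomy : ⁅a, z₀⁆ ≠ 1 := fun e => ha (by
    have hle : E ≤ centralizer {a} := by
      rw [← NarrowOdd.sup_zpowers_eq P.isPGroup' hZE (by rw [hEcard, hZ]) hz₀ hz₀c]
      exact sup_le (fun c hc' => mem_centralizer_singleton_iff.2 (mem_center_iff.1 hc' a).symm)
        (zpowers_le.2 (mem_centralizer_singleton_iff.2 (commutatorElement_eq_one_iff_mul_comm.1 e).symm))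
    exact hCy a (mem_centralizer_singleton_iff.1 (hle hyE)).symm)
  have hcg : zpowers ⁅a, z₀⁆ = center ↥(P : Subgroup G) := by
    refine eq_of_le_of_card_ge (zpowers_le.2 (hc a z₀)) ?_
    rw [Nat.card_zpowers, orderOf_eq_prime (hzp _ (hc a z₀)) hcomy, hZ]
  obtain ⟨i, hi⟩ := mem_zpowers_iff.1 (hcg.ge hy₀c)
  -- `v = h aⁱ h⁻¹` sends `z₁` to `z₁ y` and fixes `y`
  have hzpow : ∀ (u : ↥(P : Subgroup G)) (n : ℤ), ⁅a ^ n, u⁆ = ⁅a, u⁆ ^ n := by
    intro u n
    let f : ↥(P : Subgroup G) →* ↥(P : Subgroup G) :=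
      MonoidHom.mk' (fun b => ⁅b, u⁆) fun b c => NarrowOdd.mul_commutator (hc c u)
    exact map_zpow f a n
  simp only [coe_subtype] at hy'e hz'e
  set v : G := h * ((a ^ i : ↥(P : Subgroup G)) : G) * h⁻¹ with hv
  have hvy : v * (y : G) * v⁻¹ = y := by
    rw [mul_inv_eq_iff_eq_mul]
    exact hyh _ (a ^ i).2
  have hvz : v * (z₁ : G) * v⁻¹ = y * z₁ := by
    have h1 : (a ^ i) * z₀ * (a ^ i)⁻¹ = y₀ * z₀ := by
      rw [← hi, ← hzpow z₀ i, commutatorElement_def]; group
    have h2 := congrArg Subtype.val h1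
    simp only [Subgroup.coe_mul, InvMemClass.coe_inv] at h2
    rw [hv, ← hz'e, ← hy'e]
    calc h * ((a ^ i : ↥(P : Subgroup G)) : G) * h⁻¹ * (h * (z₀ : G) * h⁻¹) *
          (h * ((a ^ i : ↥(P : Subgroup G)) : G) * h⁻¹)⁻¹
        = h * (((a ^ i : ↥(P : Subgroup G)) : G) * z₀ * ((a ^ i : ↥(P : Subgroup G)) : G)⁻¹) * h⁻¹ := by
          group
      _ = h * (y₀ : G) * h⁻¹ * (h * (z₀ : G) * h⁻¹) := by rw [h2]; group
  have hay : (a : G) * (y : G) * (a : G)⁻¹ = z₁ * y := by
    have h1 : a * y * a⁻¹ = z₁ * y := by rw [hz₁, commutatorElement_def]; group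
    exact congrArg Subtype.val h1
  have haz : (a : G) * (z₁ : G) * (a : G)⁻¹ = z₁ := by
    rw [mul_inv_eq_iff_eq_mul]
    exact congrArg Subtype.val (mem_center_iff.1 hz₁c a)
  -- an element inverting `E`
  set w : G := a * v⁻¹ * a with hw
  have hcyz : (y : G) * z₁ = z₁ * y := congrArg Subtype.val (mem_center_iff.1 hz₁c y)
  have hvy' : v⁻¹ * (y : G) * v = y := by
    conv_lhs => rw [← hvy]
    group
  have hvz' : v⁻¹ * (z₁ : G) * v = (y : G)⁻¹ * z₁ := by
    have : (z₁ : G) = (y : G)⁻¹ * (v * z₁ * v⁻¹) := by rw [hvz]; group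
    conv_lhs => rw [this]
    calc v⁻¹ * ((y : G)⁻¹ * (v * z₁ * v⁻¹)) * v = (v⁻¹ * y * v)⁻¹ * z₁ := by group
      _ = _ := by rw [hvy']
  have hwy : w * (y : G) * w⁻¹ = z₁ := by
    calc w * (y : G) * w⁻¹ = a * (v⁻¹ * ((a : G) * (y : G) * (a : G)⁻¹) * v) * (a : G)⁻¹ := by rw [hw]; group
      _ = a * ((v⁻¹ * z₁ * v) * (v⁻¹ * y * v)) * (a : G)⁻¹ := by rw [hay]; group
      _ = a * z₁ * (a : G)⁻¹ := by rw [hvy', hvz', mul_assoc (y : G)⁻¹, ← hcyz, inv_mul_cancel_left]
      _ = z₁ := haz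
  have hwz : w * (z₁ : G) * w⁻¹ = (y : G)⁻¹ := by
    calc w * (z₁ : G) * w⁻¹ = a * (v⁻¹ * ((a : G) * (z₁ : G) * (a : G)⁻¹) * v) * (a : G)⁻¹ := by rw [hw]; group
      _ = (a * y * (a : G)⁻¹)⁻¹ * (a * z₁ * (a : G)⁻¹) := by
        conv_lhs => rw [haz, hvz']
        group
      _ = (y : G)⁻¹ := by rw [hay, haz]; group
  set t := w * w with ht
  have hty : t * (y : G) * t⁻¹ = (y : G)⁻¹ := by
    rw [ht, show w * w * (y : G) * (w * w)⁻¹ = w * (w * y * w⁻¹) * w⁻¹ by group, hwy, hwz]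
  have htz : t * (z₁ : G) * t⁻¹ = (z₁ : G)⁻¹ := by
    rw [ht, show w * w * (z₁ : G) * (w * w)⁻¹ = w * (w * z₁ * w⁻¹) * w⁻¹ by group, hwz,
      show w * (y : G)⁻¹ * w⁻¹ = (w * y * w⁻¹)⁻¹ by group, hwy]
  have hinv : ∀ e ∈ EG, t * e * t⁻¹ = e⁻¹ := by
    rintro _ ⟨e, he, rfl⟩
    rw [← hgen, ← hz₁gen] at he
    haveI : (zpowers z₁).Normal := by rw [hz₁gen]; infer_instance
    obtain ⟨u, hu, u', hu', rfl⟩ := mem_sup_of_normal_left.1 he
    obtain ⟨j, rfl⟩ := mem_zpowers_iff.1 hu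
    obtain ⟨k, rfl⟩ := mem_zpowers_iff.1 hu'
    have hcm : Commute ((z₁ : G) ^ j) ((y : G) ^ k) :=
      ((show Commute (z₁ : G) y from hcyz.symm).zpow_zpow j k)
    simp only [coe_subtype, Subgroup.coe_mul, SubgroupClass.coe_zpow]
    rw [show t * ((z₁ : G) ^ j * (y : G) ^ k) * t⁻¹ =
      (t * (z₁ : G) ^ j * t⁻¹) * (t * (y : G) ^ k * t⁻¹) by group, ← conj_zpow, ← conj_zpow, htz, hty,
      inv_zpow, inv_zpow, hcm.eq, mul_inv_rev]
  -- the Frattini argument
  set C := centralizer (EG : Set G)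
  have hPE : ∀ w ∈ (P : Subgroup G), ∀ e ∈ EG, w * e * w⁻¹ ∈ EG := by
    rintro w hw _ ⟨e, he, rfl⟩
    exact ⟨(⟨w, hw⟩ : ↥(P : Subgroup G)) * e * (⟨w, hw⟩)⁻¹,
      (inferInstance : E.Normal).conj_mem e he _, rfl⟩
  have hPC : (P : Subgroup G) ≤ normalizer (C : Set G) := by
    have hfw : ∀ w ∈ (P : Subgroup G), ∀ c ∈ C, w * c * w⁻¹ ∈ C := by
      intro w hw c hc'
      rw [mem_centralizer_iff] at hc' ⊢
      intro e he
      have h1 := hc' _ (by simpa using hPE w⁻¹ ((P : Subgroup G).inv_mem hw) e he)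
      calc e * (w * c * w⁻¹) = w * (w⁻¹ * e * w * c) * w⁻¹ := by group
        _ = w * (c * (w⁻¹ * e * w)) * w⁻¹ := by rw [h1]
        _ = w * c * w⁻¹ * e := by group
    intro w hw
    rw [mem_normalizer_iff]
    intro c
    refine ⟨hfw w hw c, fun h => ?_⟩
    simpa [mul_assoc] using hfw w⁻¹ ((P : Subgroup G).inv_mem hw) _ h
  set K := C ⊔ (P : Subgroup G)
  have htP : ∀ x ∈ (P : Subgroup G), t * x * t⁻¹ * x⁻¹ ∈ C := by
    intro x hx
    rw [mem_centralizer_iff]
    intro e he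
    have he₂ : x⁻¹ * e * x ∈ EG := by simpa using hPE x⁻¹ ((P : Subgroup G).inv_mem hx) e he
    have hA : t⁻¹ * e * t = e⁻¹ := by
      have := hinv e⁻¹ (EG.inv_mem he)
      rw [inv_inv] at this
      conv_lhs => rw [← this]
      group
    calc e * (t * x * t⁻¹ * x⁻¹) = t * (t⁻¹ * e * t) * x * t⁻¹ * x⁻¹ := by group
      _ = t * x * (x⁻¹ * e * x)⁻¹ * t⁻¹ * x⁻¹ := by rw [hA]; group
      _ = t * x * t⁻¹ * (t * (x⁻¹ * e * x)⁻¹ * t⁻¹) * x⁻¹ := by group
      _ = t * x * t⁻¹ * x⁻¹ * e := by rw [hinv _ (EG.inv_mem he₂), inv_inv]; group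
  have htPK : ((t • P : Sylow p G) : Subgroup G) ≤ K := by
    intro x hx
    rw [Sylow.coe_subgroup_smul] at hx
    obtain ⟨u, hu, rfl⟩ := hx
    show t * u * t⁻¹ ∈ K
    rw [show t * u * t⁻¹ = (t * u * t⁻¹ * u⁻¹) * u by group]
    exact K.mul_mem (mem_sup_left (htP u hu)) (mem_sup_right hu)
  obtain ⟨k, hk⟩ := MulAction.exists_smul_eq K ((t • P).subtype htPK)
    (P.subtype (le_sup_right : (P : Subgroup G) ≤ K))
  have hkn : ∀ x ∈ (P : Subgroup G), (k : G) * (t * x * t⁻¹) * (k : G)⁻¹ ∈ (P : Subgroup G) := by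
    intro x hx
    have hm : t * x * t⁻¹ ∈ ((t • P : Sylow p G) : Subgroup G) := by
      rw [Sylow.coe_subgroup_smul]; exact ⟨x, hx, rfl⟩
    have h1 : k * (⟨t * x * t⁻¹, htPK hm⟩ : K) * k⁻¹ ∈
        ((k • (t • P).subtype htPK : Sylow p K) : Subgroup K) := by
      rw [Sylow.coe_subgroup_smul]
      exact ⟨⟨t * x * t⁻¹, htPK hm⟩, hm, rfl⟩
    rw [hk] at h1
    exact h1
  obtain ⟨c, hcC, x₀, hx₀, hkc⟩ : ∃ c ∈ C, ∃ x₀ ∈ (P : Subgroup G), x₀ * c = (k : G) := by
    have hk' : (k : G) ∈ (P : Subgroup G) ⊔ C := sup_comm C (P : Subgroup G) ▸ k.2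
    have hset := coe_mul_of_left_le_normalizer_right (P : Subgroup G) C hPC
    have hk'' : (k : G) ∈ ((P : Subgroup G) : Set G) * (C : Set G) := by
      rw [← hset]; exact hk'
    obtain ⟨x₀, hx₀, c, hcC, hprod⟩ := hk''
    exact ⟨c, hcC, x₀, hx₀, hprod⟩
  set t' := c * t with ht'
  have hnP : ∀ x ∈ (P : Subgroup G), t' * x * t'⁻¹ ∈ (P : Subgroup G) := by
    intro x hx
    have h1 := hkn x hx
    rw [← hkc] at h1
    have h2 := (P : Subgroup G).mul_mem ((P : Subgroup G).mul_mem ((P : Subgroup G).inv_mem hx₀) h1) hx₀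
    convert h2 using 1
    rw [ht']; group
  have hinv' : ∀ e ∈ EG, t' * e * t'⁻¹ = e⁻¹ := by
    intro e he
    rw [ht', show c * t * e * (c * t)⁻¹ = c * (t * e * t⁻¹) * c⁻¹ by group, hinv e he,
      ← mem_centralizer_iff.1 hcC _ (EG.inv_mem he), mul_inv_cancel_right]
  set d : ↥(P : Subgroup G) := ⟨t' * a * t'⁻¹, hnP _ a.2⟩ * a⁻¹ with hd
  have hdE : d ∈ E := by
    refine hCy d (Subtype.ext ?_)
    have hdC : (d : G) ∈ C := by
      have e1 : (d : G) = c * (t * a * t⁻¹ * (a : G)⁻¹) * (a * c⁻¹ * (a : G)⁻¹) := by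
        show t' * (a : G) * t'⁻¹ * (a : G)⁻¹ = _
        rw [ht']; group
      rw [e1]
      exact C.mul_mem (C.mul_mem hcC (htP _ a.2))
        ((mem_normalizer_iff.1 (hPC a.2) _).1 (C.inv_mem hcC))
    exact (mem_centralizer_iff.1 hdC (y : G) ⟨y, hyE, rfl⟩).symm
  obtain ⟨j, hj⟩ := hp.out.odd_of_ne_two hp2
  set e : ↥(P : Subgroup G) := d ^ (j + 1) with he
  have hee : e * e = d := by
    have hdp : d ^ (2 * j + 1) = 1 := by rw [← hj]; exact (hmemE d).1 hdE
    calc e * e = d ^ (2 * j + 1) * d := by rw [he, ← pow_add, ← pow_succ]; ring_nf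
      _ = d := by rw [hdp, one_mul]
  have heE : e ∈ E := E.pow_mem hdE _
  set a' : ↥(P : Subgroup G) := e * a with ha'
  have hfix : t' * (a' : G) * t'⁻¹ = a' := by
    have h1 : t' * (e : G) * t'⁻¹ = (e : G)⁻¹ := hinv' _ ⟨e, heE, rfl⟩
    have h2 : t' * (a : G) * t'⁻¹ = (d : G) * a := by rw [hd]; simp
    rw [ha', Subgroup.coe_mul, show t' * ((e : G) * a) * t'⁻¹ = t' * e * t'⁻¹ * (t' * a * t'⁻¹) by group,
      h1, h2, ← hee, Subgroup.coe_mul]
    group
  have ha'p : a' ^ p = 1 := by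
    have hE' : a' ^ p ∈ E := hZE (hpc a')
    have h1 := hinv' _ ⟨_, hE', rfl⟩
    simp only [coe_subtype, SubgroupClass.coe_pow] at h1
    rw [← conj_pow, hfix] at h1
    have h2 : (a' ^ p) ^ 2 = 1 := Subtype.ext (by
      rw [pow_two, Subgroup.coe_mul, SubgroupClass.coe_pow]
      nth_rw 1 [h1]
      exact inv_mul_cancel _)
    have h3 := (hmemE _).1 hE'
    have h4 := Nat.eq_one_of_dvd_coprimes ((Nat.coprime_primes hp.out Nat.prime_two).2 hp2)
      (orderOf_dvd_of_pow_eq_one h3) (orderOf_dvd_of_pow_eq_one h2)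
    exact orderOf_eq_one_iff.1 h4
  apply ha
  have : e⁻¹ * a' ∈ E := E.mul_mem (E.inv_mem heE) ((hmemE a').2 ha'p)
  rwa [ha', inv_mul_cancel_left] at this

end Cfsg.Lib.LocalMisc6
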