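import Mathlib
import Cfsg.Agent.Lib.PLocal.PIrreducible
import Cfsg.Agent.Lib.PLocal.FStarAction
import Cfsg.Agent.Lib.PLocal.ClosedConjugates
import Cfsg.Agent.Lib.Solv.PGroupBasic

/-!
The normal closure of `O_p(L) ∩ Y` in a group minimal over the elementary abelian subgroup `Y`.
-/

set_option autoImplicit false
set_option linter.unusedSectionVars false
set_option linter.style.haveILetI false

namespace Cfsg.Lib.MinOverClosure

open Subgroup Cfsg.Lib.PLocal.Closed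
open Cfsg.Lib.FStarAction (le_normalizer_of_conj)
open scoped commutatorElement

variable {L : Type*} [Group L] [Finite L] {p : ℕ} [hp : Fact p.Prime]

theorem closure_facts (L₀ : Subgroup L) (hL₀ : IsCoatom L₀) (Y : Subgroup L) (hYL₀ : Y ≤ L₀)
    (hYel : Cfsg.IsElementaryAbelian p Y) (hmin : Cfsg.IsMinimalOver Y)
    (hOY : Cfsg.pCore p L ≤ normalizer (Y : Set L)) (A : Subgroup L)
    (hA : A = normalClosure (((Cfsg.pCore p L ⊓ Y : Subgroup L)) : Set L)) (g : L) (hg : g ∉ L₀) :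
    (frattini ↥A).map A.subtype = ⁅A, A⁆ ∧ ⁅A, A⁆ = ⁅A ⊓ Y, A⁆ ∧
      ⁅A ⊓ Y, A⁆ = ⁅A ⊓ Y, A ⊓ Y.map (MulAut.conj g).toMonoidHom⁆ ∧
      ⁅A ⊓ Y, A⁆ ≤ Y ⊓ center L ∧ Y ⊓ Y.map (MulAut.conj g).toMonoidHom = Y ⊓ center L ∧
      (A ⊓ Y) ⊓ (A ⊓ Y.map (MulAut.conj g).toMonoidHom) = Y ⊓ center L ∧
      A ⊓ center L = Y ⊓ center L := by
  haveI := Transfer.pCore_normal (G := L) p
  have hYp : IsPGroup p Y := fun y => ⟨1, Subtype.ext (by simpa using hYel.2 y y.2)⟩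
  obtain ⟨T, hT⟩ := (hYp.comap_subtype (K := L₀)).exists_le_sylow
  obtain ⟨-, -, -, -, hgen, hint⟩ := PLocal.PIrr.minimalOver_props hL₀ T Y
    (fun y hy => ⟨⟨y, hYL₀ hy⟩, hT hy, rfl⟩) hmin
  set O := Cfsg.pCore p L with hO
  set Yg := Y.map (MulAut.conj g).toMonoidHom with hYg
  have hgen := hgen g hg
  have hint := hint hYel.1 g hg
  have hOn : ∀ x : L, cj x O = O := fun x => cj_eq_self_iff.2 (le_normalizer_of_normal (mem_top x))
  set U₁ := O ⊓ Y
  set U₂ := O ⊓ Yg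
  have hcjU : cj g U₁ = U₂ :=
    (Subgroup.map_inf O Y (MulAut.conj g).toMonoidHom (MulAut.conj g).injective).trans
      (congrArg (· ⊓ Yg) (hOn g))
  have hAn : A.Normal := hA ▸ normalClosure_normal
  have hU₁A : U₁ ≤ A := hA ▸ le_normalClosure
  have hU₂A : U₂ ≤ A := hcjU ▸ (cj_mono g hU₁A).trans (cj_eq_self_iff.2 (le_normalizer_of_normal (mem_top g))).le
  have hOYg : O ≤ normalizer (Yg : Set L) := by
    rw [hYg, ← cj_normalizer, ← hOn g]
    exact cj_mono g hOY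
  have hU₁n : O ≤ normalizer (U₁ : Set L) := le_normalizer_of_conj fun x hx c hc =>
    Subgroup.mem_inf.2 ⟨mul_mem (mul_mem hx hc.1) (inv_mem hx), (mem_normalizer_iff.1 (hOY hx) c).1 hc.2⟩
  have hU₂n : O ≤ normalizer (U₂ : Set L) := le_normalizer_of_conj fun x hx c hc =>
    Subgroup.mem_inf.2 ⟨mul_mem (mul_mem hx hc.1) (inv_mem hx), (mem_normalizer_iff.1 (hOYg hx) c).1 hc.2⟩
  have hcommY : ∀ a ∈ Y, ∀ b ∈ Y, a * b = b * a := fun a ha b hb =>
    congrArg Subtype.val (hYel.1.is_comm.comm (⟨a, ha⟩ : Y) ⟨b, hb⟩)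
  have hcommYg : ∀ a ∈ Yg, ∀ b ∈ Yg, a * b = b * a := by
    rintro _ ⟨a, ha, rfl⟩ _ ⟨b, hb, rfl⟩
    rw [← map_mul, ← map_mul, hcommY a ha b hb]
  have hYU : Y ≤ normalizer ((U₁ ⊔ U₂ : Subgroup L) : Set L) := by
    refine le_normalizer_of_conj fun y hy c hc => ?_
    refine (?_ : cj y (U₁ ⊔ U₂) ≤ _) (mem_map_of_mem _ hc)
    rw [cj, Subgroup.map_sup]
    refine sup_le ?_ ?_
    · rintro _ ⟨c, hc, rfl⟩
      show y * c * y⁻¹ ∈ _
      rw [hcommY y hy c hc.2, mul_inv_cancel_right]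
      exact mem_sup_left hc
    · rintro _ ⟨c, hc, rfl⟩
      show y * c * y⁻¹ ∈ _
      rw [show y * c * y⁻¹ = (y * (c * y⁻¹ * c⁻¹)) * c by group]
      refine mul_mem (mem_sup_left (Subgroup.mem_inf.2 ⟨?_, mul_mem hy ((mem_normalizer_iff.1 (hOY hc.1) _).1 (inv_mem hy))⟩))
        (mem_sup_right hc)
      rw [show y * (c * y⁻¹ * c⁻¹) = (y * c * y⁻¹) * c⁻¹ by group]
      exact mul_mem ((inferInstance : O.Normal).conj_mem c hc.1 y) (inv_mem hc.1)
  have hYgU : Yg ≤ normalizer ((U₁ ⊔ U₂ : Subgroup L) : Set L) := by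
    refine le_normalizer_of_conj fun y hy c hc => ?_
    refine (?_ : cj y (U₁ ⊔ U₂) ≤ _) (mem_map_of_mem _ hc)
    rw [cj, Subgroup.map_sup]
    refine sup_le ?_ ?_
    · rintro _ ⟨c, hc, rfl⟩
      show y * c * y⁻¹ ∈ _
      rw [show y * c * y⁻¹ = (y * (c * y⁻¹ * c⁻¹)) * c by group]
      refine mul_mem (mem_sup_right (Subgroup.mem_inf.2 ⟨?_, mul_mem hy ((mem_normalizer_iff.1 (hOYg hc.1) _).1 (inv_mem hy))⟩))
        (mem_sup_left hc)
      rw [show y * (c * y⁻¹ * c⁻¹) = (y * c * y⁻¹) * c⁻¹ by group]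
      exact mul_mem ((inferInstance : O.Normal).conj_mem c hc.1 y) (inv_mem hc.1)
    · rintro _ ⟨c, hc, rfl⟩
      show y * c * y⁻¹ ∈ _
      rw [hcommYg y hy c hc.2, mul_inv_cancel_right]
      exact mem_sup_right hc
  haveI : (U₁ ⊔ U₂).Normal := normalizer_eq_top_iff.1 (top_le_iff.1 (hgen ▸ sup_le hYU hYgU))
  have hAeq : A = U₁ ⊔ U₂ :=
    le_antisymm (hA.le.trans (normalClosure_le_normal (le_sup_left : U₁ ≤ U₁ ⊔ U₂))) (sup_le hU₁A hU₂A)
  have hAO : A ≤ O := hA.le.trans (normalClosure_le_normal (inf_le_left : U₁ ≤ O))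
  have hA1 : A ⊓ Y = U₁ := le_antisymm (inf_le_inf_right _ hAO) (le_inf hU₁A inf_le_right)
  have hA2 : A ⊓ Yg = U₂ := le_antisymm (inf_le_inf_right _ hAO) (le_inf hU₂A inf_le_right)
  have hA1n : U₂ ≤ normalizer (U₁ : Set L) := inf_le_left.trans hU₁n
  have hsplit : ∀ x ∈ A, ∃ a ∈ U₁, ∃ b ∈ U₂, x = a * b := by
    intro x hx
    rw [hAeq, ← SetLike.mem_coe, coe_mul_of_right_le_normalizer_left _ _ hA1n] at hx
    obtain ⟨a, ha, b, hb, rfl⟩ := hx
    exact ⟨a, ha, b, hb, rfl⟩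
  have hcen : ∀ a ∈ U₁, ∀ b ∈ U₂, ⁅a, b⁆ ∈ Y ⊓ center L := by
    intro a ha b hb
    rw [← hint]
    refine Subgroup.mem_inf.2 ⟨?_, ?_⟩
    · rw [show ⁅a, b⁆ = a * (b * a⁻¹ * b⁻¹) by rw [commutatorElement_def]; group]
      exact mul_mem ha.2 ((mem_normalizer_iff.1 (hOY hb.1) _).1 (inv_mem ha.2))
    · rw [show ⁅a, b⁆ = (a * b * a⁻¹) * b⁻¹ from commutatorElement_def a b]
      exact mul_mem ((mem_normalizer_iff.1 (hOYg ha.1) _).1 hb.2) (inv_mem hb.2)
  have hc1 : ∀ a ∈ U₁, ∀ a' ∈ U₁, Commute a a' := fun a ha a' ha' => hcommY a ha.2 a' ha'.2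
  have hc2 : ∀ a ∈ U₂, ∀ a' ∈ U₂, Commute a a' := fun a ha a' ha' => hcommYg a ha.2 a' ha'.2
  have hU1A : ⁅U₁, A⁆ = ⁅U₁, U₂⁆ := by
    refine le_antisymm ((commutator_le).2 fun a ha x hx => ?_) (commutator_mono le_rfl hU₂A)
    obtain ⟨a', ha', b, hb, rfl⟩ := hsplit x hx
    have hz := (hcen a ha b hb).2
    rw [show ⁅a, a' * b⁆ = ⁅a, a'⁆ * (a' * ⁅a, b⁆ * a'⁻¹) by simp only [commutatorElement_def]; group,
      commutatorElement_eq_one_iff_commute.2 (hc1 a ha a' ha'), one_mul, mem_center_iff.1 hz a',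
      mul_inv_cancel_right]
    exact commutator_mem_commutator ha hb
  have hAA : ⁅A, A⁆ = ⁅U₁, A⁆ := by
    refine le_antisymm ((commutator_le).2 fun x hx y hy => ?_) (commutator_mono hU₁A le_rfl)
    rw [hU1A]
    obtain ⟨a, ha, b, hb, rfl⟩ := hsplit x hx
    obtain ⟨a', ha', b', hb', rfl⟩ := hsplit y hy
    have hc : ∀ {u v w : L}, u ∈ U₁ → v ∈ U₂ → w * ⁅u, v⁆ * w⁻¹ = ⁅u, v⁆ := fun hu hv => by
      rw [mem_center_iff.1 (hcen _ hu _ hv).2, mul_inv_cancel_right]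
    have e : ⁅a * b, a' * b'⁆ = ⁅a', b⁆⁻¹ * ⁅a, b'⁆ := by
      have h1 : ⁅b, a' * b'⁆ = ⁅a', b⁆⁻¹ := by
        rw [show ⁅b, a' * b'⁆ = ⁅b, a'⁆ * (a' * ⁅b, b'⁆ * a'⁻¹) by simp only [commutatorElement_def]; group,
          commutatorElement_eq_one_iff_commute.2 (hc2 b hb b' hb'), mul_one, mul_inv_cancel, mul_one,
          commutatorElement_inv]
      have h2 : ⁅a, a' * b'⁆ = ⁅a, b'⁆ := by
        rw [show ⁅a, a' * b'⁆ = ⁅a, a'⁆ * (a' * ⁅a, b'⁆ * a'⁻¹) by simp only [commutatorElement_def]; group,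
          commutatorElement_eq_one_iff_commute.2 (hc1 a ha a' ha'), one_mul, hc ha hb']
      rw [show ⁅a * b, a' * b'⁆ = a * ⁅b, a' * b'⁆ * a⁻¹ * ⁅a, a' * b'⁆ by
        simp only [commutatorElement_def]; group, h1, h2]
      congr 1
      rw [← conj_inv, hc ha' hb]
    rw [e]
    exact mul_mem (inv_mem (commutator_mem_commutator ha' hb)) (commutator_mem_commutator ha hb')
  have hle : ⁅U₁, A⁆ ≤ Y ⊓ center L := hU1A.le.trans ((commutator_le).2 hcen)
  have hZO : Y ⊓ center L ≤ O := Solv.le_pCore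
    ⟨fun z hz x => by rwa [mem_center_iff.1 hz.2 x, mul_inv_cancel_right]⟩ hYp.to_inf_left
  have hZU : Y ⊓ center L ≤ U₁ := le_inf hZO inf_le_left
  have hAp : IsPGroup p A := (Solv.isPGroup_pCore p).to_le hAO
  refine ⟨?_, hA1 ▸ hAA, by rw [hA1, hA2]; exact hU1A, hA1 ▸ hle, hint, ?_, ?_⟩
  · refine le_antisymm ?_ ?_
    · have h : frattini ↥A ≤ _root_.commutator ↥A := by
        refine Solv.frattini_le_of_elementary_quotient (p := p) _ le_rfl fun x => ?_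
        obtain ⟨a, ha, b, hb, he⟩ := hsplit x x.2
        set a' : A := ⟨a, hU₁A ha⟩
        set b' : A := ⟨b, hU₂A hb⟩
        have hx : x = a' * b' := Subtype.ext he
        have hpa : a' ^ p = 1 := Subtype.ext (by simpa using hYel.2 a ha.2)
        have hpb : b' ^ p = 1 := by
          obtain ⟨y, hy, rfl⟩ := hb.2
          refine Subtype.ext ?_
          show (MulAut.conj g).toMonoidHom y ^ p = 1
          rw [← map_pow, hYel.2 y hy, map_one]
        refine (QuotientGroup.eq_one_iff (N := _root_.commutator ↥A) (x ^ p)).1 ?_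
        show (Abelianization.of (G := ↥A)) (x ^ p) = 1
        rw [hx, map_pow, map_mul, mul_pow, ← map_pow, ← map_pow, hpa, hpb, map_one, one_mul]
      exact (map_mono h).trans (map_subtype_commutator A).le
    · rw [← map_subtype_commutator]
      exact map_mono (Solv.commutator_le_frattini hAp)
  · rw [hA1, hA2]
    refine le_antisymm (fun z hz => hint ▸ Subgroup.mem_inf.2 ⟨hz.1.2, hz.2.2⟩)
      (le_inf hZU (le_inf hZO (hint ▸ inf_le_right : Y ⊓ center L ≤ Yg)))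
  · refine le_antisymm (fun z hz => Subgroup.mem_inf.2 ⟨?_, hz.2⟩) (le_inf (hZU.trans hU₁A) inf_le_right)
    obtain ⟨a, ha, b, hb, rfl⟩ := hsplit z hz.1
    have hbc : b ∈ center L := by
      have hall : Y ⊔ Yg ≤ centralizer ({b} : Set L) := by
        refine sup_le (fun y hy => mem_centralizer_singleton_iff.2 ?_) (fun y hy => mem_centralizer_singleton_iff.2 (hcommYg y hy b hb.2))
        have h1 : y * (a * b) = a * b * y := mem_center_iff.1 hz.2 y
        rw [← mul_assoc, hcommY y hy a ha.2, mul_assoc, mul_assoc] at h1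
        exact mul_left_cancel h1
      rw [show Y ⊔ Yg = ⊤ from hgen] at hall
      exact mem_center_iff.2 fun y => mem_centralizer_singleton_iff.1 (hall (mem_top y))
    obtain ⟨y, hy, hyb⟩ := hb.2
    have hbY : b ∈ Y := by
      have h1 : g * y * g⁻¹ = b := hyb
      have h2 : y = b := by
        rw [show y = g⁻¹ * b * g by rw [← h1]; group, mul_assoc, ← mem_center_iff.1 hbc g, inv_mul_cancel_left]
      exact h2 ▸ hy
    exact mul_mem ha.2 hbY

end Cfsg.Lib.MinOverClosure
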