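import Mathlib
import Cfsg.Agent.Lib.PLocal.PIrreducible
import Cfsg.Agent.Lib.PLocal.ClosedConjugates

/-!
Normal subgroups inside the maximal subgroup of a group minimal over a subgroup.
-/

set_option autoImplicit false

open scoped Pointwise

namespace Cfsg.Lib.PLocal.PIrr

open Cfsg Subgroup Cfsg.Lib.PLocal.Closed

variable {G : Type*} [Group G] [Finite G] {p : ℕ} [hp : Fact p.Prime]

theorem minimalOver_core (L₀ : Subgroup G) (hL₀ : IsCoatom L₀) (T : Sylow p ↥L₀) (Y : Subgroup G)
    (hYT : Y ≤ (T : Subgroup ↥L₀).map L₀.subtype) (hmin : IsMinimalOver Y) :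
    (pCore p G ≤ L₀.normalCore ∧
        (L₀.normalCore).map (QuotientGroup.mk' (pCore p G)) = frattini (G ⧸ pCore p G) ∧
        IsPClosed p ↥(L₀.normalCore)) ∧
      ∀ (N : Subgroup G) [N.Normal], N ≤ L₀ → IsPClosed p ↥N ∧
        Group.IsNilpotent (↥N ⧸ pCore p ↥N) ∧ (Nat.card (↥N ⧸ pCore p ↥N)).Coprime p := by
  obtain ⟨-, hOL, ⟨P, hP⟩, -, -, -⟩ := minimalOver_props hL₀ T Y hYT hmin
  haveI := pCore_normal' (G := G) (p := p)
  have hYP : Y ≤ (P : Subgroup G) := hP ▸ hYT
  have hYL : Y ≤ L₀ := hYT.trans (map_subtype_le _)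
  set f := QuotientGroup.mk' (pCore p G) with hf'
  have hf : Function.Surjective f := QuotientGroup.mk'_surjective _
  have hcm : (L₀.map f).comap f = L₀ := comap_map_eq_self (by rwa [QuotientGroup.ker_mk'])
  have hLq : L₀.map f ≠ ⊤ := fun e => hL₀.1 (by rw [← hcm, e, comap_top])
  have hquot : ∀ K : Subgroup (G ⧸ pCore p G), Y.map f ≤ K → K ≠ ⊤ → K ≤ L₀.map f := by
    intro K hYK hK
    have h1 : K.comap f ≤ L₀ := eq_of_minimalOver hmin hL₀ hYL (map_le_iff_le_comap.1 hYK)
      (fun e => hK (by rw [← map_comap_eq_self_of_surjective hf K, e, map_top_of_surjective f hf]))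
    have h2 := map_mono (f := f) h1
    rwa [map_comap_eq_self_of_surjective hf] at h2
  have hLqc : IsCoatom (L₀.map f) := by
    refine ⟨hLq, fun K hK => ?_⟩
    by_contra hne
    exact hK.not_ge (hquot K ((map_mono hYL).trans hK.le) hne)
  have hstep : ∀ (N : Subgroup G) [N.Normal], N ≤ L₀ →
      IsPClosed p ↥N ∧ (Nat.card ↥(N.map f)).Coprime p ∧
      ∀ (q : ℕ) [Fact q.Prime] (Q : Sylow q ↥(N.map f)), (Q : Subgroup ↥(N.map f)).Normal := by
    intro N hN hNL
    obtain ⟨S, hS⟩ := Solv.sylow_inf_subnormal hN.isSubnormal P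
    have hSmap : (S : Subgroup N).map N.subtype = (P : Subgroup G) ⊓ N := by
      rw [hS, subgroupOf_map_subtype]
    have hSn : ((P : Subgroup G) ⊓ N).Normal := by
      refine normalizer_eq_top_iff.1 ?_
      by_contra hne
      refine hL₀.1 (top_le_iff.1 ?_)
      rw [← Sylow.normalizer_sup_eq_top S, hSmap]
      refine sup_le (eq_of_minimalOver hmin hL₀ hYL ?_ hne) hNL
      intro y hy
      rw [← cj_eq_self_iff]
      show MulAut.conj y • ((P : Subgroup G) ⊓ N) = _
      rw [smul_inf, Solv.conj_smul_eq_self_iff.2 (le_normalizer (hYP hy)),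
        Solv.conj_smul_eq_self_iff.2 (le_normalizer_of_normal (H := N) (hYP hy))]
    have hcl : IsPClosed p ↥N := isPClosed_of_normal_sylow S (hSmap ▸ hSn)
    have hSU : (P : Subgroup G) ⊓ N ≤ pCore p G :=
      Solv.le_pCore hSn (P.isPGroup'.to_le inf_le_left)
    have hcop : (Nat.card ↥(N.map f)).Coprime p := by
      refine (hp.out.coprime_iff_not_dvd.2 fun hd => S.not_dvd_index (hd.trans ?_)).symm
      set g := f.comp N.subtype
      have hr : g.range = N.map f := by rw [MonoidHom.range_comp, range_subtype]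
      rw [← hr, ← index_ker]
      refine index_dvd_of_le fun s hs => MonoidHom.mem_ker.2 ?_
      exact (QuotientGroup.eq_one_iff _).2 (hSU (hSmap ▸ mem_map_of_mem N.subtype hs))
    refine ⟨hcl, hcop, fun q hq Q => ?_⟩
    have hNf : (N.map f).Normal := hN.map f hf
    haveI := hNf
    have hYp : IsPGroup p ↥(Y.map f) := (P.isPGroup'.to_le hYP).map f
    obtain ⟨k, hk⟩ := IsPGroup.iff_card.1 hYp
    obtain ⟨Q', hQ'⟩ := Solv.exists_invariant_sylow (Y.map f) (N.map f) le_normalizer_of_normal
      (hk ▸ hcop.symm.pow_left k) (Or.inl (by have := hYp.isNilpotent; infer_instance)) q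
    have hQ'n : ((Q' : Subgroup ↥(N.map f)).map (N.map f).subtype).Normal := by
      refine normalizer_eq_top_iff.1 ?_
      by_contra hne
      refine hLqc.1 (top_le_iff.1 ?_)
      rw [← Sylow.normalizer_sup_eq_top Q']
      exact sup_le (hquot _ hQ' hne) (map_mono hNL)
    have hn' : (Q' : Subgroup ↥(N.map f)).Normal := by
      have := hQ'n.comap (N.map f).subtype
      rwa [comap_map_eq_self_of_injective (subtype_injective _)] at this
    haveI := Sylow.unique_of_normal Q' hn'
    rw [Subsingleton.elim Q Q']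
    exact hn'
  have hcore := hstep L₀.normalCore (normalCore_le L₀)
  refine ⟨⟨normal_le_normalCore.2 hOL, le_antisymm ?_ ?_, hcore.1⟩, fun N hN hNL => ?_⟩
  · refine le_iInf₂ fun M hM => ?_
    by_contra hKM
    haveI := (normalCore_normal L₀).map f hf
    have hsup : (L₀.normalCore.map f) ⊔ M = ⊤ := (hM.le_iff.1 le_sup_right).resolve_right
      (fun e => hKM (e ▸ le_sup_left))
    have hidx : ¬ p ∣ M.index := by
      intro hd
      have h1 : M.index ∣ Nat.card ↥(L₀.normalCore.map f) := by
        set K := L₀.normalCore.map f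
        have e1 : K.index = K.relIndex M := by
          rw [← relIndex_sup_right M K, sup_comm, hsup, relIndex_top_right]
        have e2 : Nat.card ↥(K ⊓ M) * K.relIndex M = Nat.card M := by
          rw [← inf_relIndex_right, ← relIndex_bot_left, ← relIndex_bot_left]
          exact relIndex_mul_relIndex ⊥ (K ⊓ M) M bot_le inf_le_right
        refine ⟨Nat.card ↥(K ⊓ M), mul_right_cancel₀ (index_ne_zero_of_finite (H := K)) ?_⟩
        rw [K.card_mul_index, mul_assoc, e1, e2, mul_comm, M.card_mul_index]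
      exact hp.out.coprime_iff_not_dvd.1 hcore.2.1.symm (hd.trans h1)
    obtain ⟨S⟩ : Nonempty (Sylow p ↥M) := inferInstance
    obtain ⟨S', hS'⟩ := (S.isPGroup'.map M.subtype).exists_le_sylow
    have hSM : (S' : Subgroup (G ⧸ pCore p G)) ≤ M := by
      have hc : Nat.card ↥((S : Subgroup M).map M.subtype) = Nat.card S' := by
        have e := M.card_mul_index
        rw [card_map_of_injective M.subtype_injective]
        refine (Sylow.card_eq_multiplicity S).trans ?_
        rw [Sylow.card_eq_multiplicity S', ← e, Nat.factorization_mul Nat.card_pos.ne'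
          index_ne_zero_of_finite, Finsupp.add_apply, Nat.factorization_eq_zero_of_not_dvd hidx,
          add_zero]
      rw [← eq_of_le_of_card_ge hS' hc.ge]
      exact map_subtype_le _
    obtain ⟨S'', hS''⟩ := ((P.isPGroup'.to_le hYP).map f).exists_le_sylow
    obtain ⟨γ, hγ⟩ := MulAction.exists_smul_eq (G ⧸ pCore p G) S' S''
    have hYg : Y.map f ≤ cj γ M := by
      refine hS''.trans ?_
      rw [← hγ, Sylow.coe_subgroup_smul]
      exact map_mono hSM
    have hgM : cj γ M ≠ ⊤ := fun e => hM.1 (by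
      rw [← cj_inv_cj γ M, e, cj, map_top_of_surjective _ (MulAut.conj γ⁻¹).surjective])
    have hgc : IsCoatom (cj γ M) :=
      (OrderIso.isCoatom_iff (MulEquiv.mapSubgroup (MulAut.conj γ)) M).2 hM
    have heq : cj γ M = L₀.map f :=
      ((hgc.le_iff.1 (hquot _ hYg hgM)).resolve_left hLq).symm
    refine hKM fun z hz => ?_
    have h3 : γ * z * γ⁻¹ ∈ cj γ M :=
      heq ▸ map_mono (normalCore_le L₀) (((normalCore_normal L₀).map f hf).conj_mem z hz γ)
    obtain ⟨m, hm, hme⟩ := h3
    rwa [← (MulAut.conj γ).injective hme]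
  · have h1 : (frattini (G ⧸ pCore p G)).comap f ≤ L₀.normalCore := by
      haveI := Subgroup.Normal.comap (inferInstance : (frattini (G ⧸ pCore p G)).Normal) f
      refine normal_le_normalCore.2 (le_trans (comap_mono (frattini_le_coatom hLqc)) hcm.le)
    have h2 := map_mono (f := f) h1
    rwa [map_comap_eq_self_of_surjective hf] at h2
  · haveI := hN
    obtain ⟨hcl, hcop, hsyl⟩ := hstep N hNL
    let g : ↥N →* ↥(N.map f) := (f.comp N.subtype).codRestrict _ fun x => mem_map_of_mem f x.2
    have hg : Function.Surjective g := by rintro ⟨_, x, hx, rfl⟩; exact ⟨⟨x, hx⟩, rfl⟩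
    have hker : g.ker = pCore p ↥N := by
      refine map_injective N.subtype_injective ?_
      rw [Solv.map_pCore_subgroup]
      ext x
      constructor
      · rintro ⟨y, hy, rfl⟩
        exact ⟨(QuotientGroup.eq_one_iff _).1 (congrArg Subtype.val (MonoidHom.mem_ker.1 hy)), y.2⟩
      · rintro ⟨hx, hxN⟩
        exact ⟨⟨x, hxN⟩, MonoidHom.mem_ker.2 (Subtype.ext ((QuotientGroup.eq_one_iff _).2 hx)), rfl⟩
    haveI := pCore_normal' (G := ↥N) (p := p)
    let e : ↥N ⧸ pCore p ↥N ≃* ↥(N.map f) :=
      (QuotientGroup.quotientMulEquivOfEq hker.symm).trans (QuotientGroup.quotientKerEquivOfSurjective g hg)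
    refine ⟨hcl, ?_, by rw [Nat.card_congr e.toEquiv]; exact hcop⟩
    have hnil : Group.IsNilpotent ↥(N.map f) :=
      ((Group.isNilpotent_of_finite_tfae (G := ↥(N.map f))).out 0 3).mpr fun q hq Q => @hsyl q hq Q
    exact Group.nilpotent_of_mulEquiv e.symm

end Cfsg.Lib.PLocal.PIrr
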