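import Mathlib
import Cfsg.Agent.Lib.PLocal.ClosedConjugates
import Cfsg.Agent.Lib.PLocal.PReducedApply
import Cfsg.Agent.Lib.Solv.SubnormalJoinSylow

/-!
The `p`-residual of a weak closure split by a commuting pair of normal subgroups.
-/

set_option autoImplicit false
set_option linter.unusedSectionVars false
set_option linter.style.haveILetI false

namespace Cfsg.Lib.WcResidual

open Subgroup Cfsg.Lib.SubJoin Cfsg.Lib.PLocal.Closed Cfsg.Lib.PReduced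
open Cfsg.Lib.FStarAction (le_normalizer_of_conj)
open scoped commutatorElement

variable {G : Type*} [Group G] [Finite G] {p : ℕ} [hp : Fact p.Prime]

theorem map_pResidual (W : Subgroup G) : (Cfsg.pResidual p ↥W).map W.subtype = res p W := by
  rw [Cfsg.pResidual, MonoidHom.map_closure, res]
  congr 1
  ext x
  constructor
  · rintro ⟨y, hy, rfl⟩
    exact ⟨y.2, (Subgroup.orderOf_coe y).symm ▸ hy⟩
  · rintro ⟨hx, hx2⟩
    exact ⟨⟨x, hx⟩, by simpa [Subgroup.orderOf_mk] using hx2, rfl⟩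

theorem res_sup_le {D Q : Subgroup G} (hQ : IsPGroup p Q) (hn : Q ≤ normalizer (D : Set G)) :
    res p (D ⊔ Q) ≤ D := by
  refine (closure_le _).2 ?_
  rintro x ⟨hx, hcop⟩
  rw [← SetLike.mem_coe, coe_mul_of_right_le_normalizer_left _ _ hn] at hx
  obtain ⟨d, hd, q, hq, rfl⟩ := hx
  obtain ⟨k, hk⟩ := hQ ⟨q, hq⟩
  have hk' : q ^ p ^ k = 1 := congrArg Subtype.val hk
  have key : ∀ n : ℕ, (d * q) ^ n * (q ^ n)⁻¹ ∈ D := by
    intro n
    induction n with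
    | zero => simp
    | succ n ih =>
      have e : (d * q) ^ (n + 1) * (q ^ (n + 1))⁻¹ =
          ((d * q) ^ n * (q ^ n)⁻¹) * (q ^ n * d * (q ^ n)⁻¹) := by
        rw [pow_succ (d * q), pow_succ q]; group
      rw [e]
      exact mul_mem ih ((mem_normalizer_iff.1 (hn (pow_mem hq n)) d).1 hd)
  have h1 := key (p ^ k)
  rw [hk', inv_one, mul_one] at h1
  obtain ⟨m, hm⟩ := exists_pow_eq_self_of_coprime (hcop.symm.pow_left k)
  rw [← hm]
  exact pow_mem h1 m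

theorem wc_in {Q : Subgroup G} (hQ : IsPGroup p Q) (hwc : Cfsg.IsWeaklyClosedSubgroup p Q) {X : Subgroup G}
    (hQX : Q ≤ X) {g : G} (hg : cj g Q ≤ X) : ∃ x ∈ X, cj g Q = cj x Q := by
  obtain ⟨R, hR⟩ := (hQ.comap_subtype (K := X)).exists_le_sylow
  obtain ⟨R2, hR2⟩ := ((hQ.map (MulAut.conj g).toMonoidHom).comap_subtype (K := X)).exists_le_sylow
  obtain ⟨x, hx⟩ := MulAction.exists_smul_eq ↥X R2 R
  obtain ⟨S, hS⟩ := (R.isPGroup'.map X.subtype).exists_le_sylow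
  have h1 : cj (x : G) (cj g Q) ≤ (S : Subgroup G) := by
    rintro _ ⟨y, hy, rfl⟩
    refine hS ⟨x * ⟨y, hg hy⟩ * x⁻¹, ?_, rfl⟩
    rw [← hx]
    exact smul_mem_pointwise_smul _ (MulAut.conj x) _
      (hR2 (show (⟨y, hg hy⟩ : X) ∈ (cj g Q).subgroupOf X from hy))
  rw [cj_cj] at h1
  have h2 := wc_any hwc S (fun y hy => hS ⟨⟨y, hQX hy⟩, hR hy, rfl⟩) _ h1
  refine ⟨(x : G)⁻¹, inv_mem x.2, ?_⟩
  conv_rhs => rw [← h2, cj_cj, ← mul_assoc, inv_mul_cancel, one_mul]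

theorem conj_weakClosure {Q X : Subgroup G} {x : G} (hx : x ∈ X) :
    cj x (Cfsg.weakClosure Q X) ≤ Cfsg.weakClosure Q X := by
  rw [cj, Cfsg.weakClosure, Subgroup.map_iSup]
  refine iSup_le fun g => ?_
  have hle : cj (x * g.1) Q ≤ X := by
    rw [← cj_cj]
    rintro _ ⟨y, hy, rfl⟩
    exact mul_mem (mul_mem hx (g.2 hy)) (inv_mem hx)
  exact le_trans (le_of_eq (cj_cj x g.1 Q))
    (le_iSup (fun g : {g : G // Q.map (MulAut.conj g).toMonoidHom ≤ X} => cj (g : G) Q) ⟨x * g.1, hle⟩)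

theorem weakClosure_le (Q X : Subgroup G) : Cfsg.weakClosure Q X ≤ X := iSup_le fun g => g.2

theorem le_weakClosure {Q X : Subgroup G} {g : G} (hg : cj g Q ≤ X) : cj g Q ≤ Cfsg.weakClosure Q X :=
  le_iSup (fun g : {g : G // Q.map (MulAut.conj g).toMonoidHom ≤ X} => cj (g : G) Q) ⟨g, hg⟩

theorem self_le_weakClosure {Q X : Subgroup G} (hQX : Q ≤ X) : Q ≤ Cfsg.weakClosure Q X := by
  have := le_weakClosure (Q := Q) (X := X) (g := 1) (by rw [cj_one]; exact hQX)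
  rwa [cj_one] at this

/-- A weak closure is generated by its own conjugates of `Q`. -/
theorem weakClosure_gen {Q X : Subgroup G} (hQ : IsPGroup p Q) (hwc : Cfsg.IsWeaklyClosedSubgroup p Q)
    (hQX : Q ≤ X) {N : Subgroup G} (h : ∀ w ∈ Cfsg.weakClosure Q X, cj w Q ≤ N) :
    Cfsg.weakClosure Q X ≤ N := by
  refine iSup_le fun g => ?_
  obtain ⟨w, hw, e⟩ := wc_in hQ hwc (self_le_weakClosure hQX) (le_weakClosure g.2)
  exact le_of_eq_of_le e (h w hw)

theorem gen_of_normal {Q X N : Subgroup G} (hQ : IsPGroup p Q) (hwc : Cfsg.IsWeaklyClosedSubgroup p Q)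
    (hQX : Q ≤ X) (hQN : Q ≤ N) (hn : Cfsg.weakClosure Q X ≤ normalizer (N : Set G)) :
    Cfsg.weakClosure Q X ≤ N :=
  weakClosure_gen hQ hwc hQX fun _ hw => (cj_mono _ hQN).trans (cj_eq_self_iff.2 (hn hw)).le

/-- The residual `K` of the weak closure `W` of `Q` in `X`. -/
theorem residual {Q X : Subgroup G} (hQ : IsPGroup p Q) (hwc : Cfsg.IsWeaklyClosedSubgroup p Q) (hQX : Q ≤ X) :
    X ≤ normalizer ((res p (Cfsg.weakClosure Q X) : Subgroup G) : Set G) ∧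
      Cfsg.weakClosure Q X = res p (Cfsg.weakClosure Q X) ⊔ Q ∧
      ⁅res p (Cfsg.weakClosure Q X), Q⁆ = res p (Cfsg.weakClosure Q X) := by
  set W := Cfsg.weakClosure Q X with hW
  set K := res p W with hK
  have hQW : Q ≤ W := self_le_weakClosure hQX
  have hXK : X ≤ normalizer (K : Set G) := le_normalizer_of_conj fun x hx k hk =>
    res_mono (conj_weakClosure hx) (res_conj x W (mem_map_of_mem _ hk))
  have hKW : K ≤ W := res_le W
  have hWK : W ≤ normalizer (K : Set G) := (weakClosure_le Q X).trans hXK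
  obtain ⟨R, hR⟩ := (hQ.comap_subtype (K := W)).exists_le_sylow
  have hsup : W ≤ K ⊔ (R : Subgroup ↥W).map W.subtype := by
    have h := congrArg (Subgroup.map W.subtype) (Transfer.pResidual_sup_sylow R)
    rw [Subgroup.map_sup, map_pResidual, ← MonoidHom.range_eq_map, range_subtype] at h
    exact h.ge
  have hRQ : (R : Subgroup ↥W).map W.subtype ≤ normalizer (Q : Set G) :=
    le_normalizer.trans (wc_normalizer hwc (R.isPGroup'.map _) (fun y hy => ⟨⟨y, hQW hy⟩, hR hy, rfl⟩))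
  have hWeq : W = K ⊔ Q := by
    refine le_antisymm (gen_of_normal hQ hwc hQX le_sup_right ?_) (sup_le hKW hQW)
    refine hsup.trans (sup_le (le_sup_left.trans le_normalizer) ?_)
    refine le_normalizer_of_conj fun r hr c hc => ?_
    have h1 : cj r (K ⊔ Q) ≤ K ⊔ Q := by
      rw [cj, Subgroup.map_sup]
      exact sup_le_sup (cj_eq_self_iff.2 (hWK ((map_subtype_le _) hr))).le (cj_eq_self_iff.2 (hRQ hr)).le
    exact h1 (mem_map_of_mem _ hc)
  refine ⟨hXK, hWeq, le_antisymm (Solv.commutator_le_of_normalizes (hQW.trans hWK)) ?_⟩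
  set D := ⁅K, Q⁆ with hD
  have hDn : K ≤ normalizer (D : Set G) := Solv.le_normalizer_commutator_left K Q
  have hDQ : Q ≤ normalizer (D : Set G) := Solv.le_normalizer_commutator_right K Q
  have hW2 : W ≤ D ⊔ Q := by
    refine gen_of_normal hQ hwc hQX le_sup_right ?_
    show W ≤ _
    rw [hWeq]
    refine sup_le (le_normalizer_of_conj fun k hk c hc => ?_) (le_sup_right.trans le_normalizer)
    have h1 : cj k (D ⊔ Q) ≤ D ⊔ Q := by
      rw [cj, Subgroup.map_sup]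
      refine sup_le ((cj_eq_self_iff.2 (hDn hk)).le.trans le_sup_left) ?_
      rintro _ ⟨q, hq, rfl⟩
      show k * q * k⁻¹ ∈ D ⊔ Q
      rw [show k * q * k⁻¹ = ⁅k, q⁆ * q by rw [commutatorElement_def]; group]
      exact mul_mem (mem_sup_left (commutator_mem_commutator hk hq)) (mem_sup_right hq)
    exact h1 (mem_map_of_mem _ hc)
  exact (res_res W).trans ((res_mono (hKW.trans hW2)).trans (res_sup_le hQ hDQ))

theorem cj_pCoreOf {M : Subgroup G} {x : G} (hx : x ∈ normalizer (M : Set G)) :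
    cj x (Cfsg.pCoreOf p M) ≤ Cfsg.pCoreOf p M := by
  refine le_pCoreOf ((cj_mono x (pCoreOf_le M)).trans (cj_eq_self_iff.2 hx).le) ?_ ((pCoreOf_isPGroup M).map _)
  calc M = cj x M := (cj_eq_self_iff.2 hx).symm
    _ ≤ cj x (normalizer (Cfsg.pCoreOf p M : Set G)) := cj_mono x (pCoreOf_norm M)
    _ = _ := cj_normalizer x _

/-- One half of S2859. -/
theorem half {Q Hc H₁ H₂ : Subgroup G} (hQ : IsPGroup p Q) (hwc : Cfsg.IsWeaklyClosedSubgroup p Q)
    (hHc : Hc = Cfsg.weakClosure Q ⊤) (h1 : H₁ ≤ Hc) (hn1 : Hc ≤ normalizer (H₁ : Set G))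
    (h2 : H₂ ≤ Hc) (hn2 : Hc ≤ normalizer (H₂ : Set G))
    (hprod : H₁ ⊔ H₂ = Hc) (hcomm : ⁅H₁, H₂⁆ ≤ normalizer (Q : Set G)) :
    let K := res p (Cfsg.weakClosure Q (H₁ ⊔ Q))
    let O := Cfsg.pCoreOf p ⁅H₁, H₂⁆
    ⁅K, Q⁆ = K ∧ ⁅K, H₁⁆ = K ∧ K ≤ H₁ ∧ Hc ≤ normalizer (K : Set G) ∧
      Cfsg.weakClosure Q (H₁ ⊔ Q) = K ⊔ Q ∧ H₁ ≤ normalizer ((K ⊔ Q : Subgroup G) : Set G) ∧
      Hc ≤ normalizer (O : Set G) ∧ ∀ m ∈ ⁅H₁, H₂⁆, ∀ h ∈ Hc, ⁅m, h⁆ ∈ O := by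
  intro K O
  set M := ⁅H₁, H₂⁆ with hM
  have hQHc : Q ≤ Hc := hHc ▸ self_le_weakClosure le_top
  obtain ⟨hXK, hWeq, hKQ⟩ := residual hQ hwc (le_sup_right : Q ≤ H₁ ⊔ Q)
  have hKH : K ≤ H₁ := (res_mono (weakClosure_le _ _)).trans (res_sup_le hQ (hQHc.trans hn1))
  have hMH1 : M ≤ H₁ := Solv.commutator_le_of_normalizes (h2.trans hn1)
  have hMn : Hc ≤ normalizer (M : Set G) := le_normalizer_of_conj fun x hx c hc => by
    have : cj x M = M := by
      rw [hM, cj, map_commutator, ← cj, ← cj, cj_eq_self_iff.2 (hn1 hx), cj_eq_self_iff.2 (hn2 hx)]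
    exact this.le (mem_map_of_mem _ hc)
  have hOn : Hc ≤ normalizer (O : Set G) := le_normalizer_of_conj fun x hx c hc =>
    cj_pCoreOf (hMn hx) (mem_map_of_mem _ hc)
  have hOM : O ≤ M := pCoreOf_le M
  have hOp : IsPGroup p O := pCoreOf_isPGroup M
  have hcen : ∀ m ∈ M, ∀ h ∈ Hc, ⁅m, h⁆ ∈ O := by
    let C : Subgroup G :=
      { carrier := {h | h ∈ Hc ∧ ∀ m ∈ M, ⁅m, h⁆ ∈ O}
        one_mem' := ⟨one_mem _, fun m _ => by simp [commutatorElement_def]⟩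
        mul_mem' := fun {a b} ha hb => ⟨mul_mem ha.1 hb.1, fun m hm => by
          rw [show ⁅m, a * b⁆ = ⁅m, a⁆ * (a * ⁅m, b⁆ * a⁻¹) by simp only [commutatorElement_def]; group]
          exact mul_mem (ha.2 m hm) ((mem_normalizer_iff.1 (hOn ha.1) _).1 (hb.2 m hm))⟩
        inv_mem' := fun {a} ha => ⟨inv_mem ha.1, fun m hm => by
          rw [show ⁅m, a⁻¹⁆ = a⁻¹ * ⁅m, a⁆⁻¹ * a⁻¹⁻¹ by simp only [commutatorElement_def]; group]
          exact (mem_normalizer_iff.1 (hOn (inv_mem ha.1)) _).1 (inv_mem (ha.2 m hm))⟩ }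
    have hC : Hc ≤ C := by
      conv_lhs => rw [hHc]
      refine weakClosure_gen hQ hwc le_top fun w hw => ?_
      have hwH : w ∈ Hc := hHc ▸ hw
      intro y hy
      have hyH : y ∈ Hc := by
        obtain ⟨q, hq, rfl⟩ := hy
        exact mul_mem (mul_mem hwH (hQHc hq)) (inv_mem hwH)
      refine ⟨hyH, fun m hm => ?_⟩
      have hMw : M ≤ normalizer (cj w Q : Set G) := by
        rw [← cj_normalizer, ← cj_eq_self_iff.2 (hMn hwH)]
        exact cj_mono w hcomm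
      have hsub : M ⊓ cj w Q ≤ O := by
        refine le_pCoreOf inf_le_left (le_normalizer_of_conj fun a ha c hc => Subgroup.mem_inf.2
          ⟨mul_mem (mul_mem ha hc.1) (inv_mem ha), (mem_normalizer_iff.1 (hMw ha) c).1 hc.2⟩) ?_
        exact (hQ.map _).to_inf_right
      refine hsub (Subgroup.mem_inf.2 ⟨?_, ?_⟩)
      · rw [show ⁅m, y⁆ = m * (y * m⁻¹ * y⁻¹) by rw [commutatorElement_def]; group]
        exact mul_mem hm ((mem_normalizer_iff.1 (hMn hyH) _).1 (inv_mem hm))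
      · rw [show ⁅m, y⁆ = m * y * m⁻¹ * y⁻¹ from commutatorElement_def m y]
        exact mul_mem ((mem_normalizer_iff.1 (hMw hm) _).1 hy) (inv_mem hy)
    exact fun m hm h hh => (hC hh).2 m hm
  set D := ⁅K, H₁⁆ with hD
  have hKHc : K ≤ Hc := hKH.trans h1
  have hH1D : H₁ ≤ normalizer (D : Set G) := Solv.le_normalizer_commutator_right K H₁
  have hQD : Q ≤ normalizer (D : Set G) := le_normalizer_of_conj fun q hq c hc => by
    have : cj q D = D := by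
      rw [hD, cj, map_commutator, ← cj, ← cj, cj_eq_self_iff.2 (hXK (mem_sup_right hq)),
        cj_eq_self_iff.2 (hn1 (hQHc hq))]
    exact this.le (mem_map_of_mem _ hc)
  have hDK : D ≤ K := Solv.commutator_le_of_normalizes ((le_sup_left : H₁ ≤ H₁ ⊔ Q).trans hXK)
  have hOD : O ≤ normalizer (D : Set G) := (hOM.trans hMH1).trans hH1D
  have hMD : M ≤ normalizer (D : Set G) := hMH1.trans hH1D
  have hmm : ∀ {k h : G}, k ∈ K → h ∈ H₁ → ∀ m ∈ M, ⁅k * m, h⁆ ∈ D ⊔ O := fun {k h} hk hh m hm => by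
    rw [show ⁅k * m, h⁆ = (k * ⁅m, h⁆ * k⁻¹) * ⁅k, h⁆ by simp only [commutatorElement_def]; group]
    exact mul_mem (mem_sup_right ((mem_normalizer_iff.1 (hOn (hKHc hk)) _).1 (hcen m hm h (h1 hh))))
      (mem_sup_left (commutator_mem_commutator hk hh))
  have step1 : K ≤ D ⊔ M := by
    refine hKQ.ge.trans ((commutator_le).2 fun k hk q hq => ?_)
    have hq' : q ∈ H₁ ⊔ H₂ := hprod.symm ▸ hQHc hq
    rw [← SetLike.mem_coe, coe_mul_of_right_le_normalizer_left _ _ (h2.trans hn1)] at hq'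
    obtain ⟨a, ha, b, hb, rfl⟩ := hq'
    rw [show ⁅k, a * b⁆ = ⁅k, a⁆ * (a * ⁅k, b⁆ * a⁻¹) by simp only [commutatorElement_def]; group]
    exact mul_mem (mem_sup_left (commutator_mem_commutator hk ha))
      (mem_sup_right ((mem_normalizer_iff.1 (hMn (h1 ha)) _).1 (commutator_mem_commutator (hKH hk) hb)))
  have step2 : K ≤ D ⊔ O := by
    refine hKQ.ge.trans ((commutator_le).2 fun k hk q hq => ?_)
    have hk' := step1 hk
    rw [← SetLike.mem_coe, coe_mul_of_right_le_normalizer_left _ _ hMD] at hk'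
    obtain ⟨d, hd, m, hm, rfl⟩ := hk'
    rw [show ⁅d * m, q⁆ = (d * ⁅m, q⁆ * d⁻¹) * ⁅d, q⁆ by simp only [commutatorElement_def]; group]
    refine mul_mem (mem_sup_right ((mem_normalizer_iff.1 (hOn (hKHc (hDK hd))) _).1
      (hcen m hm q (hQHc hq)))) (mem_sup_left ?_)
    rw [show ⁅d, q⁆ = d * (q * d⁻¹ * q⁻¹) by rw [commutatorElement_def]; group]
    exact mul_mem hd ((mem_normalizer_iff.1 (hQD hq) _).1 (inv_mem hd))
  have hKD : D = K := le_antisymm hDK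
    ((res_res _).trans ((res_mono step2).trans (res_sup_le hOp hOD)))
  have hKn : Hc ≤ normalizer (K : Set G) := by
    rw [← hprod]
    refine sup_le (le_sup_left.trans hXK) (le_normalizer_of_conj fun h hh c hc => ?_)
    have hsub : cj h K ≤ K ⊔ M := by
      rintro _ ⟨k, hk, rfl⟩
      show h * k * h⁻¹ ∈ K ⊔ M
      rw [show h * k * h⁻¹ = k * ⁅k⁻¹, h⁆ by rw [commutatorElement_def]; group]
      exact mul_mem (mem_sup_left hk) (mem_sup_right (commutator_mem_commutator (hKH (inv_mem hk)) hh))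
    have hle : cj h K ≤ D ⊔ O := by
      conv_lhs => rw [← hKD, hD, cj, map_commutator, ← cj, ← cj, cj_eq_self_iff.2 (hn1 (h2 hh))]
      refine (commutator_le).2 fun x hx y hy => ?_
      have hx' := hsub hx
      rw [← SetLike.mem_coe, coe_mul_of_right_le_normalizer_left _ _ ((hMH1.trans le_sup_left).trans hXK)] at hx'
      obtain ⟨k, hk, m, hm, rfl⟩ := hx'
      exact hmm hk hy m hm
    have hres : cj h K ≤ res p (cj h K) := (map_mono (res_res _)).trans (res_conj h K)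
    exact hKD.le ((hres.trans ((res_mono hle).trans (res_sup_le hOp hOD))) (mem_map_of_mem _ hc))
  refine ⟨hKQ, hKD, hKH, hKn, hWeq, ?_, hOn, hcen⟩
  refine le_normalizer_of_conj fun h hh c hc => ?_
  rw [show K ⊔ Q = _ from hWeq.symm] at hc ⊢
  exact conj_weakClosure (mem_sup_left hh) (mem_map_of_mem _ hc)

/-- S2859. -/
theorem split_residual (Q : Subgroup G) (hQ : IsPGroup p ↥Q)
    (hwc : Cfsg.IsWeaklyClosedSubgroup p Q) (Hc : Subgroup G) (hHc : Hc = Cfsg.weakClosure Q ⊤)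
    (H₁ H₂ : Subgroup G) (hn₁ : H₁ ≤ Hc ∧ Hc ≤ normalizer ((H₁ : Subgroup G) : Set G))
    (hn₂ : H₂ ≤ Hc ∧ Hc ≤ normalizer ((H₂ : Subgroup G) : Set G))
    (hprod : H₁ ⊔ H₂ = Hc) (hcomm : ⁅H₁, H₂⁆ ≤ normalizer ((Q : Subgroup G) : Set G)) (K₁ K₂ : Subgroup G)
    (hK₁ : K₁ = ((Cfsg.pResidual p ↥(Cfsg.weakClosure Q (H₁ ⊔ Q))).map ((Cfsg.weakClosure Q (H₁ ⊔ Q))).subtype))
    (hK₂ : K₂ = ((Cfsg.pResidual p ↥(Cfsg.weakClosure Q (H₂ ⊔ Q))).map ((Cfsg.weakClosure Q (H₂ ⊔ Q))).subtype)) :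
    (⁅K₁, Q⁆ = K₁ ∧ ⁅K₁, H₁⁆ = K₁ ∧ K₁ ≤ ⁅H₁, H₁⁆ ∧ Hc ≤ normalizer ((K₁ : Subgroup G) : Set G)) ∧
      (⁅K₂, Q⁆ = K₂ ∧ ⁅K₂, H₂⁆ = K₂ ∧ K₂ ≤ ⁅H₂, H₂⁆ ∧ Hc ≤ normalizer ((K₂ : Subgroup G) : Set G)) ∧
      K₁ ⊔ K₂ = ((Cfsg.pResidual p ↥Hc).map (Hc).subtype) ∧ ⁅K₁, K₂⁆ ≤ (Cfsg.pCoreOf p Hc) := by
  rw [map_pResidual] at hK₁ hK₂ ⊢
  subst hK₁ hK₂
  obtain ⟨a1, a2, a3, a4, a5, a6, a7, a8⟩ := half hQ hwc hHc hn₁.1 hn₁.2 hn₂.1 hn₂.2 hprod hcomm
  obtain ⟨b1, b2, b3, b4, b5, b6, -, -⟩ := half hQ hwc hHc hn₂.1 hn₂.2 hn₁.1 hn₁.2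
    (by rw [sup_comm]; exact hprod) (by rw [commutator_comm]; exact hcomm)
  set K₁ := res p (Cfsg.weakClosure Q (H₁ ⊔ Q))
  set K₂ := res p (Cfsg.weakClosure Q (H₂ ⊔ Q))
  set M := ⁅H₁, H₂⁆
  set O := Cfsg.pCoreOf p M
  have hQHc : Q ≤ Hc := hHc ▸ self_le_weakClosure le_top
  refine ⟨⟨a1, a2, a2.ge.trans (commutator_mono a3 le_rfl), a4⟩,
    ⟨b1, b2, b2.ge.trans (commutator_mono b3 le_rfl), b4⟩, le_antisymm ?_ ?_, ?_⟩
  · exact sup_le (res_mono ((weakClosure_le _ _).trans (sup_le hn₁.1 hQHc)))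
      (res_mono ((weakClosure_le _ _).trans (sup_le hn₂.1 hQHc)))
  · have hn : Hc ≤ normalizer ((K₁ ⊔ K₂ ⊔ Q : Subgroup G) : Set G) := by
      rw [← hprod]
      refine sup_le (le_normalizer_of_conj fun h hh c hc => ?_) (le_normalizer_of_conj fun h hh c hc => ?_)
      · refine (?_ : cj h (K₁ ⊔ K₂ ⊔ Q) ≤ _) (mem_map_of_mem _ hc)
        rw [cj, Subgroup.map_sup, Subgroup.map_sup]
        refine sup_le (sup_le_sup (cj_eq_self_iff.2 (a4 (hn₁.1 hh))).le (cj_eq_self_iff.2 (b4 (hn₁.1 hh))).le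
          |>.trans le_sup_left) ?_
        exact ((cj_mono h le_sup_right).trans (cj_eq_self_iff.2 (a6 hh)).le).trans
          (sup_le_sup le_sup_left le_rfl)
      · refine (?_ : cj h (K₁ ⊔ K₂ ⊔ Q) ≤ _) (mem_map_of_mem _ hc)
        rw [cj, Subgroup.map_sup, Subgroup.map_sup]
        refine sup_le (sup_le_sup (cj_eq_self_iff.2 (a4 (hn₂.1 hh))).le (cj_eq_self_iff.2 (b4 (hn₂.1 hh))).le
          |>.trans le_sup_left) ?_
        exact ((cj_mono h le_sup_right).trans (cj_eq_self_iff.2 (b6 hh)).le).trans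
          (sup_le_sup le_sup_right le_rfl)
    have hle : Hc ≤ K₁ ⊔ K₂ ⊔ Q := by
      conv_lhs => rw [hHc]
      exact gen_of_normal hQ hwc le_top le_sup_right (hHc ▸ hn)
    refine (res_mono hle).trans (res_sup_le hQ ?_)
    refine le_normalizer_of_conj fun q hq c hc => ?_
    refine (?_ : cj q (K₁ ⊔ K₂) ≤ _) (mem_map_of_mem _ hc)
    rw [cj, Subgroup.map_sup]
    exact sup_le_sup (cj_eq_self_iff.2 (a4 (hQHc hq))).le (cj_eq_self_iff.2 (b4 (hQHc hq))).le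
  · have hMHc : M ≤ Hc := (commutator_mono hn₁.1 hn₂.1).trans (commutator_le_self Hc)
    refine le_trans ?_ (le_pCoreOf ((pCoreOf_le M).trans hMHc) a7 (pCoreOf_isPGroup M) :
      O ≤ Cfsg.pCoreOf p Hc)
    haveI : (O.subgroupOf Hc).Normal := normal_subgroupOf_of_le_normalizer a7
    set q := QuotientGroup.mk' (O.subgroupOf Hc)
    have hOiff : ∀ x : Hc, q x = 1 ↔ (x : G) ∈ O := fun x => QuotientGroup.eq_one_iff x
    rw [commutator_comm, commutator_le]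
    intro c hc
    have hcH : c ∈ Hc := hn₂.1 (b3 hc)
    let cc : Hc := ⟨c, hcH⟩
    have hfix : ∀ x ∈ K₁, ⁅c, x⁆ ∈ O := by
      let C : Subgroup ↥Hc := (centralizer ({q cc} : Set _)).comap q
      suffices hC : K₁ ≤ C.map Hc.subtype by
        intro x hx
        obtain ⟨y, hy, rfl⟩ := hC hx
        have h1 : q ⁅cc, y⁆ = 1 := by
          rw [map_commutatorElement, commutatorElement_eq_one_iff_commute]
          exact (mem_centralizer_singleton_iff.1 hy).symm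
        exact (hOiff _).1 h1
      refine a2.ge.trans ((commutator_le).2 fun k hk h hh => ?_)
      refine ⟨⁅(⟨k, hn₁.1 (a3 hk)⟩ : Hc), ⟨h, hn₁.1 hh⟩⁆, ?_, rfl⟩
      have key : ∀ a : Hc, (a : G) ∈ H₁ → ∀ y, Commute (q ⁅cc, a⁆) y := by
        intro a ha y
        obtain ⟨y, rfl⟩ := QuotientGroup.mk'_surjective _ y
        rw [← commutatorElement_eq_one_iff_commute, ← map_commutatorElement, hOiff]
        refine a8 _ ?_ y y.2
        show ⁅c, (a : G)⁆ ∈ M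
        rw [← commutatorElement_inv]
        exact inv_mem (commutator_mem_commutator ha (b3 hc))
      show q _ ∈ centralizer ({q cc} : Set _)
      rw [mem_centralizer_singleton_iff, map_commutatorElement]
      set a := q ⟨k, hn₁.1 (a3 hk)⟩
      set b := q ⟨h, hn₁.1 hh⟩
      set z := q cc
      have hm : ∀ y, Commute ⁅z, a⁆ y := fun y => map_commutatorElement q cc _ ▸ key _ (a3 hk) y
      have hm' : ∀ y, Commute ⁅z, b⁆ y := fun y => map_commutatorElement q cc _ ▸ key _ hh y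
      have h3 : z * ⁅a, b⁆ * z⁻¹ = ⁅⁅z, a⁆ * a, ⁅z, b⁆ * b⁆ := by
        simp only [commutatorElement_def]; group
      have h4 : ⁅⁅z, a⁆ * a, ⁅z, b⁆ * b⁆ = ⁅a, b⁆ := by
        set m := ⁅z, a⁆
        set m' := ⁅z, b⁆
        simp only [commutatorElement_def, mul_inv_rev]
        calc m * a * (m' * b) * (a⁻¹ * m⁻¹) * (b⁻¹ * m'⁻¹)
            = m * (a * m') * b * a⁻¹ * (m⁻¹ * b⁻¹) * m'⁻¹ := by group
          _ = m * (m' * a) * b * a⁻¹ * (b⁻¹ * m⁻¹) * m'⁻¹ := by rw [(hm' a).eq, ((hm b).inv_inv).eq]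
          _ = (m * m') * (a * b * a⁻¹ * b⁻¹) * (m⁻¹ * m'⁻¹) := by group
          _ = (a * b * a⁻¹ * b⁻¹) * (m * m') * (m⁻¹ * m'⁻¹) := by
              rw [((hm (a * b * a⁻¹ * b⁻¹)).mul_left (hm' _)).eq]
          _ = a * b * a⁻¹ * b⁻¹ * (m * (m' * m⁻¹) * m'⁻¹) := by group
          _ = a * b * a⁻¹ * b⁻¹ := by rw [(hm' m⁻¹).eq]; group
      rw [h4] at h3
      exact (mul_inv_eq_iff_eq_mul.1 h3).symm
    exact hfix

end Cfsg.Lib.WcResidual
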