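import Mathlib
import Cfsg.Agent.Lib.PLocal.PIrreducible
import Cfsg.Agent.Lib.PLocal.WeakClosureResidual
import Cfsg.Agent.Lib.PLocal.FStarAction

/-!
Groups generated modulo `O_p` by a conjugacy class of normal `p`-minimal subgroups.
-/

set_option autoImplicit false
set_option linter.unusedSectionVars false
set_option linter.style.haveILetI false
set_option maxHeartbeats 400000

namespace Cfsg.Lib.PMinFamily

open Subgroup Cfsg.Lib.SubJoin Cfsg.Lib.PLocal.Closed
open Cfsg.Lib.FStarAction (le_normalizer_of_conj)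
open scoped commutatorElement

variable {H : Type*} [Group H] [Finite H] {p : ℕ} [hp : Fact p.Prime]

theorem pgroup_subnormal_le {D U : Subgroup H} (hD : D.IsSubnormal) (hUD : U ≤ D)
    (hn : D ≤ normalizer (U : Set H)) (hU : IsPGroup p U) : U ≤ Cfsg.pCore p H :=
  PLocal.PIrr.subnormal_le_pCore (Solv.isSubnormal_of_normal_le hUD hD hn) hU

theorem sylow_inf_member (T : Sylow p H) (E : Subgroup H) (hsn : (E ⊔ Cfsg.pCore p H).IsSubnormal) :
    ∃ Q : Sylow p ↥E, (Q : Subgroup ↥E) = (T : Subgroup H).subgroupOf E := by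
  set O := Cfsg.pCore p H
  set D := E ⊔ O
  haveI hOn : O.Normal := Transfer.pCore_normal p
  obtain ⟨Q, hQ⟩ := Solv.sylow_inf_subnormal hsn T
  refine ⟨(T.isPGroup'.comap_subtype (K := E)).toSylow ?_, rfl⟩
  intro h
  refine Q.not_dvd_index ?_
  rw [hQ]
  refine (show p ∣ (T : Subgroup H).relIndex D from ?_)
  have hOT : O ≤ (T : Subgroup H) := Transfer.pCore_le_sylow T
  have hsup : (T : Subgroup H) ⊓ D = O ⊔ ((T : Subgroup H) ⊓ E) := by
    refine le_antisymm (fun x hx => ?_) (sup_le (le_inf hOT le_sup_right) (inf_le_inf_left _ le_sup_left))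
    obtain ⟨e, he, o, ho, rfl⟩ := mem_sup_of_normal_right.1 hx.2
    rw [show e * o = (e * o * e⁻¹) * e by group]
    refine mul_mem (mem_sup_left (hOn.conj_mem o ho e)) (mem_sup_right (Subgroup.mem_inf.2 ⟨?_, he⟩))
    have h5 : e * o ∈ (T : Subgroup H) := hx.1
    simpa using mul_mem h5 (inv_mem (hOT ho))
  have h1 : (O ⊔ ((T : Subgroup H) ⊓ E)).relIndex D = (O ⊔ ((T : Subgroup H) ⊓ E)).relIndex E := by
    haveI : IsMulCommutative ↥(⊥ : Subgroup H) := inferInstance
    have e1 := Solv.card_eq_mul_relIndex (le_sup_left : O ≤ O ⊔ ((T : Subgroup H) ⊓ E))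
    have e2 := Solv.card_eq_mul_relIndex (sup_le le_sup_right (inf_le_right.trans le_sup_left) :
      O ⊔ ((T : Subgroup H) ⊓ E) ≤ D)
    have e3 := relIndex_mul_relIndex O (O ⊔ ((T : Subgroup H) ⊓ E)) D le_sup_left
      (sup_le le_sup_right (inf_le_right.trans le_sup_left))
    have e4 : O.relIndex D = O.relIndex E := relIndex_sup_right E O
    set A := (O ⊔ ((T : Subgroup H) ⊓ E)) ⊓ E with hA
    have e5 := relIndex_mul_relIndex (O ⊓ E) A E (le_inf (inf_le_left.trans le_sup_left) inf_le_right)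
      inf_le_right
    have e6 : O.relIndex (O ⊔ ((T : Subgroup H) ⊓ E)) = (O ⊓ E).relIndex A := by
      have h7 : O ⊔ ((T : Subgroup H) ⊓ E) = O ⊔ A := le_antisymm
        (sup_le le_sup_left (le_sup_of_le_right (le_inf le_sup_right inf_le_right)))
        (sup_le le_sup_left inf_le_left)
      rw [h7, relIndex_sup_left, ← inf_relIndex_right O A]
      conv_rhs => rw [← inf_relIndex_right]
      congr 1
      exact le_antisymm (le_inf (le_inf inf_le_left (inf_le_right.trans inf_le_right)) inf_le_right)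
        (le_inf (inf_le_left.trans inf_le_left) inf_le_right)
    rw [inf_relIndex_right] at e5
    rw [inf_relIndex_right] at e5
    have hpos : 0 < O.relIndex (O ⊔ ((T : Subgroup H) ⊓ E)) := Nat.pos_of_ne_zero (index_ne_zero_of_finite)
    refine Nat.eq_of_mul_eq_mul_left hpos ?_
    rw [e3, e4, e6, e5]
  have h2 : (O ⊔ ((T : Subgroup H) ⊓ E)).relIndex E = (T : Subgroup H).relIndex E := by
    rw [← hsup, ← inf_relIndex_right, inf_assoc, inf_eq_right.2 (le_sup_left : E ≤ D), inf_relIndex_right]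
  rw [← inf_relIndex_right, hsup, h1, h2]
  exact h

/-- The common hypotheses on the family. -/
structure Family (p : ℕ) (𝒦 : Set (Subgroup H)) : Prop where
  ne : 𝒦.Nonempty
  inv : ∀ h : H, ∀ E ∈ 𝒦, E.map (MulAut.conj h).toMonoidHom ∈ 𝒦
  trans : ∀ E ∈ 𝒦, ∀ K ∈ 𝒦, ∃ h : H, K = E.map (MulAut.conj h).toMonoidHom
  res : Cfsg.pResidual p H ≤ sSup 𝒦
  norm : ∀ E ∈ 𝒦, sSup 𝒦 ⊔ Cfsg.pCore p H ≤ normalizer ((E ⊔ Cfsg.pCore p H : Subgroup H) : Set H)

variable {𝒦 : Set (Subgroup H)}

theorem Family.normal (hF : Family p 𝒦) : (sSup 𝒦 ⊔ Cfsg.pCore p H).Normal := by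
  haveI : (sSup 𝒦 : Subgroup H).Normal := ⟨fun x hx g => by
    refine (sSup_le fun E hE => ?_ : (sSup 𝒦 : Subgroup H) ≤ (sSup 𝒦 : Subgroup H).comap (MulAut.conj g).toMonoidHom) hx
    rw [← map_le_iff_le_comap]
    exact le_sSup (hF.inv g E hE)⟩
  haveI : (Cfsg.pCore p H).Normal := Transfer.pCore_normal p
  infer_instance

theorem Family.subnormal (hF : Family p 𝒦) {E : Subgroup H} (hE : E ∈ 𝒦) :
    (E ⊔ Cfsg.pCore p H).IsSubnormal :=
  Solv.isSubnormal_of_normal_le (sup_le_sup_right (le_sSup hE) _) hF.normal.isSubnormal (hF.norm E hE)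

theorem Family.cover (hF : Family p 𝒦) (T : Sylow p H) :
    (⊤ : Subgroup H) ≤ (sSup 𝒦 ⊔ Cfsg.pCore p H) ⊔ (T : Subgroup H) :=
  (Transfer.pResidual_sup_sylow T).ge.trans (sup_le_sup_right (hF.res.trans le_sup_left) _)

/-- S2855, first part. -/
theorem minimalOver_of_family (hF : Family p 𝒦)
    (hmin : ∀ E ∈ 𝒦, ∀ T : Sylow p ↥E, Cfsg.IsMinimalOver (T : Subgroup ↥E)) (T : Sylow p H) :
    Cfsg.IsMinimalOver (T : Subgroup H) := by
  set O := Cfsg.pCore p H with hO
  haveI hOn : O.Normal := Transfer.pCore_normal p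
  have hOT : O ≤ (T : Subgroup H) := Transfer.pCore_le_sylow T
  set RO := sSup 𝒦 ⊔ O with hRO
  haveI hROn : RO.Normal := hF.normal
  have hcov := hF.cover T
  constructor
  · rw [eq_top_iff]
    refine hcov.trans (sup_le (sup_le (sSup_le fun E hE => ?_) (hOT.trans le_normalClosure)) le_normalClosure)
    obtain ⟨Q, hQ⟩ := sylow_inf_member T E (hF.subnormal hE)
    intro e he
    have h1 : (⟨e, he⟩ : E) ∈ normalClosure ((Q : Subgroup ↥E) : Set ↥E) := by
      rw [(hmin E hE Q).1]; exact mem_top _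
    exact (normalClosure_le_normal (N := (normalClosure ((T : Subgroup H) : Set H)).subgroupOf E)
      (fun x hx => subset_normalClosure (by rw [hQ] at hx; exact hx))) h1
  -- the maximal subgroups of the members
  have hME : ∀ E ∈ 𝒦, ∃ M : Subgroup H, (T : Subgroup H) ⊓ E ≤ M ∧ M ≤ E ∧ ¬ E ≤ normalizer (M : Set H) ∧
      ∀ Y : Subgroup H, (T : Subgroup H) ⊓ E ≤ Y → Y ≤ E → Y ≠ E → Y ≤ M := by
    intro E hE
    obtain ⟨Q, hQ⟩ := sylow_inf_member T E (hF.subnormal hE)
    obtain ⟨hcl, M₀, ⟨hM₀, hQM⟩, huniq⟩ := hmin E hE Q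
    refine ⟨M₀.map E.subtype, fun x hx => ⟨⟨x, hx.2⟩, hQM (by rw [hQ]; exact hx.1), rfl⟩, map_subtype_le _,
      fun hn => hM₀.1 ?_, fun Y hTY hYE hYne => ?_⟩
    · rw [eq_top_iff, ← hcl]
      haveI : M₀.Normal := by
        have := normal_subgroupOf_of_le_normalizer hn
        rwa [subgroupOf, comap_map_eq_self_of_injective E.subtype_injective] at this
      exact normalClosure_le_normal hQM
    · have hne : Y.subgroupOf E ≠ ⊤ := fun h => hYne (le_antisymm hYE (subgroupOf_eq_top.1 h))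
      obtain ⟨M₁, hM₁, hle⟩ := (eq_top_or_exists_le_coatom _).resolve_left hne
      have hQY : (Q : Subgroup ↥E) ≤ Y.subgroupOf E := fun x hx => hTY ⟨by rw [hQ] at hx; exact hx, x.2⟩
      rw [← huniq M₁ ⟨hM₁, hQY.trans hle⟩, ← map_subgroupOf_eq_of_le hYE]
      exact map_mono hle
  choose! ME hME1 hME2 hME3 hME4 using hME
  -- the same for `E O`
  set MD : Subgroup H → Subgroup H := fun E => ME E ⊔ O with hMD
  have hDprop : ∀ E ∈ 𝒦, (T : Subgroup H) ⊓ (E ⊔ O) ≤ MD E ∧ MD E ≤ E ⊔ O ∧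
      ¬ E ⊔ O ≤ normalizer (MD E : Set H) ∧
      ∀ Y : Subgroup H, (T : Subgroup H) ⊓ (E ⊔ O) ≤ Y → Y ≤ E ⊔ O → ¬ E ≤ Y → Y ≤ MD E := by
    intro E hE
    have hsplit : ∀ Y : Subgroup H, O ≤ Y → Y ≤ E ⊔ O → Y ≤ (Y ⊓ E) ⊔ O := by
      intro Y hOY hY y hy
      obtain ⟨e, he, o, ho, rfl⟩ := mem_sup_of_normal_right.1 (hY hy)
      exact mul_mem (mem_sup_left (Subgroup.mem_inf.2 ⟨by simpa using mul_mem hy (inv_mem (hOY ho)), he⟩))
        (mem_sup_right ho)
    have h4 : ∀ Y : Subgroup H, (T : Subgroup H) ⊓ (E ⊔ O) ≤ Y → Y ≤ E ⊔ O → ¬ E ≤ Y → Y ≤ MD E := by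
      intro Y hTY hY hEY
      have hOY : O ≤ Y := (le_inf hOT le_sup_right).trans hTY
      refine (hsplit Y hOY hY).trans (sup_le_sup_right (hME4 E hE _ (le_inf ((inf_le_inf_left _ le_sup_left).trans hTY)
        inf_le_right) inf_le_right fun h => hEY (h.ge.trans inf_le_left)) _)
    refine ⟨?_, sup_le_sup_right (hME2 E hE) _, fun hn => hME3 E hE ?_, h4⟩
    · refine (hsplit _ (le_inf hOT le_sup_right) inf_le_right).trans (sup_le_sup_right ?_ _)
      exact le_trans (le_inf (inf_le_left.trans inf_le_left) inf_le_right) (hME1 E hE)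
    · have hint : MD E ⊓ E = ME E := by
        refine le_antisymm ?_ (le_inf le_sup_left (hME2 E hE))
        intro y hy
        obtain ⟨m, hm, o, ho, rfl⟩ := mem_sup_of_normal_right.1 hy.1
        refine mul_mem hm (hME1 E hE (Subgroup.mem_inf.2 ⟨hOT ho, ?_⟩))
        simpa using mul_mem (inv_mem (hME2 E hE hm)) hy.2
      intro e he
      rw [← hint, mem_normalizer_iff]
      intro y
      simp only [Subgroup.mem_inf]
      rw [mem_normalizer_iff.1 (hn (mem_sup_left he)) y, mem_normalizer_iff.1 (le_normalizer he) y]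
  -- no proper subgroup over `T` contains a member
  have hnotle : ∀ Y : Subgroup H, (T : Subgroup H) ≤ Y → Y ≠ ⊤ → ∀ E ∈ 𝒦, ¬ E ≤ Y := by
    intro Y hTY hY E hE hEY
    refine hY (top_le_iff.1 (hcov.trans (sup_le (sup_le (sSup_le fun K hK => ?_) (hOT.trans hTY)) hTY)))
    obtain ⟨h, rfl⟩ := hF.trans E hE K hK
    obtain ⟨r, hr, t, ht, rfl⟩ := mem_sup_of_normal_left.1 (hcov (mem_top h))
    set E' := E.map (MulAut.conj t).toMonoidHom
    have hE'Y : E' ≤ Y := by
      rintro _ ⟨e, he, rfl⟩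
      exact mul_mem (mul_mem (hTY ht) (hEY he)) (inv_mem (hTY ht))
    have h1 : cj r (E' ⊔ O) = E' ⊔ O := cj_eq_self_iff.2 (hF.norm E' (hF.inv t E hE) hr)
    refine le_trans ?_ (sup_le hE'Y (hOT.trans hTY))
    rw [← h1]
    refine le_trans (le_of_eq ?_) (cj_mono r le_sup_left)
    exact (cj_cj r t E).symm
  have hN : ∀ Y : Subgroup H, (T : Subgroup H) ≤ Y → Y ≠ ⊤ → ∀ E ∈ 𝒦, Y ⊓ RO ≤ normalizer (MD E : Set H) := by
    intro Y hTY hY E hE x hx
    obtain ⟨hTM, hMle, -, huniq⟩ := hDprop E hE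
    set D := E ⊔ O with hD
    have hxD : x ∈ normalizer (D : Set H) := hF.norm E hE hx.2
    set YD := Y ⊓ D
    obtain ⟨Q, hQ⟩ : ∃ Q : Sylow p ↥YD, (Q : Subgroup ↥YD) = (T : Subgroup H).subgroupOf YD := by
      refine ⟨(T.isPGroup'.comap_subtype (K := YD)).toSylow ?_, rfl⟩
      intro h
      obtain ⟨Q', hQ'⟩ := Solv.sylow_inf_subnormal (hF.subnormal hE) T
      refine Q'.not_dvd_index ?_
      rw [hQ']
      show p ∣ (T : Subgroup H).relIndex D
      rw [← inf_relIndex_right]
      refine h.trans ?_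
      show (T : Subgroup H).relIndex YD ∣ _
      rw [← inf_relIndex_right (T : Subgroup H) YD,
        show (T : Subgroup H) ⊓ YD = (T : Subgroup H) ⊓ D from
          le_antisymm (inf_le_inf_left _ inf_le_right) (le_inf inf_le_left (le_inf (inf_le_left.trans hTY) inf_le_right)),
        ← relIndex_mul_relIndex ((T : Subgroup H) ⊓ D) YD D
          (le_inf (inf_le_left.trans hTY) inf_le_right) inf_le_right]
      exact Dvd.intro _ rfl
    set TD := (T : Subgroup H) ⊓ D with hTD
    have hQmap : (Q : Subgroup ↥YD).map YD.subtype = TD := by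
      rw [hQ, subgroupOf_map_subtype]
      exact le_antisymm (inf_le_inf_left _ inf_le_right) (le_inf inf_le_left (le_inf (inf_le_left.trans hTY) inf_le_right))
    have hcx : cj x TD ≤ YD := by
      rintro _ ⟨y, hy, rfl⟩
      exact Subgroup.mem_inf.2 ⟨mul_mem (mul_mem hx.1 (hTY hy.1)) (inv_mem hx.1),
        (mem_normalizer_iff.1 hxD y).1 hy.2⟩
    obtain ⟨Q2, hQ2⟩ := (((T.isPGroup'.to_inf_left (K := D)).map (MulAut.conj x).toMonoidHom).comap_subtype
      (K := YD)).exists_le_sylow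
    obtain ⟨y, hy⟩ := MulAction.exists_smul_eq ↥YD Q2 Q
    have hz : cj ((y : H) * x) TD ≤ TD := by
      rw [← cj_cj]
      rintro _ ⟨w, hw, rfl⟩
      rw [← hQmap]
      refine ⟨y * ⟨w, hcx hw⟩ * y⁻¹, ?_, rfl⟩
      rw [← hy]
      exact smul_mem_pointwise_smul _ (MulAut.conj y) _
        (hQ2 (show (⟨w, hcx hw⟩ : YD) ∈ (cj x TD).subgroupOf YD from hw))
    set z := (y : H) * x with hzdef
    have hzD : z ∈ normalizer (D : Set H) := mul_mem (le_normalizer y.2.2) hxD
    have hzT : cj z TD = TD := eq_of_le_of_card_ge hz (card_map_of_injective (f := (MulAut.conj z).toMonoidHom) (MulAut.conj z).injective).ge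
    have hzM : cj z (MD E) = MD E := by
      refine eq_of_le_of_card_ge (huniq _ (hzT.ge.trans (cj_mono z hTM))
        ((cj_mono z hMle).trans (cj_eq_self_iff.2 hzD).le) fun hEle => ?_)
        (card_map_of_injective (f := (MulAut.conj z).toMonoidHom) (MulAut.conj z).injective).ge
      have hDle : D ≤ cj z (MD E) := sup_le hEle ((Normal.map inferInstance _ (MulAut.conj z).surjective :
        (cj z O).Normal) |> fun _ => by
          refine le_trans ?_ (cj_mono z (le_sup_right : O ≤ MD E))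
          exact (cj_eq_self_iff.2 (le_normalizer_of_normal (mem_top z))).ge)
      have : D ≤ MD E := (eq_of_le_of_card_ge hMle (by
        rw [← card_map_of_injective (K := MD E) (f := (MulAut.conj z).toMonoidHom) (MulAut.conj z).injective]
        exact card_le_of_le hDle)).ge
      exact (hDprop E hE).2.2.1 (this.trans le_normalizer)
    have hyM : (y : H) ∈ MD E := huniq YD (le_inf (inf_le_left.trans hTY) inf_le_right) inf_le_right
      (fun h => hnotle Y hTY hY E hE (h.trans inf_le_left)) y.2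
    have h1 : z ∈ normalizer (MD E : Set H) := cj_eq_self_iff.1 hzM
    rw [show x = (y : H)⁻¹ * z by rw [hzdef]; group]
    exact mul_mem (inv_mem (le_normalizer hyM)) h1
  obtain ⟨E₀, hE₀⟩ := hF.ne
  have hTne : (T : Subgroup H) ≠ ⊤ := by
    intro h
    obtain ⟨hTM, hMle, hnn, -⟩ := hDprop E₀ hE₀
    rw [h, top_inf_eq] at hTM
    exact hnn (hTM.trans le_normalizer)
  set B := RO ⊓ ⨅ E : 𝒦, normalizer (MD (E : Subgroup H) : Set H) with hB
  have hTB : (T : Subgroup H) ≤ normalizer (B : Set H) := by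
    refine le_normalizer_of_conj fun t ht b hb => ?_
    rw [hB, Subgroup.mem_inf, Subgroup.mem_iInf] at hb ⊢
    refine ⟨hROn.conj_mem b hb.1 t, fun E => ?_⟩
    have hE' := hF.inv t⁻¹ E E.2
    obtain ⟨hTM, hMle, -, -⟩ := hDprop _ hE'
    obtain ⟨-, -, hnn, huniq⟩ := hDprop E E.2
    have hcO : ∀ g : H, cj g O = O := fun g => cj_eq_self_iff.2 (le_normalizer_of_normal (mem_top g))
    have hcD : cj t (cj t⁻¹ (E : Subgroup H) ⊔ O) = (E : Subgroup H) ⊔ O := by
      show (cj t⁻¹ (E : Subgroup H) ⊔ O).map _ = _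
      rw [Subgroup.map_sup]
      exact congrArg₂ (· ⊔ ·) (cj_cj_inv t (E : Subgroup H)) (hcO t)
    have hle : cj t (MD (cj t⁻¹ (E : Subgroup H))) ≤ MD E := by
      refine huniq _ ?_ ((cj_mono t hMle).trans hcD.le) ?_
      · refine le_trans (le_of_eq ?_) (cj_mono t hTM)
        refine ((Subgroup.map_inf _ _ (MulAut.conj t).toMonoidHom (MulAut.conj t).injective).trans ?_).symm
        exact congrArg₂ (· ⊓ ·) (cj_eq_self_iff.2 (le_normalizer ht)) hcD
      · intro h
        refine (hDprop _ hE').2.2.1 (le_trans ?_ le_normalizer)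
        refine sup_le ?_ le_sup_right
        have h2 := cj_mono t⁻¹ h
        rwa [cj_inv_cj] at h2
    have hle' : cj t⁻¹ (MD E) ≤ MD (cj t⁻¹ (E : Subgroup H)) := by
      obtain ⟨hTM0, hMle0, -, -⟩ := hDprop E E.2
      obtain ⟨-, -, -, huniq'⟩ := hDprop _ hE'
      have hcD' : cj t⁻¹ ((E : Subgroup H) ⊔ O) = cj t⁻¹ (E : Subgroup H) ⊔ O := by
        show ((E : Subgroup H) ⊔ O).map _ = _
        rw [Subgroup.map_sup]
        exact congrArg₂ (· ⊔ ·) rfl (hcO t⁻¹)
      refine huniq' _ ?_ ((cj_mono _ hMle0).trans hcD'.le) ?_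
      · refine le_trans (le_of_eq ?_) (cj_mono t⁻¹ hTM0)
        refine ((Subgroup.map_inf _ _ (MulAut.conj t⁻¹).toMonoidHom (MulAut.conj t⁻¹).injective).trans ?_).symm
        exact congrArg₂ (· ⊓ ·) (cj_eq_self_iff.2 (le_normalizer (inv_mem ht))) hcD'
      · intro h
        refine hnn (le_trans ?_ le_normalizer)
        refine sup_le ?_ le_sup_right
        have h2 := cj_mono t h
        rwa [cj_cj_inv, cj_cj_inv] at h2
    have heq : cj t (MD (cj t⁻¹ (E : Subgroup H))) = MD E := by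
      refine le_antisymm hle ?_
      have := cj_mono t hle'
      rwa [cj_cj_inv] at this
    rw [← heq, ← cj_normalizer]
    exact ⟨b, hb.2 ⟨_, hE'⟩, rfl⟩
  have hle : ∀ Y : Subgroup H, (T : Subgroup H) ≤ Y → Y ≠ ⊤ → Y ≤ B ⊔ (T : Subgroup H) := by
    intro Y hTY hY y hy
    obtain ⟨a, ha, t, ht, rfl⟩ := mem_sup_of_normal_left.1 (hcov (mem_top y))
    have haY : a ∈ Y := by simpa using mul_mem hy (inv_mem (hTY ht))
    refine mul_mem (mem_sup_left (Subgroup.mem_inf.2 ⟨ha, Subgroup.mem_iInf.2 fun E => ?_⟩)) (mem_sup_right ht)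
    exact hN Y hTY hY E E.2 (Subgroup.mem_inf.2 ⟨haY, ha⟩)
  have hne : B ⊔ (T : Subgroup H) ≠ ⊤ := by
    intro h
    apply (hDprop E₀ hE₀).2.2.1
    intro d hd
    have h1 : d ∈ B ⊔ (T : Subgroup H) := h ▸ mem_top d
    rw [← SetLike.mem_coe, coe_mul_of_right_le_normalizer_left _ _ hTB] at h1
    obtain ⟨b, hb, t, ht, rfl⟩ := h1
    have hdRO : b * t ∈ RO := (sup_le_sup_right (le_sSup hE₀) O : E₀ ⊔ O ≤ RO) hd
    refine mul_mem (Subgroup.mem_iInf.1 (Subgroup.mem_inf.1 hb).2 ⟨E₀, hE₀⟩) ?_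
    refine hN T le_rfl hTne E₀ hE₀ (Subgroup.mem_inf.2 ⟨ht, ?_⟩)
    simpa using mul_mem (inv_mem (Subgroup.mem_inf.1 hb).1) hdRO
  obtain ⟨M, hM, hBM⟩ := (eq_top_or_exists_le_coatom _).resolve_left hne
  refine ⟨M, ⟨hM, le_sup_right.trans hBM⟩, fun M' hM' => ?_⟩
  have h1 : M' ≤ M := (hle M' hM'.2 hM'.1.1).trans hBM
  exact (eq_or_lt_of_le h1).resolve_right fun h => hM.1 (hM'.1.2 _ h)

theorem isPClosed_sub' (h : Cfsg.IsPClosed p H) (E : Subgroup H) : Cfsg.IsPClosed p ↥E := by
  obtain ⟨Q⟩ : Nonempty (Sylow p ↥E) := inferInstance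
  obtain ⟨S, hS⟩ := (Q.isPGroup'.map E.subtype).exists_le_sylow
  haveI := h S
  have hQ : (Q : Subgroup ↥E) = (S : Subgroup H).comap E.subtype :=
    (Q.is_maximal' (S.isPGroup'.comap_of_injective _ E.subtype_injective) (map_le_iff_le_comap.1 hS)).symm
  exact (PLocal.PIrr.isPClosed_iff Q).2 (hQ ▸ inferInstance)

theorem map_quotient_le {O X Y : Subgroup H} [O.Normal] (h : X.map (QuotientGroup.mk' O) ≤ Y.map (QuotientGroup.mk' O))
    (hOY : O ≤ Y) : X ≤ Y := by
  rw [map_le_iff_le_comap, comap_map_eq, QuotientGroup.ker_mk'] at h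
  exact h.trans (sup_le le_rfl hOY)

/-- S2855, second part. -/
theorem irreducible_of_family (hF : Family p 𝒦)
    (hstr : ∀ E ∈ 𝒦, Cfsg.IsStronglyPIrreducible p ↥E) :
    Cfsg.IsPIrreducible p H ∧ ∀ E ∈ 𝒦, ∀ K ∈ 𝒦,
      (Cfsg.pResidual p ↥(E ⊔ Cfsg.pCore p H)).map (E ⊔ Cfsg.pCore p H).subtype =
          (Cfsg.pResidual p ↥(K ⊔ Cfsg.pCore p H)).map (K ⊔ Cfsg.pCore p H).subtype ∨
        ⁅E, K⁆ ≤ Cfsg.pCore p H := by
  set O := Cfsg.pCore p H with hO
  haveI hOn : O.Normal := Transfer.pCore_normal p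
  have hOp : IsPGroup p O := Solv.isPGroup_pCore p
  obtain ⟨T⟩ : Nonempty (Sylow p H) := inferInstance
  have hOT : O ≤ (T : Subgroup H) := Transfer.pCore_le_sylow T
  set RO := sSup 𝒦 ⊔ O with hRO
  haveI hROn : RO.Normal := hF.normal
  set f := QuotientGroup.mk' O with hf
  have hfs : Function.Surjective f := QuotientGroup.mk'_surjective O
  have hfker : f.ker = O := QuotientGroup.ker_mk' O
  have hqcore : Cfsg.pCore p (H ⧸ O) = ⊥ := Solv.pCore_quotient_eq_bot p
  have hEgen : ∀ E ∈ 𝒦, E ≤ ⁅E, E⁆ ⊔ ((T : Subgroup H) ⊓ E) := by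
    intro E hE
    obtain ⟨Q, hQ⟩ := sylow_inf_member T E (hF.subnormal hE)
    have h := congrArg (Subgroup.map E.subtype)
      (PLocal.PIrr.irreducible_props (PLocal.PIrr.irreducible_of_strongly (hstr E hE)) Q).2.1
    rw [Subgroup.map_sup, map_subtype_commutator, hQ, subgroupOf_map_subtype, ← MonoidHom.range_eq_map,
      range_subtype] at h
    exact h.ge
  have hdich : ∀ E ∈ 𝒦, ∀ M : Subgroup H, E ≤ normalizer (M : Set H) → O ≤ M →
      res p E ≤ M ∨ ⁅M ⊓ E, E⁆ ≤ O := by
    intro E hE M hEM hOM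
    haveI : (M.subgroupOf E).Normal := ⟨fun x hx g => (mem_normalizer_iff.1 (hEM g.2) (x : H)).1 hx⟩
    by_cases h : ⁅M.subgroupOf E, (⊤ : Subgroup ↥E)⁆ ≤ Cfsg.pCore p ↥E
    · right
      have h1 := map_mono (f := E.subtype) h
      rw [map_commutator, subgroupOf_map_subtype, ← MonoidHom.range_eq_map, range_subtype] at h1
      refine h1.trans ?_
      set U := (Cfsg.pCore p ↥E).map E.subtype
      have hUn : E ≤ normalizer (U : Set H) := PReduced.le_normalizer_map _ (Transfer.pCore_normal p)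
      refine le_trans le_sup_left (pgroup_subnormal_le (U := U ⊔ O) (hF.subnormal hE)
        (sup_le_sup_right (map_subtype_le _) _) ?_ ?_)
      · refine sup_le (le_normalizer_of_conj fun e he c hc => ?_) (le_sup_right.trans le_normalizer)
        refine (?_ : cj e (U ⊔ O) ≤ _) (mem_map_of_mem _ hc)
        rw [cj, Subgroup.map_sup]
        exact sup_le_sup (cj_eq_self_iff.2 (hUn he)).le (cj_eq_self_iff.2 (le_normalizer_of_normal (mem_top e))).le
      · exact IsPGroup.to_sup_of_normal_right ((Solv.isPGroup_pCore p).map _) hOp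
    · left
      have h1 := map_mono (f := E.subtype) ((hstr E hE).2 _ inferInstance h)
      rw [WcResidual.map_pResidual, subgroupOf_map_subtype] at h1
      exact h1.trans inf_le_left
  have hcentral : ∀ E ∈ 𝒦, ∀ M X : Subgroup H, E ≤ normalizer (M : Set H) → O ≤ M → X ≤ M →
      X ≤ normalizer ((E ⊔ O : Subgroup H) : Set H) → ⁅M ⊓ E, E⁆ ≤ O → ⁅X, E⁆ ≤ O := by
    intro E hE M X hEM hOM hXM hXD hME
    set A := X.map f
    set B := E.map f
    have hBsn : B.IsSubnormal := by
      have h := (hF.subnormal hE).map (f := f) hfs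
      rwa [Subgroup.map_sup, (Subgroup.map_eq_bot_iff _).2 hfker.ge, sup_bot_eq] at h
    have hXE : ⁅X, E⁆ ≤ (M ⊓ E) ⊔ O := by
      rw [commutator_le]
      intro x hx e he
      have hM : ⁅x, e⁆ ∈ M := by
        rw [show ⁅x, e⁆ = x * (e * x⁻¹ * e⁻¹) by rw [commutatorElement_def]; group]
        exact mul_mem (hXM hx) ((mem_normalizer_iff.1 (hEM he) _).1 (inv_mem (hXM hx)))
      have hD : ⁅x, e⁆ ∈ E ⊔ O := by
        rw [show ⁅x, e⁆ = (x * e * x⁻¹) * e⁻¹ from commutatorElement_def x e]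
        exact mul_mem ((mem_normalizer_iff.1 (hXD hx) e).1 (mem_sup_left he)) (mem_sup_left (inv_mem he))
      obtain ⟨a, ha, o, ho, hao⟩ := mem_sup_of_normal_right.1 hD
      rw [← hao] at hM ⊢
      exact mul_mem (mem_sup_left (Subgroup.mem_inf.2 ⟨by simpa using mul_mem hM (inv_mem (hOM ho)), ha⟩))
        (mem_sup_right ho)
    have hABB : ⁅⁅A, B⁆, B⁆ = ⊥ := by
      rw [← le_bot_iff, ← map_commutator]
      refine (commutator_mono ((map_mono hXE).trans (le_of_eq (by
        rw [Subgroup.map_sup, (Subgroup.map_eq_bot_iff _).2 hfker.ge, sup_bot_eq]))) le_rfl).trans ?_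
      rw [← map_commutator, le_bot_iff, Subgroup.map_eq_bot_iff, hfker]
      exact hME
    have hAB_B : ⁅A, B⁆ ≤ B := by
      rw [← map_commutator]
      refine map_mono (hXE.trans (sup_le_sup_right inf_le_right O)) |>.trans (le_of_eq ?_)
      rw [Subgroup.map_sup, (Subgroup.map_eq_bot_iff _).2 hfker.ge, sup_bot_eq]
    have hBB : ⁅⁅B, B⁆, A⁆ = ⊥ :=
      commutator_commutator_eq_bot_of_rotate (by rw [commutator_comm B A]; exact hABB) hABB
    suffices hAB : ⁅A, B⁆ = ⊥ by
      rw [← map_commutator, Subgroup.map_eq_bot_iff, hfker] at hAB; exact hAB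
    rw [commutator_eq_bot_iff_le_centralizer, le_centralizer_iff]
    have hBgen : B ≤ ⁅B, B⁆ ⊔ ((T : Subgroup H) ⊓ E).map f := by
      rw [← map_commutator, ← Subgroup.map_sup]; exact map_mono (hEgen E hE)
    refine hBgen.trans (sup_le (commutator_eq_bot_iff_le_centralizer.1 hBB) ?_)
    rintro _ ⟨t, ht, rfl⟩
    rw [mem_centralizer_iff]
    intro a ha
    set z := ⁅a, f t⁆ with hz
    have hzB : z ∈ B := hAB_B (commutator_mem_commutator ha ⟨t, ht.2, rfl⟩)
    have hzc : ∀ b ∈ B, Commute z b := fun b hb => (mem_centralizer_iff.1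
      (commutator_eq_bot_iff_le_centralizer.1 hABB (commutator_mem_commutator ha ⟨t, ht.2, rfl⟩)) b hb).symm
    have hzn : ∀ n : ℕ, ⁅a, f t ^ n⁆ = z ^ n := by
      intro n
      induction n with
      | zero => simp [commutatorElement_def]
      | succ n ih =>
        have hc : f t ^ n * z * (f t ^ n)⁻¹ = z := by
          rw [← ((hzc (f t) ⟨t, ht.2, rfl⟩).pow_right n).eq, mul_inv_cancel_right]
        have e : ⁅a, f t ^ n * f t⁆ = ⁅a, f t ^ n⁆ * (f t ^ n * z * (f t ^ n)⁻¹) := by
          rw [hz]; simp only [commutatorElement_def]; group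
        rw [pow_succ, e, ih, hc, ← pow_succ]
    obtain ⟨k, hk⟩ := T.isPGroup' ⟨t, ht.1⟩
    have hk' : t ^ p ^ k = 1 := congrArg Subtype.val hk
    have hzk : z ^ p ^ k = 1 := by
      rw [← hzn, ← map_pow, hk', map_one, commutatorElement_def]; group
    have hzp : IsPGroup p (zpowers z) := by
      obtain ⟨j, -, hj⟩ := (Nat.dvd_prime_pow hp.out).1 (orderOf_dvd_of_pow_eq_one hzk)
      exact IsPGroup.of_card (n := j) (by rw [Nat.card_zpowers, hj])
    have h2 := pgroup_subnormal_le hBsn (zpowers_le.2 hzB) (le_normalizer_of_conj fun b hb c hc => by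
      obtain ⟨i, rfl⟩ := mem_zpowers_iff.1 hc
      rw [← ((hzc b hb).zpow_left i).eq, mul_inv_cancel_right]
      exact zpow_mem (mem_zpowers z) i) hzp
    rw [hqcore, le_bot_iff, zpowers_eq_bot] at h2
    exact commutatorElement_eq_one_iff_commute.1 h2
  have hresD : ∀ E ∈ 𝒦, ∀ K ∈ 𝒦, res p E ≤ K ⊔ O → res p (E ⊔ O) = res p (K ⊔ O) := by
    intro E hE K hK h
    have hresE : E ≤ normalizer ((res p E : Subgroup H) : Set H) := le_normalizer_res E
    have hRTD : E ⊔ O ≤ (res p E ⊔ O) ⊔ ((T : Subgroup H) ⊓ E) := by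
      refine sup_le ?_ (le_sup_of_le_left le_sup_right)
      obtain ⟨Q, hQ⟩ := sylow_inf_member T E (hF.subnormal hE)
      have h1 := congrArg (Subgroup.map E.subtype) (Transfer.pResidual_sup_sylow Q)
      rw [Subgroup.map_sup, WcResidual.map_pResidual, hQ, subgroupOf_map_subtype, ← MonoidHom.range_eq_map,
        range_subtype] at h1
      exact h1.ge.trans (sup_le_sup_right le_sup_left _)
    have hle : res p (E ⊔ O) ≤ res p (K ⊔ O) := by
      refine (res_res _).trans (res_mono ((res_mono hRTD).trans ((WcResidual.res_sup_le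
        T.isPGroup'.to_inf_left ?_).trans (sup_le h le_sup_right))))
      refine le_normalizer_of_conj fun t ht c hc => ?_
      refine (?_ : cj t (res p E ⊔ O) ≤ _) (mem_map_of_mem _ hc)
      rw [cj, Subgroup.map_sup]
      exact sup_le_sup (cj_eq_self_iff.2 (hresE ht.2)).le (cj_eq_self_iff.2 (le_normalizer_of_normal (mem_top t))).le
    refine eq_of_le_of_card_ge hle ?_
    obtain ⟨g, rfl⟩ := hF.trans E hE K hK
    have h1 : cj g (E ⊔ O) = cj g E ⊔ O := by
      show (E ⊔ O).map _ = _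
      rw [Subgroup.map_sup]
      exact congrArg₂ (· ⊔ ·) rfl (cj_eq_self_iff.2 (le_normalizer_of_normal (mem_top g)))
    rw [← card_map_of_injective (K := res p (E ⊔ O)) (f := (MulAut.conj g).toMonoidHom) (MulAut.conj g).injective]
    refine card_le_of_le ?_
    refine (closure_le _).2 fun x hx => ?_
    obtain ⟨y, hy, rfl⟩ : x ∈ cj g (E ⊔ O) := h1 ▸ hx.1
    exact mem_map_of_mem _ (subset_closure ⟨hy, (MulEquiv.orderOf_eq (MulAut.conj g) y) ▸ hx.2⟩)
  refine ⟨⟨fun h => ?_, fun N hN hnc => ?_⟩, fun E hE K hK => ?_⟩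
  · obtain ⟨E, hE⟩ := hF.ne
    exact (hstr E hE).1 (isPClosed_sub' h E)
  · haveI := hN
    set N1 := N ⊔ O with hN1
    by_cases hall : ∃ E ∈ 𝒦, res p E ≤ N1
    · obtain ⟨E, hE, hle⟩ := hall
      have hall' : ∀ K ∈ 𝒦, res p K ≤ N1 := by
        intro K hK
        obtain ⟨g, rfl⟩ := hF.trans E hE K hK
        refine (closure_le _).2 ?_
        rintro _ ⟨⟨y, hy, rfl⟩, hyo⟩
        exact (inferInstance : N1.Normal).conj_mem y
          (hle (subset_closure ⟨hy, (MulEquiv.orderOf_eq (MulAut.conj g) y) ▸ hyo⟩)) g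
      have htop : (⊤ : Subgroup H) ≤ N1 ⊔ (T : Subgroup H) := by
        refine (hF.cover T).trans (sup_le (sup_le (sSup_le fun K hK => ?_) (le_sup_of_le_left le_sup_right))
          le_sup_right)
        obtain ⟨Q, hQ⟩ := sylow_inf_member T K (hF.subnormal hK)
        have h1 := congrArg (Subgroup.map K.subtype) (Transfer.pResidual_sup_sylow Q)
        rw [Subgroup.map_sup, WcResidual.map_pResidual, hQ, subgroupOf_map_subtype, ← MonoidHom.range_eq_map,
          range_subtype] at h1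
        exact h1.ge.trans (sup_le_sup (hall' K hK) inf_le_left)
      have hR : Cfsg.pResidual p H ≤ res p ⊤ := by
        rw [Cfsg.pResidual]
        exact closure_mono fun x hx => ⟨mem_top x, hx⟩
      refine hR.trans ((res_res _).trans ((res_mono ((res_mono htop).trans
        (WcResidual.res_sup_le T.isPGroup' le_normalizer_of_normal))).trans
        (WcResidual.res_sup_le hOp le_normalizer_of_normal)))
    · exfalso
      push_neg at hall
      set R' := RO.map f
      set N' := N1.map f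
      haveI : R'.Normal := hROn.map f hfs
      haveI : N'.Normal := (inferInstance : N1.Normal).map f hfs
      set Z := N' ⊓ R' with hZ
      have hZimg : Z ≤ (N1 ⊓ RO).map f := by
        rintro _ ⟨⟨a, ha, rfl⟩, ⟨b, hb, hab⟩⟩
        have h1 : b⁻¹ * a ∈ O := by
          rw [← hfker, MonoidHom.mem_ker, map_mul, map_inv, hab, inv_mul_cancel]
        refine ⟨a, Subgroup.mem_inf.2 ⟨ha, ?_⟩, rfl⟩
        rw [show a = b * (b⁻¹ * a) by group]
        exact mul_mem hb (mem_sup_right h1)
      have hZc : Z ≤ centralizer (R' : Set (H ⧸ O)) := by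
        refine le_centralizer_iff.1 ?_
        rw [map_le_iff_le_comap]
        refine sup_le (sSup_le fun E hE => ?_) ?_
        · rw [← map_le_iff_le_comap]
          refine le_trans ?_ (centralizer_le hZimg)
          rw [← commutator_eq_bot_iff_le_centralizer, commutator_comm, ← map_commutator,
            Subgroup.map_eq_bot_iff, hfker]
          exact hcentral E hE N1 _ le_normalizer_of_normal le_sup_right inf_le_left
            (inf_le_right.trans (hF.norm E hE))
            ((hdich E hE N1 le_normalizer_of_normal le_sup_right).resolve_left (hall E hE))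
        · intro o ho
          rw [mem_comap, show f o = 1 from (QuotientGroup.eq_one_iff o).2 ho]; exact one_mem _
      have hfit := FStarAction.coprime_fitting hqcore
      haveI : Z.Normal := inferInstance
      have hZnil : Group.IsNilpotent Z := Solv.nilpotent_of_commutator_le_center fun z _ =>
        mem_center_iff.2 fun y => Subtype.ext (mem_centralizer_iff.1 (hZc z.2) y y.2.2)
      have hZp : (Nat.card Z).Coprime p := FStarAction.coprime_of_le (Solv.le_fitting inferInstance hZnil) hfit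
      have hNRR : ⁅⁅R', R'⁆, N'⁆ = ⊥ := by
        have h1 : ⁅⁅N', R'⁆, R'⁆ = ⊥ := le_bot_iff.1 ((commutator_mono (le_inf (commutator_le_left N' R')
          (commutator_le_right N' R')) le_rfl).trans (commutator_eq_bot_iff_le_centralizer.2 hZc).le)
        exact commutator_commutator_eq_bot_of_rotate (by rw [commutator_comm R' N']; exact h1) h1
      have hZR : Z ≤ ⁅R', R'⁆ := by
        have h1 : RO ≤ (⁅RO, RO⁆ ⊔ O) ⊔ (T : Subgroup H) ⊓ RO := by
          refine sup_le (sSup_le fun E hE => ?_) (le_sup_of_le_left le_sup_right)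
          have hER : E ≤ RO := (le_sSup hE).trans le_sup_left
          exact (hEgen E hE).trans (sup_le_sup ((commutator_mono hER hER).trans le_sup_left)
            (inf_le_inf_left _ hER))
        have h2 : R' ≤ ⁅R', R'⁆ ⊔ ((T : Subgroup H) ⊓ RO).map f := by
          refine (map_mono h1).trans (le_of_eq ?_)
          rw [Subgroup.map_sup, Subgroup.map_sup, map_commutator, (Subgroup.map_eq_bot_iff _).2 hfker.ge,
            sup_bot_eq]
        refine le_trans ?_ ((res_mono h2).trans (WcResidual.res_sup_le (T.isPGroup'.to_inf_left.map f)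
          le_normalizer_of_normal))
        intro z hz
        exact subset_closure ⟨hz.2, Nat.Coprime.coprime_dvd_left
          ((Subgroup.orderOf_mk z hz) ▸ orderOf_dvd_natCard _) hZp⟩
      have hZN : Z ≤ centralizer (N' : Set (H ⧸ O)) :=
        hZR.trans (commutator_eq_bot_iff_le_centralizer.1 hNRR)
      haveI hZsub : (Z.subgroupOf N').Normal := inferInstance
      have hquot : IsPGroup p (↥N' ⧸ Z.subgroupOf N') := by
        intro w
        obtain ⟨⟨x, hx⟩, rfl⟩ := QuotientGroup.mk_surjective w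
        obtain ⟨a, rfl⟩ := hfs x
        obtain ⟨r, hr, t, ht, rfl⟩ := mem_sup_of_normal_left.1 (hF.cover T (mem_top a))
        obtain ⟨k, hk⟩ := T.isPGroup' ⟨t, ht⟩
        refine ⟨k, ?_⟩
        rw [← QuotientGroup.mk_pow, QuotientGroup.eq_one_iff, mem_subgroupOf]
        refine Subgroup.mem_inf.2 ⟨pow_mem hx _, ?_⟩
        have hk' : t ^ p ^ k = 1 := congrArg Subtype.val hk
        have key : ∀ n : ℕ, (r * t) ^ n * (t ^ n)⁻¹ ∈ RO := by
          intro n
          induction n with
          | zero => simp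
          | succ n ih =>
            rw [show (r * t) ^ (n + 1) * (t ^ (n + 1))⁻¹ =
              ((r * t) ^ n * (t ^ n)⁻¹) * (t ^ n * r * (t ^ n)⁻¹) by rw [pow_succ (r * t), pow_succ t]; group]
            exact mul_mem ih (hROn.conj_mem r hr _)
        have h5 := key (p ^ k)
        rw [hk', inv_one, mul_one] at h5
        exact ⟨_, h5, by simp⟩
      have hnil : Group.IsNilpotent ↥N' := by
        haveI : Group.IsNilpotent (↥N' ⧸ Z.subgroupOf N') := hquot.isNilpotent
        refine Subgroup.isNilpotent_of_ker_le_center (QuotientGroup.mk' (Z.subgroupOf N')) ?_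
        rw [QuotientGroup.ker_mk']
        exact fun z hz => mem_center_iff.2 fun y => Subtype.ext (mem_centralizer_iff.1 (hZN hz) y y.2)
      have hN'p : (Nat.card N').Coprime p :=
        FStarAction.coprime_of_le (Solv.le_fitting inferInstance hnil) hfit
      obtain ⟨P, hP⟩ : ∃ P : Sylow p ↥N, (P : Subgroup ↥N).map N.subtype = (T : Subgroup H) ⊓ N := by
        obtain ⟨Q, hQ⟩ := Solv.sylow_inf_subnormal hN.isSubnormal T
        exact ⟨Q, hQ ▸ subgroupOf_map_subtype _ _⟩
      refine hnc (PLocal.PIrr.isPClosed_of_normal_sylow P ?_)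
      rw [hP]
      have heq : (T : Subgroup H) ⊓ N = O ⊓ N := by
        refine le_antisymm (le_inf ?_ inf_le_right) (inf_le_inf_right _ hOT)
        rw [← hfker, ← Subgroup.map_eq_bot_iff]
        refine FStarAction.eq_bot_of_pgroup_coprime (p := p) (T.isPGroup'.to_inf_left.map f)
          (FStarAction.coprime_of_le (map_mono (inf_le_right.trans le_sup_left)) hN'p)
      rw [heq]
      infer_instance
  · by_cases h : res p E ≤ K ⊔ O
    · left
      rw [WcResidual.map_pResidual, WcResidual.map_pResidual]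
      exact hresD E hE K hK h
    · right
      have hEn : E ≤ normalizer ((K ⊔ O : Subgroup H) : Set H) :=
        ((le_sSup hE).trans le_sup_left).trans (hF.norm K hK)
      rw [commutator_comm]
      exact hcentral E hE (K ⊔ O) K hEn le_sup_right le_sup_left
        (((le_sSup hK).trans le_sup_left).trans (hF.norm E hE))
        ((hdich E hE (K ⊔ O) hEn le_sup_right).resolve_left h)

end Cfsg.Lib.PMinFamily
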