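import Mathlib
import Cfsg.Agent.Lib.PLocal.LargeSubgroup
import Cfsg.Agent.Lib.Solv.SubnormalJoinSylow

/-!
The point stabilizer of a join of subnormal subgroups in local characteristic `p`.
-/

set_option autoImplicit false
set_option linter.unusedSectionVars false
set_option linter.style.haveILetI false

namespace Cfsg.Lib.PointStab

open Subgroup Cfsg.Lib.PReduced Cfsg.Lib.LargeSub

variable {H : Type*} [Group H] [Finite H] {p : ℕ} [hp : Fact p.Prime]

theorem omegaZ_ne_bot {P : Subgroup H} (hP : IsPGroup p P) (h : P ≠ ⊥) :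
    Cfsg.omegaOne p (P ⊓ centralizer (P : Set H)) ≠ ⊥ := by
  obtain ⟨u, hu, hu1, huc⟩ := LargeSub.exists_fixed hP hP h le_normalizer
  obtain ⟨k, hk⟩ := hP ⟨u, hu⟩
  have hk' : u ^ p ^ k = 1 := congrArg Subtype.val hk
  obtain ⟨j, -, hj⟩ := (Nat.dvd_prime_pow hp.out).1 (orderOf_dvd_of_pow_eq_one hk')
  have hj0 : p ∣ orderOf u := by
    rcases j with _ | j
    · exact absurd (orderOf_eq_one_iff.1 (by rw [hj, pow_zero])) hu1
    · exact hj ▸ dvd_pow_self p j.succ_ne_zero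
  intro e
  have hmem : u ^ (orderOf u / p) ∈ Cfsg.omegaOne p (P ⊓ centralizer (P : Set H)) := by
    refine mem_omegaZ.2 ⟨pow_mem hu _,
      fun y hy => mem_centralizer_iff.1 (pow_mem huc _) y hy, ?_⟩
    rw [← pow_mul, Nat.div_mul_cancel hj0, pow_orderOf_eq_one]
  rw [e, mem_bot] at hmem
  have ho := orderOf_pow_orderOf_div (orderOf_pos u).ne' hj0
  rw [hmem, orderOf_one] at ho
  exact hp.out.one_lt.ne ho

theorem charP_inf_local (hloc : Cfsg.IsOfLocalCharacteristic p H) {Z : Subgroup H} (hZ : IsPGroup p Z)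
    (hZ1 : Z ≠ ⊥) {B : Subgroup H} (hB : B.IsSubnormal) : CharP p (B ⊓ normalizer (Z : Set H)) := by
  set N := normalizer (Z : Set H)
  have h1 := charP_map (charP_of (Comp.charP_subnormal (hloc.2 Z hZ hZ1) (B.subgroupOf N) hB.subgroupOf))
  rwa [subgroupOf_map_subtype] at h1

/-- One step of Kieler's lemma in local characteristic `p`. -/
theorem step (hloc : Cfsg.IsOfLocalCharacteristic p H) (T : Sylow p H) {A B : Subgroup H} (hA : A.IsSubnormal)
    (hB : B.IsSubnormal) (hle : A ≤ B) (hn : B ≤ normalizer (A : Set H)) (hTA : (T : Subgroup H) ⊓ A ≠ ⊥) :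
    A ⊓ centralizer (Cfsg.omegaOne p (((T : Subgroup H) ⊓ B) ⊓
        centralizer (((T : Subgroup H) ⊓ B : Subgroup H) : Set H)) : Set H) =
      A ⊓ centralizer (Cfsg.omegaOne p (((T : Subgroup H) ⊓ A) ⊓
        centralizer (((T : Subgroup H) ⊓ A : Subgroup H) : Set H)) : Set H) := by
  set P := (T : Subgroup H) ⊓ B with hP
  set P0 := (T : Subgroup H) ⊓ A with hP0
  set Z := Cfsg.omegaOne p (P ⊓ centralizer (P : Set H)) with hZ
  set Z0 := Cfsg.omegaOne p (P0 ⊓ centralizer (P0 : Set H)) with hZ0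
  have hP0P : P0 ≤ P := inf_le_inf_left _ hle
  have hPp : IsPGroup p P := T.isPGroup'.to_inf_left
  have hP0p : IsPGroup p P0 := T.isPGroup'.to_inf_left
  have hPb : P ≠ ⊥ := fun h => hTA (le_bot_iff.1 (hP0P.trans h.le))
  have hZne : Z ≠ ⊥ := omegaZ_ne_bot hPp hPb
  have hZ0ne : Z0 ≠ ⊥ := omegaZ_ne_bot hP0p hTA
  have hZp : IsPGroup p Z := hPp.to_le omegaZ_le
  have hZ0p : IsPGroup p Z0 := hP0p.to_le omegaZ_le
  -- common argument for a local subgroup `K` containing `P`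
  have key : ∀ (Y : Subgroup H), IsPGroup p Y → Y ≠ ⊥ → P ≤ normalizer (Y : Set H) →
      ∀ L : Subgroup H, L ≤ A ⊓ normalizer (Y : Set H) → B ⊓ normalizer (Y : Set H) ≤ normalizer (L : Set H) →
        P0 ≤ L → L ⊓ centralizer (Z : Set H) = L ⊓ centralizer (Z0 : Set H) := by
    intro Y hY hY1 hPY L hL hLn hP0L
    set K := B ⊓ normalizer (Y : Set H)
    have hLK : L ≤ K := hL.trans (inf_le_inf_right _ hle)
    have hK : CharP p K := charP_inf_local hloc hY hY1 hB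
    have hPK : P ≤ K := le_inf inf_le_right hPY
    have hidx : ∀ (X R : Subgroup H), X.IsSubnormal → R = (T : Subgroup H) ⊓ X → ∀ D : Subgroup H,
        R ≤ D → D ≤ X → ¬ p ∣ R.relIndex D := by
      intro X R hX hR D hRD hDX h
      obtain ⟨Q, hQ⟩ := Solv.sylow_inf_subnormal hX T
      have h1 := Q.not_dvd_index
      rw [hQ] at h1
      refine h1 (show p ∣ (T : Subgroup H).relIndex X from ?_)
      rw [← inf_relIndex_right, ← hR, ← relIndex_mul_relIndex R D X hRD hDX]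
      exact h.trans (Dvd.intro _ rfl)
    have e : P ⊓ L = P0 := le_antisymm
      (fun x hx => Subgroup.mem_inf.2 ⟨hx.1.1, (hL hx.2).1⟩) (le_inf hP0P hP0L)
    have h := centralizer_omegaZ_normal hK (charP_normal hK hLK hLn) hLK hLn hPK hPp
      (hidx B P hB rfl K hPK inf_le_left)
      (by rw [← inf_relIndex_right, e]; exact hidx A P0 hA rfl L hP0L (hL.trans inf_le_left))
    rwa [e] at h
  have hZn : P ≤ normalizer (Z : Set H) := le_normalizer.trans (normalizer_le_omegaZ P)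
  have hPP0 : P ≤ normalizer (P0 : Set H) := fun x hx => by
    rw [mem_normalizer_iff]
    intro y
    simp only [hP0, Subgroup.mem_inf]
    rw [mem_normalizer_iff.1 (le_normalizer hx.1) y, mem_normalizer_iff.1 (hn hx.2) y]
  have hZ0n : P ≤ normalizer (Z0 : Set H) := hPP0.trans (normalizer_le_omegaZ P0)
  have hnorm : ∀ Y : Subgroup H, B ⊓ normalizer (Y : Set H) ≤
      normalizer ((A ⊓ centralizer (Y : Set H) : Subgroup H) : Set H) := fun Y x hx => by
    rw [mem_normalizer_iff]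
    intro y
    simp only [Subgroup.mem_inf]
    rw [mem_normalizer_iff.1 (hn hx.1) y,
      mem_normalizer_iff.1 (Solv.normalizer_le_normalizer_centralizer _ hx.2) y]
  refine le_antisymm (le_inf inf_le_left ?_) (le_inf inf_le_left ?_)
  · have hP0L : P0 ≤ A ⊓ centralizer (Z : Set H) := le_inf inf_le_right fun x hx =>
      mem_centralizer_iff.2 fun z hz => ((mem_omegaZ.1 hz).2.1 x (hP0P hx)).symm
    have h := key Z hZp hZne hZn (A ⊓ centralizer (Z : Set H))
      (inf_le_inf_left _ (centralizer_le_normalizer _)) (hnorm Z) hP0L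
    rw [inf_assoc, inf_idem] at h
    exact h.le.trans inf_le_right
  · have hP0L : P0 ≤ A ⊓ centralizer (Z0 : Set H) := le_inf inf_le_right fun x hx =>
      mem_centralizer_iff.2 fun z hz => ((mem_omegaZ.1 hz).2.1 x hx).symm
    have h := key Z0 hZ0p hZ0ne hZ0n (A ⊓ centralizer (Z0 : Set H))
      (inf_le_inf_left _ (centralizer_le_normalizer _)) (hnorm Z0) hP0L
    rw [inf_assoc A (centralizer (Z0 : Set H)) (centralizer (Z0 : Set H)), inf_idem] at h
    exact h.ge.trans inf_le_right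

/-- Kieler's lemma in local characteristic `p`. -/
theorem kieler_local (hloc : Cfsg.IsOfLocalCharacteristic p H) (T : Sylow p H) {L : Subgroup H}
    (hL : L.IsSubnormal) (h1 : (T : Subgroup H) ⊓ L ≠ ⊥) :
    L ⊓ centralizer (Cfsg.omegaOne p ((T : Subgroup H) ⊓ centralizer ((T : Subgroup H) : Set H)) : Set H) =
      L ⊓ centralizer (Cfsg.omegaOne p (((T : Subgroup H) ⊓ L) ⊓
        centralizer (((T : Subgroup H) ⊓ L : Subgroup H) : Set H)) : Set H) := by
  induction hL with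
  | top => rw [inf_top_eq]
  | step A B hle hB hN ih =>
    have hB1 : (T : Subgroup H) ⊓ B ≠ ⊥ := fun h => h1 (le_bot_iff.1 ((inf_le_inf_left _ hle).trans h.le))
    rw [← step hloc T (IsSubnormal.step _ _ hle hB hN) hB hle
      ((normal_subgroupOf_iff_le_normalizer hle).1 hN) h1, ← inf_eq_left.2 hle, inf_assoc, ih hB1,
      ← inf_assoc, inf_eq_left.2 hle]

theorem orderOf_eq_one_of_inf_bot (T : Sylow p H) {L : Subgroup H} (hL : L.IsSubnormal)
    (h1 : (T : Subgroup H) ⊓ L = ⊥) {x : H} (hx : x ∈ L) {k : ℕ} (hk : orderOf x = p ^ k) : x = 1 := by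
  obtain ⟨Q, hQ⟩ := Solv.sylow_inf_subnormal hL T
  have hQb : (Q : Subgroup ↥L) = ⊥ := by
    rw [hQ, ← map_eq_bot_iff_of_injective _ L.subtype_injective, subgroupOf_map_subtype, h1]
  rcases k with _ | k
  · exact orderOf_eq_one_iff.1 (by rw [hk, pow_zero])
  exfalso
  have hd : p ∣ Nat.card ↥L := by
    refine (dvd_pow_self p k.succ_ne_zero).trans ?_
    rw [← hk, ← Subgroup.orderOf_mk x hx]
    exact orderOf_dvd_natCard _
  have h2 := Q.dvd_card_of_dvd_card hd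
  rw [hQb, card_bot] at h2
  exact hp.out.one_lt.ne' (Nat.dvd_one.1 h2)

theorem pointStabilizer_eq (hloc : Cfsg.IsOfLocalCharacteristic p H) (T : Sylow p H) {L : Subgroup H}
    (hL : L.IsSubnormal) :
    Cfsg.pointStabilizer p L ((T : Subgroup H) ⊓ L) =
      closure {x : H | x ∈ L ⊓ centralizer (Cfsg.omegaOne p
        ((T : Subgroup H) ⊓ centralizer ((T : Subgroup H) : Set H)) : Set H) ∧ ∃ k : ℕ, orderOf x = p ^ k} := by
  rw [Cfsg.pointStabilizer]
  by_cases h1 : (T : Subgroup H) ⊓ L = ⊥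
  · refine le_antisymm ((closure_le _).2 ?_) ((closure_le _).2 ?_) <;>
    · rintro x ⟨hx, k, hk⟩
      rw [orderOf_eq_one_of_inf_bot T hL h1 hx.1 hk]
      exact one_mem _
  · rw [kieler_local hloc T hL h1]

theorem le_of_sylow_le {Y J : Subgroup H} (hJY : J ≤ Y) (hJ : (J.subgroupOf Y).IsSubnormal) {R : Subgroup H}
    (hR : IsPGroup p R) (hRJ : R ≤ J) (hidx : ¬ p ∣ R.relIndex Y) {Q : Subgroup H} (hQ : IsPGroup p Q)
    (hQY : Q ≤ Y) : Q ≤ J := by
  obtain ⟨S, hS⟩ := (hQ.comap_subtype (K := Y)).exists_le_sylow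
  obtain ⟨U, hU⟩ := Solv.sylow_inf_subnormal hJ S
  set R' := (hR.comap_subtype (K := Y)).toSylow (show ¬ p ∣ (R.subgroupOf Y).index from hidx)
  have hRle : (R' : Subgroup ↥Y) ≤ J.subgroupOf Y := fun x hx => hRJ hx
  have hcard : Nat.card ↥(U : Subgroup ↥(J.subgroupOf Y)) = Nat.card ↥(S : Subgroup ↥Y) := by
    have h1 : Nat.card ↥((R' : Subgroup ↥Y).subgroupOf (J.subgroupOf Y)) =
        Nat.card ↥(R' : Subgroup ↥Y) := Nat.card_congr (subgroupOfEquivOfLe hRle).toEquiv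
    refine le_antisymm ?_ ?_
    · rw [hU, ← card_map_of_injective (J.subgroupOf Y).subtype_injective, subgroupOf_map_subtype]
      exact card_le_of_le inf_le_left
    · rw [← (Sylow.card_eq_multiplicity R').trans (Sylow.card_eq_multiplicity S).symm, ← h1,
        Sylow.card_eq_multiplicity U]
      obtain ⟨V, hV⟩ := (R'.isPGroup'.comap_subtype (K := J.subgroupOf Y)).exists_le_sylow
      exact (card_le_of_le hV).trans (Sylow.card_eq_multiplicity V).le
  rw [hU, ← card_map_of_injective (J.subgroupOf Y).subtype_injective, subgroupOf_map_subtype] at hcard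
  have hle : (S : Subgroup ↥Y) ≤ J.subgroupOf Y :=
    inf_eq_left.1 (eq_of_le_of_card_ge inf_le_left hcard.ge)
  intro x hx
  exact hle (hS (show (⟨x, hQY hx⟩ : Y) ∈ Q.subgroupOf Y from hx))

/-- S2806. -/
theorem pointStabilizer_sup (hloc : Cfsg.IsOfLocalCharacteristic p H) (T : Sylow p H) (L₁ L₂ : Subgroup H)
    (h₁ : L₁.IsSubnormal) (h₂ : L₂.IsSubnormal) :
    Cfsg.pointStabilizer p (L₁ ⊔ L₂) ((T : Subgroup H) ⊓ (L₁ ⊔ L₂)) =
      Cfsg.pointStabilizer p L₁ ((T : Subgroup H) ⊓ L₁) ⊔ Cfsg.pointStabilizer p L₂ ((T : Subgroup H) ⊓ L₂) := by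
  have h12 := Solv.sup_isSubnormal h₁ h₂
  rw [pointStabilizer_eq hloc T h₁, pointStabilizer_eq hloc T h₂, pointStabilizer_eq hloc T h12]
  set C0 := centralizer (Cfsg.omegaOne p
    ((T : Subgroup H) ⊓ centralizer ((T : Subgroup H) : Set H)) : Set H) with hC0
  have hTC : (T : Subgroup H) ≤ C0 := fun t ht => mem_centralizer_iff.2 fun z hz =>
    ((mem_omegaZ.1 hz).2.1 t ht).symm
  set P1 := closure {x : H | x ∈ L₁ ⊓ C0 ∧ ∃ k : ℕ, orderOf x = p ^ k}
  set P2 := closure {x : H | x ∈ L₂ ⊓ C0 ∧ ∃ k : ℕ, orderOf x = p ^ k}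
  have hmono : ∀ {X Y : Subgroup H}, X ≤ Y →
      closure {x : H | x ∈ X ⊓ C0 ∧ ∃ k : ℕ, orderOf x = p ^ k} ≤
        closure {x : H | x ∈ Y ⊓ C0 ∧ ∃ k : ℕ, orderOf x = p ^ k} := fun h =>
    closure_mono fun x hx => ⟨⟨h hx.1.1, hx.1.2⟩, hx.2⟩
  refine le_antisymm ((closure_le _).2 ?_) (sup_le (hmono le_sup_left) (hmono le_sup_right))
  rintro x ⟨hx, k, hk⟩
  set Y := (L₁ ⊔ L₂) ⊓ C0 with hY
  have hP1 : P1 ≤ L₁ ⊓ C0 := (closure_le _).2 fun _ hy => hy.1
  have hP2 : P2 ≤ L₂ ⊓ C0 := (closure_le _).2 fun _ hy => hy.1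
  have hJY : P1 ⊔ P2 ≤ Y := sup_le (hP1.trans (inf_le_inf_right _ le_sup_left))
    (hP2.trans (inf_le_inf_right _ le_sup_right))
  have hsn : ∀ (X : Subgroup H), X.IsSubnormal → X ⊓ C0 ≤ Y →
      ((closure {x : H | x ∈ X ⊓ C0 ∧ ∃ k : ℕ, orderOf x = p ^ k}).subgroupOf Y).IsSubnormal := by
    intro X hX hXY
    have hle : closure {x : H | x ∈ X ⊓ C0 ∧ ∃ k : ℕ, orderOf x = p ^ k} ≤ X ⊓ C0 :=
      (closure_le _).2 fun _ hy => hy.1
    have e : (X ⊓ C0).subgroupOf Y = X.subgroupOf Y := by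
      ext z
      exact ⟨fun hz => (Subgroup.mem_inf.1 hz).1, fun hz => Subgroup.mem_inf.2 ⟨hz, z.2.2⟩⟩
    refine Solv.isSubnormal_of_normal_le (K := (X ⊓ C0).subgroupOf Y) (fun z hz => hle hz)
      (e ▸ hX.subgroupOf) ?_
    refine FStarAction.le_normalizer_of_conj fun g hg z hz => ?_
    rw [mem_subgroupOf] at hz hg ⊢
    have hmap : (closure {x : H | x ∈ X ⊓ C0 ∧ ∃ k : ℕ, orderOf x = p ^ k}).map
        (MulAut.conj (g : H)).toMonoidHom ≤ closure {x : H | x ∈ X ⊓ C0 ∧ ∃ k : ℕ, orderOf x = p ^ k} := by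
      rw [MonoidHom.map_closure]
      refine closure_mono ?_
      rintro _ ⟨w, ⟨hw, j, hj⟩, rfl⟩
      exact ⟨mul_mem (mul_mem hg hw) (inv_mem hg), j, by rw [← hj]; exact MulEquiv.orderOf_eq (MulAut.conj (g : H)) w⟩
    exact hmap (mem_map_of_mem _ hz)
  have hJsn : ((P1 ⊔ P2).subgroupOf Y).IsSubnormal := by
    rw [subgroupOf_sup (le_sup_left.trans hJY) (le_sup_right.trans hJY)]
    exact Solv.sup_isSubnormal (hsn L₁ h₁ (inf_le_inf_right _ le_sup_left))
      (hsn L₂ h₂ (inf_le_inf_right _ le_sup_right))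
  have hpel : ∀ {y : H}, y ∈ (T : Subgroup H) → ∃ j : ℕ, orderOf y = p ^ j := fun {y} hy => by
    obtain ⟨j, hj⟩ := T.isPGroup' ⟨y, hy⟩
    obtain ⟨i, -, hi⟩ := (Nat.dvd_prime_pow hp.out).1
      (orderOf_dvd_of_pow_eq_one (show y ^ p ^ j = 1 from congrArg Subtype.val hj))
    exact ⟨i, hi⟩
  have hRJ : (L₁ ⊔ L₂) ⊓ (T : Subgroup H) ≤ P1 ⊔ P2 := by
    rw [SubJoin.sylow_inf_sup T L₁ L₂ h₁ h₂]
    exact sup_le_sup (fun y hy => subset_closure ⟨⟨hy.1, hTC hy.2⟩, hpel hy.2⟩)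
      (fun y hy => subset_closure ⟨⟨hy.1, hTC hy.2⟩, hpel hy.2⟩)
  have hidx : ¬ p ∣ ((L₁ ⊔ L₂) ⊓ (T : Subgroup H)).relIndex Y := by
    intro h
    obtain ⟨Q, hQ⟩ := Solv.sylow_inf_subnormal h12 T
    have h1 := Q.not_dvd_index
    rw [hQ] at h1
    refine h1 (show p ∣ (T : Subgroup H).relIndex (L₁ ⊔ L₂) from ?_)
    rw [← inf_relIndex_right, inf_comm, ← relIndex_mul_relIndex _ Y (L₁ ⊔ L₂)
      (le_inf inf_le_left (inf_le_right.trans hTC)) inf_le_left]
    exact h.trans (Dvd.intro _ rfl)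
  have hxp : IsPGroup p (zpowers x) := IsPGroup.of_card (n := k) (by rw [Nat.card_zpowers, hk])
  exact le_of_sylow_le hJY hJsn T.isPGroup'.to_inf_right hRJ hidx hxp (zpowers_le.2 hx) (mem_zpowers x)

end Cfsg.Lib.PointStab
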