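import Mathlib
import Cfsg.Agent.Lib.PLocal.WeakClosureResidual
import Cfsg.Agent.Lib.PLocal.LargeSubgroup
import Cfsg.Agent.Lib.PLocal.FStarAction

/-!
The weak closure of a large subgroup in a group with quasisimple action on a module.
-/

set_option autoImplicit false
set_option linter.unusedSectionVars false
set_option linter.style.haveILetI false
set_option maxHeartbeats 800000

namespace Cfsg.Lib.QsWeakClosure

open Subgroup Cfsg.Lib.SubJoin Cfsg.Lib.PLocal.Closed Cfsg.Lib.PReduced Cfsg.Lib.WcResidual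
open Cfsg.Lib.FStarAction (le_normalizer_of_conj)
open scoped commutatorElement

variable {G : Type*} [Group G] [Finite G] {p : ℕ} [hp : Fact p.Prime]

/-- S2860. -/
theorem quasisimple_weakClosure (Q : Subgroup G) (hQp : IsPGroup p ↥Q) (hQ1 : Q ≠ ⊥) (hQ : Cfsg.IsLarge Q)
    (U : Subgroup G) (hU : Cfsg.IsElementaryAbelian p U) (hU1 : U ≠ ⊥) (E : Subgroup G) (hQE : Q ≤ E)
    (hEU : E ≤ normalizer ((U : Subgroup G) : Set G)) (hQn : ¬ E ≤ normalizer ((Q : Subgroup G) : Set G))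
    [hn : ((centralizer ((U : Subgroup G) : Set G)).subgroupOf E).Normal]
    (hred : Cfsg.pCore p (↥E ⧸ (centralizer ((U : Subgroup G) : Set G)).subgroupOf E) = ⊥)
    (hqs : Cfsg.IsQuasisimple ↥(((Cfsg.pResidual p ↥E) ⊔ (centralizer ((U : Subgroup G) : Set G)).subgroupOf E).map
      (QuotientGroup.mk' ((centralizer ((U : Subgroup G) : Set G)).subgroupOf E))))
    (Er : Subgroup G) (hEr : Er = ((Cfsg.pResidual p ↥(Cfsg.weakClosure Q E)).map ((Cfsg.weakClosure Q E)).subtype))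
    [hn2 : ((centralizer ((U : Subgroup G) : Set G)).subgroupOf Er).Normal] :
    ((Cfsg.pResidual p ↥E).map (E).subtype) ⊔ (E ⊓ centralizer ((U : Subgroup G) : Set G)) =
        Er ⊔ (E ⊓ centralizer ((U : Subgroup G) : Set G)) ∧ ⁅Er, Er⁆ = Er ∧
      ((Cfsg.pResidual p ↥Er).map (Er).subtype) = Er ∧
      Cfsg.IsQuasisimple (↥Er ⧸ (centralizer ((U : Subgroup G) : Set G)).subgroupOf Er) ∧
      Cfsg.IsQuasisimple (↥Er ⧸ Cfsg.pCore p ↥Er) ∧
      ∀ Y : Subgroup G, Y ≤ E → IsPGroup p ↥Y → ¬ Y ≤ centralizer ((U : Subgroup G) : Set G) → ⁅Er, Y⁆ = Er := by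
  rw [map_pResidual] at hEr
  rw [map_pResidual, map_pResidual]
  subst hEr
  set A := centralizer ((U : Subgroup G) : Set G) with hA
  set W := Cfsg.weakClosure Q E with hW
  set R := res p W with hR
  set C0 := E ⊓ A with hC0
  set f := QuotientGroup.mk' (A.subgroupOf E) with hf
  have hfs : Function.Surjective f := QuotientGroup.mk'_surjective _
  have hUp : IsPGroup p U := fun x => ⟨1, Subtype.ext (by simpa using hU.2 x x.2)⟩
  have hwc := large_wc hQp hQ1 hQ
  obtain ⟨hEK, hWeq, hKQ⟩ := residual hQp hwc hQE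
  obtain ⟨-, hWA, -⟩ := LargeSub.large_weakClosure hQp hQ1 hQ E hQE U hUp hU1 hEU
  set O := Cfsg.pCoreOf p W with hO
  have hWE : W ≤ E := weakClosure_le Q E
  have hRW : R ≤ W := res_le W
  have hRE : R ≤ E := hRW.trans hWE
  have hEW : E ≤ normalizer (W : Set G) := le_normalizer_of_conj fun x hx c hc =>
    conj_weakClosure hx (mem_map_of_mem _ hc)
  have hEO : E ≤ normalizer (O : Set G) := le_normalizer_of_conj fun x hx c hc =>
    cj_pCoreOf (hEW hx) (mem_map_of_mem _ hc)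
  have hOp : IsPGroup p O := pCoreOf_isPGroup W
  have hOW : O ≤ W := pCoreOf_le W
  have hQW : Q ≤ W := self_le_weakClosure hQE
  have hQA : ¬ Q ≤ A := by
    intro h
    have hUQ : U ≤ centralizer (Q : Set G) := le_centralizer_iff.1 h
    exact hQn (hEU.trans (hQ.2 U hUQ hU1))
  -- images
  let im : Subgroup G → Subgroup (↥E ⧸ A.subgroupOf E) := fun X => (X.subgroupOf E).map f
  have hback : ∀ X Y : Subgroup G, X ≤ E → Y ≤ E → im X ≤ im Y → X ≤ Y ⊔ C0 := by
    intro X Y hX hY h x hx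
    obtain ⟨y, hy, he⟩ := h (show f ⟨x, hX hx⟩ ∈ im X from ⟨⟨x, hX hx⟩, hx, rfl⟩)
    have h1 : (y : G)⁻¹ * x ∈ A :=
      (QuotientGroup.eq (s := A.subgroupOf E) (a := y) (b := (⟨x, hX hx⟩ : E))).1 he
    rw [show x = (y : G) * ((y : G)⁻¹ * x) by group]
    exact mul_mem (mem_sup_left hy) (mem_sup_right (Subgroup.mem_inf.2 ⟨mul_mem (inv_mem y.2) (hX hx), h1⟩))
  have hQb : IsPGroup p ↥(im Q) := (hQp.comap_subtype).map f
  have hQb1 : im Q ≠ ⊥ := by
    intro h
    refine hQA fun q hq => ?_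
    have h1 : f ⟨q, hQE hq⟩ ∈ im Q := ⟨⟨q, hQE hq⟩, hq, rfl⟩
    rw [h, mem_bot] at h1
    exact (QuotientGroup.eq_one_iff (⟨q, hQE hq⟩ : E)).1 h1
  have hpd : p ∣ Nat.card (↥E ⧸ A.subgroupOf E) := by
    obtain ⟨n, hn'⟩ := IsPGroup.iff_card.1 hQb
    rcases n with _ | n
    · exact absurd (eq_bot_of_card_eq _ (by rw [hn', pow_zero])) hQb1
    · exact ((dvd_pow_self p n.succ_ne_zero).trans (dvd_of_eq hn'.symm)).trans (card_subgroup_dvd_card _)
  have hKeq : ((Cfsg.pResidual p ↥E) ⊔ A.subgroupOf E).map f = Cfsg.pResidual p (↥E ⧸ A.subgroupOf E) := by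
    rw [Subgroup.map_sup, Transfer.map_pResidual_of_surjective f hfs,
      (Subgroup.map_eq_bot_iff _).2 (QuotientGroup.ker_mk' _).ge, sup_bot_eq]
  rw [hKeq] at hqs
  obtain ⟨-, hYK, -, -⟩ := FStarAction.quasisimple_residual hpd hred hqs
  set K := Cfsg.pResidual p (↥E ⧸ A.subgroupOf E) with hK
  obtain ⟨hKQ', hKle⟩ := hYK (im Q) hQb hQb1
  -- the image of the weak closure
  have hKW : K ≤ im W := by
    refine hKle.trans (iSup_le fun k => ?_)
    obtain ⟨e, he⟩ := hfs k
    rintro _ ⟨_, ⟨q, hq, rfl⟩, rfl⟩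
    refine ⟨e * q * e⁻¹, ?_, by simp [← he]⟩
    exact (mem_normalizer_iff.1 (hEW e.2) (q : G)).1 (hQW hq)
  have hRsub : im W ≤ im R ⊔ im Q := by
    show im W ≤ (R.subgroupOf E).map f ⊔ (Q.subgroupOf E).map f
    rw [← Subgroup.map_sup, ← subgroupOf_sup hRE hQE, ← hWeq]
  have hQnR : im Q ≤ normalizer ((im R : Subgroup _) : Set (↥E ⧸ A.subgroupOf E)) := by
    refine le_normalizer_of_conj ?_
    rintro _ ⟨q, hq, rfl⟩ _ ⟨c, hc, rfl⟩
    exact ⟨q * c * q⁻¹, (mem_normalizer_iff.1 (hEK q.2) (c : G)).1 hc, by simp⟩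
  have hKim : K = im R := by
    refine le_antisymm ?_ ?_
    · have h1 : K ≤ res p K := (closure_le _).2 fun x hx =>
        subset_closure ⟨Transfer.coprime_orderOf_mem_pResidual hx, hx⟩
      exact h1.trans ((res_mono (hKW.trans hRsub)).trans (res_sup_le hQb hQnR))
    · rintro _ ⟨x, hx, rfl⟩
      have h1 : (R.subgroupOf E) ≤ Cfsg.pResidual p ↥E := by
        rw [← map_le_map_iff_of_injective E.subtype_injective, map_pResidual, map_subgroupOf_eq_of_le hRE]
        exact res_mono hWE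
      exact Transfer.map_pResidual_le f (mem_map_of_mem f (h1 hx))
  have hcentW : ∀ w ∈ W, ∀ c ∈ C0, ⁅w, c⁆ ∈ O := fun w hw c hc =>
    hWA (commutator_mem_commutator hw hc.2)
  have hcentW' : ∀ c ∈ C0, ∀ w ∈ W, ⁅c, w⁆ ∈ O := fun c hc w hw => by
    rw [← commutatorElement_inv]; exact inv_mem (hcentW w hw c hc)
  have hRR : R ≤ res p R := res_res W
  -- a subgroup covering `R` modulo `C0` and normal in `R`
  have cover : ∀ D : Subgroup G, D ≤ R → R ≤ D ⊔ C0 → (∀ x ∈ R, x ∈ normalizer (D : Set G)) →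
      (∀ a ∈ R, ∀ b ∈ R, ⁅a, b⁆ ∈ D ⊔ (O ⊓ R)) := by
    intro D hDR hcov hDn a ha b hb
    have hsplit : ∀ x ∈ R, ∃ d ∈ D, ∃ c ∈ C0, c ∈ R ∧ x = d * c := by
      intro x hx
      have hC0D : D ≤ normalizer (C0 : Set G) := le_normalizer_of_conj fun g hg c hc => by
        have hgE : g ∈ E := hRE (hDR hg)
        exact Subgroup.mem_inf.2 ⟨mul_mem (mul_mem hgE hc.1) (inv_mem hgE),
          hn.conj_mem ⟨c, hc.1⟩ hc.2 ⟨g, hgE⟩⟩
      have h1 := hcov hx
      rw [← SetLike.mem_coe, coe_mul_of_left_le_normalizer_right _ _ hC0D] at h1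
      obtain ⟨d, hd, c, hc, rfl⟩ := h1
      exact ⟨d, hd, c, hc, by simpa using mul_mem (inv_mem (hDR hd)) hx, rfl⟩
    obtain ⟨d, hd, c, hc, hcR, rfl⟩ := hsplit a ha
    obtain ⟨d', hd', c', hc', hcR', rfl⟩ := hsplit b hb
    have hin : ∀ {u v : G}, u ∈ R → v ∈ R → u ∈ C0 → ⁅u, v⁆ ∈ O ⊓ R := fun hu hv hu0 =>
      Subgroup.mem_inf.2 ⟨hcentW' _ hu0 _ (hRW hv), commutator_le_self R (commutator_mem_commutator hu hv)⟩
    have hd1 : ⁅d, d'⁆ ∈ D := commutator_le_self D (commutator_mem_commutator hd hd')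
    have hOn : ∀ x ∈ R, ∀ z ∈ O ⊓ R, x * z * x⁻¹ ∈ O ⊓ R := fun x hx z hz => Subgroup.mem_inf.2
      ⟨(mem_normalizer_iff.1 (hEO (hRE hx)) z).1 hz.1, mul_mem (mul_mem hx hz.2) (inv_mem hx)⟩
    rw [show ⁅d * c, d' * c'⁆ = (d * ⁅c, d' * c'⁆ * d⁻¹) * ⁅d, d'⁆ * (d' * ⁅c', d⁆⁻¹ * d'⁻¹) by
      simp only [commutatorElement_def]; group]
    exact mul_mem (mul_mem (mem_sup_right (hOn d (hDR hd) _ (hin hcR hb hc))) (mem_sup_left hd1))
      (mem_sup_right (hOn d' (hDR hd') _ (inv_mem (hin hcR' (hDR hd) hc'))))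
  have hRA : R ≤ R ⊔ C0 := le_sup_left
  -- perfect
  set D0 := ⁅R, R⁆ with hD0
  have hD0R : D0 ≤ R := commutator_le_self R
  have hcov0 : R ≤ D0 ⊔ C0 := by
    refine hback R D0 hRE (hD0R.trans hRE) ?_
    rw [← hKim]
    have hperf : ⁅K, K⁆ = K := (Subgroup.isPerfect_iff).1 hqs.1
    refine hperf.ge.trans ?_
    rw [hKim]
    show ⁅(R.subgroupOf E).map f, (R.subgroupOf E).map f⁆ ≤ (D0.subgroupOf E).map f
    rw [← map_commutator]
    refine map_mono ((commutator_le).2 fun a ha b hb => ?_)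
    exact mem_subgroupOf.2 (commutator_mem_commutator ha hb)
  have hEn0 : E ≤ normalizer (D0 : Set G) := le_normalizer_of_conj fun x hx c hc => by
    have : cj x D0 = D0 := by rw [hD0, cj, map_commutator, ← cj, cj_eq_self_iff.2 (hEK hx)]
    exact this.le (mem_map_of_mem _ hc)
  have hperfR : D0 = R := by
    refine le_antisymm hD0R ?_
    have h1 : R ≤ D0 ⊔ O := by
      refine hKQ.ge.trans ((commutator_le).2 fun x hx q hq => ?_)
      have hC0D : D0 ≤ normalizer (C0 : Set G) := le_normalizer_of_conj fun g hg c hc => by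
        have hgE : g ∈ E := hRE (hD0R hg)
        exact Subgroup.mem_inf.2 ⟨mul_mem (mul_mem hgE hc.1) (inv_mem hgE),
          hn.conj_mem ⟨c, hc.1⟩ hc.2 ⟨g, hgE⟩⟩
      have h1 := hcov0 hx
      rw [← SetLike.mem_coe, coe_mul_of_left_le_normalizer_right _ _ hC0D] at h1
      obtain ⟨d, hd, c, hc, rfl⟩ := h1
      rw [show ⁅d * c, q⁆ = (d * ⁅c, q⁆ * d⁻¹) * ⁅d, q⁆ by simp only [commutatorElement_def]; group]
      refine mul_mem (mem_sup_right ((mem_normalizer_iff.1 (hEO (hRE (hD0R hd))) _).1 (hcentW' c hc q (hQW hq))))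
        (mem_sup_left ?_)
      rw [show ⁅d, q⁆ = d * (q * d⁻¹ * q⁻¹) by rw [commutatorElement_def]; group]
      exact mul_mem hd ((mem_normalizer_iff.1 (hEn0 (hQE hq)) _).1 (inv_mem hd))
    exact hRR.trans ((res_mono h1).trans (res_sup_le hOp ((hOW.trans hWE).trans hEn0)))
  have hRn : A.subgroupOf R = C0.subgroupOf R := by
    ext x
    exact ⟨fun h => Subgroup.mem_inf.2 ⟨hRE x.2, h⟩, fun h => (Subgroup.mem_inf.1 h).2⟩
  have hqR : Cfsg.IsQuasisimple (↥R ⧸ A.subgroupOf R) := by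
    let φ : ↥R →* ↥E ⧸ A.subgroupOf E := f.comp (inclusion hRE)
    have hker : φ.ker = A.subgroupOf R := by
      ext x
      exact QuotientGroup.eq_one_iff (inclusion hRE x)
    have hrange : φ.range = K := by
      rw [hKim]
      refine le_antisymm ?_ ?_
      · rintro _ ⟨x, rfl⟩; exact ⟨inclusion hRE x, x.2, rfl⟩
      · rintro _ ⟨x, hx, rfl⟩; exact ⟨⟨x, hx⟩, rfl⟩
    exact (Comp.isQuasisimple_congr ((QuotientGroup.quotientMulEquivOfEq hker.symm).trans
      ((QuotientGroup.quotientKerEquivRange φ).trans (MulEquiv.subgroupCongr hrange)))).2 hqs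
  refine ⟨?_, hperfR, le_antisymm (res_le R) hRR, hqR, ?_, ?_⟩
  · refine le_antisymm (sup_le ?_ le_sup_right) (sup_le_sup_right (res_mono hWE) _)
    refine hback _ R (res_le E) hRE ?_
    rw [← hKim]
    rintro _ ⟨x, hx, rfl⟩
    have h1 : x ∈ Cfsg.pResidual p ↥E := by
      have h2 : (x : G) ∈ (Cfsg.pResidual p ↥E).map E.subtype := (map_pResidual (p := p) E).symm ▸ hx
      obtain ⟨y, hy, he⟩ := h2
      exact (Subtype.ext he : y = x) ▸ hy
    exact Transfer.map_pResidual_le f (mem_map_of_mem f h1)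
  · -- `R/O_p(R)`
    set P := Cfsg.pCore p ↥R with hP
    have hPA : P ≤ A.subgroupOf R := by
      intro x hx
      have hPE : E ≤ normalizer (Cfsg.pCoreOf p R : Set G) := le_normalizer_of_conj fun e he c hc =>
        cj_pCoreOf (hEK he) (mem_map_of_mem _ hc)
      haveI : ((Cfsg.pCoreOf p R).subgroupOf E).Normal := normal_subgroupOf_of_le_normalizer hPE
      have h1 := Solv.le_pCore ((inferInstance : ((Cfsg.pCoreOf p R).subgroupOf E).Normal).map f hfs)
        ((pCoreOf_isPGroup R).comap_subtype.map f)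
      rw [hred, le_bot_iff, Subgroup.map_eq_bot_iff, QuotientGroup.ker_mk'] at h1
      exact h1 (show (⟨(x : G), hRE x.2⟩ : E) ∈ (Cfsg.pCoreOf p R).subgroupOf E from ⟨x, hx, rfl⟩)
    have hperf' : Group.IsPerfect ↥R := isPerfect_iff.2 hperfR
    haveI hPn : P.Normal := inferInstance
    haveI : Group.IsPerfect (↥R ⧸ P) := Group.IsPerfect.ofSurjective (QuotientGroup.mk'_surjective P)
    haveI : Nontrivial (↥R ⧸ P) := by
      rw [← not_subsingleton_iff_nontrivial]
      intro hs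
      have h1 : P = ⊤ := QuotientGroup.subgroup_eq_top_of_subsingleton _ hs
      have h2 := Comp.isQuasisimple_nontrivial hqR
      rw [← not_subsingleton_iff_nontrivial] at h2
      refine h2 ?_
      rw [QuotientGroup.subsingleton_iff]
      exact top_le_iff.1 (h1.ge.trans hPA)
    refine Comp.isQuasisimple_of_normal fun N hN => ?_
    set N' := N.comap (QuotientGroup.mk' P) with hN'
    haveI hN'n : N'.Normal := hN.comap _
    rcases Comp.isQuasisimple_normal hqR (N'.map (QuotientGroup.mk' (A.subgroupOf R))) with h | h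
    · left
      have h2 : (⊤ : Subgroup ↥R) ≤ N' ⊔ A.subgroupOf R := by
        rw [← comap_top (QuotientGroup.mk' (A.subgroupOf R)), ← h, comap_map_eq, QuotientGroup.ker_mk']
      have h3 : R ≤ N'.map R.subtype ⊔ C0 := by
        intro x hx
        have h4 := h2 (mem_top (⟨x, hx⟩ : R))
        have h5 := mem_map_of_mem R.subtype h4
        rw [Subgroup.map_sup, hRn, subgroupOf_map_subtype] at h5
        exact (sup_le_sup (le_refl (N'.map R.subtype)) (inf_le_left : C0 ⊓ R ≤ C0)) h5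
      have h4 : R ≤ N'.map R.subtype ⊔ (O ⊓ R) := by
        refine hperfR.ge.trans ((commutator_le).2 fun a ha b hb => ?_)
        exact cover _ (map_subtype_le _) h3 (fun x hx => PReduced.le_normalizer_map N' hN'n hx) a ha b hb
      have hOP : O ⊓ R ≤ Cfsg.pCoreOf p R := le_pCoreOf inf_le_right (le_normalizer_of_conj fun x hx c hc =>
        Subgroup.mem_inf.2 ⟨(mem_normalizer_iff.1 (hEO (hRE hx)) c).1 hc.1, mul_mem (mul_mem hx hc.2) (inv_mem hx)⟩)
        hOp.to_inf_left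
      have h5 : (⊤ : Subgroup ↥R) ≤ N' := by
        rw [← map_le_map_iff_of_injective R.subtype_injective, ← MonoidHom.range_eq_map, range_subtype]
        refine h4.trans (sup_le le_rfl (hOP.trans (map_mono ?_)))
        intro y hy
        rw [hN', mem_comap, show QuotientGroup.mk' P y = 1 from (QuotientGroup.eq_one_iff y).2 hy]
        exact one_mem _
      rw [← map_comap_eq_self_of_surjective (QuotientGroup.mk'_surjective P) N, ← hN', top_le_iff.1 h5,
        map_top_of_surjective _ (QuotientGroup.mk'_surjective P)]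
    · right
      intro z hz
      obtain ⟨x, rfl⟩ := QuotientGroup.mk'_surjective P z
      have hx : QuotientGroup.mk' (A.subgroupOf R) x ∈ center (↥R ⧸ A.subgroupOf R) := h (mem_map_of_mem _ hz)
      let θ : ↥R →* ↥R ⧸ P := QuotientGroup.mk' P
      -- the set of elements commuting with `x` modulo `P`
      set T := (centralizer ({θ x} : Set _)).comap θ with hT
      have hTn : ∀ a b : ↥R, ⁅a, b⁆ ∈ T := by
        intro a b
        have hxa : ∀ c : ↥R, ⁅x, c⁆ ∈ A.subgroupOf R := fun c => by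
          rw [← QuotientGroup.ker_mk' (A.subgroupOf R), MonoidHom.mem_ker, map_commutatorElement,
            commutatorElement_eq_one_iff_commute]
          exact (mem_center_iff.1 hx _).symm
        have hc : ∀ c : ↥R, ∀ w : ↥R ⧸ P, Commute (θ ⁅x, c⁆) w := by
          intro c w
          obtain ⟨w, rfl⟩ := QuotientGroup.mk'_surjective P w
          rw [← commutatorElement_eq_one_iff_commute, ← map_commutatorElement]
          refine (QuotientGroup.eq_one_iff _).2 ?_
          have h1 : ⁅((⁅x, c⁆ : ↥R) : G), (w : G)⁆ ∈ Cfsg.pCoreOf p R := by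
            refine (le_pCoreOf inf_le_right (le_normalizer_of_conj fun x hx c hc => Subgroup.mem_inf.2
              ⟨(mem_normalizer_iff.1 (hEO (hRE hx)) c).1 hc.1, mul_mem (mul_mem hx hc.2) (inv_mem hx)⟩)
              hOp.to_inf_left : O ⊓ R ≤ _) (Subgroup.mem_inf.2 ⟨?_, ?_⟩)
            · exact hcentW' _ (Subgroup.mem_inf.2 ⟨hRE (⁅x, c⁆ : ↥R).2, hxa c⟩) _ (hRW w.2)
            · exact commutator_le_self R (commutator_mem_commutator (⁅x, c⁆ : ↥R).2 w.2)
          obtain ⟨y, hy, he⟩ := h1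
          exact (Subtype.ext he : y = ⁅⁅x, c⁆, w⁆) ▸ hy
        show θ ⁅a, b⁆ ∈ centralizer ({θ x} : Set _)
        rw [mem_centralizer_singleton_iff, map_commutatorElement]
        have h3 : θ x * ⁅θ a, θ b⁆ * (θ x)⁻¹ = ⁅⁅θ x, θ a⁆ * θ a, ⁅θ x, θ b⁆ * θ b⁆ := by
          simp only [commutatorElement_def]; group
        have hm : ∀ y, Commute ⁅θ x, θ a⁆ y := fun y => map_commutatorElement θ x a ▸ hc a y
        have hm' : ∀ y, Commute ⁅θ x, θ b⁆ y := fun y => map_commutatorElement θ x b ▸ hc b y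
        have h4 : ⁅⁅θ x, θ a⁆ * θ a, ⁅θ x, θ b⁆ * θ b⁆ = ⁅θ a, θ b⁆ := by
          generalize θ a = a' at hm ⊢
          generalize θ b = b' at hm' ⊢
          set m := ⁅θ x, a'⁆
          set m' := ⁅θ x, b'⁆
          simp only [commutatorElement_def, mul_inv_rev]
          calc m * a' * (m' * b') * (a'⁻¹ * m⁻¹) * (b'⁻¹ * m'⁻¹)
              = m * (a' * m') * b' * a'⁻¹ * (m⁻¹ * b'⁻¹) * m'⁻¹ := by group
            _ = m * (m' * a') * b' * a'⁻¹ * (b'⁻¹ * m⁻¹) * m'⁻¹ := by rw [(hm' a').eq, ((hm b').inv_inv).eq]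
            _ = (m * m') * (a' * b' * a'⁻¹ * b'⁻¹) * (m⁻¹ * m'⁻¹) := by group
            _ = (a' * b' * a'⁻¹ * b'⁻¹) * (m * m') * (m⁻¹ * m'⁻¹) := by
                rw [((hm (a' * b' * a'⁻¹ * b'⁻¹)).mul_left (hm' _)).eq]
            _ = a' * b' * a'⁻¹ * b'⁻¹ * (m * (m' * m⁻¹) * m'⁻¹) := by group
            _ = a' * b' * a'⁻¹ * b'⁻¹ := by rw [(hm' m⁻¹).eq]; group
        rw [h4] at h3
        exact (mul_inv_eq_iff_eq_mul.1 h3).symm
      rw [mem_center_iff]
      intro w
      obtain ⟨w, rfl⟩ := QuotientGroup.mk'_surjective P w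
      have h5 : w ∈ T := by
        have h6 : (⊤ : Subgroup ↥R) ≤ T := by
          rw [← Group.IsPerfect.commutator_eq_top (G := ↥R), _root_.commutator_def, commutator_le]
          exact fun a _ b _ => hTn a b
        exact h6 (mem_top w)
      exact mem_centralizer_singleton_iff.1 h5
  · intro Y hYE hY hYA
    have hYb1 : im Y ≠ ⊥ := by
      intro h
      refine hYA fun q hq => ?_
      have h1 : f ⟨q, hYE hq⟩ ∈ im Y := ⟨⟨q, hYE hq⟩, hq, rfl⟩
      rw [h, mem_bot] at h1
      exact (QuotientGroup.eq_one_iff (⟨q, hYE hq⟩ : E)).1 h1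
    have hKY := (hYK (im Y) (hY.comap_subtype.map f) hYb1).1
    set D := ⁅R, Y⁆ with hD
    have hDR : D ≤ R := Solv.commutator_le_of_normalizes (hYE.trans hEK)
    refine le_antisymm hDR ?_
    have hDn : R ≤ normalizer (D : Set G) := Solv.le_normalizer_commutator_left R Y
    have hcov : R ≤ D ⊔ C0 := by
      refine hback R D hRE (hDR.trans hRE) ?_
      rw [← hKim]
      refine hKY.ge.trans ?_
      rw [hKim]
      show ⁅(R.subgroupOf E).map f, (Y.subgroupOf E).map f⁆ ≤ (D.subgroupOf E).map f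
      rw [← map_commutator]
      refine map_mono ((commutator_le).2 fun a ha b hb => ?_)
      exact mem_subgroupOf.2 (commutator_mem_commutator ha hb)
    have h4 : R ≤ D ⊔ (O ⊓ R) := by
      exact hperfR.ge.trans ((commutator_le).2 fun a ha b hb => cover D hDR hcov hDn a ha b hb)
    exact hRR.trans ((res_mono h4).trans (res_sup_le hOp.to_inf_left (inf_le_right.trans hDn)))

end Cfsg.Lib.QsWeakClosure
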