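import Mathlib
import Cfsg.Agent.Lib.PLocal.Replacement
import Cfsg.Agent.Lib.PLocal.ClosedConjugates

/-!
Consequences of the replacement theorem: ranks, and normal abelian subgroups of metabelian groups.
-/

set_option autoImplicit false
set_option linter.style.haveILetI false
set_option linter.unusedSectionVars false

namespace Cfsg.Lib.ReplOmega

open Subgroup Cfsg Cfsg.Lib.PLocal
open scoped commutatorElement Pointwise

theorem le_normalizer_of_conj' {G : Type*} [Group G] {X C : Subgroup G}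
    (h : ∀ x ∈ X, ∀ c ∈ C, x * c * x⁻¹ ∈ C) : X ≤ normalizer (C : Set G) := fun x hx => by
  refine mem_normalizer_iff.2 fun y => ⟨h x hx y, fun hy => ?_⟩
  have := h x⁻¹ (inv_mem hx) _ hy
  simpa [mul_assoc] using this

variable {G : Type*} [Group G] [Finite G] {p : ℕ} [hp : Fact p.Prime]

theorem card_sup_inf {H K : Subgroup G} (h : H ≤ normalizer (K : Set G)) :
    Nat.card ↥(H ⊔ K) * Nat.card ↥(H ⊓ K) = Nat.card ↥H * Nat.card ↥K := by
  haveI : (K.subgroupOf (H ⊔ K)).Normal :=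
    (normal_subgroupOf_iff_le_normalizer le_sup_right).2 (sup_le h le_normalizer)
  have h1 : K.relIndex (H ⊔ K) = K.relIndex H := by
    rw [← relIndex_subgroupOf (H := K) (le_rfl : H ⊔ K ≤ H ⊔ K), ← relIndex_subgroupOf (H := K) (le_sup_left : H ≤ H ⊔ K),
      subgroupOf_self]
    conv_lhs => rw [← subgroupOf_self (H ⊔ K), subgroupOf_sup le_sup_left le_sup_right]
    rw [relIndex_sup_right]
  have h2 := card_mul_index (K.subgroupOf (H ⊔ K))
  rw [Nat.card_congr (subgroupOfEquivOfLe (le_sup_right : K ≤ H ⊔ K)).toEquiv] at h2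
  have h3 := card_mul_index ((H ⊓ K).subgroupOf H)
  rw [Nat.card_congr (subgroupOfEquivOfLe (inf_le_left : H ⊓ K ≤ H)).toEquiv] at h3
  have h4 : ((H ⊓ K).subgroupOf H).index = (K.subgroupOf (H ⊔ K)).index := by
    show (H ⊓ K).relIndex H = K.relIndex (H ⊔ K)
    rw [inf_relIndex_left, h1]
  rw [← h2, ← h3, h4]
  ring

/-- The subgroup of elements of order dividing `p` does not shrink under replacement. -/
theorem omega_le {A : Subgroup G} (hA : IsMulCommutative A) {b : G}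
    (hbN : b ∈ normalizer ((normalizer (A : Set G)) : Set G)) (hp2 : p ≠ 2)
    (hσT : ∀ t ∈ A ⊓ A.map (MulAut.conj (b⁻¹)).toMonoidHom, b⁻¹ * t * b ∈ A)
    (hR : IsMulCommutative (replacementA A b)) :
    Nat.card ↥(omegaOne p A) ≤ Nat.card ↥(omegaOne p (replacementA A b)) := by
  set A1 := A.map (MulAut.conj (b⁻¹)).toMonoidHom with hA1def
  set R := replacementA A b
  set X := normalizer (A : Set G)
  have hA1 : ∀ z, z ∈ A1 ↔ b * z * b⁻¹ ∈ A := fun z => by rw [hA1def, conj_map_iff, inv_inv]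
  have hcA : ∀ x ∈ A, ∀ y ∈ A, x * y = y * x := fun x hx y hy =>
    congrArg Subtype.val (hA.is_comm.comm (⟨x, hx⟩ : A) ⟨y, hy⟩)
  have hcR : ∀ x ∈ R, ∀ y ∈ R, x * y = y * x := fun x hx y hy =>
    congrArg Subtype.val (hR.is_comm.comm (⟨x, hx⟩ : R) ⟨y, hy⟩)
  have hcA1 : ∀ x ∈ A1, ∀ y ∈ A1, x * y = y * x := fun x hx y hy => by
    calc x * y = b⁻¹ * ((b * x * b⁻¹) * (b * y * b⁻¹)) * b := by group
      _ = _ := by rw [hcA _ ((hA1 x).1 hx) _ ((hA1 y).1 hy)]; group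
  have hA1X : A1 ≤ X := fun z hz => (mem_normalizer_iff.1 hbN z).2 (le_normalizer ((hA1 z).1 hz))
  have hAA1 : ∀ x ∈ A, ∀ z ∈ A1, x * z * x⁻¹ ∈ A1 := fun x hx z hz => by
    rw [hA1]
    have := (mem_normalizer_iff.1 ((mem_normalizer_iff.1 hbN x).1 (le_normalizer hx)) _).1 ((hA1 z).1 hz)
    convert this using 1; group
  have hσ : ∀ a ∈ A, b⁻¹ * a * b ∈ A1 := fun a ha => by rw [hA1]; convert ha using 1; group
  set f : G → G := fun a => a * b⁻¹ * a⁻¹ * b
  have hfR : ∀ a ∈ A, f a ∈ R := fun a ha => mem_sup_right (subset_closure ⟨a, ha, rfl⟩)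
  -- the images of elements of order dividing `p`
  have hfpow : ∀ a ∈ omegaOne p A, f a ∈ omegaOne p R := by
    intro a haΩ
    have ha : a ∈ A := omegaOne_le _ haΩ
    have hap : a ^ p = 1 := (omegaOne_elem (p := p) hcA).2 a haΩ
    refine mem_omegaOne (hfR a ha) ?_
    set y := b⁻¹ * a⁻¹ * b with hy
    have hyA1 : y ∈ A1 := hσ _ (inv_mem ha)
    set c := y⁻¹ * a⁻¹ * y * a with hc
    have hcT : c ∈ A ⊓ A1 := by
      refine ⟨mul_mem ?_ ha, ?_⟩
      · have := (mem_normalizer_iff.1 (hA1X (inv_mem hyA1)) _).1 (inv_mem ha)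
        simpa using this
      · show c ∈ A1
        rw [hc, mul_assoc, mul_assoc]
        refine mul_mem (inv_mem hyA1) ?_
        have := hAA1 a⁻¹ (inv_mem ha) y hyA1
        simpa [mul_assoc] using this
    have hyp : y ^ p = 1 := by
      have h3 : (b⁻¹ * a⁻¹ * b⁻¹⁻¹) ^ p = b⁻¹ * a⁻¹ ^ p * b⁻¹⁻¹ := conj_pow
      rw [inv_inv] at h3
      rw [hy, h3, inv_pow, hap]; group
    have hcp : c ^ p = 1 := by
      have hc' : c = (y⁻¹ * a⁻¹ * y) * a := hc
      have hm : y⁻¹ * a⁻¹ * y ∈ A := by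
        have := (mem_normalizer_iff.1 (hA1X (inv_mem hyA1)) _).1 (inv_mem ha)
        simpa using this
      have h3 : (y⁻¹ * a⁻¹ * y⁻¹⁻¹) ^ p = y⁻¹ * a⁻¹ ^ p * y⁻¹⁻¹ := conj_pow
      rw [inv_inv] at h3
      rw [hc', (show Commute (y⁻¹ * a⁻¹ * y) a from hcA _ hm a ha).mul_pow, h3, inv_pow, hap]
      group
    have hdiv : p ∣ p.choose 2 := hp.out.dvd_choose_self (by norm_num)
      (lt_of_le_of_ne hp.out.two_le (Ne.symm hp2))
    obtain ⟨k, hk⟩ := hdiv
    show (a * b⁻¹ * a⁻¹ * b) ^ p = 1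
    rw [show a * b⁻¹ * a⁻¹ * b = a * y by rw [hy]; group,
      Transfer.mul_pow_class_two (c := c) (by rw [hc]; group) (hcA c hcT.1 a ha)
        (hcA1 c hcT.2 y hyA1), hap, one_mul, hyp, hk, pow_mul, hcp, one_pow, one_mul]
  set S := omegaOne p A ⊓ A1
  have hSR : S ≤ omegaOne p R := fun z hz =>
    mem_omegaOne (mem_sup_left ⟨omegaOne_le _ hz.1, hz.2⟩) ((omegaOne_elem (p := p) hcA).2 z hz.1)
  have hmul : ∀ a ∈ A, ∀ t ∈ A ⊓ A1, f (a * t) * (f a)⁻¹ ∈ A1 := by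
    intro a ha t ht
    have e : f (a * t) * (f a)⁻¹ = a * (t * (b⁻¹ * t⁻¹ * b)) * a⁻¹ := by simp only [f]; group
    rw [e]
    exact hAA1 a ha _ (mul_mem ht.2 (hσ _ (inv_mem ht.1)))
  -- injectivity modulo the intersection
  have hinj : ∀ a ∈ omegaOne p A, ∀ a' ∈ omegaOne p A, (f a)⁻¹ * f a' ∈ S → a⁻¹ * a' ∈ S := by
    intro a haΩ a' ha'Ω h
    have ha := omegaOne_le _ haΩ
    have ha' := omegaOne_le _ ha'Ω
    refine ⟨(omegaOne p A).mul_mem ((omegaOne p A).inv_mem haΩ) ha'Ω, ?_⟩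
    show a⁻¹ * a' ∈ A1
    -- `f a' = f a * s`, and modulo `A1` the map is the identity
    have h2 : a⁻¹ * (f a * (f a)⁻¹ * f a') * (f a')⁻¹ * a' ∈ A1 := by
      rw [show a⁻¹ * (f a * (f a)⁻¹ * f a') * (f a')⁻¹ * a' = a⁻¹ * a' by group]
      have e : a⁻¹ * a' = (a⁻¹ * f a) * ((f a)⁻¹ * f a') * ((f a')⁻¹ * a') := by group
      rw [e]
      refine mul_mem (mul_mem ?_ h.2) ?_
      · rw [show a⁻¹ * f a = b⁻¹ * a⁻¹ * b by simp only [f]; group]
        exact hσ _ (inv_mem ha)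
      · rw [show (f a')⁻¹ * a' = b⁻¹ * a' * b by simp only [f]; group]
        exact hσ _ ha'
    rwa [show a⁻¹ * (f a * (f a)⁻¹ * f a') * (f a')⁻¹ * a' = a⁻¹ * a' by group] at h2
  have hclass : ∀ a ∈ omegaOne p A, ∀ t ∈ S, (f a)⁻¹ * f (a * t) ∈ S := by
    intro a ha t ht
    have hfa := hfpow a ha
    have hfat := hfpow (a * t) (mul_mem ha ht.1)
    have haA := omegaOne_le _ ha
    have htA : t ∈ A ⊓ A1 := ⟨omegaOne_le _ ht.1, ht.2⟩
    have e : (f a)⁻¹ * f (a * t) = (b⁻¹ * a * b) * (t * (b⁻¹ * t⁻¹ * b)) * (b⁻¹ * a * b)⁻¹ := by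
      simp only [f]; group
    have h1 : (f a)⁻¹ * f (a * t) ∈ A1 := by
      rw [e]
      exact mul_mem (mul_mem (hσ _ haA) (mul_mem ht.2 (hσ _ (inv_mem htA.1)))) (inv_mem (hσ _ haA))
    refine ⟨?_, h1⟩
    -- it lies in `A` as well
    have hw : b⁻¹ * t⁻¹ * b ∈ A := hσT _ (inv_mem htA)
    have hA' : (f a)⁻¹ * f (a * t) ∈ A := by
      rw [e]
      exact (mem_normalizer_iff.1 (hA1X (hσ _ haA)) _).1 (mul_mem htA.1 hw)
    exact mem_omegaOne hA' ((omegaOne_elem (p := p) hcR).2 _ (mul_mem (inv_mem hfa) hfat))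
  have hSA : S ≤ omegaOne p A := inf_le_left
  have hrel : S.relIndex (omegaOne p A) ≤ S.relIndex (omegaOne p (replacementA A b)) := by
    let φ : ↥(omegaOne p A) ⧸ S.subgroupOf (omegaOne p A) → ↥(omegaOne p R) ⧸ S.subgroupOf (omegaOne p R) :=
      Quotient.lift (fun a : ↥(omegaOne p A) => QuotientGroup.mk (⟨f a, hfpow a a.2⟩ : ↥(omegaOne p R)))
        fun a a' h => QuotientGroup.eq.2 (by
          have h' : (a : G)⁻¹ * a' ∈ S :=
            (QuotientGroup.leftRel_apply.1 h : a⁻¹ * a' ∈ S.subgroupOf (omegaOne p A))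
          have := hclass a a.2 _ h'
          rwa [mul_inv_cancel_left] at this)
    refine Nat.card_le_card_of_injective φ fun x y => ?_
    refine Quotient.inductionOn₂ x y fun a a' e => Quotient.sound (QuotientGroup.leftRel_apply.2 ?_)
    have e2 : (QuotientGroup.mk (⟨f a, hfpow a a.2⟩ : ↥(omegaOne p R)) : _ ⧸ S.subgroupOf (omegaOne p R)) =
        QuotientGroup.mk (⟨f a', hfpow a' a'.2⟩ : ↥(omegaOne p R)) := e
    have h3 := QuotientGroup.eq.1 e2
    exact hinj a a.2 a' a'.2 h3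
  have e1 := (S.subgroupOf (omegaOne p A)).card_mul_index
  have e2 := (S.subgroupOf (omegaOne p R)).card_mul_index
  rw [Nat.card_congr (subgroupOfEquivOfLe hSA).toEquiv] at e1
  rw [Nat.card_congr (subgroupOfEquivOfLe hSR).toEquiv] at e2
  rw [← e1, ← e2]
  exact Nat.mul_le_mul_left _ hrel

theorem sigma_mem {A B : Subgroup G} [hBn : B.Normal] (hBA : ⁅B, B⁆ ≤ A) {b : G} (hb : b ∈ B)
    {t : G} (ht : t ∈ A ⊓ A.map (MulAut.conj (b⁻¹)).toMonoidHom) : b⁻¹ * t * b ∈ A := by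
  set a := b * t * b⁻¹ with hadef
  have ha : a ∈ A := by
    have := conj_map_iff.1 ht.2
    rwa [inv_inv] at this
  set u := t * a⁻¹ with hu
  have huA : u ∈ A := mul_mem ht.1 (inv_mem ha)
  have huB : u ∈ B := by
    rw [show u = (b * (t * b⁻¹ * t⁻¹))⁻¹ by rw [hu, hadef]; group]
    exact inv_mem (mul_mem hb (hBn.conj_mem _ (inv_mem hb) t))
  rw [show b⁻¹ * t * b = ⁅b⁻¹, u⁆ * u * t by rw [_root_.commutatorElement_def, hu, hadef]; group]
  exact mul_mem (mul_mem (hBA (commutator_mem_commutator (inv_mem hb) huB)) huA) ht.1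

/-- An element realizing the replacement. -/
theorem exists_b (hG : IsPGroup p G) (A B : Subgroup G) [B.Normal] (hnA : ¬ B ≤ normalizer (A : Set G)) :
    ∃ b ∈ B, b ∈ normalizer ((normalizer (A : Set G)) : Set G) ∧ b ∉ normalizer (A : Set G) := by
  set X := normalizer (A : Set G)
  obtain ⟨z, hz, hzN, hzX⟩ := Closed.exists_normalizing (U := X) (P := X ⊔ B) (hG.to_subgroup _) le_sup_left
    fun h => hnA (le_sup_right.trans h)
  obtain ⟨x, hx, b, hb, rfl⟩ := mem_sup_of_normal_right.1 hz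
  refine ⟨b, hb, ?_, fun h => hzX (mul_mem hx h)⟩
  have := mul_mem (inv_mem (le_normalizer hx)) hzN
  rwa [inv_mul_cancel_left] at this

/-- S3078. -/
theorem replace_rank (hp2 : p ≠ 2) (hG : IsPGroup p G) (A B : Subgroup G) (hA : IsMulCommutative A)
    (hBA : ⁅B, B⁆ ≤ A) (hAB : A ≤ normalizer (B : Set G)) (hBnA : ¬ B ≤ normalizer (A : Set G)) :
    ∃ Astar : Subgroup G, IsMulCommutative Astar ∧ Nat.card Astar = Nat.card A ∧ A ⊓ B < Astar ⊓ B ∧
      Astar ≤ normalizer (A : Set G) ∧ Astar ≤ Subgroup.normalClosure (A : Set G) ∧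
      Monoid.exponent Astar ∣ Monoid.exponent A ∧
      Nat.card (omegaOne p A) ≤ Nat.card (omegaOne p Astar) := by
  set M := A ⊔ B
  haveI : (B.subgroupOf M).Normal :=
    (normal_subgroupOf_iff_le_normalizer le_sup_right).2 (sup_le hAB le_normalizer)
  have hAM : A ≤ M := le_sup_left
  have hBM : B ≤ M := le_sup_right
  set A' := A.subgroupOf M
  set B' := B.subgroupOf M
  have hA' : IsMulCommutative A' := ⟨⟨fun x y => by
    apply Subtype.ext
    apply Subtype.ext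
    have := congrArg Subtype.val (hA.is_comm.comm (⟨((x : ↥M) : G), x.2⟩ : A) ⟨((y : ↥M) : G), y.2⟩)
    exact this⟩⟩
  have hBA' : ⁅B', B'⁆ ≤ A' := commutator_le.2 fun x hx y hy => hBA (commutator_mem_commutator hx hy)
  have hnA : ¬ B' ≤ normalizer (A' : Set ↥M) := fun h => hBnA fun b hb => by
    refine mem_normalizer_iff.2 fun y => ⟨fun hy => ?_, fun hy => ?_⟩
    · exact (mem_normalizer_iff.1 (h (show (⟨b, hBM hb⟩ : ↥M) ∈ B' from hb)) ⟨y, hAM hy⟩).1 hy
    · have hy' : y ∈ M := by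
        have := M.mul_mem (M.mul_mem (M.inv_mem (hBM hb)) (hAM hy)) (hBM hb)
        simpa [mul_assoc] using this
      exact (mem_normalizer_iff.1 (h (show (⟨b, hBM hb⟩ : ↥M) ∈ B' from hb)) ⟨y, hy'⟩).2 hy
  obtain ⟨b, hb, hbN, hbA⟩ := exists_b (hG.to_subgroup M) A' B' hnA
  obtain ⟨hc, hab, -, hlt, -, -, hRX, -, -, hexp, hRH⟩ :=
    replacement (hG.to_subgroup M) B' (fun h => absurd h hp2) A' hA' hBA' hb hbN hbA
  set R := replacementA A' b
  have hΩ := omega_le (p := p) hA' hbN hp2 (fun t ht => sigma_mem hBA' hb ht) hab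
  have hmapA : A'.map M.subtype = A := map_subgroupOf_eq_of_le hAM
  have hΩmap : ∀ X : Subgroup ↥M, Nat.card ↥(omegaOne p (X.map M.subtype)) = Nat.card ↥(omegaOne p X) := by
    intro X
    have e : omegaOne p (X.map M.subtype) = (omegaOne p X).map M.subtype := by
      rw [omegaOne, omegaOne, MonoidHom.map_closure]
      congr 1
      ext y
      constructor
      · rintro ⟨⟨x, hx, rfl⟩, hy⟩
        exact ⟨x, ⟨hx, M.subtype_injective (by rw [map_pow, map_one]; exact hy)⟩, rfl⟩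
      · rintro ⟨x, ⟨hx, hxp⟩, rfl⟩
        exact ⟨⟨x, hx, rfl⟩, by rw [← map_pow, hxp, map_one]⟩
    rw [e, card_map_of_injective M.subtype_injective]
  have heA : Monoid.exponent ↥A' = Monoid.exponent ↥A :=
    Monoid.exponent_eq_of_mulEquiv (subgroupOfEquivOfLe hAM)
  refine ⟨R.map M.subtype, ⟨⟨?_⟩⟩, ?_, ?_, ?_, ?_, ?_, ?_⟩
  · rintro ⟨_, x, hx, rfl⟩ ⟨_, y, hy, rfl⟩
    exact Subtype.ext (congrArg Subtype.val (congrArg Subtype.val (hab.is_comm.comm (⟨x, hx⟩ : R) ⟨y, hy⟩)) :)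
  · rw [card_map_of_injective M.subtype_injective, hc, ← hmapA, card_map_of_injective M.subtype_injective]
  · have e : ∀ X : Subgroup ↥M, X.map M.subtype ⊓ B = (X ⊓ B').map M.subtype := fun X => by
      rw [map_inf X B' M.subtype M.subtype_injective, map_subgroupOf_eq_of_le hBM]
    rw [← hmapA, e, e]
    exact (map_lt_map_iff_of_injective M.subtype_injective).2 hlt
  · rintro _ ⟨x, hx, rfl⟩
    refine mem_normalizer_iff.2 fun y => ⟨fun hy => ?_, fun hy => ?_⟩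
    · exact (mem_normalizer_iff.1 (hRX hx) ⟨y, hAM hy⟩).1 hy
    · have hy' : y ∈ M := by
        have := M.mul_mem (M.mul_mem (M.inv_mem x.2) (hAM hy)) x.2
        simpa [mul_assoc] using this
      exact (mem_normalizer_iff.1 (hRX hx) ⟨y, hy'⟩).2 hy
  · refine (map_mono hRH).trans ?_
    rw [Subgroup.map_sup, hmapA]
    refine sup_le le_normalClosure ?_
    rintro _ ⟨_, ⟨a, ha, rfl⟩, rfl⟩
    exact Subgroup.normalClosure_normal.conj_mem _ (le_normalClosure (show (a : G) ∈ A from ha)) _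
  · rw [← Monoid.exponent_eq_of_mulEquiv (R.equivMapOfInjective M.subtype M.subtype_injective), ← heA]
    exact hexp hp2
  · rw [← hmapA, hΩmap, hΩmap]
    exact hΩ

/-- S3063. -/
theorem normal_max_abelian {S : Type*} [Group S] [Finite S] (hS : IsPGroup p S)
    (hmeta : IsMulCommutative ↥(_root_.commutator S)) (A : Subgroup S) (hA : A ∈ maxAbelianSubgroups S) :
    ∃ B ∈ maxAbelianSubgroups S, B.Normal ∧ B ≤ Subgroup.normalClosure (A : Set S) := by
  set K := Subgroup.normalClosure (A : Set S)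
  set N := _root_.commutator S ⊓ K
  haveI hKn : K.Normal := Subgroup.normalClosure_normal
  haveI hNn : N.Normal := Subgroup.normal_inf_normal _ _
  have hcD : ∀ x ∈ _root_.commutator S, ∀ y ∈ _root_.commutator S, x * y = y * x := fun x hx y hy =>
    congrArg Subtype.val (hmeta.is_comm.comm (⟨x, hx⟩ : _root_.commutator S) ⟨y, hy⟩)
  have hNc : IsMulCommutative N := ⟨⟨fun x y => Subtype.ext (hcD x x.2.1 y y.2.1)⟩⟩
  obtain ⟨B, ⟨hB, hBK⟩, hmax⟩ := (Set.toFinite {B : Subgroup S | B ∈ maxAbelianSubgroups S ∧ B ≤ K}).exists_maximalFor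
    (fun B => B ⊓ N) _ ⟨A, hA, le_normalClosure⟩
  have hNB : N ≤ normalizer (B : Set S) := by
    by_contra hn
    obtain ⟨b, hb, hbN, hbB⟩ := exists_b hS B N hn
    obtain ⟨hc, hab, -, hlt, -, -, -, -, -, -, hRH⟩ := replacement hS N (fun _ => hNc) B hB.1
      (by
        rw [show ⁅N, N⁆ = ⊥ from commutator_eq_bot_iff_le_centralizer.2 fun x hx =>
          mem_centralizer_iff.2 fun y hy => hcD y hy.1 x hx.1]
        exact bot_le) hb hbN hbB
    have hRK : replacementA B b ≤ K := hRH.trans (sup_le hBK (by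
      rintro _ ⟨a, ha, rfl⟩; exact hKn.conj_mem a (hBK ha) _))
    exact hlt.not_ge (hmax ⟨⟨hab, fun X hX => hc ▸ hB.2 X hX⟩, hRK⟩ hlt.le)
  refine ⟨B, hB, ⟨fun x hx s => ?_⟩, hBK⟩
  set Bs := B.map (MulAut.conj s).toMonoidHom
  suffices h : Bs ≤ B from h ⟨x, hx, rfl⟩
  have hBsN : Bs ≤ B ⊔ N := by
    rintro _ ⟨y, hy, rfl⟩
    show s * y * s⁻¹ ∈ B ⊔ N
    rw [show s * y * s⁻¹ = y * ⁅y⁻¹, s⁆ by simp only [_root_.commutatorElement_def]; group]
    refine mul_mem (mem_sup_left hy) (mem_sup_right ⟨commutator_mem_commutator (mem_top _) (mem_top _), ?_⟩)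
    rw [show ⁅y⁻¹, s⁆ = y⁻¹ * (s * y * s⁻¹) by simp only [_root_.commutatorElement_def]; group]
    exact K.mul_mem (K.inv_mem (hBK hy)) (hKn.conj_mem y (hBK hy) s)
  have hBsB : Bs ≤ normalizer (B : Set S) := hBsN.trans (sup_le le_normalizer hNB)
  set M := Bs ⊔ B
  set D := M ⊓ N
  set I := Bs ⊓ B
  have hBsK : Bs ≤ K := by rintro _ ⟨y, hy, rfl⟩; exact hKn.conj_mem y (hBK hy) s
  have hMBD : M ≤ B ⊔ D := by
    intro m hm
    obtain ⟨u, hu, n, hn, rfl⟩ := mem_sup_of_normal_right.1 (sup_le hBsN le_sup_left hm)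
    refine mul_mem (mem_sup_left hu) (mem_sup_right ⟨?_, hn⟩)
    have := mul_mem (inv_mem (mem_sup_right (S := Bs) hu)) hm
    simpa using this
  have hcB : ∀ u ∈ B, ∀ v ∈ B, u * v = v * u := fun u hu v hv =>
    congrArg Subtype.val (hB.1.is_comm.comm (⟨u, hu⟩ : B) ⟨v, hv⟩)
  have hcBs : ∀ u ∈ Bs, ∀ v ∈ Bs, u * v = v * u := by
    rintro _ ⟨u, hu, rfl⟩ _ ⟨v, hv, rfl⟩
    rw [← map_mul, ← map_mul, hcB u hu v hv]
  have hIM : M ≤ centralizer (I : Set S) := sup_le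
    (fun u hu => mem_centralizer_iff.2 fun v hv => hcBs v hv.1 u hu)
    (fun u hu => mem_centralizer_iff.2 fun v hv => hcB v hv.2 u hu)
  set B2 := I ⊔ D
  have hB2c : IsMulCommutative B2 := by
    refine ⟨⟨fun u v => Subtype.ext ?_⟩⟩
    have hcl := closure_comm (s := (I : Set S) ∪ D) (by
      rintro u (hu | hu) v (hv | hv)
      · exact hcB u hu.2 v hv.2
      · exact mem_centralizer_iff.1 (hIM hv.1) u hu
      · exact (mem_centralizer_iff.1 (hIM hu.1) v hv).symm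
      · exact hcD u hu.2.1 v hv.2.1)
    have hu := u.2; have hv := v.2
    simp only [B2, Subgroup.sup_eq_closure] at hu hv
    exact hcl _ hu _ hv
  have hD_norm : B ≤ normalizer (D : Set S) :=
    le_normalizer_of_conj' fun u hu d hd => ⟨M.mul_mem (M.mul_mem (mem_sup_right hu) hd.1) (M.inv_mem (mem_sup_right hu)),
      hNn.conj_mem d hd.2 u⟩
  have hMeq : B ⊔ D = M := le_antisymm (sup_le le_sup_right inf_le_left) hMBD
  have c1 : Nat.card ↥M * Nat.card ↥(B ⊓ D) = Nat.card ↥B * Nat.card ↥D := hMeq ▸ card_sup_inf hD_norm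
  have c2 : Nat.card ↥M * Nat.card ↥I = Nat.card ↥Bs * Nat.card ↥B := card_sup_inf hBsB
  have c3 : Nat.card ↥B2 * Nat.card ↥(I ⊓ D) = Nat.card ↥I * Nat.card ↥D :=
    card_sup_inf ((inf_le_right : I ≤ B).trans hD_norm)
  have hBsc : Nat.card ↥Bs = Nat.card ↥B := card_map_of_injective (MulAut.conj s).injective
  rw [hBsc] at c2
  have hle : Nat.card ↥(I ⊓ D) ≤ Nat.card ↥(B ⊓ D) := card_le_of_le (inf_le_inf_right _ inf_le_right)
  have hbig : Nat.card ↥B ≤ Nat.card ↥B2 := by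
    have hM0 : 0 < Nat.card ↥M := Nat.card_pos
    refine Nat.le_of_mul_le_mul_right ?_ (mul_pos (Nat.card_pos (α := ↥(I ⊓ D))) hM0)
    calc Nat.card ↥B * (Nat.card ↥(I ⊓ D) * Nat.card ↥M)
        ≤ Nat.card ↥B * (Nat.card ↥(B ⊓ D) * Nat.card ↥M) := by gcongr
      _ = Nat.card ↥B * Nat.card ↥B * Nat.card ↥D := by rw [mul_comm _ (Nat.card ↥M), c1]; ring
      _ = Nat.card ↥M * Nat.card ↥I * Nat.card ↥D := by rw [c2]
      _ = _ := by rw [mul_assoc, ← c3]; ring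
  have hB2 : B2 ∈ maxAbelianSubgroups S := ⟨hB2c, fun X hX => (hB.2 X hX).trans hbig⟩
  have hB2K : B2 ≤ K := sup_le (inf_le_right.trans hBK) (inf_le_right.trans inf_le_right)
  have hmono : B ⊓ N ≤ B2 ⊓ N := fun u hu => ⟨mem_sup_right ⟨mem_sup_right hu.1, hu.2⟩, hu.2⟩
  have hDB : D ≤ B := fun d hd => (hmax ⟨hB2, hB2K⟩ hmono ⟨mem_sup_right hd, hd.2⟩).1
  exact le_sup_left.trans (hMeq.ge.trans (sup_le le_rfl hDB))

end Cfsg.Lib.ReplOmega
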