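import Mathlib
import Cfsg.Prelude.Def_SubgroupEmbedding
import Cfsg.Prelude.Def_Transfer
import Cfsg.Agent.Lib.PLocal.LLemma
import Cfsg.Agent.Lib.PLocal.SidkiFour
import Cfsg.Agent.Lib.PLocal.LocalMisc2
import Cfsg.Agent.Lib.Comp.FStar
import Cfsg.Agent.Lib.Inverted.Main

/-!
A minimal counterexample for Sidki pairs has simple generalized Fitting subgroup.
-/

set_option autoImplicit false

namespace Cfsg.Lib.PLocal.SidkiMinimal

open Cfsg.Lib.PLocal.LLemma

universe u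

variable {G : Type u} [Group G] [Finite G]

omit [Finite G] in
theorem ea_comm {G : Type*} [Group G] {W : Subgroup G} (h : Cfsg.IsElementaryAbelian 2 W) {a b : G} (ha : a ∈ W)
    (hb : b ∈ W) : a * b = b * a :=
  congrArg Subtype.val (haveI := h.1; mul_comm' (⟨a, ha⟩ : W) ⟨b, hb⟩)

omit [Finite G] in
theorem ea_mk {G : Type*} [Group G] {W : Subgroup G} (c : ∀ a ∈ W, ∀ b ∈ W, a * b = b * a)
    (e : ∀ a ∈ W, a ^ 2 = 1) : Cfsg.IsElementaryAbelian 2 W :=
  ⟨⟨⟨fun a b => Subtype.ext (c a a.2 b b.2)⟩⟩, e⟩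

/-- The induction hypothesis. -/
def MinG (G : Type u) : Prop :=
  ∀ (H : Type u) [Group H] [Finite H] (W : Subgroup H), Nat.card H < Nat.card G →
    Cfsg.IsElementaryAbelian 2 W → W ≠ ⊥ → Cfsg.IsSidkiPair W → W ⊓ Cfsg.pCore 2 H ≠ ⊥

theorem fail (hmin : MinG G) {W L : Subgroup G} (hW : Cfsg.IsElementaryAbelian 2 W) (hW1 : W ≠ ⊥)
    (hWL : W ≤ Subgroup.normalizer (L : Set G)) (hL : ∀ O : Subgroup G, O ≤ L → IsPGroup 2 O → L ≤ Subgroup.normalizer (O : Set G) → O = ⊥)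
    (hCL : ∀ w ∈ W, (∀ l ∈ L, w * l = l * w) → w = 1) (hlt : W ⊔ L ≠ ⊤) :
    ∃ u ∈ W, ∃ z ∈ L, Odd (orderOf z) ∧ u * z * u⁻¹ = z⁻¹ ∧ ∀ w ∈ W, w * z = z * w → w = 1 := by
  haveI : Fact (Nat.Prime 2) := ⟨Nat.prime_two⟩
  have hWH : W ≤ W ⊔ L := le_sup_left
  have hLH : L ≤ W ⊔ L := le_sup_right
  haveI hLn : (L.subgroupOf (W ⊔ L)).Normal :=
    Subgroup.normal_subgroupOf_of_le_normalizer (sup_le hWL Subgroup.le_normalizer)
  haveI hOn : (Cfsg.pCore 2 ↥(W ⊔ L)).Normal := inferInstance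
  have hcard : Nat.card ↥(W ⊔ L) < Nat.card G :=
    lt_of_le_of_ne (Subgroup.card_le_card_group _) fun h => hlt (Subgroup.eq_top_of_card_eq _ h)
  have hea : Cfsg.IsElementaryAbelian 2 (W.subgroupOf (W ⊔ L)) :=
    (ea_mk (fun a ha b hb => Subtype.ext (ea_comm hW ha hb)) (fun a ha => Subtype.ext (by simpa using hW.2 _ ha)))
  have hne : W.subgroupOf (W ⊔ L) ≠ ⊥ := fun h => hW1 (eq_bot_iff.2 fun x hx => by
    have : (⟨x, hWH hx⟩ : ↥(W ⊔ L)) ∈ W.subgroupOf (W ⊔ L) := hx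
    rw [h, Subgroup.mem_bot] at this
    exact congrArg Subtype.val this)
  have hinf : W.subgroupOf (W ⊔ L) ⊓ Cfsg.pCore 2 ↥(W ⊔ L) = ⊥ := by
    have hO : Cfsg.pCore 2 ↥(W ⊔ L) ⊓ L.subgroupOf (W ⊔ L) = ⊥ := by
      rw [← Subgroup.map_eq_bot_iff_of_injective _ (W ⊔ L).subtype_injective]
      refine hL _ (fun x hx => ?_) (((Cfsg.Lib.Solv.isPGroup_pCore 2).to_inf_left).map _) fun l hl => ?_
      · obtain ⟨y, hy, rfl⟩ := hx
        exact hy.2
      · refine mem_normalizer_of_cj_le ?_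
        rintro _ ⟨_, ⟨y, hy, rfl⟩, rfl⟩
        exact ⟨⟨l, hLH hl⟩ * y * ⟨l, hLH hl⟩⁻¹, ⟨hOn.conj_mem y hy.1 _, hLn.conj_mem y hy.2 _⟩, rfl⟩
    rw [eq_bot_iff]
    rintro x ⟨hxW, hxO⟩
    rw [Subgroup.mem_bot]
    refine Subtype.ext (hCL _ hxW fun l hl => ?_)
    exact congrArg Subtype.val (Subgroup.commute_of_normal_of_disjoint _ _ hOn hLn (disjoint_iff.2 hO)
      x ⟨l, hLH hl⟩ hxO hl).eq
  have hno : ¬ Cfsg.IsSidkiPair (W.subgroupOf (W ⊔ L)) := fun h => hmin _ _ hcard hea hne h hinf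
  rw [Cfsg.IsSidkiPair] at hno
  push Not at hno
  obtain ⟨h, v, hv, hodd, hinv, hcen⟩ := hno
  obtain ⟨w, hw, l, hl, hwl⟩ : ∃ w ∈ W, ∃ l ∈ L, w * l = (h : G) := by
    have := h.2
    rwa [← SetLike.mem_coe, Subgroup.coe_mul_of_left_le_normalizer_right _ _ hWL] at this
  have hsq : (h : G) ^ 2 ∈ L := by
    have h1 := (Subgroup.mem_normalizer_iff.1 (hWL hw) l).1 hl
    have h2 : w⁻¹ = w := inv_eq_of_mul_eq_one_left (pow_two w ▸ hW.2 w hw)
    rw [← hwl, pow_two, show w * l * (w * l) = (w * l * w⁻¹) * l by rw [h2]; group]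
    exact L.mul_mem h1 hl
  have hodd' : Odd (orderOf (h : G)) := by rwa [Subgroup.orderOf_coe]
  have hhL : (h : G) ∈ L := by
    obtain ⟨k, hk⟩ := hodd'
    have h1 : (h : G) = ((h : G) ^ 2) ^ (k + 1) := by
      rw [← pow_mul, show 2 * (k + 1) = orderOf (h : G) + 1 by omega, pow_succ, pow_orderOf_eq_one, one_mul]
    rw [h1]
    exact pow_mem hsq _
  refine ⟨v, hv, h, hhL, hodd', congrArg Subtype.val hinv, fun x hx hxh => ?_⟩
  by_contra hx1
  exact hcen ⟨x, hWH hx⟩ hx (fun e => hx1 (congrArg Subtype.val e)) (Subtype.ext hxh)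

theorem inv_mem_eq {V : Subgroup G} (hV : Cfsg.IsElementaryAbelian 2 V) {v : G} (hv : v ∈ V) : v⁻¹ = v :=
  inv_eq_of_mul_eq_one_left (pow_two v ▸ hV.2 v hv)

variable {V : Subgroup G}

theorem pCore_bot (hmin : MinG G) (hV : Cfsg.IsElementaryAbelian 2 V) (hV1 : V ≠ ⊥) (hS : Cfsg.IsSidkiPair V)
    (hVO : V ⊓ Cfsg.pCore 2 G = ⊥) : Cfsg.pCore 2 G = ⊥ := by
  haveI : Fact (Nat.Prime 2) := ⟨Nat.prime_two⟩
  haveI : (Cfsg.pCore 2 G).Normal := inferInstance
  by_contra hne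
  set O := Cfsg.pCore 2 G
  have hlt : Nat.card (G ⧸ O) < Nat.card G := by
    have h := O.index_mul_card
    have h1 : 1 < Nat.card O := O.one_lt_card_iff_ne_bot.2 hne
    rw [← h, ← Subgroup.index_eq_card]
    exact lt_mul_of_one_lt_right (Nat.pos_of_ne_zero Subgroup.index_ne_zero_of_finite) h1
  refine hmin _ (V.map (QuotientGroup.mk' O)) hlt (ea_mk ?_ ?_) ?_ (Cfsg.Lib.PLocal.LocalMisc2.sidki_quotient V O hV hS hVO) ?_
  · rintro _ ⟨a, ha, rfl⟩ _ ⟨b, hb, rfl⟩
    rw [← map_mul, ← map_mul, ea_comm hV ha hb]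
  · rintro _ ⟨a, ha, rfl⟩
    rw [← map_pow, hV.2 a ha, map_one]
  · rw [Ne, Subgroup.map_eq_bot_iff, QuotientGroup.ker_mk']
    exact fun h => hV1 (eq_bot_iff.2 ((le_inf le_rfl h).trans hVO.le))
  · rw [Cfsg.Lib.Inverted.pCore_quotient_pCore_eq_bot, inf_bot_eq]

theorem no_two (hO : Cfsg.pCore 2 G = ⊥) (K : Subgroup G) [K.Normal] (O : Subgroup G) (hOK : O ≤ K)
    (hp : IsPGroup 2 O) (hn : K ≤ Subgroup.normalizer (O : Set G)) : O = ⊥ := by
  haveI : Fact (Nat.Prime 2) := ⟨Nat.prime_two⟩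
  haveI : (O.subgroupOf K).Normal := Subgroup.normal_subgroupOf_of_le_normalizer hn
  have h1 := Cfsg.Lib.Solv.le_pCore (N := O.subgroupOf K) inferInstance hp.comap_subtype
  have h2 := Subgroup.map_mono (f := K.subtype) h1
  rw [Cfsg.Lib.Solv.map_pCore_subgroup, hO, bot_inf_eq, Subgroup.subgroupOf_map_subtype, inf_eq_left.2 hOK] at h2
  exact le_bot_iff.1 h2

theorem not_le_centralizer (hmin : MinG G) (hV : Cfsg.IsElementaryAbelian 2 V) (hS : Cfsg.IsSidkiPair V)
    (hV1 : V ≠ ⊥) (hO : Cfsg.pCore 2 G = ⊥) (K : Subgroup G) [K.Normal] (hK : K ≠ ⊥) :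
    ¬ V ≤ Subgroup.centralizer (K : Set G) := by
  haveI : Fact (Nat.Prime 2) := ⟨Nat.prime_two⟩
  intro hle
  set C := Subgroup.centralizer (K : Set G)
  by_cases hC : C = ⊤
  · -- `K` is central
    have hcen : K ≤ Subgroup.center G := fun k hk => Subgroup.mem_center_iff.2 fun g =>
      (Subgroup.mem_centralizer_iff.1 (show g ∈ C by rw [hC]; exact Subgroup.mem_top g) k hk).symm
    have hVK : V ⊓ K = ⊥ := by
      haveI : (V ⊓ K).Normal := ⟨fun a ha g => by
        rw [Subgroup.mem_center_iff.1 (hcen ha.2) g, mul_inv_cancel_right]; exact ha⟩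
      refine le_bot_iff.1 ((Cfsg.Lib.Solv.le_pCore inferInstance ?_).trans hO.le)
      exact fun a => ⟨1, Subtype.ext (by simpa using hV.2 (a : G) a.2.1)⟩
    have hlt : Nat.card (G ⧸ K) < Nat.card G := by
      have h1 : 1 < Nat.card K := K.one_lt_card_iff_ne_bot.2 hK
      rw [← K.index_mul_card, ← Subgroup.index_eq_card]
      exact lt_mul_of_one_lt_right (Nat.pos_of_ne_zero Subgroup.index_ne_zero_of_finite) h1
    refine hmin _ (V.map (QuotientGroup.mk' K)) hlt (ea_mk ?_ ?_) ?_ (Cfsg.Lib.PLocal.LocalMisc2.sidki_quotient V K hV hS hVK) ?_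
    · rintro _ ⟨a, ha, rfl⟩ _ ⟨b, hb, rfl⟩
      rw [← map_mul, ← map_mul, ea_comm hV ha hb]
    · rintro _ ⟨a, ha, rfl⟩
      rw [← map_pow, hV.2 a ha, map_one]
    · rw [Ne, Subgroup.map_eq_bot_iff, QuotientGroup.ker_mk']
      exact fun h => hV1 (eq_bot_iff.2 ((le_inf le_rfl h).trans hVK.le))
    set N := (Cfsg.pCore 2 (G ⧸ K)).comap (QuotientGroup.mk' K) with hN
    haveI : N.Normal := Subgroup.Normal.comap inferInstance _
    haveI : Group.IsNilpotent (Cfsg.pCore 2 (G ⧸ K)) := (Cfsg.Lib.Solv.isPGroup_pCore 2).isNilpotent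
    haveI : Group.IsNilpotent N := by
      refine Subgroup.isNilpotent_of_ker_le_center ((QuotientGroup.mk' K).subgroupComap (Cfsg.pCore 2 (G ⧸ K))) ?_
      intro x hx
      have hxK : (x : G) ∈ K := by
        rw [← QuotientGroup.ker_mk' K]
        exact congrArg Subtype.val (MonoidHom.mem_ker.1 hx)
      exact Subgroup.mem_center_iff.2 fun g => Subtype.ext (Subgroup.mem_center_iff.1 (hcen hxK) g)
    obtain ⟨P⟩ : Nonempty (Sylow 2 N) := inferInstance
    haveI : (P : Subgroup N).Normal := Sylow.normal_of_normalizerCondition Group.normalizerCondition_of_isNilpotent P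
    have h0 : Cfsg.pCore 2 N = ⊥ := by
      rw [← Subgroup.map_eq_bot_iff_of_injective _ N.subtype_injective, Cfsg.Lib.Solv.map_pCore_subgroup, hO, bot_inf_eq]
    rw [eq_bot_iff]
    rintro _ ⟨⟨a, ha, rfl⟩, haO⟩
    obtain ⟨Q, hQ⟩ := (show IsPGroup 2 (Subgroup.zpowers (⟨a, haO⟩ : N)) from fun ⟨b, hb⟩ => ⟨1, Subtype.ext (Subtype.ext (by
      obtain ⟨i, rfl⟩ := Subgroup.mem_zpowers_iff.1 hb
      simpa using hV.2 _ (V.zpow_mem ha i)))⟩).exists_le_sylow
    obtain rfl : Q = P := by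
      have := Sylow.unique_of_normal P inferInstance
      exact Subsingleton.elim Q P
    have h1 : (⟨a, haO⟩ : N) ∈ Cfsg.pCore 2 N :=
      Cfsg.Lib.Solv.le_pCore inferInstance Q.isPGroup' (hQ (Subgroup.mem_zpowers _))
    rw [h0, Subgroup.mem_bot] at h1
    have : a = 1 := congrArg Subtype.val h1
    subst this
    exact one_mem _
  · haveI : C.Normal := Subgroup.normal_centralizer
    have hea : Cfsg.IsElementaryAbelian 2 (V.subgroupOf C) :=
      (ea_mk (fun a ha b hb => Subtype.ext (ea_comm hV ha hb)) (fun a ha => Subtype.ext (by simpa using hV.2 _ ha)))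
    have hne : V.subgroupOf C ≠ ⊥ := fun h => hV1 (by
      rw [← Subgroup.map_subgroupOf_eq_of_le hle, h, Subgroup.map_bot])
    have hsid : Cfsg.IsSidkiPair (V.subgroupOf C) := fun h v hv ho hi => by
      obtain ⟨x, hx, hx1, hxh⟩ := hS h v hv (by rwa [Subgroup.orderOf_coe]) (congrArg Subtype.val hi)
      exact ⟨⟨x, hle hx⟩, hx, fun e => hx1 (congrArg Subtype.val e), Subtype.ext hxh⟩
    refine hmin _ (V.subgroupOf C) (lt_of_le_of_ne (Subgroup.card_le_card_group _) fun h => hC (Subgroup.eq_top_of_card_eq _ h))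
      hea hne hsid ?_
    have h0 : Cfsg.pCore 2 C = ⊥ := by
      rw [← Subgroup.map_eq_bot_iff_of_injective _ C.subtype_injective, Cfsg.Lib.Solv.map_pCore_subgroup, hO, bot_inf_eq]
    rw [h0, inf_bot_eq]

theorem sup_eq_top_of_normal (hmin : MinG G) (hV : Cfsg.IsElementaryAbelian 2 V) (hS : Cfsg.IsSidkiPair V)
    (hV1 : V ≠ ⊥) (hO : Cfsg.pCore 2 G = ⊥)
    (hminV : ∀ W : Subgroup G, Nat.card W < Nat.card V → Cfsg.IsElementaryAbelian 2 W → W ≠ ⊥ → Cfsg.IsSidkiPair W →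
      W ⊓ Cfsg.pCore 2 G ≠ ⊥) (K : Subgroup G) [K.Normal] : K ≠ ⊥ → V ⊔ K = ⊤ := by
  intro hK
  by_contra hne
  have hnorm : ∀ S : Subgroup G, S ≤ Subgroup.normalizer (K : Set G) := fun S => by
    rw [Subgroup.normalizer_eq_top]; exact le_top
  set V1 := V ⊓ Subgroup.centralizer (K : Set G) with hV1def
  obtain ⟨w, hw, hw1⟩ : ∃ w ∈ V1, w ≠ 1 := by
    by_contra hno
    push Not at hno
    obtain ⟨u, hu, z, hz, hzo, hzi, hzc⟩ := fail hmin hV hV1 (hnorm V) (no_two hO K)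
      (fun x hx hxl => hno x ⟨hx, Subgroup.mem_centralizer_iff.2 fun l hl => (hxl l hl).symm⟩) hne
    obtain ⟨x, hx, hx1, hxz⟩ := hS z u hu hzo hzi
    exact hx1 (hzc x hx hxz)
  have hlt : V1 ≠ V := fun h => not_le_centralizer hmin hV hS hV1 hO K hK (h.ge.trans inf_le_right)
  have hcard : Nat.card V1 < Nat.card V :=
    lt_of_le_of_ne (Subgroup.card_le_of_le inf_le_left) fun e => hlt (Subgroup.eq_of_le_of_card_ge inf_le_left e.ge)
  have hnS : ¬ Cfsg.IsSidkiPair V1 := fun h => hminV V1 hcard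
    (ea_mk (fun a ha b hb => ea_comm hV ha.1 hb.1) (fun a ha => hV.2 a ha.1))
    (fun e => hw1 (by rwa [e, Subgroup.mem_bot] at hw)) h (by rw [hO, inf_bot_eq])
  rw [Cfsg.IsSidkiPair] at hnS
  push Not at hnS
  obtain ⟨h, v, hv, hho, hhi, hhc⟩ := hnS
  set X := V ⊓ Subgroup.centralizer ({h} : Set G) with hX
  obtain ⟨x, hx, hx1, hxh⟩ := hS h v hv.1 hho hhi
  have hX1 : X ≠ ⊥ := fun e => hx1 (by
    have : x ∈ X := ⟨hx, Subgroup.mem_centralizer_singleton_iff.2 hxh⟩
    rwa [e, Subgroup.mem_bot] at this)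
  obtain ⟨u, hu, z, hz, hzo, hzi, hzc⟩ := fail hmin (W := X) (L := K)
    (ea_mk (fun a ha b hb => ea_comm hV ha.1 hb.1) (fun a ha => hV.2 a ha.1)) hX1 (hnorm X) (no_two hO K)
    (fun y hy hyl => by
      by_contra hy1
      exact hhc y ⟨hy.1, Subgroup.mem_centralizer_iff.2 fun l hl => (hyl l hl).symm⟩ hy1
        (Subgroup.mem_centralizer_singleton_iff.1 hy.2))
    (fun e => hne (top_le_iff.1 (e ▸ sup_le_sup_right inf_le_left K)))
  have hvK : ∀ k ∈ K, v * k * v⁻¹ = k := fun k hk => by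
    rw [← Subgroup.mem_centralizer_iff.1 hv.2 k hk, mul_inv_cancel_right]
  have hhK : ∀ k ∈ K, h * k = k * h := fun k hk => by
    refine Cfsg.Lib.PLocal.SidkiFour.commute_of_sq hho ?_
    have e : h * k * h⁻¹ = h⁻¹ * k * h := by
      calc h * k * h⁻¹ = v * (h * k * h⁻¹) * v⁻¹ := (hvK _ (Subgroup.Normal.conj_mem inferInstance k hk h)).symm
        _ = (v * h * v⁻¹) * (v * k * v⁻¹) * (v * h * v⁻¹)⁻¹ := by group
        _ = h⁻¹ * k * h := by rw [hhi, hvK k hk, inv_inv]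
    calc h ^ 2 * k = h * (h * k * h⁻¹) * h := by rw [pow_two]; group
      _ = h * (h⁻¹ * k * h) * h := by rw [e]
      _ = k * h ^ 2 := by rw [pow_two]; group
  have huh : u * h * u⁻¹ = h := by
    rw [Subgroup.mem_centralizer_singleton_iff.1 hu.2, mul_inv_cancel_right]
  have hqi : (v * u) * (h * z) * (v * u)⁻¹ = (h * z)⁻¹ := by
    calc (v * u) * (h * z) * (v * u)⁻¹ = v * ((u * h * u⁻¹) * (u * z * u⁻¹)) * v⁻¹ := by group
      _ = (v * h * v⁻¹) * (v * z⁻¹ * v⁻¹) := by rw [huh, hzi]; group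
      _ = h⁻¹ * z⁻¹ := by rw [hhi, hvK _ (inv_mem hz)]
      _ = (h * z)⁻¹ := by rw [← mul_inv_rev, hhK z hz]
  have hqo : Odd (orderOf (h * z)) :=
    (hho.mul hzo).of_dvd_nat (Commute.orderOf_mul_dvd_mul_orderOf (hhK z hz))
  obtain ⟨y, hy, hy1, hyq⟩ := hS _ (v * u) (V.mul_mem hv.1 hu.1) hqo hqi
  set h' := y * h * y⁻¹ with hh'
  set z' := y * z * y⁻¹ with hz'
  set d := z * z'⁻¹ with hd
  have hdK : d ∈ K := mul_mem hz (inv_mem (Subgroup.Normal.conj_mem inferInstance z hz y))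
  have he : h' * z' = h * z := by
    calc h' * z' = y * (h * z) * y⁻¹ := by rw [hh', hz']; group
      _ = h * z := by rw [hyq, mul_inv_cancel_right]
  have hh'd : h' = h * d := by
    rw [hd, ← mul_assoc, ← he, mul_inv_cancel_right]
  have hvy : v * y = y * v := ea_comm hV hv.1 hy
  have hvh' : v * h' * v⁻¹ = h'⁻¹ := by
    calc v * h' * v⁻¹ = (v * y) * h * (v * y)⁻¹ := by rw [hh']; group
      _ = y * (v * h * v⁻¹) * y⁻¹ := by rw [hvy]; group
      _ = h'⁻¹ := by rw [hhi, hh']; group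
  have hd1 : d = 1 := by
    have e1 : d = d⁻¹ := by
      have e : h⁻¹ * d = d⁻¹ * h⁻¹ := by
        calc h⁻¹ * d = (v * h * v⁻¹) * (v * d * v⁻¹) := by rw [hhi, hvK d hdK]
          _ = v * h' * v⁻¹ := by rw [hh'd]; group
          _ = d⁻¹ * h⁻¹ := by rw [hvh', hh'd, mul_inv_rev]
      rw [show h⁻¹ * d = d * h⁻¹ from ((show Commute h d from hhK d hdK).inv_left).eq] at e
      exact mul_right_cancel e
    refine Cfsg.Lib.PLocal.SidkiFour.eq_one_of_eq_inv ?_ e1
    have hc : Commute h⁻¹ h' := by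
      rw [hh'd]
      exact ((Commute.refl h).mul_right (hhK d hdK)).inv_left
    rw [show d = h⁻¹ * h' by rw [hh'd]; group]
    refine (Odd.mul ?_ ?_).of_dvd_nat hc.orderOf_mul_dvd_mul_orderOf
    · rwa [orderOf_inv]
    · rw [hh']; exact Cfsg.Lib.PLocal.SidkiFour.odd_orderOf_conj hho y
  rw [hd1, mul_one] at hh'd
  have hyh : y * h = h * y := mul_inv_eq_iff_eq_mul.1 (hh'.symm.trans hh'd)
  have hzz : z' = z := mul_left_cancel (hh'd ▸ he)
  exact hy1 (hzc y ⟨hy, Subgroup.mem_centralizer_singleton_iff.2 hyh⟩ (mul_inv_eq_iff_eq_mul.1 (hz'.symm.trans hzz)))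

/-- The generalized Fitting subgroup of a minimal counterexample. -/
theorem main (hmin : MinG G) (hV : Cfsg.IsElementaryAbelian 2 V) (hV1 : V ≠ ⊥) (hS : Cfsg.IsSidkiPair V)
    (hVO : V ⊓ Cfsg.pCore 2 G = ⊥)
    (hminV : ∀ W : Subgroup G, Nat.card W < Nat.card V → Cfsg.IsElementaryAbelian 2 W → W ≠ ⊥ → Cfsg.IsSidkiPair W →
      W ⊓ Cfsg.pCore 2 G ≠ ⊥) :
    IsSimpleGroup ↥(Cfsg.generalizedFittingSubgroup G) ∧ ¬ IsMulCommutative ↥(Cfsg.generalizedFittingSubgroup G) ∧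
      V ⊔ Cfsg.generalizedFittingSubgroup G = ⊤ := by
  classical
  haveI : Fact (Nat.Prime 2) := ⟨Nat.prime_two⟩
  have hO := pCore_bot hmin hV hV1 hS hVO
  haveI : Nontrivial G := by
    by_contra h
    rw [not_nontrivial_iff_subsingleton] at h
    exact hV1 (Subsingleton.elim _ _)
  have htop : ∀ K : Subgroup G, K.Normal → K ≠ ⊥ → V ⊔ K = ⊤ := fun K hK hK1 =>
    haveI := hK
    sup_eq_top_of_normal hmin hV hS hV1 hO hminV K hK1
  haveI : Nonempty {K : Subgroup G // K.Normal ∧ K ≠ ⊥} := ⟨⟨⊤, inferInstance, top_ne_bot⟩⟩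
  obtain ⟨⟨K, hKn, hK1⟩, hKmin⟩ := Finite.exists_min (fun K : {K : Subgroup G // K.Normal ∧ K ≠ ⊥} => Nat.card K.1)
  have hVK := htop K hKn hK1
  have hminK : ∀ N : Subgroup G, N.Normal → N ≤ K → N ≠ ⊥ → N = K := fun N hN hle hN1 =>
    Subgroup.eq_of_le_of_card_ge hle (hKmin ⟨N, hN, hN1⟩)
  have hgen : ∀ N : Subgroup G, V ≤ Subgroup.normalizer (N : Set G) → K ≤ Subgroup.normalizer (N : Set G) → N.Normal :=
    fun N h1 h2 => Subgroup.normalizer_eq_top_iff.1 (top_le_iff.1 (hVK ▸ sup_le h1 h2))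
  have hcentral : ∀ y ∈ V, (∀ k ∈ K, y * k = k * y) → y = 1 := by
    intro y hy hc
    have hcen : y ∈ Subgroup.center G := by
      have h : (⊤ : Subgroup G) ≤ Subgroup.centralizer ({y} : Set G) := by
        rw [← hVK]
        exact sup_le (fun a ha => Subgroup.mem_centralizer_singleton_iff.2 (ea_comm hV ha hy))
          fun a ha => Subgroup.mem_centralizer_singleton_iff.2 (hc a ha).symm
      exact Subgroup.mem_center_iff.2 fun g => Subgroup.mem_centralizer_singleton_iff.1 (h (Subgroup.mem_top g))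
    haveI : (Subgroup.zpowers y).Normal := ⟨fun a ha g => by
      rw [Subgroup.mem_center_iff.1 (Subgroup.zpowers_le.2 hcen ha) g, mul_inv_cancel_right]; exact ha⟩
    have hp : IsPGroup 2 (Subgroup.zpowers y) := fun ⟨a, ha⟩ => ⟨1, Subtype.ext (by
      simpa using hV.2 a (Subgroup.zpowers_le.2 hy ha))⟩
    have h2 := (Cfsg.Lib.Solv.le_pCore inferInstance hp).trans hO.le
    exact Subgroup.mem_bot.1 (h2 (Subgroup.mem_zpowers y))
  obtain ⟨v, hv, hv1⟩ := (V.ne_bot_iff_exists_ne_one).1 hV1 |> fun ⟨a, ha⟩ => (⟨a.1, a.2, fun e => ha (Subtype.ext e)⟩ : ∃ v ∈ V, v ≠ 1)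
  -- `K` is not abelian
  have hnab : ¬ ∀ a ∈ K, ∀ b ∈ K, a * b = b * a := by
    intro hab
    have hfix : ∀ y ∈ V, y ≠ 1 → ∀ k ∈ K, y * k = k * y → k = 1 := by
      intro y hy hy1 k hk hyk
      have hn : (K ⊓ Subgroup.centralizer ({y} : Set G)).Normal := by
        refine hgen _ (fun a ha => mem_normalizer_of_cj_le ?_) (fun a ha => mem_normalizer_of_cj_le ?_)
        · rintro _ ⟨b, ⟨hb, hb'⟩, rfl⟩
          refine ⟨hKn.conj_mem b hb a, Subgroup.mem_centralizer_singleton_iff.2 ?_⟩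
          have h1 : Commute a y := ea_comm hV ha hy
          have h2 : Commute b y := Subgroup.mem_centralizer_singleton_iff.1 hb'
          exact ((h1.mul_left h2).mul_left h1.inv_left).eq
        · rintro _ ⟨b, ⟨hb, hb'⟩, rfl⟩
          show a * b * a⁻¹ ∈ _
          rw [hab a ha b hb, mul_inv_cancel_right]
          exact ⟨hb, hb'⟩
      by_contra hk1
      have heq := hminK _ hn inf_le_left (fun e => hk1 (by
        have : k ∈ K ⊓ Subgroup.centralizer ({y} : Set G) := ⟨hk, Subgroup.mem_centralizer_singleton_iff.2 hyk.symm⟩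
        rwa [e, Subgroup.mem_bot] at this))
      exact hy1 (hcentral y hy fun b hb => (Subgroup.mem_centralizer_singleton_iff.1 ((heq.symm ▸ hb : b ∈ K ⊓ _).2)).symm)
    obtain ⟨k, hk⟩ := (K.ne_bot_iff_exists_ne_one).1 hK1
    have hinv : v * k * v⁻¹ = (k : G)⁻¹ := by
      have h1 := hKn.conj_mem _ k.2 v
      refine eq_inv_of_mul_eq_one_right (hfix v hv hv1 _ (K.mul_mem k.2 h1) ?_)
      have hvv := inv_mem_eq hV hv
      calc v * ((k : G) * (v * k * v⁻¹)) = (v * k * v⁻¹) * ((v * v) * k) * v⁻¹ := by group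
        _ = (v * k * v⁻¹) * k * v := by rw [← pow_two, hV.2 v hv, one_mul, hvv]
        _ = ((k : G) * (v * k * v⁻¹)) * v := by rw [hab _ h1 _ k.2]
    have hodd : Odd (orderOf (k : G)) := by
      by_contra h
      rw [Nat.not_odd_iff_even, even_iff_two_dvd] at h
      set j := (k : G) ^ (orderOf (k : G) / 2)
      have hj : orderOf j = 2 := orderOf_pow_orderOf_div (orderOf_pos _).ne' h
      have hji : v * j * v⁻¹ = j := by
        rw [← conj_pow, hinv, inv_pow]
        exact inv_eq_of_mul_eq_one_left (by rw [← pow_two, ← hj, pow_orderOf_eq_one])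
      have := hfix v hv hv1 j (pow_mem k.2 _) (mul_inv_eq_iff_eq_mul.1 hji)
      rw [this, orderOf_one] at hj
      omega
    obtain ⟨w, hw, hw1, hwk⟩ := hS _ v hv hodd hinv
    exact hk (Subtype.ext (hfix w hw hw1 _ k.2 hwk))
  have hZ : ∀ a ∈ K, (∀ b ∈ K, a * b = b * a) → a = 1 := by
    intro a ha hac
    by_contra ha1
    have hn : (K ⊓ Subgroup.centralizer (K : Set G)).Normal := inferInstance
    have hmem : a ∈ K ⊓ Subgroup.centralizer (K : Set G) := ⟨ha, Subgroup.mem_centralizer_iff.2 fun b hb => (hac b hb).symm⟩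
    have heq := hminK _ hn inf_le_left fun e => ha1 (by rwa [e, Subgroup.mem_bot] at hmem)
    exact hnab fun c hc b hb => (Subgroup.mem_centralizer_iff.1 ((heq.symm ▸ hc : c ∈ K ⊓ _).2) b hb).symm
  -- a minimal normal subgroup of `K`
  haveI : Nonempty {L : Subgroup G // L ≤ K ∧ K ≤ Subgroup.normalizer (L : Set G) ∧ L ≠ ⊥} :=
    ⟨⟨K, le_rfl, Subgroup.le_normalizer, hK1⟩⟩
  obtain ⟨⟨L, hLK, hLn, hL1⟩, hLmin⟩ := Finite.exists_min
    (fun L : {L : Subgroup G // L ≤ K ∧ K ≤ Subgroup.normalizer (L : Set G) ∧ L ≠ ⊥} => Nat.card L.1)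
  have hcjK : ∀ y : G, cj y L ≤ K := fun y => by
    rintro _ ⟨a, ha, rfl⟩
    exact hKn.conj_mem a (hLK ha) y
  have hcjn : ∀ y : G, K ≤ Subgroup.normalizer (cj y L : Set G) := fun y k hk => by
    refine mem_normalizer_of_cj_le ?_
    have e : y⁻¹ * k * y ∈ Subgroup.normalizer (L : Set G) := hLn (hKn.conj_mem' k hk y)
    rw [cj_cj, show k * y = y * (y⁻¹ * k * y) by group, ← cj_cj, cj_eq_iff_mem_normalizer.2 e]
  have hdisj : ∀ y : G, cj y L ≠ L → ∀ a ∈ L, a ∈ cj y L → a = 1 := by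
    intro y hne a ha ha'
    by_contra ha1
    have h := hLmin ⟨L ⊓ cj y L, inf_le_left.trans hLK, fun k hk => mem_normalizer_of_cj_le (le_inf
      ((cj_le_cj k inf_le_left).trans (cj_eq_iff_mem_normalizer.2 (hLn hk)).le)
      ((cj_le_cj k inf_le_right).trans (cj_eq_iff_mem_normalizer.2 (hcjn y hk)).le)), fun e => ha1 (by
        have : a ∈ L ⊓ cj y L := ⟨ha, ha'⟩
        rwa [e, Subgroup.mem_bot] at this)⟩
    have h1 : L ≤ cj y L := inf_eq_left.1 (Subgroup.eq_of_le_of_card_ge inf_le_left h)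
    exact hne (Subgroup.eq_of_le_of_card_ge h1 (Subgroup.card_map_of_injective (MulAut.conj y).injective).le).symm
  have hcomm : ∀ y : G, cj y L ≠ L → ∀ a ∈ L, ∀ b ∈ cj y L, a * b = b * a := by
    intro y hne a ha b hb
    have h1 : a * b * a⁻¹ * b⁻¹ ∈ cj y L :=
      mul_mem ((Subgroup.mem_normalizer_iff.1 (hcjn y (hLK ha)) b).1 hb) (inv_mem hb)
    have h2 : a * b * a⁻¹ * b⁻¹ ∈ L := by
      rw [show a * b * a⁻¹ * b⁻¹ = a * (b * a⁻¹ * b⁻¹) by group]
      exact mul_mem ha ((Subgroup.mem_normalizer_iff.1 (hLn (hcjK y hb)) a⁻¹).1 (inv_mem ha))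
    have := hdisj y hne _ h2 h1
    rwa [mul_inv_eq_one, mul_inv_eq_iff_eq_mul] at this
  have hcj2 : ∀ y z : G, cj y L ≠ cj z L → ∀ a ∈ cj y L, ∀ b ∈ cj z L, a * b = b * a := by
    intro y z hne a ha b hb
    have hne' : cj (y⁻¹ * z) L ≠ L := fun e => hne (by rw [← congrArg (cj y) e, cj_cj, mul_inv_cancel_left])
    have := hcomm _ hne' _ (mem_cj.1 ha) (y⁻¹ * b * y) (by
      rw [← cj_cj, mem_cj, inv_inv, show y * (y⁻¹ * b * y) * y⁻¹ = b by group]; exact hb)
    calc a * b = y * ((y⁻¹ * a * y) * (y⁻¹ * b * y)) * y⁻¹ := by group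
      _ = y * ((y⁻¹ * b * y) * (y⁻¹ * a * y)) * y⁻¹ := by rw [this]
      _ = b * a := by group
  -- `K` is generated by the conjugates under `V`
  have hspan : K ≤ ⨆ y : V, cj (y : G) L := by
    have hle : (⨆ y : V, cj (y : G) L) ≤ K := iSup_le fun y => hcjK y
    refine (hminK _ (hgen _ (fun a ha => mem_normalizer_of_cj_le ?_) (fun k hk => mem_normalizer_of_cj_le ?_)) hle ?_).ge
    · rw [show cj a (⨆ y : V, cj (y : G) L) = ⨆ y : V, cj a (cj (y : G) L) from Subgroup.map_iSup _ _]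
      exact iSup_le fun y => by rw [cj_cj]; exact le_iSup (fun y : V => cj (y : G) L) (⟨a, ha⟩ * y)
    · rw [show cj k (⨆ y : V, cj (y : G) L) = ⨆ y : V, cj k (cj (y : G) L) from Subgroup.map_iSup _ _]
      exact iSup_le fun y => (cj_eq_iff_mem_normalizer.2 (hcjn y hk)).le.trans (le_iSup (fun y : V => cj (y : G) L) y)
    · intro e
      have := le_iSup (fun y : V => cj (y : G) L) 1
      rw [e, OneMemClass.coe_one, cj_one] at this
      exact hL1 (le_bot_iff.1 this)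
  have hZL : ∀ a ∈ L, (∀ b ∈ L, a * b = b * a) → a = 1 := by
    intro a ha hac
    refine hZ a (hLK ha) fun b hb => ?_
    have h : (⨆ y : V, cj (y : G) L) ≤ Subgroup.centralizer ({a} : Set G) := iSup_le fun y c hc => by
      refine Subgroup.mem_centralizer_singleton_iff.2 ?_
      by_cases e : cj (y : G) L = L
      · exact (hac c (e ▸ hc)).symm
      · exact (hcomm y e a ha c hc).symm
    exact (Subgroup.mem_centralizer_singleton_iff.1 (h (hspan hb))).symm
  have hLtwo : ∀ O : Subgroup G, O ≤ L → IsPGroup 2 O → L ≤ Subgroup.normalizer (O : Set G) → O = ⊥ := by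
    haveI : Fact (Nat.Prime 2) := ⟨Nat.prime_two⟩
    intro O hOL hOp hOn
    -- the 2-core of `L` is normal in `K`
    haveI : (O.subgroupOf L).Normal := Subgroup.normal_subgroupOf_of_le_normalizer hOn
    have h1 := Cfsg.Lib.Solv.le_pCore (N := O.subgroupOf L) inferInstance hOp.comap_subtype
    have h2 : (Cfsg.pCore 2 L).map L.subtype = ⊥ := by
      refine no_two hO K _ ((Subgroup.map_subtype_le _).trans hLK) ((Cfsg.Lib.Solv.isPGroup_pCore 2).map _)
        fun k hk => mem_normalizer_of_cj_le ?_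
      haveI : (L.subgroupOf K).Normal := Subgroup.normal_subgroupOf_of_le_normalizer hLn
      rintro _ ⟨_, ⟨c, hc, rfl⟩, rfl⟩
      let f : ↥L →* ↥L :=
        { toFun := fun c => ⟨k * c * k⁻¹, (Subgroup.mem_normalizer_iff.1 (hLn hk) c).1 c.2⟩
          map_one' := Subtype.ext (by simp)
          map_mul' := fun a b => Subtype.ext (by simp [mul_assoc]) }
      have hf : Function.Surjective f := Finite.surjective_of_injective fun a b e =>
        Subtype.ext (mul_left_cancel (mul_right_cancel (congrArg Subtype.val e : k * a * k⁻¹ = k * b * k⁻¹)))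
      exact ⟨f c, Cfsg.Lib.Solv.map_pCore_le 2 hf ⟨c, hc, rfl⟩, rfl⟩
    have := Subgroup.map_mono (f := L.subtype) h1
    rw [h2, Subgroup.subgroupOf_map_subtype, inf_eq_left.2 hOL] at this
    exact le_bot_iff.1 this
  have hLK' : L = K := by
    by_contra hLne
    set N := V ⊓ Subgroup.normalizer (L : Set G)
    obtain ⟨y₀, hy₀, hy₀N⟩ : ∃ y ∈ V, y ∉ Subgroup.normalizer (L : Set G) := by
      by_contra h
      push Not at h
      exact hLne (hminK L (hgen L h hLn) hLK hL1)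
    have hy₀ne : cj y₀ L ≠ L := fun e => hy₀N (cj_eq_iff_mem_normalizer.1 e)
    by_cases hN : N = ⊥
    · -- regular orbit
      obtain ⟨q, hq, hqd, hq2⟩ : ∃ q, q.Prime ∧ q ∣ Nat.card L ∧ q ≠ 2 := by
        by_contra h
        push Not at h
        have hp : IsPGroup 2 L := IsPGroup.of_card (n := (Nat.card L).primeFactorsList.length)
          (Nat.eq_prime_pow_of_unique_prime_dvd Nat.card_pos.ne' fun {d} hd hdd => h d hd hdd)
        exact hL1 (hLtwo L le_rfl hp Subgroup.le_normalizer)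
      haveI := Fact.mk hq
      obtain ⟨z, hz⟩ := exists_prime_orderOf_dvd_card' q hqd
      set z' := y₀ * (z : G)⁻¹ * y₀⁻¹ with hz'
      have hz'm : z' ∈ cj y₀ L := ⟨_, inv_mem z.2, rfl⟩
      have hc : (z : G) * z' = z' * z := hcomm y₀ hy₀ne _ z.2 _ hz'm
      have hinv : y₀ * ((z : G) * z') * y₀⁻¹ = ((z : G) * z')⁻¹ := by
        have h2 : y₀ * y₀ = 1 := pow_two y₀ ▸ hV.2 y₀ hy₀
        calc y₀ * ((z : G) * z') * y₀⁻¹ = (y₀ * z * y₀⁻¹) * ((y₀ * y₀) * (z : G)⁻¹ * (y₀ * y₀)⁻¹) := by rw [hz']; group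
          _ = z'⁻¹ * (z : G)⁻¹ := by rw [h2, hz']; group
          _ = ((z : G) * z')⁻¹ := (mul_inv_rev _ _).symm
      have hqo : Odd q := hq.odd_of_ne_two hq2
      have hzo : orderOf (z : G) = q := by rw [Subgroup.orderOf_coe, hz]
      have hodd : Odd (orderOf ((z : G) * z')) := by
        refine (Odd.mul ?_ ?_).of_dvd_nat (show Commute (z : G) z' from hc).orderOf_mul_dvd_mul_orderOf
        · rwa [hzo]
        · refine Cfsg.Lib.PLocal.SidkiFour.odd_orderOf_conj ?_ y₀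
          rwa [orderOf_inv, hzo]
      obtain ⟨y, hy, hy1, hyh⟩ := hS _ y₀ hy₀ hodd hinv
      have hz1 : (z : G) ≠ 1 := fun e => hq.ne_one (by rw [← hzo, e, orderOf_one])
      obtain ⟨l, hl, hlz⟩ : ∃ l ∈ L, (z : G) * l ≠ l * z := by
        by_contra h
        push Not at h
        exact hz1 (hZL z z.2 h)
      have hl' : (z : G) * z' * l ≠ l * ((z : G) * z') := by
        intro e
        apply hlz
        have : l * z' = z' * l := hcomm y₀ hy₀ne l hl z' hz'm
        refine mul_right_cancel (b := z') ?_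
        calc (z : G) * l * z' = (z : G) * (l * z') := mul_assoc _ _ _
          _ = (z : G) * (z' * l) := by rw [this]
          _ = (z : G) * z' * l := (mul_assoc _ _ _).symm
          _ = l * ((z : G) * z') := e
          _ = l * z * z' := (mul_assoc _ _ _).symm
      have hnN : cj y L ≠ L := fun e => hy1 (by
        have : y ∈ N := ⟨hy, cj_eq_iff_mem_normalizer.1 e⟩
        rwa [hN, Subgroup.mem_bot] at this)
      by_cases he : cj y L = cj y₀ L
      · have hyy : y⁻¹ * y₀ ∈ N := ⟨V.mul_mem (V.inv_mem hy) hy₀, cj_eq_iff_mem_normalizer.1 (by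
          rw [← cj_cj, ← he, cj_cj, inv_mul_cancel, cj_one])⟩
        rw [hN, Subgroup.mem_bot, inv_mul_eq_one] at hyy
        subst hyy
        rw [hyh, mul_inv_cancel_right] at hinv
        have h1 := Cfsg.Lib.PLocal.SidkiFour.eq_one_of_eq_inv hodd hinv
        exact hz1 (hdisj y hy₀ne _ z.2 (by rw [mul_eq_one_iff_eq_inv.1 h1]; exact inv_mem hz'm))
      · apply hl'
        -- conjugate by `y`
        have h1 : y * z * y⁻¹ ∈ cj y L := ⟨z, z.2, rfl⟩
        have h2 : y * z' * y⁻¹ ∈ cj (y * y₀) L := by rw [← cj_cj]; exact ⟨z', hz'm, rfl⟩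
        have hne2 : cj (y * y₀) L ≠ cj 1 L := fun e => he (by
          rw [cj_one, ← cj_cj] at e
          have e2 := congrArg (cj y) e
          rw [cj_cj, ← pow_two, hV.2 y hy, cj_one] at e2
          exact e2.symm)
        have c1 : Commute (y * z * y⁻¹) l := (hcomm y hnN l hl _ h1).symm
        have c2 : Commute (y * z' * y⁻¹) l := hcj2 _ 1 hne2 _ h2 l (by rw [cj_one]; exact hl)
        have := (c1.mul_left c2).eq
        rwa [show y * z * y⁻¹ * (y * z' * y⁻¹) = y * ((z : G) * z') * y⁻¹ by group, hyh, mul_inv_cancel_right] at this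
    · obtain ⟨u, hu, z, hz, hzo, hzi, hzc⟩ := fail hmin (W := N) (L := L)
        (ea_mk (fun a ha b hb => ea_comm hV ha.1 hb.1) (fun a ha => hV.2 a ha.1)) hN inf_le_right hLtwo
        (fun n hn hnl => hcentral n hn.1 fun k hk => by
          have h : (⨆ y : V, cj (y : G) L) ≤ Subgroup.centralizer ({n} : Set G) := iSup_le fun y c hc => by
            obtain ⟨a, ha, rfl⟩ := hc
            refine Subgroup.mem_centralizer_singleton_iff.2 ?_
            have hny : Commute (y : G) n := ea_comm hV y.2 hn.1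
            exact ((hny.mul_left (show Commute a n from (hnl a ha).symm)).mul_left hny.inv_left).eq
          exact (Subgroup.mem_centralizer_singleton_iff.1 (h (hspan hk))).symm)
        (fun e => hLne (hminK L (Subgroup.normalizer_eq_top_iff.1 (top_le_iff.1 (e ▸ sup_le inf_le_right Subgroup.le_normalizer))) hLK hL1))
      obtain ⟨y, hy, hy1, hyz⟩ := hS z u hu.1 hzo hzi
      refine hy1 (hzc y ⟨hy, ?_⟩ hyz)
      refine cj_eq_iff_mem_normalizer.1 ?_
      by_contra hne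
      have hz1 : z = 1 := hdisj y hne z hz ⟨z, hz, show y * z * y⁻¹ = z by rw [hyz, mul_inv_cancel_right]⟩
      obtain ⟨⟨n, hn⟩, hn1⟩ := (N.ne_bot_iff_exists_ne_one).1 hN
      exact hn1 (Subtype.ext (hzc n hn (by rw [hz1, mul_one, one_mul])))
  subst hLK'
  rename' L => K
  haveI hsimple : IsSimpleGroup K := by
    haveI : Nontrivial K := K.nontrivial_iff_ne_bot.2 hK1
    refine ⟨fun N hN => ?_⟩
    rcases eq_or_ne N ⊥ with h | h
    · exact Or.inl h
    · right
      have hN' : K ≤ Subgroup.normalizer (N.map K.subtype : Set G) := fun k hk => mem_normalizer_of_cj_le (by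
        rintro _ ⟨_, ⟨c, hc, rfl⟩, rfl⟩
        exact ⟨⟨k, hk⟩ * c * ⟨k, hk⟩⁻¹, hN.conj_mem c hc _, rfl⟩)
      have h2 := hLmin ⟨N.map K.subtype, Subgroup.map_subtype_le _, hN',
        fun e => h ((Subgroup.map_eq_bot_iff_of_injective _ K.subtype_injective).1 e)⟩
      have h3 := Subgroup.eq_of_le_of_card_ge (Subgroup.map_subtype_le N) h2
      exact Subgroup.map_injective K.subtype_injective (h3.trans (by rw [← MonoidHom.range_eq_map, Subgroup.range_subtype]))
  have hC : Subgroup.centralizer (K : Set G) = ⊥ := by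
    haveI := hKn
    by_contra hC1
    have hdis : K ⊓ Subgroup.centralizer (K : Set G) = ⊥ := eq_bot_iff.2 fun a ha =>
      Subgroup.mem_bot.2 (hZ a ha.1 fun b hb => (Subgroup.mem_centralizer_iff.1 ha.2 b hb).symm)
    have hVC := htop _ (inferInstance : (Subgroup.centralizer (K : Set G)).Normal) hC1
    apply hnab
    have hsq : ∀ a ∈ K, a ^ 2 = 1 := by
      intro a ha
      obtain ⟨x, hx, c, hc, e⟩ := Subgroup.mem_sup_of_normal_right.1 (hVC ▸ Subgroup.mem_top a : a ∈ V ⊔ Subgroup.centralizer (K : Set G))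
      have h2 : a ^ 2 ∈ Subgroup.centralizer (K : Set G) := by
        rw [pow_two, ← e, show x * c * (x * c) = (x * c * x⁻¹) * (x ^ 2) * c by rw [pow_two]; group, hV.2 x hx, mul_one]
        exact mul_mem (Subgroup.Normal.conj_mem inferInstance c hc x) hc
      have : a ^ 2 ∈ K ⊓ Subgroup.centralizer (K : Set G) := ⟨pow_mem ha 2, h2⟩
      rwa [hdis, Subgroup.mem_bot] at this
    intro a ha b hb
    have h1 : ∀ a ∈ K, a⁻¹ = a := fun a ha => inv_eq_of_mul_eq_one_left (pow_two a ▸ hsq a ha)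
    rw [← h1 _ (mul_mem ha hb), mul_inv_rev, h1 a ha, h1 b hb]
  have hFit : Cfsg.fittingSubgroup G = ⊥ := by
    haveI := hKn
    rw [eq_bot_iff, ← hC, ← Subgroup.commutator_eq_bot_iff_le_centralizer]
    have hsol := Cfsg.Lib.Comp.fitting_solvable (G := G)
    by_contra hne
    have hn : (⁅Cfsg.fittingSubgroup G, K⁆).Normal := inferInstance
    have h := hminK _ hn (Subgroup.commutator_le_right _ _) hne
    have hle : K ≤ Cfsg.fittingSubgroup G := h ▸ Subgroup.commutator_le_left _ _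
    haveI : Group.IsSolvable K := Group.isSolvable_of_isSolvable_injective (Subgroup.inclusion_injective hle)
    exact hnab fun a ha b hb => congrArg Subtype.val
      (IsSimpleGroup.comm_iff_isSolvable.2 ‹Group.IsSolvable K› (⟨a, ha⟩ : K) ⟨b, hb⟩)
  have hle : Cfsg.generalizedFittingSubgroup G ≤ K := by
    rw [Cfsg.generalizedFittingSubgroup, hFit, sup_bot_eq]
    refine Cfsg.Lib.Comp.layer_le_iff.2 fun X hX => ?_
    rcases Cfsg.Lib.Comp.component_subnormal hX hKn.isSubnormal with h | h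
    · exact h
    · exfalso
      exact Cfsg.Lib.Comp.component_ne_bot hX (le_bot_iff.1 (hC ▸ Subgroup.commutator_eq_bot_iff_le_centralizer.1 h))
  have heq : Cfsg.generalizedFittingSubgroup G = K :=
    hminK _ inferInstance hle (Cfsg.Lib.Comp.fstar_ne_bot (G := G))
  rw [heq]
  exact ⟨hsimple, fun h => hnab fun a ha b hb => congrArg Subtype.val (mul_comm' (⟨a, ha⟩ : K) ⟨b, hb⟩), hVK⟩

end Cfsg.Lib.PLocal.SidkiMinimal
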