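import Mathlib
import Cfsg.Prelude.Def_OddOrderLocal
import Cfsg.Agent.Lib.Solv.Cores
import Cfsg.Agent.Lib.Solv.PGroupBasic
import Cfsg.Agent.Lib.Solv.Coprime
import Cfsg.Agent.Lib.Solv.Coprime2
import Cfsg.Agent.Lib.ZStar.UniqueInvolution

/-!
A TI-subgroup which is a Hall subgroup of its normalizer, in a separable group.
-/

set_option autoImplicit false

namespace Cfsg.Lib.PLocal.TISub

open Subgroup Cfsg Cfsg.Lib
open scoped Pointwise

variable {G : Type*} [Group G] {H : Subgroup G}

theorem mem_normalizer_of_ti (hTI : IsTISubset (H : Set G)) {g x : G} (hx : x ∈ H) (hx1 : x ≠ 1)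
    (h : g * x * g⁻¹ ∈ H) : g ∈ normalizer (H : Set G) :=
  by_contra fun hg => hx1 (hTI g hg x hx h)

variable [Finite G]

theorem coprime_index (hTI : IsTISubset (H : Set G))
    (hHall : (Nat.card H).Coprime (H.subgroupOf (normalizer (H : Set G))).index) :
    (Nat.card H).Coprime H.index := by
  refine Nat.coprime_of_dvd fun p hp hpH hpI => ?_
  haveI := Fact.mk hp
  obtain ⟨P⟩ : Nonempty (Sylow p H) := inferInstance
  set P0 := (P : Subgroup H).map H.subtype
  have hc : Nat.card P0 = Nat.card (P : Subgroup H) := card_map_of_injective H.subtype_injective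
  have hP := P.card_eq_multiplicity
  set a := (Nat.card H).factorization p
  have hdvd : p ^ (a + 1) ∣ Nat.card G := by
    rw [← H.card_mul_index, pow_succ]
    exact Nat.mul_dvd_mul (Nat.ordProj_dvd _ _) hpI
  have h1 : p ^ (a + 1) ∣ Nat.card (normalizer (P0 : Set G)) :=
    Sylow.prime_pow_dvd_card_normalizer hdvd (hc.trans hP)
  have hle : normalizer (P0 : Set G) ≤ normalizer (H : Set G) := by
    intro g hg
    have hne : P0 ≠ ⊥ := fun e => by
      have h2 : p ∣ Nat.card (P : Subgroup H) := P.dvd_card_of_dvd_card hpH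
      rw [← hc, e, card_bot, Nat.dvd_one] at h2
      exact hp.ne_one h2
    obtain ⟨x, hx, hx1⟩ := P0.bot_or_exists_ne_one.resolve_left hne
    have hP0H : P0 ≤ H := map_subtype_le _
    exact mem_normalizer_of_ti hTI (hP0H hx) hx1 (hP0H ((mem_normalizer_iff.1 hg x).1 hx))
  have h2 := h1.trans (card_dvd_of_le hle)
  rw [← (H.subgroupOf (normalizer (H : Set G))).card_mul_index,
    Nat.card_congr (subgroupOfEquivOfLe le_normalizer).toEquiv] at h2
  have h3 : p ^ (a + 1) ∣ Nat.card H :=
    (Nat.Coprime.pow_left _ (hHall.coprime_dvd_left hpH)).dvd_of_dvd_mul_right h2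
  have := (Nat.Prime.pow_dvd_iff_le_factorization hp Nat.card_pos.ne').1 h3
  omega

theorem sup_normalizer_of_dvd (hTI : IsTISubset (H : Set G)) (hco : (Nat.card H).Coprime H.index)
    {M : Subgroup G} [M.Normal] {p : ℕ} [hp : Fact p.Prime] (hpM : p ∣ Nat.card M) (hpH : p ∣ Nat.card H) :
    M ⊔ normalizer (H : Set G) = ⊤ := by
  obtain ⟨R⟩ : Nonempty (Sylow p M) := inferInstance
  set R0 := (R : Subgroup M).map M.subtype
  obtain ⟨S, hS⟩ := (R.isPGroup'.map M.subtype).exists_le_sylow
  obtain ⟨P⟩ : Nonempty (Sylow p H) := inferInstance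
  obtain ⟨T, hT⟩ := (P.isPGroup'.map H.subtype).exists_le_sylow
  have hTH : (T : Subgroup G) ≤ H := by
    refine le_of_eq_of_le (eq_of_le_of_card_ge hT ?_).symm (map_subtype_le _)
    rw [T.card_eq_multiplicity, card_map_of_injective H.subtype_injective, P.card_eq_multiplicity, ← H.card_mul_index,
      Nat.factorization_mul Nat.card_pos.ne' index_ne_zero_of_finite, Finsupp.add_apply,
      Nat.factorization_eq_zero_of_not_dvd (fun h => hp.out.ne_one (Nat.dvd_one.1 (hco ▸ Nat.dvd_gcd hpH h))), add_zero]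
  obtain ⟨g, hg⟩ := MulAction.exists_smul_eq G S T
  have hSH : MulAut.conj g • (S : Subgroup G) ≤ H := by
    rw [← Sylow.pointwise_smul_def, ← Sylow.smul_def, hg]
    exact hTH
  have hR0 : ∃ x ∈ R0, x ≠ 1 := by
    refine R0.bot_or_exists_ne_one.resolve_left fun e => ?_
    have h2 : p ∣ Nat.card (R : Subgroup M) := R.dvd_card_of_dvd_card hpM
    have h3 : Nat.card R0 = Nat.card (R : Subgroup M) := card_map_of_injective M.subtype_injective
    rw [← h3, e, card_bot, Nat.dvd_one] at h2
    exact hp.out.ne_one h2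
  obtain ⟨x, hx, hx1⟩ := hR0
  have hmem : ∀ y ∈ R0, g * y * g⁻¹ ∈ H := fun y hy => by
    have := Subgroup.smul_mem_pointwise_smul y (MulAut.conj g) _ (hS hy)
    exact hSH this
  refine eq_top_iff.2 fun a _ => ?_
  have htop : normalizer (R0 : Set G) ⊔ M = ⊤ := Sylow.normalizer_sup_eq_top R
  obtain ⟨n, hn, m, hm, hnm⟩ := mem_sup_of_normal_right.1 (htop ▸ mem_top (g⁻¹ * a * g))
  have ha : a = g * n * g⁻¹ * (g * m * g⁻¹) := by
    rw [show g * n * g⁻¹ * (g * m * g⁻¹) = g * (n * m) * g⁻¹ by group, hnm]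
    group
  have h4 : g * n * g⁻¹ ∈ normalizer (H : Set G) := by
    refine mem_normalizer_of_ti hTI (hmem x hx) (fun e => hx1 ?_) ?_
    · simpa using e
    · rw [show g * n * g⁻¹ * (g * x * g⁻¹) * (g * n * g⁻¹)⁻¹ = g * (n * x * n⁻¹) * g⁻¹ by group]
      exact hmem _ ((mem_normalizer_iff.1 hn x).1 hx)
  rw [ha]
  exact mul_mem (mem_sup_right h4) (mem_sup_left (‹M.Normal›.conj_mem m hm g))

/-- The largest normal subgroup of order prime to that of `H`. -/
theorem coprime_sup {A B : Subgroup G} [B.Normal] {n : ℕ} (hA : (Nat.card A).Coprime n) (hB : (Nat.card B).Coprime n) :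
    (Nat.card ↥(A ⊔ B)).Coprime n :=
  Nat.Coprime.coprime_dvd_left (Solv.card_sup_dvd_mul A B) (hA.mul_left hB)

theorem exists_core (H : Subgroup G) : ∃ O : Subgroup G, O.Normal ∧ (Nat.card O).Coprime (Nat.card H) ∧
    ∀ K : Subgroup G, K.Normal → (Nat.card K).Coprime (Nat.card H) → K ≤ O := by
  obtain ⟨O, ⟨hOn, hOc⟩, hmax⟩ := ({K : Subgroup G | K.Normal ∧ (Nat.card K).Coprime (Nat.card H)}).toFinite.exists_maximal
    ⟨⊥, inferInstance, by rw [card_bot]; exact Nat.coprime_one_left _⟩
  refine ⟨O, hOn, hOc, fun K hK hKc => ?_⟩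
  haveI := hOn
  haveI := hK
  exact le_sup_right.trans (hmax ⟨inferInstance, coprime_sup hOc hKc⟩ (le_sup_left : O ≤ O ⊔ K))

theorem core_sup_normalizer (hTI : IsTISubset (H : Set G)) (hnn : ¬ H.Normal) (hco : (Nat.card H).Coprime H.index)
    (hsep : ∃ (n : ℕ) (M : Fin (n + 1) → Subgroup G), M 0 = ⊥ ∧ M (Fin.last n) = ⊤ ∧ Monotone M ∧ (∀ i, (M i).Normal) ∧
      ∀ i : Fin n, (∀ q : ℕ, q.Prime → q ∣ (M i.castSucc).relIndex (M i.succ) → q ∣ Nat.card H) ∨
        ((M i.castSucc).relIndex (M i.succ)).Coprime (Nat.card H))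
    {O : Subgroup G} [O.Normal] (hOc : (Nat.card O).Coprime (Nat.card H))
    (hOmax : ∀ K : Subgroup G, K.Normal → (Nat.card K).Coprime (Nat.card H) → K ≤ O) :
    O ⊔ normalizer (H : Set G) = ⊤ := by
  obtain ⟨n, M, h0, hlast, hmono, hMn, hstep⟩ := hsep
  have hH1 : Nat.card H ≠ 1 := fun h => hnn (by
    rw [card_eq_one.1 h]; infer_instance)
  have hOtop : O ≠ ⊤ := by
    rintro rfl
    rw [card_top] at hOc
    exact hH1 (Nat.eq_one_of_dvd_coprimes hOc (card_subgroup_dvd_card H) dvd_rfl)
  obtain ⟨i, hi1, hi2⟩ : ∃ i : Fin n, M i.castSucc ≤ O ∧ ¬ M i.succ ≤ O := by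
    by_contra hno
    have hall : ∀ j : Fin (n + 1), M j ≤ O := fun j =>
      Fin.induction (motive := fun j => M j ≤ O) (by rw [h0]; exact bot_le)
        (fun i hi => by_contra fun h => hno ⟨i, hi, h⟩) j
    exact hOtop (top_le_iff.1 (hlast ▸ hall _))
  haveI := hMn i.succ
  have hdvd : O.relIndex (M i.succ) ∣ (M i.castSucc).relIndex (M i.succ) := relIndex_dvd_of_le_left _ hi1
  have hidx : Nat.card ↥(M i.succ ⊔ O) = Nat.card O * O.relIndex (M i.succ) := by
    rw [← relIndex_sup_right (H := M i.succ) (K := O), ← relIndex_bot_left, ← relIndex_bot_left,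
      relIndex_mul_relIndex ⊥ O _ bot_le le_sup_right]
  rcases hstep i with hpi | hcop
  · obtain ⟨p, hp, hpd⟩ : ∃ p, p.Prime ∧ p ∣ O.relIndex (M i.succ) :=
      Nat.exists_prime_and_dvd fun h => hi2 (relIndex_eq_one.1 h)
    haveI := Fact.mk hp
    have hMN := sup_normalizer_of_dvd hTI hco (M := M i.succ) (p := p)
      (hpd.trans (relIndex_dvd_card O _)) (hpi p hp (hpd.trans hdvd))
    set J := O ⊔ normalizer (H : Set G)
    have h1 : J.index ∣ O.relIndex (M i.succ) := by
      have h2 : M i.succ ⊔ J = ⊤ := top_le_iff.1 (hMN ▸ sup_le le_sup_left (le_sup_right.trans le_sup_right))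
      have h3 : J.relIndex (M i.succ) = J.index := by
        rw [← relIndex_top_right, ← h2, sup_comm]
        exact (Solv.relIndex_sup_left_normal J (M i.succ)).symm
      rw [← h3]
      exact relIndex_dvd_of_le_left _ le_sup_left
    have h4 : J.index ∣ H.index :=
      index_dvd_of_le (le_normalizer.trans le_sup_right)
    have h5 : J.index = 1 := by
      by_contra h
      obtain ⟨q, hq, hqd⟩ := Nat.exists_prime_and_dvd h
      exact hq.ne_one (Nat.eq_one_of_dvd_coprimes hco (hpi q hq (hqd.trans (h1.trans hdvd))) (hqd.trans h4))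
    exact index_eq_one.1 h5
  · refine absurd (le_sup_left.trans (hOmax (M i.succ ⊔ O) inferInstance ?_)) hi2
    rw [hidx]
    exact hOc.mul_left (hcop.coprime_dvd_left hdvd)

theorem sup_normal {O : Subgroup G} [O.Normal] (htop : O ⊔ normalizer (H : Set G) = ⊤) {W : Subgroup G}
    (hW : normalizer (H : Set G) ≤ normalizer (W : Set G)) : (O ⊔ W).Normal := by
  rw [← normalizer_eq_top_iff, eq_top_iff, ← htop, sup_le_iff]
  refine ⟨le_sup_left.trans le_normalizer, fun g hg => ?_⟩
  rw [← Solv.conj_smul_eq_self_iff, smul_sup, Solv.conj_smul_eq_self_iff.2 (hW hg),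
    Solv.conj_smul_eq_self_iff.2 (by rw [normalizer_eq_top]; exact mem_top g)]

/-- Abelian subgroups of `H` are cyclic. -/
theorem isCyclic_of_comm (hTI : IsTISubset (H : Set G)) (hnn : ¬ H.Normal)
    {O : Subgroup G} [O.Normal] (hOc : (Nat.card O).Coprime (Nat.card H)) (htop : O ⊔ normalizer (H : Set G) = ⊤)
    {A : Subgroup G} (hA : A ≤ H) [IsMulCommutative A] : IsCyclic A := by
  by_contra hnc
  have hON : O ≤ normalizer (H : Set G) := by
    refine Solv.le_of_fixed_le A O _ hnc (by rw [normalizer_eq_top]; exact le_top)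
      (hOc.coprime_dvd_right (card_dvd_of_le hA)).symm ?_
    intro a ha ha1 g hg
    refine mem_normalizer_of_ti hTI (hA ha) ha1 ?_
    have h1 : a * g = g * a := mem_centralizer_singleton_iff.1 hg.2 |>.symm
    rw [← h1, mul_inv_cancel_right]
    exact hA ha
  rw [sup_eq_right.2 hON] at htop
  exact hnn (normalizer_eq_top_iff.1 htop)

theorem isZGroup (hcyc : ∀ A : Subgroup G, A ≤ H → IsMulCommutative A → IsCyclic A)
    (h2 : ∀ P : Sylow 2 H, IsMulCommutative (P : Subgroup H)) : IsZGroup H := by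
  refine ⟨fun p hp P => ?_⟩
  haveI := Fact.mk hp
  have hcyc' : ∀ A : Subgroup P, IsMulCommutative A → IsCyclic A := by
    intro A hA
    set f := H.subtype.comp (P : Subgroup H).subtype
    have hf : Function.Injective f := H.subtype_injective.comp (P : Subgroup H).subtype_injective
    haveI : IsMulCommutative (A.map f) := ⟨⟨fun ⟨_, a, ha, rfl⟩ ⟨_, b, hb, rfl⟩ => Subtype.ext (by
      show f a * f b = f b * f a
      rw [← map_mul, ← map_mul]
      exact congrArg f (congrArg Subtype.val (hA.is_comm.comm ⟨a, ha⟩ ⟨b, hb⟩)))⟩⟩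
    haveI := hcyc (A.map f) (by rintro _ ⟨a, -, rfl⟩; exact (a : H).2) inferInstance
    exact (A.equivMapOfInjective f hf).isCyclic.2 inferInstance
  rcases subsingleton_or_nontrivial (P : Subgroup H) with hs | hs
  · infer_instance
  have hz : ∃ z : P, z ∈ center (P : Subgroup H) ∧ orderOf z = p := by
    haveI := P.isPGroup'.center_nontrivial
    obtain ⟨j, hj, hc⟩ := (P.isPGroup'.to_subgroup (center (P : Subgroup H))).nontrivial_iff_card.1 inferInstance
    obtain ⟨z, hz⟩ := exists_prime_orderOf_dvd_card' p (G := center (P : Subgroup H)) (by rw [hc]; exact dvd_pow_self p hj.ne')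
    exact ⟨z, z.2, by rw [orderOf_coe, hz]⟩
  obtain ⟨z, hzc, hzo⟩ := hz
  have hkey : ∀ w : P, orderOf w = p → w ∈ zpowers z := by
    intro w hw
    set A := closure ({z, w} : Set P)
    haveI hA : IsMulCommutative A := isMulCommutative_closure (by
      rintro a (rfl | rfl) b (rfl | rfl)
      · rfl
      · exact ((mem_center_iff.1 hzc) _).symm
      · exact (mem_center_iff.1 hzc) _
      · rfl)
    haveI := hcyc' A hA
    have hexp : Monoid.exponent A ∣ p := by
      refine Monoid.exponent_dvd_of_forall_pow_eq_one fun a => Subtype.ext ?_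
      rw [SubmonoidClass.coe_pow, OneMemClass.coe_one]
      refine closure_induction (p := fun a _ => a ^ p = 1) ?_ (one_pow p) ?_ ?_ a.2
      · rintro a (rfl | rfl)
        · exact orderOf_dvd_iff_pow_eq_one.1 (dvd_of_eq hzo)
        · exact orderOf_dvd_iff_pow_eq_one.1 (dvd_of_eq hw)
      · intro a b ha hb ha' hb'
        have : Commute a b := congrArg Subtype.val (hA.is_comm.comm ⟨a, ha⟩ ⟨b, hb⟩)
        rw [this.mul_pow, ha', hb', one_mul]
      · intro a _ ha
        rw [inv_pow, ha, inv_one]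
    rw [IsCyclic.exponent_eq_card] at hexp
    have hzA : zpowers z ≤ A := zpowers_le.2 (subset_closure (Or.inl rfl))
    rw [eq_of_le_of_card_ge hzA (by rw [Nat.card_zpowers, hzo]; exact Nat.le_of_dvd hp.pos hexp)]
    exact subset_closure (Or.inr rfl)
  rcases ZStar.isCyclic_or_inverted P.isPGroup' (fun x y hx hy => by
      rw [eq_of_le_of_card_ge (zpowers_le.2 (hkey x hx)) (by rw [Nat.card_zpowers, Nat.card_zpowers, hx, hzo])]
      exact hkey y hy) with h | ⟨hp2, a, g, ha, -, -, hinv, -⟩
  · exact h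
  · subst hp2
    haveI := h2 P
    rw [mul_comm' g a, mul_inv_cancel_right, eq_inv_iff_mul_eq_one] at hinv
    have := Nat.le_of_dvd (by norm_num) (orderOf_dvd_of_pow_eq_one (show a ^ 2 = 1 by rw [pow_two, hinv]))
    omega

/-- In a cyclic group of prime power order, a fixed non-identity element forces trivial action. -/
theorem fixed_cyclic {p : ℕ} [Fact p.Prime] {P Q : Subgroup G} [IsCyclic P] (hP : IsPGroup p P)
    (hQP : Q ≤ normalizer (P : Set G)) (hco : (Nat.card P).Coprime (Nat.card Q)) {x : G} (hx : x ∈ P) (hx1 : x ≠ 1)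
    (hxQ : x ∈ centralizer (Q : Set G)) : P ≤ centralizer (Q : Set G) := by
  haveI : IsMulCommutative P := ⟨IsCyclic.commutative.is_comm⟩
  rcases IsPGroup.commutator_eq_bot_or_commutator_eq_self hP hQP hco with h | h
  · rw [commutator_comm, commutator_eq_bot_iff_le_centralizer] at h
    exact h
  · have := (Solv.coprime_abelian_decomposition Q P hQP hco.symm).1
    rw [commutator_comm, h, inf_right_comm, inf_idem] at this
    exact absurd (mem_bot.1 (this ▸ ⟨hx, hxQ⟩)) hx1

theorem commutator_fixed_coprime (Q : Subgroup G) [IsZGroup H] (hQH : Q ≤ normalizer (H : Set G))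
    (hco : (Nat.card Q).Coprime (Nat.card H)) :
    (Nat.card ↥(⁅H, Q⁆ : Subgroup G)).Coprime (Nat.card ↥(H ⊓ centralizer (Q : Set G))) := by
  have hHs : Group.IsSolvable H := inferInstance
  set W : Subgroup G := ⁅H, Q⁆ with hWdef
  set K := H ⊓ centralizer (Q : Set G)
  have hWH : W ≤ H := Solv.commutator_le_of_normalizes hQH
  have hHW : H ≤ normalizer (W : Set G) := Solv.le_normalizer_commutator_left H Q
  have hQW : Q ≤ normalizer (W : Set G) := Solv.le_normalizer_commutator_right H Q
  have hcoW : (Nat.card Q).Coprime (Nat.card W) := hco.coprime_dvd_right (card_dvd_of_le hWH)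
  haveI : IsZGroup W := IsZGroup.of_injective (inclusion_injective hWH)
  have hWW : ⁅W, Q⁆ = W := Solv.commutator_commutator_eq Q H hQH hco (Or.inr hHs)
  refine Nat.coprime_of_dvd fun p hp hpW hpK => ?_
  haveI := Fact.mk hp
  obtain ⟨x, hx⟩ := exists_prime_orderOf_dvd_card' p (G := K) hpK
  have hx1 : (x : G) ≠ 1 := fun e => hp.ne_one (by rw [← hx, ← orderOf_coe, e, orderOf_one])
  obtain ⟨P, hxP, hQP⟩ := Solv.invariant_pgroup_le_sylow Q H hQH hco (Or.inr hHs) p (zpowers (x : G))
    (zpowers_le.2 x.2.1) (IsPGroup.of_card (n := 1) (by rw [Nat.card_zpowers, orderOf_coe, hx, pow_one]))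
    (fun q hq => by
      refine Solv.normalizer_eq_of_centralizes (mem_centralizer_iff.2 ?_)
      rintro _ ⟨j, rfl⟩
      exact (Commute.zpow_left (show Commute (x : G) q from (mem_centralizer_iff.1 x.2.2 q hq).symm) j).eq)
  set P0 := (P : Subgroup H).map H.subtype
  haveI : IsCyclic P0 := ((P : Subgroup H).equivMapOfInjective _ H.subtype_injective).isCyclic.1 inferInstance
  have hP0 : IsPGroup p P0 := P.isPGroup'.map _
  have hPfix : P0 ≤ centralizer (Q : Set G) :=
    fixed_cyclic hP0 hQP (hco.coprime_dvd_right (card_dvd_of_le (map_subtype_le _))).symm (hxP (mem_zpowers _)) hx1 x.2.2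
  -- an invariant Sylow subgroup of `W` is centralized by `Q`
  obtain ⟨R, hR⟩ := Solv.exists_invariant_sylow Q W hQW hcoW (Or.inr (inferInstance : Group.IsSolvable W)) p
  set R0 := (R : Subgroup W).map W.subtype
  obtain ⟨P', hRP', hP'⟩ := Solv.invariant_pgroup_le_sylow Q H hQH hco (Or.inr hHs) p R0
    ((map_subtype_le _).trans hWH) (R.isPGroup'.map _) hR
  obtain ⟨c', hcQ, hPP''⟩ := Solv.invariant_sylow_conj Q H hQH hco (Or.inr hHs) P P' hQP hP'
  set c : G := (c' : G)
  have hc : c ∈ H ⊓ centralizer (Q : Set G) := ⟨c'.2, hcQ⟩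
  have hPP' : MulAut.conj c • P0 = (P' : Subgroup H).map H.subtype := by
    rw [← hPP'']
    show _ = ((MulAut.conj c' • (P : Subgroup H) : Subgroup H)).map H.subtype
    rw [Solv.map_conj_smul]
    rfl
  have hRfix : ∀ y ∈ R0, ∀ q ∈ Q, q * y * q⁻¹ = y := by
    intro y hy q hq
    have h1 : y ∈ MulAut.conj c • P0 := hPP' ▸ hRP' hy
    rw [mem_pointwise_smul_iff_inv_smul_mem] at h1
    have h2 := mem_centralizer_iff.1 (hPfix h1) q hq
    simp only [← map_inv, MulAut.smul_def, MulAut.conj_apply, inv_inv] at h2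
    have h3 := mem_centralizer_iff.1 hc.2 q hq
    have h4 : q * y = y * q := by
      have : Commute q (c * (c⁻¹ * y * c) * c⁻¹) :=
        ((show Commute q c from h3).mul_right (show Commute q (c⁻¹ * y * c) from h2)).mul_right (show Commute q c from h3).inv_right
      simpa [mul_assoc] using this.eq
    rw [h4, mul_inv_cancel_right]
  -- hence it lies in the derived group
  haveI := Fintype.ofFinite Q
  let cj : Q → (W →* W) := fun q =>
    { toFun := fun w => ⟨(q : G) * w * (q : G)⁻¹, (mem_normalizer_iff.1 (hQW q.2) w).1 w.2⟩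
      map_one' := Subtype.ext (by simp)
      map_mul' := fun a b => Subtype.ext (by simp [mul_assoc]) }
  let f : W →* Abelianization W :=
    { toFun := fun w => ∏ q : Q, Abelianization.of (cj q w)
      map_one' := by simp
      map_mul' := fun a b => by simp [Finset.prod_mul_distrib] }
  have hf : ∀ w : W, f w = 1 := by
    have hle : (⁅W, Q⁆ : Subgroup G) ≤ f.ker.map W.subtype := by
      rw [commutator_le]
      intro w hw q hq
      have h1 : f (cj ⟨q, hq⟩ ⟨w, hw⟩) = f ⟨w, hw⟩ := by
        show ∏ r : Q, Abelianization.of (cj r (cj ⟨q, hq⟩ ⟨w, hw⟩)) = ∏ r : Q, Abelianization.of (cj r ⟨w, hw⟩)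
        rw [← Equiv.prod_comp (Equiv.mulRight (⟨q, hq⟩ : Q)) (fun r => Abelianization.of (cj r ⟨w, hw⟩))]
        refine Finset.prod_congr rfl fun r _ => congrArg _ (Subtype.ext ?_)
        simp [cj, mul_assoc]
      refine ⟨⟨w, hw⟩ * (cj ⟨q, hq⟩ ⟨w, hw⟩)⁻¹, ?_, ?_⟩
      · show f _ = 1
        rw [map_mul, map_inv, h1, mul_inv_cancel]
      · simp [cj, commutatorElement_def, mul_assoc]
    intro w
    obtain ⟨v, hv, hvw⟩ := hle (show (w : G) ∈ ⁅W, Q⁆ by rw [hWW]; exact w.2)
    rw [show w = v from Subtype.ext hvw.symm]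
    exact hv
  have hRW' : (R : Subgroup W) ≤ commutator W := by
    intro y hy
    have h1 : f y = Abelianization.of y ^ Fintype.card Q := by
      show ∏ q : Q, Abelianization.of (cj q y) = _
      rw [← Finset.card_univ, ← Finset.prod_const]
      exact Finset.prod_congr rfl fun q _ => congrArg _ (Subtype.ext (hRfix y ⟨y, hy, rfl⟩ q q.2))
    have h2 : orderOf (Abelianization.of y) ∣ Fintype.card Q := orderOf_dvd_of_pow_eq_one (h1 ▸ hf y)
    have h3 : orderOf (Abelianization.of y) ∣ Nat.card W :=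
      (orderOf_map_dvd _ y).trans (orderOf_dvd_natCard y)
    rw [Fintype.card_eq_nat_card] at h2
    rw [← Abelianization.ker_of W, MonoidHom.mem_ker, ← orderOf_eq_one_iff]
    exact Nat.eq_one_of_dvd_coprimes hcoW h2 h3
  -- so it is central in `W`
  have hRn : normalizer (R0 : Set G) ⊓ W = W := by
    refine inf_eq_right.2 fun w hw => ?_
    haveI : IsCyclic (commutator W) := IsZGroup.isCyclic_commutator _
    haveI : IsMulCommutative (commutator W) := ⟨IsCyclic.commutative.is_comm⟩
    have hch : (R : Subgroup W).Normal := by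
      haveI : ((R : Subgroup W).subgroupOf (commutator W)).Normal := normal_of_isMulCommutative _
      set R' := R.subtype hRW'
      haveI : (R' : Subgroup (commutator W)).Normal := ‹_›
      haveI := Sylow.characteristic_of_normal R' this
      have h := ConjAct.normal_of_characteristic_of_normal (H := commutator W) (K := (R' : Subgroup (commutator W)))
      rwa [Sylow.coe_subtype, subgroupOf_map_subtype, inf_eq_left.2 hRW'] at h
    exact le_normalizer_map W.subtype ⟨⟨w, hw⟩, by rw [normalizer_eq_top]; exact mem_top _, rfl⟩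
  have hcen : W ≤ centralizer (R0 : Set G) := by
    have hle : (⁅W, Q⁆ : Subgroup G) ≤ centralizer (R0 : Set G) := by
      rw [commutator_le]
      intro w hw q hq
      rw [mem_centralizer_iff]
      intro y hy
      have hwN : w ∈ normalizer (R0 : Set G) := (hRn.ge hw).1
      have hy' : w⁻¹ * y * w ∈ R0 := (mem_normalizer_iff''.1 hwN y).1 hy
      have hcq : ∀ z ∈ R0, Commute q z := fun z hz => by
        have := hRfix z hz q hq
        rw [mul_inv_eq_iff_eq_mul] at this
        exact this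
      have e1 : q * (w⁻¹ * y * w) * q⁻¹ = w⁻¹ * y * w := hRfix _ hy' q hq
      have e2 : q⁻¹ * y * q = y := by rw [mul_assoc, ← (hcq y hy).eq, inv_mul_cancel_left]
      rw [commutatorElement_def]
      calc y * (w * q * w⁻¹ * q⁻¹) = w * (w⁻¹ * y * w) * q * w⁻¹ * q⁻¹ := by group
        _ = w * q * (w⁻¹ * y * w) * w⁻¹ * q⁻¹ := by rw [mul_assoc w _ q, ← (hcq _ hy').eq, ← mul_assoc w q]
        _ = w * q * w⁻¹ * (y * q⁻¹) := by group
        _ = w * q * w⁻¹ * (q⁻¹ * y) := by rw [((hcq y hy).inv_left).eq]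
        _ = w * q * w⁻¹ * q⁻¹ * y := by group
    rwa [hWW] at hle
  have hcR : ∀ g : W, g ∈ centralizer ((R : Subgroup W) : Set W) := fun g =>
    mem_centralizer_iff.2 fun y hy => Subtype.ext (mem_centralizer_iff.1 (hcen g.2) y ⟨y, hy, rfl⟩)
  have hN : normalizer ((R : Subgroup W) : Set W) ≤ centralizer ((R : Subgroup W) : Set W) := fun g _ => hcR g
  have hle : (R : Subgroup W) ≤ (MonoidHom.transferSylow R hN).ker := by
    have hcomm : IsMulCommutative (R : Subgroup W) := ⟨IsCyclic.commutative.is_comm⟩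
    letI : CommGroup (R : Subgroup W) :=
      { (inferInstance : Group (R : Subgroup W)) with mul_comm := hcomm.is_comm.comm }
    exact hRW'.trans (Abelianization.commutator_subset_ker (MonoidHom.transferSylow R hN))
  have hbot : (R : Subgroup W) = ⊥ := by
    rw [eq_bot_iff, ← (MonoidHom.ker_transferSylow_isComplement' R hN).disjoint.eq_bot]
    exact le_inf hle le_rfl
  have := R.dvd_card_of_dvd_card hpW
  rw [hbot, card_bot, Nat.dvd_one] at this
  exact hp.ne_one this

end Cfsg.Lib.PLocal.TISub
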